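import Mathlib

set_option autoImplicit false

namespace Cfsg.Agent.Lib.Helper5.ShiftPoly

open Polynomial Module

variable {p : ℕ} [hp : Fact p.Prime] {K : Type*} [Field K] [CharP K p]

/-- the cast ring homomorphism `ZMod p → K` -/
noncomputable def ι : ZMod p →+* K := ZMod.castHom (dvd_refl p) K

lemma ι_apply (j : ZMod p) : (ι j : K) = (ZMod.cast j : K) := rfl

lemma ι_injective : Function.Injective (ι : ZMod p → K) := RingHom.injective _

/-- evaluation of polynomials at the points of the prime field -/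
noncomputable def ev : K[X] →ₗ[K] (ZMod p → K) where
  toFun P := fun j => P.eval (ι j)
  map_add' P Q := by funext j; simp
  map_smul' c P := by funext j; simp

lemma ev_apply (P : K[X]) (j : ZMod p) : ev P j = P.eval (ι j : K) := rfl

/-- polynomial functions of degree `< r` -/
noncomputable def V (r : ℕ) : Submodule K (ZMod p → K) := (degreeLT K r).map ev

lemma mem_V {r : ℕ} {f : ZMod p → K} :
    f ∈ V r ↔ ∃ P : K[X], P.degree < r ∧ ∀ j : ZMod p, f j = P.eval (ZMod.cast j : K) := by
  constructor
  · rintro ⟨P, hP, rfl⟩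
    exact ⟨P, mem_degreeLT.mp hP, fun j => rfl⟩
  · rintro ⟨P, hP, hf⟩
    exact ⟨P, mem_degreeLT.mpr hP, funext fun j => (hf j).symm⟩

lemma V_mono {r s : ℕ} (h : r ≤ s) : (V r : Submodule K (ZMod p → K)) ≤ V s :=
  Submodule.map_mono (degreeLT_mono h)

lemma ev_eq_zero {P : K[X]} (hP : P.degree < p) (h : (ev P : ZMod p → K) = 0) : P = 0 := by
  classical
  apply eq_zero_of_degree_lt_of_eval_finset_eq_zero (Finset.univ.image (ι : ZMod p → K))
  · rw [Finset.card_image_of_injective _ ι_injective, Finset.card_univ, ZMod.card]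
    exact hP
  · intro x hx
    obtain ⟨j, -, rfl⟩ := Finset.mem_image.mp hx
    exact congrFun h j

lemma finrank_V {r : ℕ} (hr : r ≤ p) : finrank K (V r : Submodule K (ZMod p → K)) = r := by
  have hinj : Function.Injective ((ev : K[X] →ₗ[K] (ZMod p → K)).domRestrict (degreeLT K r)) := by
    rw [← LinearMap.ker_eq_bot, LinearMap.ker_eq_bot']
    intro P hP
    apply Subtype.ext
    apply ev_eq_zero _ hP
    exact lt_of_lt_of_le (mem_degreeLT.mp P.2) (by exact_mod_cast hr)
  have h1 := LinearMap.finrank_range_of_inj hinj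
  rw [LinearMap.range_domRestrict] at h1
  change finrank K (V r : Submodule K (ZMod p → K)) = _ at h1
  rw [h1, LinearEquiv.finrank_eq (degreeLTEquiv K r), Module.finrank_fintype_fun_eq_card,
    Fintype.card_fin]


lemma V_zero : (V 0 : Submodule K (ZMod p → K)) = ⊥ := by
  rw [V, eq_bot_iff]
  rintro _ ⟨P, hP, rfl⟩
  have : P = 0 := by
    have h := mem_degreeLT.mp hP
    by_contra h0
    rw [degree_eq_natDegree h0] at h
    exact absurd (WithBot.coe_lt_coe.mp h) (Nat.not_lt_zero _)
  rw [this, map_zero]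
  exact Submodule.zero_mem _

lemma V_top : (V p : Submodule K (ZMod p → K)) = ⊤ := by
  apply Submodule.eq_top_of_finrank_eq
  rw [finrank_V le_rfl, Module.finrank_fintype_fun_eq_card, ZMod.card]

/-- the shift operator `f ↦ (j ↦ f (j - 1))` -/
noncomputable def S : (ZMod p → K) →ₗ[K] (ZMod p → K) := LinearMap.funLeft K K (fun j => j - 1)

lemma S_apply (f : ZMod p → K) (j : ZMod p) : S f j = f (j - 1) := rfl

/-- the difference operator -/
noncomputable def Δ : (ZMod p → K) →ₗ[K] (ZMod p → K) := S - 1

lemma Δ_apply (f : ZMod p → K) (j : ZMod p) : Δ f j = f (j - 1) - f j := rfl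

lemma S_ev (P : K[X]) : S (ev P : ZMod p → K) = ev (P.comp (X - C 1)) := by
  funext j
  rw [S_apply, ev_apply, ev_apply, eval_comp, eval_sub, eval_X, eval_C, map_sub, map_one]

lemma degree_comp_sub_lt (P : K[X]) (hP : P ≠ 0) : (P.comp (X - C 1) - P).degree < P.degree := by
  have hq : (X - C (1 : K)).natDegree = 1 := natDegree_X_sub_C 1
  have hd : (P.comp (X - C 1)).natDegree = P.natDegree := by
    rw [natDegree_comp, hq, mul_one]
  have hne : P.comp (X - C 1) ≠ 0 := by
    intro h
    apply hP
    have := congrArg (fun Q : K[X] => Q.comp (X + C 1)) h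
    simp only [comp_assoc, sub_comp, X_comp, C_comp, add_sub_cancel_right, comp_X, zero_comp] at this
    exact this
  have h1 : (P.comp (X - C 1)).degree = P.degree := by
    rw [degree_eq_natDegree hne, degree_eq_natDegree hP, hd]
  have h3 : (P.comp (X - C 1)).leadingCoeff = P.leadingCoeff := by
    rw [leadingCoeff_comp (by rw [hq]; exact one_ne_zero), leadingCoeff_X_sub_C, one_pow, mul_one]
  have := degree_sub_lt h1 hne h3
  rwa [h1] at this

lemma Δ_V (r : ℕ) : (V (r + 1) : Submodule K (ZMod p → K)).map Δ ≤ V r := by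
  rintro _ ⟨_, ⟨P, hP, rfl⟩, rfl⟩
  have hP' := mem_degreeLT.mp hP
  by_cases h0 : P = 0
  · subst h0
    simp
  refine ⟨P.comp (X - C 1) - P, ?_, ?_⟩
  · apply mem_degreeLT.mpr
    have h1 := degree_comp_sub_lt P h0
    have h2 : P.degree ≤ r := by
      have : P.degree < ((r + 1 : ℕ) : WithBot ℕ) := hP'
      rw [degree_eq_natDegree h0] at this ⊢
      have := WithBot.coe_lt_coe.mp this
      exact_mod_cast Nat.lt_succ_iff.mp this
    exact lt_of_lt_of_le h1 h2
  · change ev (P.comp (X - C 1) - P) = Δ (ev P)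
    rw [map_sub, ← S_ev]
    rfl

lemma ker_Δ : LinearMap.ker (Δ : (ZMod p → K) →ₗ[K] (ZMod p → K)) = V 1 := by
  ext f
  rw [LinearMap.mem_ker, mem_V]
  constructor
  · intro h
    have hf : ∀ j : ZMod p, f (j - 1) = f j := by
      intro j
      have := congrFun h j
      rw [Δ_apply] at this
      exact sub_eq_zero.mp this
    have hn : ∀ n : ℕ, f (n : ZMod p) = f 0 := by
      intro n
      induction n with
      | zero => simp
      | succ n ih =>
        rw [← ih, ← hf ((n + 1 : ℕ) : ZMod p)]
        congr 1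
        push_cast
        ring
    refine ⟨C (f 0), ?_, fun j => ?_⟩
    · exact lt_of_le_of_lt degree_C_le (by norm_num)
    · rw [eval_C, ← hn j.val, ZMod.natCast_zmod_val]
  · rintro ⟨P, hP, hf⟩
    have hP1 : P.degree ≤ 0 := by
      have : P.degree < ((1 : ℕ) : WithBot ℕ) := hP
      by_cases h0 : P = 0
      · rw [h0, degree_zero]; exact bot_le
      · rw [degree_eq_natDegree h0] at this ⊢
        have := WithBot.coe_lt_coe.mp this
        exact_mod_cast Nat.lt_one_iff.mp this |>.le
    rw [eq_C_of_degree_le_zero hP1] at hf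
    funext j
    rw [Δ_apply, hf, hf, eval_C, eval_C, sub_self]
    rfl


lemma finrank_V_one : finrank K (V 1 : Submodule K (ZMod p → K)) = 1 :=
  finrank_V hp.out.one_lt.le

/-- rank-nullity for `Δ` on a subspace containing the constants -/
lemma finrank_map_Δ (U : Submodule K (ZMod p → K)) (hU : V 1 ≤ U) :
    finrank K (U.map Δ) + 1 = finrank K U := by
  have h1 := LinearMap.finrank_range_add_finrank_ker ((Δ : (ZMod p → K) →ₗ[K] _).domRestrict U)
  rw [LinearMap.range_domRestrict, LinearMap.ker_domRestrict, ker_Δ] at h1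
  rw [← h1, LinearEquiv.finrank_eq (Submodule.comapSubtypeEquivOfLe hU), finrank_V_one]

lemma S_Δ_comm (f : ZMod p → K) : S (Δ f) = Δ (S f) := by
  funext j
  simp only [S_apply, Δ_apply]

/-- `Δ` maps `V (n+1)` onto `V n` for `n + 1 ≤ p` -/
lemma map_Δ_V {n : ℕ} (hn : n + 1 ≤ p) : (V (n + 1) : Submodule K (ZMod p → K)).map Δ = V n := by
  apply Submodule.eq_of_le_of_finrank_eq (Δ_V n)
  have h := finrank_map_Δ (V (n + 1) : Submodule K (ZMod p → K)) (V_mono (by omega))
  rw [finrank_V hn] at h
  rw [finrank_V (by omega)]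
  omega

/-- `Δ` is nilpotent -/
lemma Δ_pow_mem (k : ℕ) (hk : k ≤ p) (f : ZMod p → K) : (Δ ^ k) f ∈ (V (p - k) : Submodule K _) := by
  induction k with
  | zero =>
    rw [pow_zero, Nat.sub_zero, V_top]
    exact Submodule.mem_top
  | succ k ih =>
    have h1 := ih (by omega)
    rw [pow_succ', Module.End.mul_apply]
    apply Δ_V (p - (k + 1))
    refine ⟨_, ?_, rfl⟩
    have : p - (k + 1) + 1 = p - k := by omega
    rw [this]
    exact h1

/-- a nonzero `Δ`-invariant subspace contains the constants -/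
lemma V_one_le (W : Submodule K (ZMod p → K)) (hW : ∀ f ∈ W, Δ f ∈ W) (hne : W ≠ ⊥) : V 1 ≤ W := by
  obtain ⟨f, hfW, hf0⟩ := (Submodule.ne_bot_iff W).mp hne
  have hpow : ∀ k : ℕ, (Δ ^ k) f ∈ W := by
    intro k
    induction k with
    | zero => simpa using hfW
    | succ k ih =>
      rw [pow_succ', Module.End.mul_apply]
      exact hW _ ih
  have hex : ∃ k : ℕ, (Δ ^ k) f = 0 := by
    refine ⟨p, ?_⟩
    have := Δ_pow_mem p le_rfl f
    rw [Nat.sub_self, V_zero] at this
    exact (Submodule.mem_bot K).mp this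
  classical
  set k := Nat.find hex with hk
  have hk0 : (Δ ^ k) f = 0 := Nat.find_spec hex
  have hkpos : k ≠ 0 := by
    intro h
    rw [h, pow_zero] at hk0
    exact hf0 hk0
  obtain ⟨m, hm⟩ := Nat.exists_eq_succ_of_ne_zero hkpos
  have hm0 : (Δ ^ m) f ≠ 0 := Nat.find_min hex (by omega)
  have hmker : (Δ ^ m) f ∈ LinearMap.ker (Δ : (ZMod p → K) →ₗ[K] _) := by
    rw [LinearMap.mem_ker, ← Module.End.mul_apply, ← pow_succ', ← Nat.succ_eq_add_one, ← hm]
    exact hk0
  rw [ker_Δ] at hmker
  -- V 1 is one-dimensional, spanned by this vector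
  have hspan : (V 1 : Submodule K (ZMod p → K)) = Submodule.span K {(Δ ^ m) f} := by
    symm
    apply Submodule.eq_of_le_of_finrank_eq
    · rw [Submodule.span_le, Set.singleton_subset_iff]; exact hmker
    · rw [finrank_span_singleton hm0, finrank_V_one]
  rw [hspan, Submodule.span_le, Set.singleton_subset_iff]
  exact hpow m

theorem shift_invariant_aux (n : ℕ) : ∀ W : Submodule K (ZMod p → K), finrank K W = n →
    (∀ f ∈ W, S f ∈ W) → W = V n := by
  induction n with
  | zero =>
    intro W hW _
    rw [V_zero]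
    exact Submodule.finrank_eq_zero.mp hW
  | succ n ih =>
    intro W hW hS
    have hΔ : ∀ f ∈ W, Δ f ∈ W := fun f hf => W.sub_mem (hS f hf) hf
    have hne : W ≠ ⊥ := by
      intro h
      rw [h, finrank_bot] at hW
      omega
    have h1 : V 1 ≤ W := V_one_le W hΔ hne
    have hle : n + 1 ≤ p := by
      rw [← hW]
      have := Submodule.finrank_le W
      rwa [Module.finrank_fintype_fun_eq_card, ZMod.card] at this
    have h2 : W.map Δ = V n := by
      apply ih
      · have := finrank_map_Δ W h1
        omega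
      · rintro _ ⟨f, hf, rfl⟩
        exact ⟨S f, hS f hf, (S_Δ_comm f).symm⟩
    apply Submodule.eq_of_le_of_finrank_eq
    · intro f hf
      have h3 : Δ f ∈ (V n : Submodule K _) := by rw [← h2]; exact ⟨f, hf, rfl⟩
      rw [← map_Δ_V hle] at h3
      obtain ⟨g, hg, hgf⟩ := h3
      have h4 : f - g ∈ LinearMap.ker (Δ : (ZMod p → K) →ₗ[K] _) := by
        rw [LinearMap.mem_ker, map_sub, hgf, sub_self]
      rw [ker_Δ] at h4
      have h5 : f - g ∈ (V (n + 1) : Submodule K _) := V_mono (by omega) h4
      have := (V (n + 1) : Submodule K _).add_mem h5 hg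
      rwa [sub_add_cancel] at this
    · rw [hW, finrank_V hle]

/-- Shift-invariant subspaces of the functions on the prime field, in characteristic `p`, are the
spaces of polynomial functions of bounded degree. -/
theorem shift_invariant (W : Submodule K (ZMod p → K)) (hW : ∀ f ∈ W, S f ∈ W) :
    finrank K W ≤ p ∧ W = V (finrank K W) := by
  refine ⟨?_, shift_invariant_aux _ W rfl hW⟩
  have := Submodule.finrank_le W
  rwa [Module.finrank_fintype_fun_eq_card, ZMod.card] at this

end Cfsg.Agent.Lib.Helper5.ShiftPoly
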