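import Mathlib
import Cfsg.Agent.Lib.Helper5.ShiftPoly

set_option autoImplicit false

namespace Cfsg.Agent.Lib.Helper5.PrimeDeg

open Polynomial Module Cfsg.Agent.Lib.Helper5.ShiftPoly

section Poly

variable {p : ℕ} [hp : Fact p.Prime] {K : Type*} [Field K] [CharP K p]

lemma ι_pow_mem_V {r m : ℕ} (hm : m < r) :
    (fun j : ZMod p => (ι j : K) ^ m) ∈ (V r : Submodule K (ZMod p → K)) := by
  refine ⟨X ^ m, mem_degreeLT.mpr ?_, ?_⟩
  · rw [degree_X_pow]
    exact_mod_cast hm
  · funext j
    rw [ev_apply, eval_pow, eval_X]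

lemma ev_inj {P Q : K[X]} (hP : P.degree < p) (hQ : Q.degree < p)
    (h : (ev P : ZMod p → K) = ev Q) : P = Q := by
  rw [← sub_eq_zero]
  apply ev_eq_zero (p := p)
  · exact lt_of_le_of_lt (degree_sub_le P Q) (max_lt hP hQ)
  · rw [map_sub, h, sub_self]

theorem affine_of_invariant (r : ℕ) (hr2 : 2 ≤ r) (hrp : 2 * r ≤ p + 1) (π : ZMod p → ZMod p)
    (hπ : ∀ f ∈ (V r : Submodule K (ZMod p → K)), f ∘ π ∈ (V r : Submodule K (ZMod p → K))) :
    ∀ j, π j = (π 1 - π 0) * j + π 0 := by
  have hp2 : 2 ≤ p := hp.out.two_le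
  have h1 : (fun j : ZMod p => (ι j : K) ^ 1) ∈ (V r : Submodule K (ZMod p → K)) :=
    ι_pow_mem_V (by omega)
  obtain ⟨Q, hQdeg, hQ⟩ := hπ _ h1
  have hQdeg' := mem_degreeLT.mp hQdeg
  have hQ' : ∀ j : ZMod p, Q.eval (ι j : K) = ι (π j) := by
    intro j
    have := congrFun hQ j
    simpa [ev_apply] using this
  by_cases hd : Q.natDegree ≤ 1
  · -- affine case
    have hQeq := eq_X_add_C_of_natDegree_le_one hd
    set a' := Q.coeff 1
    set b' := Q.coeff 0
    have hev : ∀ j : ZMod p, (ι (π j) : K) = a' * ι j + b' := by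
      intro j
      rw [← hQ' j, hQeq]
      simp
    have hb : (ι (π 0) : K) = b' := by rw [hev 0, map_zero, mul_zero, zero_add]
    have ha : (ι (π 1 - π 0) : K) = a' := by
      rw [map_sub, hev 1, hb, map_one, mul_one, add_sub_cancel_right]
    intro j
    apply ι_injective (K := K)
    rw [hev j, map_add, map_mul, ha, hb]
  · -- degree at least two: contradiction
    exfalso
    push Not at hd
    set d := Q.natDegree with hdd
    have hQ0 : Q ≠ 0 := by
      intro h
      rw [hdd, h, natDegree_zero] at hd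
      omega
    have hdr : d < r := by
      rw [degree_eq_natDegree hQ0] at hQdeg'
      exact_mod_cast hQdeg'
    set m := (r + d - 1) / d with hm
    have hdm1 : d * m ≤ r + d - 1 := Nat.mul_div_le _ _
    have hdm2 : r ≤ d * m := by
      have := Nat.lt_div_mul_add (a := r + d - 1) (b := d) (by omega)
      rw [← hm, mul_comm] at this
      omega
    have hmr : m < r := by
      by_contra hcon
      push Not at hcon
      have : 2 * r ≤ d * m := by
        calc 2 * r ≤ 2 * m := by omega
          _ ≤ d * m := Nat.mul_le_mul_right m (by omega)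
      omega
    have hm2 := hπ _ (ι_pow_mem_V (K := K) (p := p) hmr)
    obtain ⟨R, hRdeg, hR⟩ := hm2
    have hRdeg' := mem_degreeLT.mp hRdeg
    have hQm0 : Q ^ m ≠ 0 := pow_ne_zero _ hQ0
    have hQmdeg : (Q ^ m).natDegree = d * m := by rw [natDegree_pow, mul_comm]
    have heq : Q ^ m = R := by
      apply ev_inj (p := p)
      · rw [degree_eq_natDegree hQm0, hQmdeg]
        exact_mod_cast (by omega : d * m < p)
      · exact lt_of_lt_of_le hRdeg' (by exact_mod_cast (by omega : r ≤ p))
      · rw [hR]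
        funext j
        rw [ev_apply, eval_pow, hQ' j]
        rfl
    rw [← heq, degree_eq_natDegree hQm0, hQmdeg] at hRdeg'
    have : d * m < r := by exact_mod_cast hRdeg'
    omega

end Poly


section Affine

variable {p : ℕ} [hp : Fact p.Prime] {α : Type*}

/-- a permutation group all of whose elements act as affine maps of the prime field is solvable -/
theorem solvable_of_affine (G : Subgroup (Equiv.Perm α)) (e : ZMod p ≃ α)
    (h : ∀ g ∈ G, ∀ j : ZMod p, e.symm (g (e j)) =
      (e.symm (g (e 1)) - e.symm (g (e 0))) * j + e.symm (g (e 0))) :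
    Group.IsSolvable G := by
  set π : G → ZMod p → ZMod p := fun g j => e.symm ((g : Equiv.Perm α) (e j)) with hπ
  have hπmul : ∀ g k : G, ∀ j, π (g * k) j = π g (π k j) := by
    intro g k j
    simp only [hπ, Subgroup.coe_mul, Equiv.Perm.coe_mul, Function.comp_apply,
      Equiv.apply_symm_apply]
  have hπone : ∀ j, π 1 j = j := by
    intro j
    simp [hπ]
  have haff : ∀ g : G, ∀ j, π g j = (π g 1 - π g 0) * j + π g 0 := fun g j => h g.1 g.2 j
  have hπinj : ∀ g : G, Function.Injective (π g) := by
    intro g j k hjk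
    simp only [hπ] at hjk
    exact e.injective ((g : Equiv.Perm α).injective (e.symm.injective hjk))
  have hane : ∀ g : G, π g 1 - π g 0 ≠ 0 := by
    intro g h0
    have := hπinj g (sub_eq_zero.mp h0)
    exact one_ne_zero this
  have hamul : ∀ g k : G, π (g * k) 1 - π (g * k) 0 = (π g 1 - π g 0) * (π k 1 - π k 0) := by
    intro g k
    rw [hπmul, hπmul, haff g (π k 1), haff g (π k 0)]
    ring
  let φ : G →* (ZMod p)ˣ :=
    { toFun := fun g => Units.mk0 (π g 1 - π g 0) (hane g)
      map_one' := by
        apply Units.ext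
        simp [hπone]
      map_mul' := fun g k => by
        apply Units.ext
        simp only [Units.val_mk0, Units.val_mul]
        exact hamul g k }
  have hker : ∀ g : G, g ∈ φ.ker → ∀ j, π g j = j + π g 0 := by
    intro g hg j
    have h1 : π g 1 - π g 0 = 1 := by
      have := congrArg Units.val (MonoidHom.mem_ker.mp hg)
      simpa [φ] using this
    rw [haff g j, h1, one_mul]
  have hπdet : ∀ g k : G, (∀ j, π g j = π k j) → g = k := by
    intro g k hgk
    apply Subtype.ext
    ext x
    have := hgk (e.symm x)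
    simp only [hπ, Equiv.apply_symm_apply] at this
    exact e.symm.injective this
  have hcomm : ∀ a b : φ.ker, a * b = b * a := by
    intro a b
    apply Subtype.ext
    apply hπdet
    intro j
    change π (a.1 * b.1) j = π (b.1 * a.1) j
    have ha := hker a.1 a.2
    have hb := hker b.1 b.2
    rw [hπmul, hπmul, ha (π b.1 j), hb j, hb (π a.1 j), ha j]
    ring
  have : Group.IsSolvable φ.ker := isSolvable_of_comm hcomm
  exact solvable_of_ker_le_range φ.ker.subtype φ (by rw [Subgroup.range_subtype])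

end Affine


section Transport

variable {α : Type*} [Fintype α] [DecidableEq α] {p : ℕ} [hp : Fact p.Prime]

/-- an element of order `p` in the symmetric group of degree `p` gives a labelling of the points by
`ZMod p` for which it is the translation by one -/
theorem exists_equiv (hα : Fintype.card α = p) (σ : Equiv.Perm α) (hσ : orderOf σ = p) :
    ∃ e : ZMod p ≃ α, ∀ j : ZMod p, e (j + 1) = σ (e j) := by
  have hpr : (orderOf σ).Prime := by rw [hσ]; exact hp.out
  obtain ⟨n, hn⟩ := Equiv.Perm.cycleType_prime_order hpr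
  rw [hσ] at hn
  have hsum : σ.cycleType.sum ≤ p := by
    rw [Equiv.Perm.sum_cycleType, ← hα]
    exact Finset.card_le_univ _
  have hppos : 0 < p := hp.out.pos
  have hn0 : n = 0 := by
    rw [hn, Multiset.sum_replicate, smul_eq_mul] at hsum
    by_contra h
    have : 2 * p ≤ (n + 1) * p := Nat.mul_le_mul_right p (by omega)
    omega
  subst hn0
  have hcyc : σ.IsCycle := by
    rw [← Equiv.Perm.card_cycleType_eq_one, hn]
    simp
  have hsupp : σ.support = Finset.univ := by
    apply Finset.eq_univ_of_card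
    rw [← Equiv.Perm.sum_cycleType, hn, hα]
    simp
  have hmove : ∀ x : α, σ x ≠ x := fun x =>
    Equiv.Perm.mem_support.mp (hsupp ▸ Finset.mem_univ x)
  have hne : Nonempty α := by
    rw [← Fintype.card_pos_iff, hα]; exact hppos
  obtain ⟨a₀⟩ := hne
  have hσp : σ ^ p = 1 := by rw [← hσ]; exact pow_orderOf_eq_one σ
  have hpowmod : ∀ i : ℕ, σ ^ (i % p) = σ ^ i := by
    intro i
    conv_rhs => rw [← Nat.mod_add_div i p, pow_add, pow_mul, hσp, one_pow, mul_one]
  set e₀ : ZMod p → α := fun j => (σ ^ j.val) a₀ with he₀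
  have hstep : ∀ j : ZMod p, e₀ (j + 1) = σ (e₀ j) := by
    intro j
    have : Fact (1 < p) := ⟨hp.out.one_lt⟩
    simp only [he₀]
    rw [ZMod.val_add, ZMod.val_one, hpowmod, pow_succ', Equiv.Perm.mul_apply]
  have hsurj : Function.Surjective e₀ := by
    intro y
    obtain ⟨i, hi⟩ := hcyc.exists_pow_eq (hmove a₀) (hmove y)
    refine ⟨(i : ZMod p), ?_⟩
    simp only [he₀]
    rw [ZMod.val_natCast, hpowmod, hi]
  have hbij : Function.Bijective e₀ := by
    rw [Fintype.bijective_iff_surjective_and_card]
    exact ⟨hsurj, by rw [ZMod.card, hα]⟩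
  exact ⟨Equiv.ofBijective e₀ hbij, hstep⟩

end Transport


section Main

variable {α : Type*} [Fintype α] [DecidableEq α] {p : ℕ} [hp : Fact p.Prime]
  {K : Type*} [Field K] [CharP K p]

/-- an invariant subspace of small dimension at least two forces the group to be affine -/
theorem solvable_of_invariant (hα : Fintype.card α = p) (G : Subgroup (Equiv.Perm α))
    (σ : Equiv.Perm α) (hσG : σ ∈ G) (hσ : orderOf σ = p)
    (W : Submodule K (α → K)) (hW : ∀ g ∈ G, ∀ f ∈ W, f ∘ (g : α → α) ∈ W)
    (h2 : 2 ≤ finrank K W) (hle : 2 * finrank K W ≤ p + 1) : Group.IsSolvable G := by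
  obtain ⟨e, he⟩ := exists_equiv hα σ hσ
  set L : (α → K) ≃ₗ[K] (ZMod p → K) := LinearEquiv.funCongrLeft K K e with hL
  have hLapp : ∀ (f : α → K) (j : ZMod p), L f j = f (e j) := fun f j => rfl
  set W' : Submodule K (ZMod p → K) := W.map (L : (α → K) →ₗ[K] (ZMod p → K)) with hW'
  have hfin : finrank K W' = finrank K W := LinearEquiv.finrank_map_eq L W
  have hS : ∀ f' ∈ W', S f' ∈ W' := by
    rintro _ ⟨f, hf, rfl⟩
    refine ⟨f ∘ ((σ⁻¹ : Equiv.Perm α) : α → α), hW σ⁻¹ (G.inv_mem hσG) f hf, ?_⟩
    funext j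
    change f (σ⁻¹ (e j)) = f (e (j - 1))
    congr 1
    rw [Equiv.Perm.inv_eq_iff_eq, ← he, sub_add_cancel]
  obtain ⟨-, hV⟩ := shift_invariant W' hS
  rw [hfin] at hV
  apply solvable_of_affine G e
  intro g hg
  apply affine_of_invariant (K := K) (finrank K W) h2 hle
  intro f' hf'
  rw [← hV] at hf' ⊢
  obtain ⟨f, hf, rfl⟩ := hf'
  refine ⟨f ∘ (g : α → α), hW g hg f hf, ?_⟩
  funext j
  change f (g (e j)) = f (e (e.symm (g (e j))))
  rw [Equiv.apply_symm_apply]

/-- the dimensions of invariant subspaces of the permutation module of a non-solvable transitive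
group of prime degree -/
theorem finrank_invariant (hα : Fintype.card α = p) (G : Subgroup (Equiv.Perm α))
    [MulAction.IsPretransitive G α] (hG : ¬ Group.IsSolvable G)
    (W : Submodule K (α → K)) (hW : ∀ g ∈ G, ∀ f ∈ W, f ∘ (g : α → α) ∈ W) :
    finrank K W = 0 ∨ finrank K W = 1 ∨ finrank K W = p - 1 ∨ finrank K W = p := by
  have hne : Nonempty α := by
    rw [← Fintype.card_pos_iff, hα]; exact hp.out.pos
  obtain ⟨a₀⟩ := hne
  have hdvd : p ∣ Nat.card G := by
    have h1 : (MulAction.stabilizer G a₀).index = p := by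
      rw [MulAction.index_stabilizer_of_transitive, Nat.card_eq_fintype_card, hα]
    rw [← h1]
    exact Subgroup.index_dvd_card _
  obtain ⟨σ', hσ'⟩ := exists_prime_orderOf_dvd_card' p hdvd
  have hσ : orderOf (σ' : Equiv.Perm α) = p := by rw [Subgroup.orderOf_coe, hσ']
  have hrle : finrank K W ≤ p := by
    have := Submodule.finrank_le W
    rwa [Module.finrank_fintype_fun_eq_card, hα] at this
  by_contra hcon
  push Not at hcon
  obtain ⟨h0, h1, hp1, hpp⟩ := hcon
  by_cases hsmall : 2 * finrank K W ≤ p + 1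
  · exact hG (solvable_of_invariant hα G σ' σ'.2 hσ W hW (by omega) hsmall)
  · set B : LinearMap.BilinForm K (α → K) := Matrix.toBilin' (1 : Matrix α α K) with hB
    have hBapp : ∀ f h : α → K, B f h = ∑ x, f x * h x := by
      intro f h
      rw [hB, Matrix.toBilin'_apply']
      simp [dotProduct]
    have hnd : B.Nondegenerate :=
      Matrix.Nondegenerate.toBilin' (Matrix.nondegenerate_of_det_ne_zero (by simp))
    set U := B.orthogonal W with hU
    have hUfin : finrank K U = p - finrank K W := by
      rw [hU, LinearMap.BilinForm.finrank_orthogonal hnd W, Module.finrank_fintype_fun_eq_card, hα]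
    have hUinv : ∀ g ∈ G, ∀ h ∈ U, h ∘ (g : α → α) ∈ U := by
      intro g hg h hh
      rw [hU, LinearMap.BilinForm.mem_orthogonal_iff] at hh ⊢
      intro f hf
      have h3 := hh (f ∘ ((g⁻¹ : Equiv.Perm α) : α → α)) (hW g⁻¹ (G.inv_mem hg) f hf)
      change B (f ∘ ((g⁻¹ : Equiv.Perm α) : α → α)) h = 0 at h3
      change B f (h ∘ (g : α → α)) = 0
      rw [hBapp] at h3 ⊢
      rw [← h3, ← Equiv.sum_comp g (fun y => (f ∘ ((g⁻¹ : Equiv.Perm α) : α → α)) y * h y)]
      apply Finset.sum_congr rfl
      intro x _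
      simp only [Function.comp_apply]
      congr 2
      exact (Equiv.Perm.inv_eq_iff_eq.mpr rfl).symm
    exact hG (solvable_of_invariant hα G σ' σ'.2 hσ U hUinv (by omega) (by omega))

end Main

end Cfsg.Agent.Lib.Helper5.PrimeDeg
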