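import Mathlib
import Cfsg.Agent.Lib.Helper5.PrimeDeg

set_option autoImplicit false

namespace Cfsg.Agent.Lib.Helper5.PrimeDeg

open Polynomial Module Cfsg.Agent.Lib.Helper5.ShiftPoly

section Chain

variable {α : Type*} [Fintype α] [DecidableEq α] {p : ℕ} [hp : Fact p.Prime]
  {K : Type*} [Field K] [CharP K p]

/-- the invariant subspaces of the permutation module of a transitive group of prime degree `p`
in characteristic `p` form a chain -/
theorem invariant_le_of_finrank_le (hα : Fintype.card α = p) (G : Subgroup (Equiv.Perm α))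
    [MulAction.IsPretransitive G α]
    (W₁ W₂ : Submodule K (α → K)) (h₁ : ∀ g ∈ G, ∀ f ∈ W₁, f ∘ (g : α → α) ∈ W₁)
    (h₂ : ∀ g ∈ G, ∀ f ∈ W₂, f ∘ (g : α → α) ∈ W₂)
    (hle : finrank K W₁ ≤ finrank K W₂) : W₁ ≤ W₂ := by
  have hne : Nonempty α := by
    rw [← Fintype.card_pos_iff, hα]; exact hp.out.pos
  obtain ⟨a₀⟩ := hne
  have hdvd : p ∣ Nat.card G := by
    have h1 : (MulAction.stabilizer G a₀).index = p := by
      rw [MulAction.index_stabilizer_of_transitive, Nat.card_eq_fintype_card, hα]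
    rw [← h1]
    exact Subgroup.index_dvd_card _
  obtain ⟨σ', hσ'⟩ := exists_prime_orderOf_dvd_card' p hdvd
  have hσ : orderOf (σ' : Equiv.Perm α) = p := by rw [Subgroup.orderOf_coe, hσ']
  set σ : Equiv.Perm α := (σ' : Equiv.Perm α) with hσdef
  have hσG : σ ∈ G := σ'.2
  obtain ⟨e, he⟩ := exists_equiv hα σ hσ
  set L : (α → K) ≃ₗ[K] (ZMod p → K) := LinearEquiv.funCongrLeft K K e with hL
  have key : ∀ W : Submodule K (α → K), (∀ g ∈ G, ∀ f ∈ W, f ∘ (g : α → α) ∈ W) →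
      W.map (L : (α → K) →ₗ[K] (ZMod p → K)) = V (finrank K W) := by
    intro W hW
    have hfin : finrank K (W.map (L : (α → K) →ₗ[K] (ZMod p → K))) = finrank K W :=
      LinearEquiv.finrank_map_eq L W
    have hS : ∀ f' ∈ W.map (L : (α → K) →ₗ[K] (ZMod p → K)),
        S f' ∈ W.map (L : (α → K) →ₗ[K] (ZMod p → K)) := by
      rintro _ ⟨f, hf, rfl⟩
      refine ⟨f ∘ ((σ⁻¹ : Equiv.Perm α) : α → α), hW σ⁻¹ (G.inv_mem hσG) f hf, ?_⟩
      funext j
      change f (σ⁻¹ (e j)) = f (e (j - 1))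
      congr 1
      rw [Equiv.Perm.inv_eq_iff_eq, ← he, sub_add_cancel]
    obtain ⟨-, hV⟩ := shift_invariant _ hS
    rw [hfin] at hV
    exact hV
  have h3 : W₁.map (L : (α → K) →ₗ[K] (ZMod p → K)) ≤ W₂.map (L : (α → K) →ₗ[K] (ZMod p → K)) := by
    rw [key W₁ h₁, key W₂ h₂]
    exact V_mono hle
  exact (Submodule.map_le_map_iff_of_injective L.injective W₁ W₂).mp h3

end Chain

end Cfsg.Agent.Lib.Helper5.PrimeDeg
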