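import Mathlib
import Cfsg.Agent.Lib.Helper19.Ord720B
import Cfsg.Agent.Lib.Helper8.OrdSieveB
import Cfsg.Agent.Lib.Helper12.Basic

/-!
# Simple groups of order 7920, part A: Sylow 11- and 5-subgroups (helper5)

`7920 = 2^4 * 3^2 * 5 * 11`.
* The number of Sylow `11`-subgroups is `12`, `45` or `144`.  `12` is killed by the `n_p = p + 1`
  criterion; for `45` the normalizer `N(P)` has order `176`, and an involution `z` of `C(P)` central
  in a Sylow `2`-subgroup of `N(P)` has `C(z) = N(P)` and exactly one fixed point on the cosets of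
  `N(P)`, so it is isolated, against Glauberman's `Z*`-theorem.  Hence `|N(P)| = 55`, `C(P) = P`.
* If no element of order `5` commutes with an involution, then `|N(Q)| = 20` and `C(Q) = Q` for a
  Sylow `5`-subgroup `Q`.
-/

set_option autoImplicit false
set_option linter.unusedSectionVars false
set_option linter.style.haveILetI false

namespace Cfsg.Agent.Lib.Helper5.M11

open MulAction Cfsg Cfsg.Agent.Lib.Helper8.SmallSimple Cfsg.Agent.Lib.Helper8.SmallSimple2
  Cfsg.Agent.Lib.Helper7 Cfsg.Agent.Lib.Helper19.Ord4032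

universe u

variable {G : Type u} [Group G] [Finite G]

set_option maxRecDepth 100000 in
theorem arith_n11 : ∀ n < 721, 720 % n = 0 → n % 11 = 1 → n = 1 ∨ n = 12 ∨ n = 45 ∨ n = 144 := by
  decide

set_option maxRecDepth 100000 in
theorem arith_c5 : ∀ c < 793, 792 % c = 0 → c % 2 = 1 → c % 11 ≠ 0 → c = 1 ∨ c = 3 ∨ c = 9 := by
  decide

/-- the case of `45` Sylow `11`-subgroups -/
theorem case45 [IsSimpleGroup G] (hnc : ¬ IsMulCommutative G) (hG : Nat.card G = 7920)
    [Fact (Nat.Prime 11)] (P : Sylow 11 G) (hP : Nat.card ↥(P : Subgroup G) = 11)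
    (hNc : Nat.card ↥(Subgroup.normalizer ((P : Subgroup G) : Set G)) = 176)
    (hr : (Subgroup.centralizer ((P : Subgroup G) : Set G)).relIndex
      (Subgroup.normalizer ((P : Subgroup G) : Set G)) = 2) : False := by
  classical
  haveI : Fact (Nat.Prime 2) := ⟨Nat.prime_two⟩
  have hG2 : 2 < Nat.card G := by rw [hG]; norm_num
  set N := Subgroup.normalizer ((P : Subgroup G) : Set G) with hN
  set C := Subgroup.centralizer ((P : Subgroup G) : Set G) with hC
  have hidx : N.index = 45 := by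
    have := N.card_mul_index
    rw [hNc, hG] at this
    omega
  have hNtop : N ≠ ⊤ := by
    intro h
    rw [h, Subgroup.index_top] at hidx
    omega
  -- a Sylow `2`-subgroup of `N`
  obtain ⟨T0, hT0⟩ := Sylow.exists_subgroup_card_pow_prime (G := ↥N) 2 (n := 4)
    (by rw [hNc]; norm_num)
  set T : Subgroup G := T0.map N.subtype with hT
  have hTc : Nat.card ↥T = 16 := by
    rw [hT, Subgroup.card_map_of_injective N.subtype_injective, hT0]; norm_num
  have hTN : T ≤ N := by
    rintro _ ⟨y, _, rfl⟩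
    exact y.2
  have hTp : IsPGroup 2 ↥T := IsPGroup.of_card (n := 4) (by rw [hTc]; norm_num)
  -- `C ∩ T` is non-trivial
  have hdvd2 : C.relIndex T ∣ 2 := by
    have := relIndex_centralizer_dvd (P : Subgroup G) T hTN
    rw [← hC, ← hN, hr] at this
    exact this
  have hKc : Nat.card ↥(C ⊓ T) * C.relIndex T = 16 := by
    rw [card_inf_mul_relIndex, hTc]
  have hKne : C ⊓ T ≠ ⊥ := by
    intro h
    rw [h, Subgroup.card_bot, one_mul] at hKc
    rw [hKc] at hdvd2
    omega
  haveI hKn : (C.subgroupOf T).Normal := by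
    constructor
    intro x hx t
    rw [Subgroup.mem_subgroupOf] at hx ⊢
    have e : ((t * x * t⁻¹ : ↥T) : G) = (t : G) * (x : G) * (t : G)⁻¹ := by simp
    rw [e]
    exact conj_mem_centralizer_of_mem_normalizer (P : Subgroup G) (hTN t.2) hx
  have hK'ne : C.subgroupOf T ≠ ⊥ := by
    intro h
    apply hKne
    rw [eq_bot_iff]
    intro x hx
    have hxT : x ∈ T := hx.2
    have : (⟨x, hxT⟩ : ↥T) ∈ C.subgroupOf T := by
      rw [Subgroup.mem_subgroupOf]; exact hx.1
    rw [h, Subgroup.mem_bot] at this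
    rw [Subgroup.mem_bot]
    exact congrArg Subtype.val this
  obtain ⟨x, hxK, hx1, hxZ⟩ :=
    Cfsg.Agent.Lib.Helper12.exists_ne_one_mem_center_of_normal hTp (C.subgroupOf T) hK'ne
  set Z' : Subgroup ↥T := C.subgroupOf T ⊓ Subgroup.center ↥T with hZ'
  have hxZ' : x ∈ Z' := ⟨hxK, hxZ⟩
  have hZp : IsPGroup 2 ↥Z' := hTp.to_subgroup Z'
  haveI : Nontrivial ↥Z' :=
    ⟨⟨⟨x, hxZ'⟩, 1, fun h => hx1 (congrArg Subtype.val h)⟩⟩
  obtain ⟨n, hn0, hn⟩ := hZp.nontrivial_iff_card.mp inferInstance
  have h2 : 2 ∣ Nat.card ↥Z' := by rw [hn]; exact dvd_pow_self 2 hn0.ne'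
  obtain ⟨w, hw⟩ := exists_prime_orderOf_dvd_card' (G := ↥Z') 2 h2
  -- the involution `z`
  set z : G := ((w : ↥T) : G) with hz
  have hz2 : orderOf z = 2 := by
    rw [hz, Subgroup.orderOf_coe, Subgroup.orderOf_coe]; exact hw
  have hzC : z ∈ C := by
    have := (Subgroup.mem_inf.mp w.2).1
    rw [Subgroup.mem_subgroupOf] at this
    exact this
  have hzT : ∀ t ∈ T, t * z = z * t := by
    intro t ht
    have := Subgroup.mem_center_iff.mp (Subgroup.mem_inf.mp w.2).2 ⟨t, ht⟩
    exact congrArg Subtype.val this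
  -- `N = P T`
  have hPN : (P : Subgroup G) ≤ N := Subgroup.le_normalizer
  have hsup : (P : Subgroup G) ⊔ T = N := by
    apply Subgroup.eq_of_le_of_card_ge (sup_le hPN hTN)
    have h11 : 11 ∣ Nat.card ↥((P : Subgroup G) ⊔ T) := by
      have h := Subgroup.card_dvd_of_le (le_sup_left : (P : Subgroup G) ≤ (P : Subgroup G) ⊔ T)
      rwa [hP] at h
    have h16 : 16 ∣ Nat.card ↥((P : Subgroup G) ⊔ T) := by
      have h := Subgroup.card_dvd_of_le (le_sup_right : T ≤ (P : Subgroup G) ⊔ T)
      rwa [hTc] at h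
    have h176 : 11 * 16 ∣ Nat.card ↥((P : Subgroup G) ⊔ T) :=
      Nat.Coprime.mul_dvd_of_dvd_of_dvd (by norm_num : Nat.Coprime 11 16) h11 h16
    rw [hNc]
    have := Nat.le_of_dvd Nat.card_pos h176
    omega
  -- `N ≤ C(z)`
  have hNM : N ≤ Subgroup.centralizer ({z} : Set G) := by
    rw [← hsup]
    apply sup_le
    · intro y hy
      rw [Subgroup.mem_centralizer_singleton_iff]
      exact Subgroup.mem_centralizer_iff.mp hzC y hy
    · intro t ht
      rw [Subgroup.mem_centralizer_singleton_iff]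
      exact hzT t ht
  -- fixed points
  obtain ⟨h1, ⟨s, ⟨k, hk⟩, hs⟩, h3⟩ := invol_fix_data hG2 P hP hNtop z hzC hz2
  rw [← hN] at h1 hs h3
  rw [hidx] at hs h3
  have hf : Nat.card (fixedBy (G ⧸ N) z) = 1 := by omega
  have hformula := card_fixedBy_mul_card N z
  rw [hf, hNc, one_mul] at hformula
  have hMdvd : Nat.card ↥(Subgroup.centralizer ({z} : Set G)) ∣ 176 :=
    ⟨_, by rw [hformula, mul_comm]⟩
  have hMN : N = Subgroup.centralizer ({z} : Set G) :=
    Subgroup.eq_of_le_of_card_ge hNM (by rw [hNc]; exact Nat.le_of_dvd (by norm_num) hMdvd)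
  have hiso : IsIsolatedInvolution z := by
    apply isIsolatedInvolution_of_card_fixedBy z hz2
    rw [← hMN]
    exact hf
  exact not_isIsolatedInvolution hnc z hiso

/-- the Sylow `11`-subgroups of a simple group of order `7920` -/
theorem sylow11_data [IsSimpleGroup G] (hG : Nat.card G = 7920) [Fact (Nat.Prime 11)]
    (P : Sylow 11 G) :
    Nat.card ↥(P : Subgroup G) = 11 ∧
    Nat.card ↥(Subgroup.normalizer ((P : Subgroup G) : Set G)) = 55 ∧
    Nat.card ↥(Subgroup.centralizer ((P : Subgroup G) : Set G)) = 11 ∧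
    (Subgroup.centralizer ((P : Subgroup G) : Set G)).relIndex
      (Subgroup.normalizer ((P : Subgroup G) : Set G)) = 5 := by
  have hnc : ¬ IsMulCommutative G := by
    apply not_comm_of_card_not_prime
    rw [hG]; norm_num
  obtain ⟨hP, n, k, c, r, hn, hNc, hCc, hr, hnk, hcr, hmod, hn1, hr10, hr1, hidx, hfac⟩ :=
    sylow_prime_data hnc (p := 11) (m := 720) (by rw [hG]) (by norm_num) P
  have hkpos : 0 < k := by
    rcases Nat.eq_zero_or_pos k with h | h
    · rw [h] at hnk; omega
    · exact h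
  have hnle : n < 721 := by
    have : n ≤ n * k := Nat.le_mul_of_pos_right _ hkpos
    omega
  have hnmod : 720 % n = 0 := Nat.mod_eq_zero_of_dvd ⟨k, hnk.symm⟩
  have hr10' : r ∣ 10 := hr10
  rcases arith_n11 n hnle hnmod hmod with h | h | h | h
  · exact absurd h hn1
  · -- `n = 12`
    exfalso
    have hcount : Nat.card (Sylow 11 G) = 11 + 1 := by rw [hn, h]
    have := Cfsg.Agent.Lib.Helper8.OrdSieve.normalizer_dvd_of_count_succ hnc (p := 11) (m := 720)
      (by norm_num) (by norm_num) (by rw [hG]) (by norm_num) hcount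
    rw [hG] at this
    norm_num at this
  · -- `n = 45`
    exfalso
    rw [h] at hnk
    have hk16 : k = 16 := by omega
    rw [hk16] at hcr hNc
    have hr2 : r = 2 := by
      have hr16 : r ∣ 16 := ⟨c, by rw [← hcr, mul_comm]⟩
      have hg : r ∣ Nat.gcd 10 16 := Nat.dvd_gcd hr10' hr16
      have hg2 : Nat.gcd 10 16 = 2 := by norm_num
      rw [hg2] at hg
      rcases (Nat.dvd_prime Nat.prime_two).mp hg with h' | h'
      · exact absurd h' hr1
      · exact h'
    rw [hr2] at hr
    exact case45 hnc hG P hP (by rw [hNc]) hr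
  · -- `n = 144`
    rw [h] at hnk
    have hk5 : k = 5 := by omega
    rw [hk5] at hcr hNc
    have hr5 : r = 5 := by
      have hr5' : r ∣ 5 := ⟨c, by rw [← hcr, mul_comm]⟩
      rcases (Nat.dvd_prime (by norm_num : Nat.Prime 5)).mp hr5' with h' | h'
      · exact absurd h' hr1
      · exact h'
    rw [hr5] at hcr hr
    have hc1 : c = 1 := by omega
    rw [hc1] at hCc
    exact ⟨hP, by rw [hNc], by rw [hCc], hr⟩

/-- the Sylow `5`-subgroups of a simple group of order `7920` without elements of order `10` -/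
theorem sylow5_data [IsSimpleGroup G] (hG : Nat.card G = 7920) [Fact (Nat.Prime 5)]
    (hno : ∀ q z : G, orderOf q = 5 → orderOf z = 2 → q * z = z * q → False)
    (Q : Sylow 5 G) :
    Nat.card ↥(Q : Subgroup G) = 5 ∧
    Nat.card ↥(Subgroup.normalizer ((Q : Subgroup G) : Set G)) = 20 ∧
    Nat.card ↥(Subgroup.centralizer ((Q : Subgroup G) : Set G)) = 5 := by
  haveI : Fact (Nat.Prime 11) := ⟨by norm_num⟩
  have hnc : ¬ IsMulCommutative G := by
    apply not_comm_of_card_not_prime
    rw [hG]; norm_num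
  obtain ⟨hQ, n, k, c, r, hn, hNc, hCc, hr, hnk, hcr, hmod, hn1, hr4, hr1, hidx, hfac⟩ :=
    sylow_prime_data hnc (p := 5) (m := 1584) (by rw [hG]) (by norm_num) Q
  obtain ⟨q, hqQ, hq⟩ := exists_prime_order_mem (Q : Subgroup G) 5 (by rw [hQ])
  -- `c` is odd
  have hc2 : c % 2 = 1 := by
    by_contra h
    have h2 : 2 ∣ Nat.card ↥(Subgroup.centralizer ((Q : Subgroup G) : Set G)) := by
      rw [hCc]; exact Dvd.dvd.mul_left (by omega) 5
    obtain ⟨z, hzC, hz⟩ := exists_invol_mem _ h2
    exact hno q z hq hz (Subgroup.mem_centralizer_iff.mp hzC q hqQ)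
  -- `11 ∤ c`
  have hc11 : c % 11 ≠ 0 := by
    intro h
    have h11 : 11 ∣ Nat.card ↥(Subgroup.centralizer ((Q : Subgroup G) : Set G)) := by
      rw [hCc]; exact Dvd.dvd.mul_left (Nat.dvd_of_mod_eq_zero h) 5
    obtain ⟨y, hyC, hy⟩ := exists_prime_order_mem _ 11 h11
    have hy1 : y ≠ 1 := by
      intro h'
      rw [h', orderOf_one] at hy
      omega
    have hyp : IsPGroup 11 ↥(Subgroup.zpowers y) := by
      apply IsPGroup.of_card (n := 1)
      rw [Nat.card_zpowers, hy, pow_one]
    obtain ⟨P', hP'⟩ := hyp.exists_le_sylow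
    obtain ⟨hP'c, -, hC'c, -⟩ := sylow11_data hG P'
    have hyP' : y ∈ (P' : Subgroup G) := hP' (Subgroup.mem_zpowers y)
    have hle := Cfsg.Agent.Lib.Helper12.BSF.le_zpowers_of_card_prime 11 (P' : Subgroup G) hP'c y
      hyP' hy1
    have hqy : q * y = y * q := Subgroup.mem_centralizer_iff.mp hyC q hqQ
    have hqC : q ∈ Subgroup.centralizer ((P' : Subgroup G) : Set G) := by
      rw [Subgroup.mem_centralizer_iff]
      intro x hx
      obtain ⟨j, rfl⟩ := Subgroup.mem_zpowers_iff.mp (hle hx)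
      have hc' : Commute q y := hqy
      exact (hc'.zpow_right j).eq.symm
    have hd := Subgroup.orderOf_dvd_natCard _ hqC
    rw [hq, hC'c] at hd
    omega
  have hr24 : r = 2 ∨ r = 4 := by
    have hr4' : r ∣ 4 := hr4
    have hrle : r ≤ 4 := Nat.le_of_dvd (by norm_num) hr4'
    have hr0 : 0 < r := Nat.pos_of_dvd_of_pos hr4' (by norm_num)
    interval_cases r
    · exact absurd rfl hr1
    · left; rfl
    · exfalso; revert hr4'; decide
    · right; rfl
  rcases hr24 with h | h
  · exfalso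
    rw [h] at hcr
    have h' : n * c * 2 = 1584 := by rw [← hnk, ← hcr]; ring
    have h'' : n * c = 792 := by omega
    have hcd : c ∣ 792 := Dvd.intro_left n h''
    have hcle : c < 793 := by
      have := Nat.le_of_dvd (by norm_num) hcd
      omega
    rcases arith_c5 c hcle (Nat.mod_eq_zero_of_dvd hcd) hc2 hc11 with hc | hc | hc <;>
      rw [hc] at h'' <;> omega
  · rw [h] at hcr
    have h' : n * c * 4 = 1584 := by rw [← hnk, ← hcr]; ring
    have h'' : n * c = 396 := by omega
    have hcd : c ∣ 792 := Dvd.intro_left (2 * n) (by rw [mul_assoc, h''] <;> norm_num)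
    have hcle : c < 793 := by
      have := Nat.le_of_dvd (by norm_num) hcd
      omega
    have hc1 : c = 1 := by
      rcases arith_c5 c hcle (Nat.mod_eq_zero_of_dvd hcd) hc2 hc11 with hc | hc | hc
      · exact hc
      · rw [hc] at h''; omega
      · rw [hc] at h''; omega
    rw [hc1] at hcr hCc
    have hk4 : k = 4 := by omega
    rw [hk4] at hNc
    exact ⟨hQ, by rw [hNc], by rw [hCc]⟩

end Cfsg.Agent.Lib.Helper5.M11
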