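import Mathlib
import Cfsg.Agent.Lib.Helper5.M11A
import Cfsg.Agent.Lib.Helper12.Ord5040E
import Cfsg.Agent.Lib.Helper23.DefectZeroIrr
import Cfsg.Agent.Lib.Helper10.GenOrtho

/-!
# Simple groups of order 7920, part B: character-theoretic tools (helper5)

* an irreducible non-trivial character of a non-abelian simple group takes a value of full absolute
  value only at `1`;
* a non-abelian simple group of even order has no irreducible character of degree `2`;
* if a non-abelian simple group whose order is divisible by `5` exactly once has an irreducible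
  character of degree `10`, no element of order `5` commutes with an involution.
-/

set_option autoImplicit false
set_option linter.unusedSectionVars false
set_option linter.style.haveILetI false

namespace Cfsg.Agent.Lib.Helper5.M11

open MulAction Cfsg Cfsg.Agent.Lib.Helper8.SmallSimple Cfsg.Agent.Lib.Helper8.SmallSimple2
  Cfsg.Agent.Lib.Helper7 Cfsg.Agent.Lib.Helper19.Ord4032 Cfsg.Agent.CharLib
  Cfsg.Agent.Lib.Helper24 Cfsg.Agent.Lib.Helper12.BSF
open scoped ComplexConjugate

universe u

variable {G : Type u} [Group G] [Finite G]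

/-- a non-trivial irreducible character of a non-abelian simple group has `|χ(g)| < χ(1)` for
`g ≠ 1` -/
theorem eq_one_of_norm_eq [IsSimpleGroup G] (hnc : ¬ IsMulCommutative G) (χ : IrrCharacter G)
    (hχ : (χ : G → ℂ) ≠ fun _ => 1) (g : G) (h : ‖(χ : G → ℂ) g‖ = ‖(χ : G → ℂ) 1‖) :
    g = 1 := by
  obtain ⟨n, ρ, hirr, hρ⟩ := χ.2
  have hfr : Module.finrank ℂ (Fin n → ℂ) = n := by simp
  have hχ1 : (χ : G → ℂ) 1 = n := by rw [← hρ]; simp
  have hnorm : ‖ρ.character g‖ = (Module.finrank ℂ (Fin n → ℂ) : ℝ) := by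
    rw [hρ, h, hχ1, hfr]; simp
  obtain ⟨ω, hω⟩ := exists_scalar_of_norm_char_eq ρ g hnorm
  have hker : (ρ : G →* (Module.End ℂ (Fin n → ℂ))).ker = ⊥ ∨ (ρ : G →* _).ker = ⊤ :=
    (MonoidHom.normal_ker _).eq_bot_or_eq_top
  rcases hker with hbot | htop
  · have hcent : g ∈ Subgroup.center G := by
      rw [Subgroup.mem_center_iff]
      intro h
      have h1 : ρ (h * g) = ρ (g * h) := by
        rw [map_mul, map_mul, hω]
        ext v
        simp
      have h2 : h * g * (g * h)⁻¹ ∈ (ρ : G →* _).ker := by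
        rw [MonoidHom.mem_ker, map_mul, h1, ← map_mul, mul_inv_cancel, map_one]
      rw [hbot, Subgroup.mem_bot] at h2
      exact mul_inv_eq_one.mp h2
    rw [center_eq_bot hnc, Subgroup.mem_bot] at hcent
    exact hcent
  · exfalso
    apply hχ
    have hall : ∀ x, ρ x = 1 := by
      intro x
      have : x ∈ (ρ : G →* _).ker := by rw [htop]; trivial
      exact MonoidHom.mem_ker.mp this
    have hn1 : n = 1 := by
      have := finrank_eq_one_of_forall_eq_one ρ hall
      rw [hfr] at this; exact this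
    rw [← hρ]
    funext x
    simp only [Representation.character, hall x]
    rw [show (1 : Module.End ℂ (Fin n → ℂ)) = LinearMap.id from rfl, LinearMap.trace_id, hfr, hn1]
    simp

/-- the norm of `d - 4 j` for `d ≤ 4 j` -/
theorem norm_sub_four_mul (d j : ℕ) (h : d ≤ 2 * j) :
    ‖(d : ℂ) - 4 * (j : ℂ)‖ = 4 * (j : ℝ) - d := by
  have e : (d : ℂ) - 4 * (j : ℂ) = (((d : ℝ) - 4 * (j : ℝ) : ℝ) : ℂ) := by push_cast; ring
  have h' : (d : ℝ) ≤ 2 * (j : ℝ) := by exact_mod_cast h
  have hj : (0 : ℝ) ≤ j := Nat.cast_nonneg j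
  rw [e, Complex.norm_real, Real.norm_eq_abs, abs_of_nonpos (by linarith)]
  ring

/-- a non-abelian simple group of even order has no irreducible character of degree `2` -/
theorem no_degree_two [IsSimpleGroup G] (hnc : ¬ IsMulCommutative G) (heven : 2 ∣ Nat.card G)
    (χ : IrrCharacter G) : charDegree (χ : G → ℂ) ≠ 2 := by
  intro hd
  have hperf := commutator_eq_top_of_simple hnc
  obtain ⟨t, -, ht⟩ := exists_invol_mem (⊤ : Subgroup G) (by rw [Subgroup.card_top]; exact heven)
  have hχ1 : (χ : G → ℂ) 1 = ((2 : ℕ) : ℂ) := by rw [irr_apply_one, hd]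
  obtain ⟨j, hj⟩ := Cfsg.Agent.Lib.Helper12.Ord5040.char_invol_mod_four hperf
    (IsIrrCharacter.isCharacter χ.2) t ht
  rw [hχ1] at hj
  have hle := Cfsg.Agent.Lib.Helper10.irr_norm_le χ.2 t
  rw [hj, hχ1] at hle
  have hj1 : j ≤ 1 := by
    by_contra hcon
    push Not at hcon
    rw [norm_sub_four_mul 2 j (by omega), Complex.norm_natCast] at hle
    have h2 : (2 : ℝ) ≤ j := by exact_mod_cast hcon
    push_cast at hle
    linarith
  have hne : (χ : G → ℂ) ≠ fun _ => 1 := by
    intro h
    rw [h] at hχ1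
    norm_num at hχ1
  have ht1 : t ≠ 1 := by
    intro h
    rw [h, orderOf_one] at ht
    omega
  apply ht1
  apply eq_one_of_norm_eq hnc χ hne t
  rw [hj, hχ1]
  interval_cases j
  · norm_num
  · norm_num

/-- a simple group with `5 ∥ |G|` and an irreducible character of degree `10` has no element of
order `10` -/
theorem no_order_ten [IsSimpleGroup G] (hnc : ¬ IsMulCommutative G)
    (h5 : (Nat.card G).factorization 5 = 1)
    (χ : IrrCharacter G) (hd : charDegree (χ : G → ℂ) = 10) (q z : G) (hq : orderOf q = 5)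
    (hz : orderOf z = 2) (hqz : q * z = z * q) : False := by
  classical
  have hperf := commutator_eq_top_of_simple hnc
  have hχc := IsIrrCharacter.isCharacter χ.2
  have hχ1 : (χ : G → ℂ) 1 = ((10 : ℕ) : ℂ) := by rw [irr_apply_one, hd]
  have hvan : ∀ x : G, 5 ∣ orderOf x → (χ : G → ℂ) x = 0 := fun x hx =>
    Cfsg.Agent.Lib.Helper23.irr_eq_zero_of_defect_zero χ 5 (by norm_num)
      (by rw [h5, hd]; norm_num) x hx
  have hcomm : Commute q z := hqz
  have hw10 : orderOf (q * z) = 10 := by
    rw [hcomm.orderOf_mul_eq_mul_orderOf_of_coprime (by rw [hq, hz]; norm_num), hq, hz]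
  have hz2 : z ^ 2 = 1 := by rw [← hz]; exact pow_orderOf_eq_one z
  have hz5 : (q * z) ^ 5 = z := by
    rw [hcomm.mul_pow, ← hq, pow_orderOf_eq_one, one_mul, hq]
    calc z ^ 5 = (z ^ 2) ^ 2 * z := by rw [← pow_mul, ← pow_succ]
      _ = z := by rw [hz2, one_pow, one_mul]
  have hz1 : z ≠ 1 := by
    intro h
    rw [h, orderOf_one] at hz
    omega
  set A := Subgroup.zpowers (q * z) with hA
  have hAc : Nat.card ↥A = 10 := by rw [Nat.card_zpowers, hw10]
  have hzA : z ∈ A := by
    rw [← hz5]; exact Subgroup.pow_mem _ (Subgroup.mem_zpowers (q * z)) 5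
  letI : Fintype ↥A := Fintype.ofFinite _
  have hcardA : Fintype.card ↥A = 10 := by rw [← Nat.card_eq_fintype_card]; exact hAc
  obtain ⟨m, hm⟩ := sum_subgroup_irr A χ
  have hsum := Cfsg.Agent.Lib.Helper19.Ord1008.sum_const_except_two
    (fun c : ↥A => (χ : G → ℂ) (c : G)) 1 ⟨z, hzA⟩
    (by
      intro h
      exact hz1 (congrArg (fun w : ↥A => (w : G)) h).symm) (0 : ℂ)
    (by
      intro c hc1 hcz
      apply hvan
      by_contra h5'
      have hd10 : orderOf (c : G) ∣ 10 := by
        have := Subgroup.orderOf_dvd_natCard A c.2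
        rwa [hAc] at this
      have hd2 : orderOf (c : G) ∣ 2 := by
        have hcop : Nat.Coprime (orderOf (c : G)) 5 :=
          (Nat.Coprime.symm ((Nat.Prime.coprime_iff_not_dvd (by norm_num)).mpr h5'))
        exact Nat.Coprime.dvd_of_dvd_mul_right hcop (by simpa using hd10)
      rcases (Nat.dvd_prime Nat.prime_two).mp hd2 with h | h
      · exact hc1 (Subtype.ext (orderOf_eq_one_iff.mp h))
      · exact hcz (Subtype.ext (invol_unique_of_isCyclic A (c : G) z c.2 hzA h hz)))
  simp only [Subgroup.coe_one] at hsum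
  rw [hm, hcardA, hχ1] at hsum
  obtain ⟨j, hj⟩ := Cfsg.Agent.Lib.Helper12.Ord5040.char_invol_mod_four hperf hχc z hz
  rw [hχ1] at hj
  rw [hj] at hsum
  have hint : (10 : ℤ) * m = 10 + (10 - 4 * j) := by
    have : ((10 * m : ℤ) : ℂ) = ((10 + (10 - 4 * j) : ℤ) : ℂ) := by
      push_cast
      push_cast at hsum
      linear_combination hsum
    exact_mod_cast this
  have hle := Cfsg.Agent.Lib.Helper10.irr_norm_le χ.2 z
  rw [hj, hχ1] at hle
  have hj5 : j ≤ 5 := by
    by_contra hcon
    push Not at hcon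
    rw [norm_sub_four_mul 10 j (by omega), Complex.norm_natCast] at hle
    have h2 : (6 : ℝ) ≤ j := by exact_mod_cast hcon
    push_cast at hle
    linarith
  have hj05 : j = 0 ∨ j = 5 := by omega
  have hne : (χ : G → ℂ) ≠ fun _ => 1 := by
    intro h
    rw [h] at hχ1
    norm_num at hχ1
  apply hz1
  apply eq_one_of_norm_eq hnc χ hne z
  rw [hj, hχ1]
  rcases hj05 with h | h <;> rw [h] <;> norm_num

end Cfsg.Agent.Lib.Helper5.M11
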