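import Mathlib
import Cfsg.Agent.Lib.Helper5.M11B

/-!
# Simple groups of order 7920, part C: the principal `11`-block (helper5)

The Brauer–Leonard theorem for `p = 11`, `[N(P) : C(P)] = 5` gives the principal block
`X ∪ {η₁, η₂}`; the arithmetic of the degree equation leaves the degree patterns
`1, 10, 10, 12, 12; 5, 5` and `1, 10, 10, 10, 45; 16, 16`.  All other irreducible characters vanish on
the elements of order `11`, so their degrees are divisible by `11`.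
-/

set_option autoImplicit false
set_option linter.unusedSectionVars false
set_option linter.style.haveILetI false

namespace Cfsg.Agent.Lib.Helper5.M11

open MulAction Cfsg Cfsg.Agent.Lib.Helper8.SmallSimple Cfsg.Agent.Lib.Helper8.SmallSimple2
  Cfsg.Agent.Lib.Helper7 Cfsg.Agent.Lib.Helper19.Ord4032 Cfsg.Agent.CharLib
  Cfsg.Agent.Lib.Helper24 Cfsg.Agent.Lib.Helper12.BSF Cfsg.Agent.Lib.Helper6
open scoped ComplexConjugate

universe u

/-! ### arithmetic -/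

theorem arith_deg_one : ∀ n < 89, 7920 % n = 0 → n % 11 = 1 → n = 1 ∨ n = 12 ∨ n = 45 := by
  decide

theorem arith_deg_neg_one : ∀ n < 89, 7920 % n = 0 → n % 11 = 10 → n = 10 := by
  decide

theorem arith_deg_two : ∀ n < 89, 7920 % n = 0 → n % 11 = 2 → n = 2 ∨ n = 24 := by
  decide

theorem arith_deg_neg_two : ∀ n < 89, 7920 % n = 0 → n % 11 = 9 → n = 9 ∨ n = 20 := by
  decide

/-- degree and value `± 1` on the `11`-singular elements -/
theorem pair_val (n : ℕ) (a : ℤ) (ha : a = 1 ∨ a = -1) (h11 : (11 : ℤ) ∣ (n : ℤ) - a)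
    (hdvd : n ∣ 7920) (hn1 : n ≠ 1) (hle : n ≤ 88) :
    (a = 1 ∧ (n = 12 ∨ n = 45)) ∨ (a = -1 ∧ n = 10) := by
  obtain ⟨k, hk⟩ := h11
  have hmod := Nat.mod_eq_zero_of_dvd hdvd
  rcases ha with rfl | rfl
  · left
    refine ⟨rfl, ?_⟩
    rcases arith_deg_one n (by omega) hmod (by omega) with h | h | h
    · exact absurd h hn1
    · left; exact h
    · right; exact h
  · right
    exact ⟨rfl, arith_deg_neg_one n (by omega) hmod (by omega)⟩

/-- the case of a single non-trivial non-exceptional character -/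
theorem arith1 (n e : ℕ) (a κ : ℤ) (ha : a = 2 ∨ a = -2) (hκ : κ = 1 ∨ κ = -1)
    (h11 : (11 : ℤ) ∣ (n : ℤ) - a) (hn : n ∣ 7920) (hle : n ≤ 88) (he : e ∣ 7920)
    (heq : κ * e + 1 + a * n = 0) : n = 2 := by
  obtain ⟨k, hk⟩ := h11
  have hmod := Nat.mod_eq_zero_of_dvd hn
  have e49 : e ≠ 49 := by rintro rfl; norm_num at he
  have e17 : e ≠ 17 := by rintro rfl; norm_num at he
  have e39 : e ≠ 39 := by rintro rfl; norm_num at he
  rcases ha with rfl | rfl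
  · rcases arith_deg_two n (by omega) hmod (by omega) with h | h
    · exact h
    · exfalso
      rcases hκ with rfl | rfl <;> omega
  · exfalso
    rcases arith_deg_neg_two n (by omega) hmod (by omega) with h | h <;>
      rcases hκ with rfl | rfl <;> omega

/-- the case of four non-trivial non-exceptional characters -/
theorem arith4 (n1 n2 n3 n4 e : ℕ) (a1 a2 a3 a4 κ : ℤ)
    (h1 : (a1 = 1 ∧ (n1 = 12 ∨ n1 = 45)) ∨ (a1 = -1 ∧ n1 = 10))
    (h2 : (a2 = 1 ∧ (n2 = 12 ∨ n2 = 45)) ∨ (a2 = -1 ∧ n2 = 10))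
    (h3 : (a3 = 1 ∧ (n3 = 12 ∨ n3 = 45)) ∨ (a3 = -1 ∧ n3 = 10))
    (h4 : (a4 = 1 ∧ (n4 = 12 ∨ n4 = 45)) ∨ (a4 = -1 ∧ n4 = 10))
    (hκ : κ = 1 ∨ κ = -1) (he : e ∣ 7920) (he0 : 0 < e)
    (heq : κ * e + 1 + a1 * n1 + a2 * n2 + a3 * n3 + a4 * n4 = 0)
    (hsq : (1 : ℤ) + n1 * n1 + n2 * n2 + n3 * n3 + n4 * n4 + 2 * ((e : ℤ) * e) ≤ 7920) :
    (((↑[n1, n2, n3, n4] : Multiset ℕ) = ↑[10, 10, 12, 12]) ∧ e = 5) ∨
    (((↑[n1, n2, n3, n4] : Multiset ℕ) = ↑[10, 10, 10, 45]) ∧ e = 16) := by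
  have e39 : e ≠ 39 := by rintro rfl; norm_num at he
  have e17 : e ≠ 17 := by rintro rfl; norm_num at he
  have e27 : e ≠ 27 := by rintro rfl; norm_num at he
  have e49 : e ≠ 49 := by rintro rfl; norm_num at he
  have e38 : e ≠ 38 := by rintro rfl; norm_num at he
  have he62 : e ≤ 62 := by
    by_contra hcon
    push Not at hcon
    have h63 : (63 : ℤ) ≤ e := by exact_mod_cast hcon
    have hn1 : (0 : ℤ) ≤ (n1 : ℤ) * n1 := mul_self_nonneg _
    have hn2 : (0 : ℤ) ≤ (n2 : ℤ) * n2 := mul_self_nonneg _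
    have hn3 : (0 : ℤ) ≤ (n3 : ℤ) * n3 := mul_self_nonneg _
    have hn4 : (0 : ℤ) ≤ (n4 : ℤ) * n4 := mul_self_nonneg _
    nlinarith
  have e60 : e ≠ 60 ∨
      (n1 : ℤ) * n1 + n2 * n2 + n3 * n3 + n4 * n4 ≤ 719 := by
    by_cases h : e = 60
    · right
      rw [h] at hsq
      push_cast at hsq
      linarith
    · left; exact h
  rcases hκ with rfl | rfl <;>
  rcases h1 with ⟨rfl, rfl | rfl⟩ | ⟨rfl, rfl⟩ <;>
  rcases h2 with ⟨rfl, rfl | rfl⟩ | ⟨rfl, rfl⟩ <;>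
  rcases h3 with ⟨rfl, rfl | rfl⟩ | ⟨rfl, rfl⟩ <;>
  rcases h4 with ⟨rfl, rfl | rfl⟩ | ⟨rfl, rfl⟩ <;>
  first
  | (exfalso; omega)
  | exact Or.inl ⟨by decide, by omega⟩
  | exact Or.inr ⟨by decide, by omega⟩

theorem list_four {α : Type*} (l : List α) (h : l.length = 4) :
    ∃ a b c d, l = [a, b, c, d] := by
  match l, h with
  | [a, b, c, d], _ => exact ⟨a, b, c, d, rfl⟩

/-! ### extraction from the Brauer–Leonard theorem -/

section extract

variable {G : Type u} [Group G] [Finite G]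

set_option maxHeartbeats 1600000 in
/-- the data of the principal `11`-block, with the values of the non-exceptional characters on the
non-identity elements of a given Sylow `11`-subgroup `P`, and the vanishing of the characters outside
the block on these elements -/
theorem bl11_extract_val [IsSimpleGroup G] (hG : Nat.card G = 7920) [Fact (Nat.Prime 11)]
    (P : Sylow 11 G) :
    ∃ (Xf : Finset (IrrCharacter G)) (χ₁ η₁ η₂ : IrrCharacter G) (a : IrrCharacter G → ℤ)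
      (κ : ℤ),
      χ₁ ∈ Xf ∧ (χ₁ : G → ℂ) = (fun _ => 1) ∧ a χ₁ = 1 ∧ (∀ χ ∈ Xf, a χ ≠ 0) ∧
      (∀ χ ∈ Xf, (11 : ℤ) ∣ (charDegree (χ : G → ℂ) : ℤ) - a χ) ∧
      η₁ ≠ η₂ ∧ η₁ ∉ Xf ∧ η₂ ∉ Xf ∧
      charDegree (η₂ : G → ℂ) = charDegree (η₁ : G → ℂ) ∧
      (((κ = 1 ∨ κ = -1) ∧ ∑ χ ∈ Xf, a χ ^ 2 = 5) ∨
        ((κ = 3 ∨ κ = -3) ∧ ∑ χ ∈ Xf, a χ ^ 2 = 1)) ∧
      κ * (charDegree (η₁ : G → ℂ) : ℤ) +
        ∑ χ ∈ Xf, a χ * (charDegree (χ : G → ℂ) : ℤ) = 0 ∧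
      (∀ χ : IrrCharacter G, χ ∉ Xf → χ ≠ η₁ → χ ≠ η₂ → 11 ∣ charDegree (χ : G → ℂ)) ∧
      (∀ χ ∈ Xf, ∀ y ∈ (P : Subgroup G), y ≠ 1 → (χ : G → ℂ) y = (a χ : ℂ)) ∧
      (∀ χ : IrrCharacter G, χ ∉ Xf → χ ≠ η₁ → χ ≠ η₂ →
        ∀ y ∈ (P : Subgroup G), y ≠ 1 → (χ : G → ℂ) y = 0) := by
  classical
  letI : Fintype G := Fintype.ofFinite G
  letI : Fintype (IrrCharacter G) := fintypeIrr G
  obtain ⟨hP, hNc, hCc, hr⟩ := sylow11_data hG P
  letI : Fintype ↥(P : Subgroup G) := Fintype.ofFinite _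
  have hcardPf : Fintype.card ↥(P : Subgroup G) = 11 := by
    rw [← Nat.card_eq_fintype_card]; exact hP
  have hCN : Subgroup.centralizer ((P : Subgroup G) : Set G) ≤
      Subgroup.normalizer ((P : Subgroup G) : Set G) := Subgroup.centralizer_le_normalizer _
  have hab : IsMulCommutative ↥P := by
    have hcyc : IsCyclic ↥(P : Subgroup G) := isCyclic_of_prime_card hP
    exact IsCyclic.isMulCommutative
  have hcyc := exists_cyc_of_relIndex_prime _ _ hCN 5 (by norm_num) hr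
  have hzpow : ∀ y : G, y ∈ (P : Subgroup G) → y ≠ 1 →
      Subgroup.zpowers y = (P : Subgroup G) := by
    intro y hyP hy1
    apply le_antisymm
    · rw [Subgroup.zpowers_le]; exact hyP
    · exact le_zpowers_of_card_prime 11 (P : Subgroup G) hP y hyP hy1
  have hfrob : ∀ y : G, y ∈ (P : Subgroup G) → y ≠ 1 →
      Subgroup.centralizer ({y} : Set G) ⊓ Subgroup.normalizer ((P : Subgroup G) : Set G) =
        Subgroup.centralizer ((P : Subgroup G) : Set G) := by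
    intro y hyP hy1
    rw [← centralizer_zpowers_eq', hzpow y hyP hy1]
    exact inf_eq_left.mpr hCN
  have hCy : ∀ y : G, y ∈ (P : Subgroup G) → y ≠ 1 →
      Nat.card ↥(Subgroup.centralizer ({y} : Set G)) = 11 := by
    intro y hyP hy1
    rw [← centralizer_zpowers_eq', hzpow y hyP hy1, hCc]
  have hpp : ∀ y : G, y ∈ (P : Subgroup G) → y ≠ 1 → IsPPart 11 y y := by
    intro y hyP hy1
    have hord : orderOf y = 11 := orderOf_eq_of_card_prime 11 (P : Subgroup G) hP y hyP hy1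
    exact ⟨1, mul_one _, Commute.one_right _, ⟨1, by rw [hord, pow_one]⟩,
      by rw [orderOf_one]; norm_num⟩
  obtain ⟨M, hM⟩ := exists_isPModular 11
  have hcardP : Nat.card P = 11 := hP
  obtain ⟨s, X, Y, hs, hB, hdisj, hXc, hYc, ⟨χ₁, hχ₁X, hχ₁⟩, a, d, δ, ζ, hδ, hX, -, -, -, -, heq,
    hYreg, hrel⟩ := brauer_leonard_main 11 M hM P hab 5 (by norm_num) (by rw [hcardP]; norm_num) hr
      hcyc hfrob
  rw [hcardP] at hYc heq hrel
  have hXfin : X.Finite := Set.toFinite X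
  have heq' : (d - δ) ^ 2 + d ^ 2 + ∑ χ ∈ hXfin.toFinset, a χ ^ 2 = 6 := by
    have e : (((11 : ℕ) : ℤ) - 1) / ((5 : ℕ) : ℤ) - 1 = 1 := by norm_num
    rw [e, finsum_mem_eq_finite_toFinset_sum _ hXfin] at heq
    push_cast at heq
    linarith
  have hYc' : Y.ncard = 2 := by rw [← Nat.card_coe_set_eq, hYc]
  have hrel' : ∀ η ∈ Y, ∀ g : G, ¬ 11 ∣ orderOf g →
      ((2 : ℂ) * d - δ) * (η : G → ℂ) g +
        ∑ χ ∈ hXfin.toFinset, (a χ : ℂ) * (χ : G → ℂ) g = 0 := by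
    intro η hη g hg
    have := hrel η hη g hg
    have e : (((11 - 1) / 5 : ℕ) : ℂ) = 2 := by norm_num
    rw [e, finsum_mem_eq_finite_toFinset_sum _ hXfin] at this
    exact this
  obtain ⟨y, hyP, hy⟩ := exists_prime_order_mem (P : Subgroup G) 11 (by rw [hP])
  have hy1 : y ≠ 1 := by
    intro h
    rw [h, orderOf_one] at hy
    omega
  have ha1 : a χ₁ = 1 := by
    have h1 := (hX χ₁ hχ₁X).2 y y (hpp y hyP hy1) hyP hy1
    rw [hχ₁] at h1
    have h2 : ((a χ₁ : ℤ) : ℂ) = ((1 : ℤ) : ℂ) := by rw [← h1]; norm_num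
    exact_mod_cast h2
  obtain ⟨η₁, η₂, hη12, hYeq⟩ := Set.ncard_eq_two.mp hYc'
  have hη₁Y : η₁ ∈ Y := by rw [hYeq]; exact Set.mem_insert _ _
  have hη₂Y : η₂ ∈ Y := by rw [hYeq]; exact Set.mem_insert_of_mem _ rfl
  have hreg1 : ¬ 11 ∣ orderOf (1 : G) := by rw [orderOf_one]; norm_num
  have hdegη : charDegree (η₂ : G → ℂ) = charDegree (η₁ : G → ℂ) := by
    have h := hYreg η₁ hη₁Y η₂ hη₂Y 1 hreg1
    rw [irr_apply_one, irr_apply_one] at h
    exact_mod_cast h.symm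
  have hmemX : ∀ χ, χ ∈ hXfin.toFinset ↔ χ ∈ X := fun χ => Set.Finite.mem_toFinset hXfin
  have hXY : ∀ χ, χ ∈ X → χ ∈ Y → False := fun χ h1 h2 =>
    (Set.disjoint_left.mp hdisj h1) h2
  -- the congruences
  have hcong : ∀ χ ∈ hXfin.toFinset, (11 : ℤ) ∣ (charDegree (χ : G → ℂ) : ℤ) - a χ := by
    intro χ hχ
    have hχX : χ ∈ X := (hmemX χ).mp hχ
    obtain ⟨m₁, hm₁⟩ := sum_subgroup_irr (P : Subgroup G) χ
    have hsumP := Cfsg.Agent.Lib.Helper19.Ord1008.sum_const_except_one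
      (fun y : ↥(P : Subgroup G) => (χ : G → ℂ) (y : G)) 1 (a χ : ℂ)
      (by
        intro y hy
        have hy1 : (y : G) ≠ 1 := fun h => hy (Subtype.ext h)
        exact (hX χ hχX).2 (y : G) (y : G) (hpp (y : G) y.2 hy1) y.2 hy1)
    simp only [Subgroup.coe_one] at hsumP
    rw [hm₁, hcardPf, irr_apply_one] at hsumP
    have hH1 : 11 * (m₁ : ℤ) = 11 * a χ + ((charDegree (χ : G → ℂ) : ℤ) - a χ) := by
      exact_mod_cast hsumP
    exact ⟨(m₁ : ℤ) - a χ, by linarith⟩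
  -- characters outside the principal block
  have hvanish : ∀ χ : IrrCharacter G, χ ∉ hXfin.toFinset → χ ≠ η₁ → χ ≠ η₂ →
      ∀ w : G, w ∈ (P : Subgroup G) → w ≠ 1 → (χ : G → ℂ) w = 0 := by
    intro χ hχX hχ1 hχ2
    have hχB : χ ∉ principalBlock M G := by
      rw [hB, hYeq]
      rintro (h | h | h)
      · exact hχX ((hmemX χ).mpr h)
      · exact hχ1 h
      · exact hχ2 h
    have hBfin : (principalBlock M G).Finite := Set.toFinite _
    intro w hwP hw1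
    have h1 := BLFrob.sum_sq hM (P := P) hfrob hab w hwP hw1
    have h2 := sum_irr_mul_conj (G := G) w w
    rw [Cfsg.Agent.Lib.Helper19.Ord720.classInd_self, one_mul, hCy w hwP hw1] at h2
    rw [hP, finsum_mem_eq_finite_toFinset_sum _ hBfin] at h1
    have h3 : ∑ ψ ∈ Finset.univ \ hBfin.toFinset,
        (ψ : G → ℂ) w * conj ((ψ : G → ℂ) w) = 0 := by
      have := Finset.sum_sdiff (Finset.subset_univ hBfin.toFinset)
        (f := fun ψ : IrrCharacter G => (ψ : G → ℂ) w * conj ((ψ : G → ℂ) w))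
      rw [h1, h2] at this
      linear_combination this
    have h4 : ∑ ψ ∈ Finset.univ \ hBfin.toFinset, ‖(ψ : G → ℂ) w‖ ^ 2 = 0 := by
      have h5 : ∀ ψ : IrrCharacter G, (ψ : G → ℂ) w * conj ((ψ : G → ℂ) w) =
          ((‖(ψ : G → ℂ) w‖ ^ 2 : ℝ) : ℂ) := by
        intro ψ
        rw [Complex.mul_conj']
        push_cast
        rfl
      simp only [h5] at h3
      exact_mod_cast h3
    have hmem : χ ∈ Finset.univ \ hBfin.toFinset := by
      rw [Finset.mem_sdiff]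
      exact ⟨Finset.mem_univ _, by rw [Set.Finite.mem_toFinset]; exact hχB⟩
    have h6 := (Finset.sum_eq_zero_iff_of_nonneg (fun ψ _ => sq_nonneg _)).mp h4 χ hmem
    exact norm_eq_zero.mp ((pow_eq_zero_iff (two_ne_zero)).mp h6)
  have hout : ∀ χ : IrrCharacter G, χ ∉ hXfin.toFinset → χ ≠ η₁ → χ ≠ η₂ →
      11 ∣ charDegree (χ : G → ℂ) := by
    intro χ hχX hχ1 hχ2
    have hvan := hvanish χ hχX hχ1 hχ2
    obtain ⟨m₁, hm₁⟩ := sum_subgroup_irr (P : Subgroup G) χ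
    have hsumP := Cfsg.Agent.Lib.Helper19.Ord1008.sum_const_except_one
      (fun y : ↥(P : Subgroup G) => (χ : G → ℂ) (y : G)) 1 (0 : ℂ)
      (by
        intro y hy
        have hy1 : (y : G) ≠ 1 := fun h => hy (Subtype.ext h)
        exact hvan (y : G) y.2 hy1)
    simp only [Subgroup.coe_one] at hsumP
    rw [hm₁, hcardPf, irr_apply_one] at hsumP
    have hH1 : 11 * (m₁ : ℤ) = (charDegree (χ : G → ℂ) : ℤ) := by
      have : ((11 * (m₁ : ℤ) : ℤ) : ℂ) = (((charDegree (χ : G → ℂ) : ℤ)) : ℂ) := by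
        push_cast
        push_cast at hsumP
        linear_combination hsumP
      exact_mod_cast this
    exact ⟨m₁, by exact_mod_cast hH1.symm⟩
  -- the degree equation
  have hrelZ : (2 * d - δ) * (charDegree (η₁ : G → ℂ) : ℤ) +
      ∑ χ ∈ hXfin.toFinset, a χ * (charDegree (χ : G → ℂ) : ℤ) = 0 := by
    have h := hrel' η₁ hη₁Y 1 hreg1
    have h' : (((2 * d - δ) * (charDegree (η₁ : G → ℂ) : ℤ) +
        ∑ χ ∈ hXfin.toFinset, a χ * (charDegree (χ : G → ℂ) : ℤ) : ℤ) : ℂ) = ((0 : ℤ) : ℂ) := by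
      push_cast
      rw [← h, irr_apply_one]
      congr 1
      apply Finset.sum_congr rfl
      intro χ _
      rw [irr_apply_one]
    exact_mod_cast h'
  have hχ₁Xf : χ₁ ∈ hXfin.toFinset := (hmemX χ₁).mpr hχ₁X
  have hsum1 : 1 ≤ ∑ χ ∈ hXfin.toFinset, a χ ^ 2 := by
    have := Finset.single_le_sum (f := fun χ => a χ ^ 2) (fun x _ => sq_nonneg (a x)) hχ₁Xf
    have h' : a χ₁ ^ 2 ≤ ∑ χ ∈ hXfin.toFinset, a χ ^ 2 := this
    rw [ha1] at h'
    linarith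
  refine ⟨hXfin.toFinset, χ₁, η₁, η₂, a, 2 * d - δ, hχ₁Xf, hχ₁, ha1,
    fun χ hχ => (hX χ ((hmemX χ).mp hχ)).1, hcong, hη12,
    fun h => hXY η₁ ((hmemX η₁).mp h) hη₁Y, fun h => hXY η₂ ((hmemX η₂).mp h) hη₂Y, hdegη, ?_,
    hrelZ, hout,
    fun χ hχ y hyP' hy1' => (hX χ ((hmemX χ).mp hχ)).2 y y (hpp y hyP' hy1') hyP' hy1', hvanish⟩
  generalize (∑ χ ∈ hXfin.toFinset, a χ ^ 2) = sg at heq' hsum1 ⊢
  rcases hδ with rfl | rfl
  · have h1 : -1 ≤ d := by nlinarith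
    have h2 : d ≤ 2 := by nlinarith
    interval_cases d
    · right; exact ⟨Or.inr (by norm_num), by linarith⟩
    · left; exact ⟨Or.inr (by norm_num), by linarith⟩
    · left; exact ⟨Or.inl (by norm_num), by linarith⟩
    · right; exact ⟨Or.inl (by norm_num), by linarith⟩
  · have h1 : -2 ≤ d := by nlinarith
    have h2 : d ≤ 1 := by nlinarith
    interval_cases d
    · right; exact ⟨Or.inr (by norm_num), by linarith⟩
    · left; exact ⟨Or.inr (by norm_num), by linarith⟩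
    · left; exact ⟨Or.inl (by norm_num), by linarith⟩
    · right; exact ⟨Or.inl (by norm_num), by linarith⟩

theorem bl11_extract [IsSimpleGroup G] (hG : Nat.card G = 7920) :
    ∃ (Xf : Finset (IrrCharacter G)) (χ₁ η₁ η₂ : IrrCharacter G) (a : IrrCharacter G → ℤ)
      (κ : ℤ),
      χ₁ ∈ Xf ∧ (χ₁ : G → ℂ) = (fun _ => 1) ∧ a χ₁ = 1 ∧ (∀ χ ∈ Xf, a χ ≠ 0) ∧
      (∀ χ ∈ Xf, (11 : ℤ) ∣ (charDegree (χ : G → ℂ) : ℤ) - a χ) ∧
      η₁ ≠ η₂ ∧ η₁ ∉ Xf ∧ η₂ ∉ Xf ∧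
      charDegree (η₂ : G → ℂ) = charDegree (η₁ : G → ℂ) ∧
      (((κ = 1 ∨ κ = -1) ∧ ∑ χ ∈ Xf, a χ ^ 2 = 5) ∨
        ((κ = 3 ∨ κ = -3) ∧ ∑ χ ∈ Xf, a χ ^ 2 = 1)) ∧
      κ * (charDegree (η₁ : G → ℂ) : ℤ) +
        ∑ χ ∈ Xf, a χ * (charDegree (χ : G → ℂ) : ℤ) = 0 ∧
      (∀ χ : IrrCharacter G, χ ∉ Xf → χ ≠ η₁ → χ ≠ η₂ → 11 ∣ charDegree (χ : G → ℂ)) := by
  haveI : Fact (Nat.Prime 11) := ⟨by norm_num⟩
  obtain ⟨P⟩ : Nonempty (Sylow 11 G) := inferInstance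
  obtain ⟨Xf, χ₁, η₁, η₂, a, κ, h1, h2, h3, h4, h5, h6, h7, h8, h9, h10, h11, h12, -, -⟩ :=
    bl11_extract_val hG P
  exact ⟨Xf, χ₁, η₁, η₂, a, κ, h1, h2, h3, h4, h5, h6, h7, h8, h9, h10, h11, h12⟩

end extract

end Cfsg.Agent.Lib.Helper5.M11
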