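import Mathlib
import Cfsg.Agent.Lib.Helper5.M11C

/-!
# Simple groups of order 7920, part D: the degrees in the principal `11`-block (helper5)

From the extraction of part C: the principal `11`-block consists of seven characters whose degrees
are `1, 10, 10, 12, 12, 5, 5` or `1, 10, 10, 10, 45, 16, 16`; every other irreducible character has
degree divisible by `11`.
-/

set_option autoImplicit false
set_option linter.unusedSectionVars false
set_option linter.style.haveILetI false

namespace Cfsg.Agent.Lib.Helper5.M11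

open MulAction Cfsg Cfsg.Agent.Lib.Helper8.SmallSimple Cfsg.Agent.Lib.Helper8.SmallSimple2
  Cfsg.Agent.Lib.Helper7 Cfsg.Agent.Lib.Helper19.Ord4032 Cfsg.Agent.CharLib
  Cfsg.Agent.Lib.Helper24 Cfsg.Agent.Lib.Helper12.BSF Cfsg.Agent.Lib.Helper6
open scoped ComplexConjugate

universe u

variable {G : Type u} [Group G] [Finite G]

/-- the sum of the squares of the degrees -/
theorem sum_deg_sq [Fintype (IrrCharacter G)] :
    ∑ χ : IrrCharacter G, (charDegree (χ : G → ℂ) : ℤ) ^ 2 = (Nat.card G : ℤ) := by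
  classical
  letI : Fintype G := Fintype.ofFinite G
  have h := sum_irr_mul_conj (G := G) 1 1
  have hc1 : Nat.card ↥(Subgroup.centralizer ({1} : Set G)) = Nat.card G := by
    have : Subgroup.centralizer ({1} : Set G) = ⊤ := by
      ext g
      simp [Subgroup.mem_centralizer_iff]
    rw [this, Subgroup.card_top]
  rw [Cfsg.Agent.Lib.Helper19.Ord720.classInd_self, one_mul, hc1] at h
  have h3 : ∀ χ : IrrCharacter G, (χ : G → ℂ) 1 * conj ((χ : G → ℂ) 1) =
      (((charDegree (χ : G → ℂ) : ℤ) ^ 2 : ℤ) : ℂ) := by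
    intro χ
    rw [irr_apply_one, map_natCast]
    push_cast
    ring
  simp only [h3] at h
  exact_mod_cast h

set_option maxHeartbeats 1600000 in
theorem block11 [IsSimpleGroup G] (hG : Nat.card G = 7920) :
    ∃ S : Finset (IrrCharacter G),
      (S.val.map (fun χ : IrrCharacter G => charDegree (χ : G → ℂ)) =
          (↑[10, 10, 12, 12, 1, 5, 5] : Multiset ℕ) ∨
       S.val.map (fun χ : IrrCharacter G => charDegree (χ : G → ℂ)) =
          (↑[10, 10, 10, 45, 1, 16, 16] : Multiset ℕ)) ∧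
      ∀ χ : IrrCharacter G, χ ∉ S → 11 ∣ charDegree (χ : G → ℂ) := by
  classical
  letI : Fintype G := Fintype.ofFinite G
  letI : Fintype (IrrCharacter G) := fintypeIrr G
  have hnc : ¬ IsMulCommutative G := by
    apply not_comm_of_card_not_prime
    rw [hG]; norm_num
  have hperf := commutator_eq_top_of_simple hnc
  obtain ⟨Xf, χ₁, η₁, η₂, a, κ, hχ₁X, hχ₁, ha1, ha0, hcong, hη12, hη₁X, hη₂X, hdegη, hκ, hrel,
    hout⟩ := bl11_extract hG
  set deg : IrrCharacter G → ℕ := fun χ => charDegree (χ : G → ℂ) with hdeg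
  have hdvd : ∀ χ, deg χ ∣ 7920 := fun χ => by
    have := irr_charDegree_dvd_card χ
    rwa [hG] at this
  have hpos : ∀ χ, 0 < deg χ := fun χ => irr_charDegree_pos χ
  have hE : ∑ χ : IrrCharacter G, (deg χ : ℤ) ^ 2 = 7920 := by
    have := sum_deg_sq (G := G)
    rw [hG] at this
    exact_mod_cast this
  have hne1 : ∀ χ, χ ≠ χ₁ → deg χ ≠ 1 := by
    intro χ hχ h
    apply hχ
    have h4 := eq_one_of_charDegree_one hperf χ h
    exact Subtype.ext (h4.trans hχ₁.symm)
  have hdeg1 : deg χ₁ = 1 := by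
    have h := irr_apply_one χ₁
    have h1 : (χ₁ : G → ℂ) 1 = 1 := by rw [hχ₁]
    rw [h1] at h
    have h' : ((1 : ℕ) : ℂ) = ((deg χ₁ : ℕ) : ℂ) := by rw [← h]; norm_num
    exact_mod_cast h'.symm
  set e := deg η₁ with he
  have hdegη' : deg η₂ = e := hdegη
  have hη₁χ₁ : η₁ ≠ χ₁ := fun h => hη₁X (h ▸ hχ₁X)
  have hη₂χ₁ : η₂ ≠ χ₁ := fun h => hη₂X (h ▸ hχ₁X)
  have hed : e ∣ 7920 := hdvd η₁
  have he1 : e ≠ 1 := hne1 η₁ hη₁χ₁
  have he0 : 0 < e := hpos η₁
  -- the bound from the sum of squares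
  have hsqb : ∑ χ ∈ Xf, (deg χ : ℤ) ^ 2 + 2 * (e : ℤ) ^ 2 ≤ 7920 := by
    have hsub : insert η₁ (insert η₂ Xf) ⊆ Finset.univ := Finset.subset_univ _
    have := Finset.sum_le_sum_of_subset_of_nonneg hsub
      (f := fun χ : IrrCharacter G => (deg χ : ℤ) ^ 2) (fun _ _ _ => sq_nonneg _)
    rw [hE, Finset.sum_insert (by simp [hη12, hη₁X]), Finset.sum_insert hη₂X, hdegη'] at this
    linarith
  have hle88 : ∀ χ ∈ Xf, deg χ ≤ 88 := by
    intro χ hχ
    have h1 := Finset.single_le_sum (f := fun χ : IrrCharacter G => (deg χ : ℤ) ^ 2)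
      (fun _ _ => sq_nonneg _) hχ
    have h1' : (deg χ : ℤ) ^ 2 ≤ ∑ χ ∈ Xf, (deg χ : ℤ) ^ 2 := h1
    have h2 : (deg χ : ℤ) ^ 2 ≤ 7920 := by nlinarith [sq_nonneg (e : ℤ)]
    by_contra hcon
    push Not at hcon
    have : (89 : ℤ) ≤ deg χ := by exact_mod_cast hcon
    nlinarith
  set X' := Xf.erase χ₁ with hX'
  have hX'sub : X' ⊆ Xf := Finset.erase_subset _ _
  have hsplit : ∀ f : IrrCharacter G → ℤ, ∑ χ ∈ Xf, f χ = f χ₁ + ∑ χ ∈ X', f χ :=
    fun f => (Finset.add_sum_erase Xf f hχ₁X).symm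
  have hrel' : κ * (e : ℤ) + 1 + ∑ χ ∈ X', a χ * (deg χ : ℤ) = 0 := by
    have h := hsplit (fun χ => a χ * (deg χ : ℤ))
    rw [h] at hrel
    rw [ha1, hdeg1] at hrel
    push_cast at hrel
    linarith
  have hsqb' : (1 : ℤ) + ∑ χ ∈ X', (deg χ : ℤ) ^ 2 + 2 * (e : ℤ) ^ 2 ≤ 7920 := by
    have h := hsplit (fun χ => (deg χ : ℤ) ^ 2)
    rw [h] at hsqb
    rw [hdeg1] at hsqb
    push_cast at hsqb
    linarith
  rcases hκ with ⟨hκ, hsum⟩ | ⟨hκ, hsum⟩
  swap
  · -- `X = {χ₁}`: impossible
    exfalso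
    have hQ : ∑ χ ∈ X', a χ ^ 2 = 0 := by
      have h := hsplit (fun χ => a χ ^ 2)
      rw [hsum] at h
      rw [ha1] at h
      linarith
    have hempty : X' = ∅ := by
      apply Finset.eq_empty_of_forall_notMem
      intro χ hχ
      have h0 := ha0 χ (hX'sub hχ)
      have h1 := Finset.single_le_sum (f := fun χ => a χ ^ 2) (fun x _ => sq_nonneg (a x)) hχ
      have h1' : a χ ^ 2 ≤ ∑ χ ∈ X', a χ ^ 2 := h1
      rw [hQ] at h1'
      have : 0 < a χ ^ 2 := by positivity
      omega
    rw [hempty, Finset.sum_empty] at hrel'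
    rcases hκ with rfl | rfl <;> omega
  · have hQ : ∑ χ ∈ X', a χ ^ 2 = 4 := by
      have h := hsplit (fun χ => a χ ^ 2)
      rw [hsum] at h
      rw [ha1] at h
      linarith
    rcases Cfsg.Agent.Lib.Helper19.Ord720.sq_sum_four X' a hQ with
      ⟨χ₂, hχ₂, ha₂, hrest⟩ | ⟨t, hts, htc, htone, hrest⟩
    · -- a single further character: degree two
      exfalso
      have hχ₂Xf := hX'sub hχ₂
      have h1 : ∑ χ ∈ X', a χ * (deg χ : ℤ) = a χ₂ * (deg χ₂ : ℤ) := by
        apply Finset.sum_eq_single_of_mem χ₂ hχ₂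
        intro b hb hba
        rw [hrest b hb hba, zero_mul]
      rw [h1] at hrel'
      have h2 := arith1 (deg χ₂) e (a χ₂) κ ha₂ hκ (hcong χ₂ hχ₂Xf) (hdvd χ₂) (hle88 χ₂ hχ₂Xf) hed
        hrel'
      exact no_degree_two hnc (by rw [hG]; norm_num) χ₂ h2
    · -- four further characters
      have hXt : X' = t := by
        apply Finset.Subset.antisymm _ hts
        intro b hb
        by_contra hbt
        exact ha0 b (hX'sub hb) (hrest b hb hbt)
      obtain ⟨x1, x2, x3, x4, hl⟩ := list_four t.toList (by rw [Finset.length_toList, htc])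
      have hmem : ∀ x ∈ [x1, x2, x3, x4], x ∈ t := by
        intro x hx
        rw [← hl] at hx
        exact Finset.mem_toList.mp hx
      have hsumt : ∀ f : IrrCharacter G → ℤ, ∑ χ ∈ X', f χ = f x1 + f x2 + f x3 + f x4 := by
        intro f
        rw [hXt, ← Finset.sum_map_toList, hl]
        simp only [List.map_cons, List.map_nil, List.sum_cons, List.sum_nil]
        ring
      have hpv : ∀ x ∈ [x1, x2, x3, x4],
          (a x = 1 ∧ (deg x = 12 ∨ deg x = 45)) ∨ (a x = -1 ∧ deg x = 10) := by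
        intro x hx
        have hxt := hmem x hx
        have hxX' : x ∈ X' := hts hxt
        have hxXf := hX'sub hxX'
        exact pair_val (deg x) (a x) (htone x hxt) (hcong x hxXf) (hdvd x)
          (hne1 x (Finset.ne_of_mem_erase hxX')) (hle88 x hxXf)
      have hrel'' := hrel'
      rw [hsumt (fun χ => a χ * (deg χ : ℤ))] at hrel''
      have hsq'' := hsqb'
      rw [hsumt (fun χ => (deg χ : ℤ) ^ 2)] at hsq''
      have h4 := arith4 (deg x1) (deg x2) (deg x3) (deg x4) e (a x1) (a x2) (a x3) (a x4) κ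
        (hpv x1 (by simp)) (hpv x2 (by simp)) (hpv x3 (by simp)) (hpv x4 (by simp)) hκ hed he0
        (by linarith) (by nlinarith)
      -- the list of the characters of the principal block
      have hnd : (t.toList ++ [χ₁, η₁, η₂]).Nodup := by
        rw [List.nodup_append]
        refine ⟨Finset.nodup_toList t, ?_, ?_⟩
        · simp only [List.nodup_cons, List.mem_cons, List.not_mem_nil, or_false, not_or,
            List.nodup_nil, and_true, not_false_eq_true]
          exact ⟨⟨fun h => hη₁χ₁ h.symm, fun h => hη₂χ₁ h.symm⟩, hη12⟩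
        · intro x hx y hy hxy
          have hxt : x ∈ t := Finset.mem_toList.mp hx
          have hxX' : x ∈ X' := hts hxt
          simp only [List.mem_cons, List.not_mem_nil, or_false] at hy
          rcases hy with rfl | rfl | rfl
          · exact Finset.ne_of_mem_erase hxX' hxy
          · exact hη₁X (hxy ▸ hX'sub hxX')
          · exact hη₂X (hxy ▸ hX'sub hxX')
      refine ⟨⟨↑(t.toList ++ [χ₁, η₁, η₂]), Multiset.coe_nodup.mpr hnd⟩, ?_, ?_⟩
      · have hmap : Multiset.map (fun χ : IrrCharacter G => charDegree (χ : G → ℂ))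
            (↑(t.toList ++ [χ₁, η₁, η₂]) : Multiset (IrrCharacter G)) =
            (↑[deg x1, deg x2, deg x3, deg x4] : Multiset ℕ) + ↑[1, e, e] := by
          rw [Multiset.map_coe, List.map_append, hl, Multiset.coe_add]
          show (↑([deg x1, deg x2, deg x3, deg x4] ++ [deg χ₁, deg η₁, deg η₂]) : Multiset ℕ) =
            ↑([deg x1, deg x2, deg x3, deg x4] ++ [1, e, e])
          rw [hdeg1, hdegη']
        show Multiset.map (fun χ : IrrCharacter G => charDegree (χ : G → ℂ))
            (↑(t.toList ++ [χ₁, η₁, η₂]) : Multiset (IrrCharacter G)) = _ ∨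
          Multiset.map (fun χ : IrrCharacter G => charDegree (χ : G → ℂ))
            (↑(t.toList ++ [χ₁, η₁, η₂]) : Multiset (IrrCharacter G)) = _
        rw [hmap]
        rcases h4 with ⟨h5, h6⟩ | ⟨h5, h6⟩
        · left
          rw [h5, h6]
          rfl
        · right
          rw [h5, h6]
          rfl
      · intro χ hχ
        have hχL : χ ∉ t.toList ++ [χ₁, η₁, η₂] := fun h => hχ (by
          show χ ∈ (↑(t.toList ++ [χ₁, η₁, η₂]) : Multiset (IrrCharacter G))
          exact Multiset.mem_coe.mpr h)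
        simp only [List.mem_append, List.mem_cons, List.not_mem_nil, or_false, not_or] at hχL
        obtain ⟨h1, h2, h3, h4'⟩ := hχL
        apply hout χ _ h3 h4'
        intro hχXf
        apply h1
        rw [Finset.mem_toList, ← hXt]
        exact Finset.mem_erase.mpr ⟨h2, hχXf⟩

end Cfsg.Agent.Lib.Helper5.M11
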