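import Mathlib
import Cfsg.Agent.Lib.Helper5.M11D
import Cfsg.Agent.Lib.Helper19.L33A

/-!
# Simple groups of order 5616, part B: the principal `13`-block (helper5)

The Brauer–Leonard theorem for `p = 13`, `[N(P) : C(P)] = 3` gives the principal block
`X ∪ {η₁, …, η₄}`; the arithmetic of the degree equation leaves the degrees `1, 12, 27; 16⁴`.
All other irreducible characters vanish on the elements of order `13`, so their degrees are
divisible by `13`.  On the `13`-regular elements the exceptional characters agree and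
`η = 1 - χ₁₂ + χ₂₇`.
-/

set_option autoImplicit false
set_option linter.unusedSectionVars false
set_option linter.style.haveILetI false

namespace Cfsg.Agent.Lib.Helper5.L33

open MulAction Cfsg Cfsg.Agent.Lib.Helper8.SmallSimple Cfsg.Agent.Lib.Helper8.SmallSimple2
  Cfsg.Agent.Lib.Helper7 Cfsg.Agent.Lib.Helper19.Ord4032 Cfsg.Agent.CharLib
  Cfsg.Agent.Lib.Helper24 Cfsg.Agent.Lib.Helper12.BSF Cfsg.Agent.Lib.Helper6
  Cfsg.Agent.Lib.Helper5.M11
open scoped ComplexConjugate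

universe u

/-! ### arithmetic -/

theorem arith_deg_one : ∀ n < 75, 5616 % n = 0 → n % 13 = 1 → n = 1 ∨ n = 27 := by
  decide

theorem arith_deg_neg_one : ∀ n < 75, 5616 % n = 0 → n % 13 = 12 → n = 12 := by
  decide

/-- degree and value `± 1` on the `13`-singular elements -/
theorem pair_val (n : ℕ) (a : ℤ) (ha : a = 1 ∨ a = -1) (h13 : (13 : ℤ) ∣ (n : ℤ) - a)
    (hdvd : n ∣ 5616) (hn1 : n ≠ 1) (hle : n ≤ 74) :
    (a = 1 ∧ n = 27) ∨ (a = -1 ∧ n = 12) := by
  obtain ⟨k, hk⟩ := h13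
  have hmod := Nat.mod_eq_zero_of_dvd hdvd
  rcases ha with rfl | rfl
  · left
    refine ⟨rfl, ?_⟩
    rcases arith_deg_one n (by omega) hmod (by omega) with h | h
    · exact absurd h hn1
    · exact h
  · right
    exact ⟨rfl, arith_deg_neg_one n (by omega) hmod (by omega)⟩

/-- the degree equation with two further non-exceptional characters -/
theorem arith2 (n1 n2 e : ℕ) (a1 a2 κ : ℤ)
    (h1 : (a1 = 1 ∧ n1 = 27) ∨ (a1 = -1 ∧ n1 = 12))
    (h2 : (a2 = 1 ∧ n2 = 27) ∨ (a2 = -1 ∧ n2 = 12))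
    (hκ : κ = 1 ∨ κ = -1) (he : e ∣ 5616)
    (heq : κ * e + 1 + a1 * n1 + a2 * n2 = 0) :
    κ = -1 ∧ e = 16 ∧ ((n1 = 27 ∧ a1 = 1 ∧ n2 = 12 ∧ a2 = -1) ∨
      (n1 = 12 ∧ a1 = -1 ∧ n2 = 27 ∧ a2 = 1)) := by
  have e55 : e ≠ 55 := by rintro rfl; norm_num at he
  have e23 : e ≠ 23 := by rintro rfl; norm_num at he
  rcases hκ with rfl | rfl <;>
  rcases h1 with ⟨rfl, rfl⟩ | ⟨rfl, rfl⟩ <;>
  rcases h2 with ⟨rfl, rfl⟩ | ⟨rfl, rfl⟩ <;>
  first
  | (exfalso; omega)
  | exact ⟨rfl, by omega, Or.inl ⟨rfl, rfl, rfl, rfl⟩⟩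
  | exact ⟨rfl, by omega, Or.inr ⟨rfl, rfl, rfl, rfl⟩⟩

/-- a sum of two of non-zero integer squares -/
theorem sq_sum_two {ι : Type*} [DecidableEq ι] (s : Finset ι) (a : ι → ℤ) (h0 : ∀ i ∈ s, a i ≠ 0)
    (h : ∑ i ∈ s, a i ^ 2 = 2) :
    ∃ x1 x2 : ι, x1 ≠ x2 ∧ s = {x1, x2} ∧ (a x1 = 1 ∨ a x1 = -1) ∧ (a x2 = 1 ∨ a x2 = -1) := by
  have hge : ∀ i ∈ s, (1 : ℤ) ≤ a i ^ 2 := by
    intro i hi
    have := h0 i hi
    have h2 : 0 < a i ^ 2 := by positivity
    omega
  have hcard : (s.card : ℤ) ≤ 2 := by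
    have := Finset.sum_le_sum hge
    rw [Finset.sum_const, h] at this
    simpa using this
  have hcard' : s.card ≤ 2 := by exact_mod_cast hcard
  have hsq1 : ∀ x : ℤ, x ^ 2 = 1 → x = 1 ∨ x = -1 := by
    intro x hx
    have h1 : (x - 1) * (x + 1) = 0 := by ring_nf; linarith
    rcases mul_eq_zero.mp h1 with h | h
    · left; linarith
    · right; linarith
  have hc : s.card = 0 ∨ s.card = 1 ∨ s.card = 2 := by omega
  rcases hc with hc | hc | hc
  · rw [Finset.card_eq_zero] at hc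
    rw [hc, Finset.sum_empty] at h
    omega
  · obtain ⟨x, hx⟩ := Finset.card_eq_one.mp hc
    rw [hx, Finset.sum_singleton] at h
    exfalso
    have h1 : a x < 2 := by nlinarith
    have h2 : -2 < a x := by nlinarith
    interval_cases a x <;> omega
  · obtain ⟨x1, x2, h12, hs⟩ := Finset.card_eq_two.mp hc
    refine ⟨x1, x2, h12, hs, ?_, ?_⟩
    · have h1 := hge x1 (by rw [hs]; simp)
      have h2 := hge x2 (by rw [hs]; simp)
      rw [hs, Finset.sum_pair h12] at h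
      exact hsq1 _ (by omega)
    · have h1 := hge x1 (by rw [hs]; simp)
      have h2 := hge x2 (by rw [hs]; simp)
      rw [hs, Finset.sum_pair h12] at h
      exact hsq1 _ (by omega)

/-! ### extraction from the Brauer–Leonard theorem -/

section extract

variable {G : Type u} [Group G] [Finite G]

theorem sylow13_relIndex [IsSimpleGroup G] (hG : Nat.card G = 5616) [Fact (Nat.Prime 13)]
    (P : Sylow 13 G) :
    (Subgroup.centralizer ((P : Subgroup G) : Set G)).relIndex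
      (Subgroup.normalizer ((P : Subgroup G) : Set G)) = 3 := by
  have hnc : ¬ IsMulCommutative G := by
    apply not_comm_of_card_not_prime
    rw [hG]; norm_num
  obtain ⟨-, -, hN, hC, -⟩ := Cfsg.Agent.Lib.Helper19.L33.sylow13_data hG P
  obtain ⟨-, n, k, c, r, -, hNc, hCc, hr, -, hcr, -⟩ :=
    sylow_prime_data hnc (p := 13) (m := 432) (by rw [hG]) (by norm_num) P
  rw [hN] at hNc
  rw [hC] at hCc
  have hk : k = 3 := by omega
  have hc : c = 1 := by omega
  rw [hk, hc] at hcr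
  rw [hr]
  omega

set_option maxHeartbeats 1600000 in
/-- the data of the principal `13`-block, with the values of the non-exceptional characters on the
non-identity elements of a given Sylow `13`-subgroup `P`, and the vanishing of the characters outside
the block on these elements -/
theorem bl13_extract_val [IsSimpleGroup G] (hG : Nat.card G = 5616) [Fact (Nat.Prime 13)]
    (P : Sylow 13 G) :
    ∃ (Xf Yf : Finset (IrrCharacter G)) (χ₁ : IrrCharacter G) (a : IrrCharacter G → ℤ)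
      (κ : ℤ),
      χ₁ ∈ Xf ∧ (χ₁ : G → ℂ) = (fun _ => 1) ∧ a χ₁ = 1 ∧ (∀ χ ∈ Xf, a χ ≠ 0) ∧
      (∀ χ ∈ Xf, (13 : ℤ) ∣ (charDegree (χ : G → ℂ) : ℤ) - a χ) ∧
      Yf.card = 4 ∧ Disjoint Xf Yf ∧
      (((κ = 1 ∨ κ = -1) ∧ ∑ χ ∈ Xf, a χ ^ 2 = 3) ∨
        ((κ = 3 ∨ κ = -3) ∧ ∑ χ ∈ Xf, a χ ^ 2 = 1)) ∧
      (∀ η ∈ Yf, ∀ η' ∈ Yf, ∀ g : G, ¬ 13 ∣ orderOf g → (η : G → ℂ) g = (η' : G → ℂ) g) ∧
      (∀ η ∈ Yf, ∀ g : G, ¬ 13 ∣ orderOf g →
        (κ : ℂ) * (η : G → ℂ) g + ∑ χ ∈ Xf, (a χ : ℂ) * (χ : G → ℂ) g = 0) ∧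
      (∀ χ : IrrCharacter G, χ ∉ Xf → χ ∉ Yf → 13 ∣ charDegree (χ : G → ℂ)) ∧
      (∀ χ ∈ Xf, ∀ y ∈ (P : Subgroup G), y ≠ 1 → (χ : G → ℂ) y = (a χ : ℂ)) ∧
      (∀ χ : IrrCharacter G, χ ∉ Xf → χ ∉ Yf →
        ∀ y ∈ (P : Subgroup G), y ≠ 1 → (χ : G → ℂ) y = 0) := by
  classical
  letI : Fintype G := Fintype.ofFinite G
  letI : Fintype (IrrCharacter G) := fintypeIrr G
  obtain ⟨hP, -, hNc, hCc, -⟩ := Cfsg.Agent.Lib.Helper19.L33.sylow13_data hG P
  have hr := sylow13_relIndex hG P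
  letI : Fintype ↥(P : Subgroup G) := Fintype.ofFinite _
  have hcardPf : Fintype.card ↥(P : Subgroup G) = 13 := by
    rw [← Nat.card_eq_fintype_card]; exact hP
  have hCN : Subgroup.centralizer ((P : Subgroup G) : Set G) ≤
      Subgroup.normalizer ((P : Subgroup G) : Set G) := Subgroup.centralizer_le_normalizer _
  have hab : IsMulCommutative ↥P := by
    have hcyc : IsCyclic ↥(P : Subgroup G) := isCyclic_of_prime_card hP
    exact IsCyclic.isMulCommutative
  have hcyc := exists_cyc_of_relIndex_prime _ _ hCN 3 (by norm_num) hr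
  have hzpow : ∀ y : G, y ∈ (P : Subgroup G) → y ≠ 1 →
      Subgroup.zpowers y = (P : Subgroup G) := by
    intro y hyP hy1
    apply le_antisymm
    · rw [Subgroup.zpowers_le]; exact hyP
    · exact le_zpowers_of_card_prime 13 (P : Subgroup G) hP y hyP hy1
  have hfrob : ∀ y : G, y ∈ (P : Subgroup G) → y ≠ 1 →
      Subgroup.centralizer ({y} : Set G) ⊓ Subgroup.normalizer ((P : Subgroup G) : Set G) =
        Subgroup.centralizer ((P : Subgroup G) : Set G) := by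
    intro y hyP hy1
    rw [← centralizer_zpowers_eq', hzpow y hyP hy1]
    exact inf_eq_left.mpr hCN
  have hCy : ∀ y : G, y ∈ (P : Subgroup G) → y ≠ 1 →
      Nat.card ↥(Subgroup.centralizer ({y} : Set G)) = 13 := by
    intro y hyP hy1
    rw [← centralizer_zpowers_eq', hzpow y hyP hy1, hCc]
  have hpp : ∀ y : G, y ∈ (P : Subgroup G) → y ≠ 1 → IsPPart 13 y y := by
    intro y hyP hy1
    have hord : orderOf y = 13 := orderOf_eq_of_card_prime 13 (P : Subgroup G) hP y hyP hy1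
    exact ⟨1, mul_one _, Commute.one_right _, ⟨1, by rw [hord, pow_one]⟩,
      by rw [orderOf_one]; norm_num⟩
  obtain ⟨M, hM⟩ := exists_isPModular 13
  have hcardP : Nat.card P = 13 := hP
  obtain ⟨s, X, Y, hs, hB, hdisj, hXc, hYc, ⟨χ₁, hχ₁X, hχ₁⟩, a, d, δ, ζ, hδ, hX, -, -, -, -, heq,
    hYreg, hrel⟩ := brauer_leonard_main 13 M hM P hab 3 (by norm_num) (by rw [hcardP]; norm_num) hr
      hcyc hfrob
  rw [hcardP] at hYc heq hrel
  have hXfin : X.Finite := Set.toFinite X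
  have hYfin : Y.Finite := Set.toFinite Y
  have heq' : (d - δ) ^ 2 + 3 * d ^ 2 + ∑ χ ∈ hXfin.toFinset, a χ ^ 2 = 4 := by
    have e : (((13 : ℕ) : ℤ) - 1) / ((3 : ℕ) : ℤ) - 1 = 3 := by norm_num
    rw [e, finsum_mem_eq_finite_toFinset_sum _ hXfin] at heq
    push_cast at heq
    linarith
  have hYc' : hYfin.toFinset.card = 4 := by
    rw [← Set.ncard_eq_toFinset_card Y hYfin, ← Nat.card_coe_set_eq, hYc]
  have hrel' : ∀ η ∈ Y, ∀ g : G, ¬ 13 ∣ orderOf g →
      ((4 : ℂ) * d - δ) * (η : G → ℂ) g +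
        ∑ χ ∈ hXfin.toFinset, (a χ : ℂ) * (χ : G → ℂ) g = 0 := by
    intro η hη g hg
    have := hrel η hη g hg
    have e : (((13 - 1) / 3 : ℕ) : ℂ) = 4 := by norm_num
    rw [e, finsum_mem_eq_finite_toFinset_sum _ hXfin] at this
    exact this
  obtain ⟨y, hyP, hy⟩ := exists_prime_order_mem (P : Subgroup G) 13 (by rw [hP])
  have hy1 : y ≠ 1 := by
    intro h
    rw [h, orderOf_one] at hy
    omega
  have ha1 : a χ₁ = 1 := by
    have h1 := (hX χ₁ hχ₁X).2 y y (hpp y hyP hy1) hyP hy1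
    rw [hχ₁] at h1
    have h2 : ((a χ₁ : ℤ) : ℂ) = ((1 : ℤ) : ℂ) := by rw [← h1]; norm_num
    exact_mod_cast h2
  have hmemX : ∀ χ, χ ∈ hXfin.toFinset ↔ χ ∈ X := fun χ => Set.Finite.mem_toFinset hXfin
  have hmemY : ∀ χ, χ ∈ hYfin.toFinset ↔ χ ∈ Y := fun χ => Set.Finite.mem_toFinset hYfin
  have hXY : ∀ χ, χ ∈ X → χ ∈ Y → False := fun χ h1 h2 =>
    (Set.disjoint_left.mp hdisj h1) h2
  -- the congruences
  have hcong : ∀ χ ∈ hXfin.toFinset, (13 : ℤ) ∣ (charDegree (χ : G → ℂ) : ℤ) - a χ := by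
    intro χ hχ
    have hχX : χ ∈ X := (hmemX χ).mp hχ
    obtain ⟨m₁, hm₁⟩ := sum_subgroup_irr (P : Subgroup G) χ
    have hsumP := Cfsg.Agent.Lib.Helper19.Ord1008.sum_const_except_one
      (fun y : ↥(P : Subgroup G) => (χ : G → ℂ) (y : G)) 1 (a χ : ℂ)
      (by
        intro y hy
        have hy1 : (y : G) ≠ 1 := fun h => hy (Subtype.ext h)
        exact (hX χ hχX).2 (y : G) (y : G) (hpp (y : G) y.2 hy1) y.2 hy1)
    simp only [Subgroup.coe_one] at hsumP
    rw [hm₁, hcardPf, irr_apply_one] at hsumP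
    have hH1 : 13 * (m₁ : ℤ) = 13 * a χ + ((charDegree (χ : G → ℂ) : ℤ) - a χ) := by
      exact_mod_cast hsumP
    exact ⟨(m₁ : ℤ) - a χ, by linarith⟩
  -- characters outside the principal block
  have hvanish : ∀ χ : IrrCharacter G, χ ∉ hXfin.toFinset → χ ∉ hYfin.toFinset →
      ∀ w : G, w ∈ (P : Subgroup G) → w ≠ 1 → (χ : G → ℂ) w = 0 := by
    intro χ hχX hχY
    have hχB : χ ∉ principalBlock M G := by
      rw [hB]
      rintro (h | h)
      · exact hχX ((hmemX χ).mpr h)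
      · exact hχY ((hmemY χ).mpr h)
    have hBfin : (principalBlock M G).Finite := Set.toFinite _
    intro w hwP hw1
    have h1 := BLFrob.sum_sq hM (P := P) hfrob hab w hwP hw1
    have h2 := sum_irr_mul_conj (G := G) w w
    rw [Cfsg.Agent.Lib.Helper19.Ord720.classInd_self, one_mul, hCy w hwP hw1] at h2
    rw [hP, finsum_mem_eq_finite_toFinset_sum _ hBfin] at h1
    have h3 : ∑ ψ ∈ Finset.univ \ hBfin.toFinset,
        (ψ : G → ℂ) w * conj ((ψ : G → ℂ) w) = 0 := by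
      have := Finset.sum_sdiff (Finset.subset_univ hBfin.toFinset)
        (f := fun ψ : IrrCharacter G => (ψ : G → ℂ) w * conj ((ψ : G → ℂ) w))
      rw [h1, h2] at this
      linear_combination this
    have h4 : ∑ ψ ∈ Finset.univ \ hBfin.toFinset, ‖(ψ : G → ℂ) w‖ ^ 2 = 0 := by
      have h5 : ∀ ψ : IrrCharacter G, (ψ : G → ℂ) w * conj ((ψ : G → ℂ) w) =
          ((‖(ψ : G → ℂ) w‖ ^ 2 : ℝ) : ℂ) := by
        intro ψ
        rw [Complex.mul_conj']
        push_cast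
        rfl
      simp only [h5] at h3
      exact_mod_cast h3
    have hmem : χ ∈ Finset.univ \ hBfin.toFinset := by
      rw [Finset.mem_sdiff]
      exact ⟨Finset.mem_univ _, by rw [Set.Finite.mem_toFinset]; exact hχB⟩
    have h6 := (Finset.sum_eq_zero_iff_of_nonneg (fun ψ _ => sq_nonneg _)).mp h4 χ hmem
    exact norm_eq_zero.mp ((pow_eq_zero_iff (two_ne_zero)).mp h6)
  have hout : ∀ χ : IrrCharacter G, χ ∉ hXfin.toFinset → χ ∉ hYfin.toFinset →
      13 ∣ charDegree (χ : G → ℂ) := by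
    intro χ hχX hχY
    have hvan := hvanish χ hχX hχY
    obtain ⟨m₁, hm₁⟩ := sum_subgroup_irr (P : Subgroup G) χ
    have hsumP := Cfsg.Agent.Lib.Helper19.Ord1008.sum_const_except_one
      (fun y : ↥(P : Subgroup G) => (χ : G → ℂ) (y : G)) 1 (0 : ℂ)
      (by
        intro y hy
        have hy1 : (y : G) ≠ 1 := fun h => hy (Subtype.ext h)
        exact hvan (y : G) y.2 hy1)
    simp only [Subgroup.coe_one] at hsumP
    rw [hm₁, hcardPf, irr_apply_one] at hsumP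
    have hH1 : 13 * (m₁ : ℤ) = (charDegree (χ : G → ℂ) : ℤ) := by
      have : ((13 * (m₁ : ℤ) : ℤ) : ℂ) = (((charDegree (χ : G → ℂ) : ℤ)) : ℂ) := by
        push_cast
        push_cast at hsumP
        linear_combination hsumP
      exact_mod_cast this
    exact ⟨m₁, by exact_mod_cast hH1.symm⟩
  have hχ₁Xf : χ₁ ∈ hXfin.toFinset := (hmemX χ₁).mpr hχ₁X
  have hsum1 : 1 ≤ ∑ χ ∈ hXfin.toFinset, a χ ^ 2 := by
    have := Finset.single_le_sum (f := fun χ => a χ ^ 2) (fun x _ => sq_nonneg (a x)) hχ₁Xf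
    have h' : a χ₁ ^ 2 ≤ ∑ χ ∈ hXfin.toFinset, a χ ^ 2 := this
    rw [ha1] at h'
    linarith
  have hκcast : ((4 : ℂ) * d - δ) = ((4 * d - δ : ℤ) : ℂ) := by push_cast; ring
  refine ⟨hXfin.toFinset, hYfin.toFinset, χ₁, a, 4 * d - δ, hχ₁Xf, hχ₁, ha1,
    fun χ hχ => (hX χ ((hmemX χ).mp hχ)).1, hcong, hYc', ?_, ?_, ?_, ?_, hout,
    fun χ hχ y hyP' hy1' => (hX χ ((hmemX χ).mp hχ)).2 y y (hpp y hyP' hy1') hyP' hy1', hvanish⟩
  · rw [Finset.disjoint_left]
    intro χ h1 h2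
    exact hXY χ ((hmemX χ).mp h1) ((hmemY χ).mp h2)
  · generalize (∑ χ ∈ hXfin.toFinset, a χ ^ 2) = sg at heq' hsum1 ⊢
    rcases hδ with rfl | rfl
    · have h1 : -1 ≤ d := by nlinarith
      have h2 : d ≤ 1 := by nlinarith
      interval_cases d
      · exfalso; omega
      · left; exact ⟨Or.inr (by norm_num), by linarith⟩
      · right; exact ⟨Or.inl (by norm_num), by linarith⟩
    · have h1 : -1 ≤ d := by nlinarith
      have h2 : d ≤ 1 := by nlinarith
      interval_cases d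
      · right; exact ⟨Or.inr (by norm_num), by linarith⟩
      · left; exact ⟨Or.inl (by norm_num), by linarith⟩
      · exfalso; omega
  · intro η hη η' hη' g hg
    exact hYreg η ((hmemY η).mp hη) η' ((hmemY η').mp hη') g hg
  · intro η hη g hg
    have := hrel' η ((hmemY η).mp hη) g hg
    rw [hκcast] at this
    exact this

end extract

end Cfsg.Agent.Lib.Helper5.L33
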