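import Mathlib
import Cfsg.Agent.Lib.Helper5.L33B

/-!
# Simple groups of order 5616, part C: the characters of the principal `13`-block (helper5)

The principal `13`-block of a simple group of order `5616` consists of the trivial character, a
character `χ₁₂` of degree `12` with value `-1` on the elements of order `13`, a character `χ₂₇` of
degree `27` with value `1` on them, and four characters of degree `16` which agree on the
`13`-regular elements, where they are equal to `1 - χ₁₂ + χ₂₇`.  All other irreducible characters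
vanish on the elements of order `13` and have degree divisible by `13`.
-/

set_option autoImplicit false
set_option linter.unusedSectionVars false
set_option linter.style.haveILetI false

namespace Cfsg.Agent.Lib.Helper5.L33

open MulAction Cfsg Cfsg.Agent.Lib.Helper8.SmallSimple Cfsg.Agent.Lib.Helper8.SmallSimple2
  Cfsg.Agent.Lib.Helper7 Cfsg.Agent.Lib.Helper19.Ord4032 Cfsg.Agent.CharLib
  Cfsg.Agent.Lib.Helper24 Cfsg.Agent.Lib.Helper12.BSF Cfsg.Agent.Lib.Helper6
  Cfsg.Agent.Lib.Helper5.M11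
open scoped ComplexConjugate

universe u

variable {G : Type u} [Group G] [Finite G]

/-- an element of order `13` is conjugate to an element of a given Sylow `13`-subgroup -/
theorem exists_conj_mem_sylow13 (hG : Nat.card G = 5616) [Fact (Nat.Prime 13)] (P : Sylow 13 G)
    (y : G) (hy : orderOf y = 13) :
    ∃ g : G, g * y * g⁻¹ ∈ (P : Subgroup G) ∧ g * y * g⁻¹ ≠ 1 := by
  have hp : IsPGroup 13 ↥(Subgroup.zpowers y) := by
    apply IsPGroup.of_card (n := 1)
    rw [Nat.card_zpowers, hy, pow_one]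
  obtain ⟨Q, hQ⟩ := hp.exists_le_sylow
  obtain ⟨g, hg⟩ := MulAction.exists_smul_eq G Q P
  refine ⟨g, ?_, ?_⟩
  · rw [← hg]
    have hyQ : y ∈ (Q : Subgroup G) := hQ (Subgroup.mem_zpowers y)
    rw [Sylow.coe_subgroup_smul]
    exact ⟨y, hyQ, rfl⟩
  · intro h
    have : y = 1 := by
      calc y = g⁻¹ * (g * y * g⁻¹) * g := by group
        _ = 1 := by rw [h]; group
    rw [this, orderOf_one] at hy
    omega

set_option maxHeartbeats 1600000 in
/-- **the principal `13`-block** of a simple group of order `5616` -/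
theorem block13 [IsSimpleGroup G] (hG : Nat.card G = 5616) :
    ∃ (χ₁₂ χ₂₇ : IrrCharacter G) (Yf : Finset (IrrCharacter G)),
      charDegree (χ₁₂ : G → ℂ) = 12 ∧ charDegree (χ₂₇ : G → ℂ) = 27 ∧ Yf.card = 4 ∧
      (∀ η ∈ Yf, charDegree (η : G → ℂ) = 16) ∧ χ₁₂ ∉ Yf ∧ χ₂₇ ∉ Yf ∧
      (∀ y : G, orderOf y = 13 → (χ₁₂ : G → ℂ) y = -1 ∧ (χ₂₇ : G → ℂ) y = 1) ∧
      (∀ η ∈ Yf, ∀ η' ∈ Yf, ∀ g : G, ¬ 13 ∣ orderOf g → (η : G → ℂ) g = (η' : G → ℂ) g) ∧
      (∀ η ∈ Yf, ∀ g : G, ¬ 13 ∣ orderOf g →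
        (η : G → ℂ) g = 1 - (χ₁₂ : G → ℂ) g + (χ₂₇ : G → ℂ) g) ∧
      (∀ χ : IrrCharacter G, (χ : G → ℂ) ≠ (fun _ => 1) → χ ≠ χ₁₂ → χ ≠ χ₂₇ → χ ∉ Yf →
        13 ∣ charDegree (χ : G → ℂ) ∧ ∀ y : G, orderOf y = 13 → (χ : G → ℂ) y = 0) := by
  classical
  letI : Fintype G := Fintype.ofFinite G
  letI : Fintype (IrrCharacter G) := fintypeIrr G
  haveI : Fact (Nat.Prime 13) := ⟨by norm_num⟩
  have hnc : ¬ IsMulCommutative G := by
    apply not_comm_of_card_not_prime
    rw [hG]; norm_num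
  have hperf := commutator_eq_top_of_simple hnc
  obtain ⟨P⟩ : Nonempty (Sylow 13 G) := inferInstance
  obtain ⟨Xf, Yf, χ₁, a, κ, hχ₁X, hχ₁, ha1, ha0, hcong, hYc, hdisj, hκ, hYreg, hrel, hout, hXval,
    hvan⟩ := bl13_extract_val hG P
  set deg : IrrCharacter G → ℕ := fun χ => charDegree (χ : G → ℂ) with hdeg
  have hdvd : ∀ χ, deg χ ∣ 5616 := fun χ => by
    have := irr_charDegree_dvd_card χ
    rwa [hG] at this
  have hpos : ∀ χ, 0 < deg χ := fun χ => irr_charDegree_pos χ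
  have hE : ∑ χ : IrrCharacter G, (deg χ : ℤ) ^ 2 = 5616 := by
    have := sum_deg_sq (G := G)
    rw [hG] at this
    exact_mod_cast this
  have hle74 : ∀ χ, deg χ ≤ 74 := by
    intro χ
    have h1 := Finset.single_le_sum (f := fun χ : IrrCharacter G => (deg χ : ℤ) ^ 2)
      (fun _ _ => sq_nonneg _) (Finset.mem_univ χ)
    have h1' : (deg χ : ℤ) ^ 2 ≤ 5616 := by rw [← hE]; exact h1
    by_contra hcon
    push Not at hcon
    have : (75 : ℤ) ≤ deg χ := by exact_mod_cast hcon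
    nlinarith
  have hne1 : ∀ χ, χ ≠ χ₁ → deg χ ≠ 1 := by
    intro χ hχ h
    apply hχ
    have h4 := eq_one_of_charDegree_one hperf χ h
    exact Subtype.ext (h4.trans hχ₁.symm)
  have hdeg1 : deg χ₁ = 1 := by
    have h := irr_apply_one χ₁
    have h1 : (χ₁ : G → ℂ) 1 = 1 := by rw [hχ₁]
    rw [h1] at h
    have h' : ((1 : ℕ) : ℂ) = ((deg χ₁ : ℕ) : ℂ) := by rw [← h]; norm_num
    exact_mod_cast h'.symm
  have hreg1 : ¬ 13 ∣ orderOf (1 : G) := by rw [orderOf_one]; norm_num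
  -- an exceptional character
  obtain ⟨η₀, hη₀⟩ : ∃ η₀, η₀ ∈ Yf := by
    apply Finset.card_pos.mp
    rw [hYc]; norm_num
  set e := deg η₀ with he
  have hdegY : ∀ η ∈ Yf, deg η = e := by
    intro η hη
    have h := hYreg η hη η₀ hη₀ 1 hreg1
    rw [irr_apply_one, irr_apply_one] at h
    exact_mod_cast h
  have hed : e ∣ 5616 := hdvd η₀
  set X' := Xf.erase χ₁ with hX'
  have hX'sub : X' ⊆ Xf := Finset.erase_subset _ _
  have hsplit : ∀ f : IrrCharacter G → ℤ, ∑ χ ∈ Xf, f χ = f χ₁ + ∑ χ ∈ X', f χ :=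
    fun f => (Finset.add_sum_erase Xf f hχ₁X).symm
  -- the degree equation
  have hrelZ : κ * (e : ℤ) + ∑ χ ∈ Xf, a χ * (deg χ : ℤ) = 0 := by
    have h := hrel η₀ hη₀ 1 hreg1
    have h' : ((κ * (e : ℤ) + ∑ χ ∈ Xf, a χ * (deg χ : ℤ) : ℤ) : ℂ) = ((0 : ℤ) : ℂ) := by
      push_cast
      rw [← h, irr_apply_one]
      congr 1
      apply Finset.sum_congr rfl
      intro χ _
      rw [irr_apply_one]
    exact_mod_cast h'
  have hrel' : κ * (e : ℤ) + 1 + ∑ χ ∈ X', a χ * (deg χ : ℤ) = 0 := by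
    have h := hsplit (fun χ => a χ * (deg χ : ℤ))
    rw [h] at hrelZ
    rw [ha1, hdeg1] at hrelZ
    push_cast at hrelZ
    linarith
  rcases hκ with ⟨hκ, hsum⟩ | ⟨hκ, hsum⟩
  swap
  · -- `X = {χ₁}`: impossible
    exfalso
    have hQ : ∑ χ ∈ X', a χ ^ 2 = 0 := by
      have h := hsplit (fun χ => a χ ^ 2)
      rw [hsum] at h
      rw [ha1] at h
      linarith
    have hempty : X' = ∅ := by
      apply Finset.eq_empty_of_forall_notMem
      intro χ hχ
      have h0 := ha0 χ (hX'sub hχ)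
      have h1 := Finset.single_le_sum (f := fun χ => a χ ^ 2) (fun x _ => sq_nonneg (a x)) hχ
      have h1' : a χ ^ 2 ≤ ∑ χ ∈ X', a χ ^ 2 := h1
      rw [hQ] at h1'
      have : 0 < a χ ^ 2 := by positivity
      omega
    rw [hempty, Finset.sum_empty] at hrel'
    rcases hκ with rfl | rfl <;> omega
  · have hQ : ∑ χ ∈ X', a χ ^ 2 = 2 := by
      have h := hsplit (fun χ => a χ ^ 2)
      rw [hsum] at h
      rw [ha1] at h
      linarith
    obtain ⟨x1, x2, h12, hXeq, hax1, hax2⟩ :=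
      sq_sum_two X' a (fun χ hχ => ha0 χ (hX'sub hχ)) hQ
    have hx1X' : x1 ∈ X' := by rw [hXeq]; simp
    have hx2X' : x2 ∈ X' := by rw [hXeq]; simp
    have hx1Xf := hX'sub hx1X'
    have hx2Xf := hX'sub hx2X'
    have hp1 := pair_val (deg x1) (a x1) hax1 (hcong x1 hx1Xf) (hdvd x1)
      (hne1 x1 (Finset.ne_of_mem_erase hx1X')) (hle74 x1)
    have hp2 := pair_val (deg x2) (a x2) hax2 (hcong x2 hx2Xf) (hdvd x2)
      (hne1 x2 (Finset.ne_of_mem_erase hx2X')) (hle74 x2)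
    have hsum2 : ∀ f : IrrCharacter G → ℤ, ∑ χ ∈ X', f χ = f x1 + f x2 := by
      intro f
      rw [hXeq, Finset.sum_pair h12]
    have hsumC : ∀ f : IrrCharacter G → ℂ, ∑ χ ∈ Xf, f χ = f χ₁ + (f x1 + f x2) := by
      intro f
      rw [← Finset.add_sum_erase Xf f hχ₁X, ← hX', hXeq, Finset.sum_pair h12]
    rw [hsum2 (fun χ => a χ * (deg χ : ℤ))] at hrel'
    obtain ⟨hκ1, he16, hcase⟩ := arith2 (deg x1) (deg x2) e (a x1) (a x2) κ hp1 hp2 hκ hed
      (by linarith)
    -- membership facts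
    have hXf_mem : ∀ χ, χ ∈ Xf → χ = χ₁ ∨ χ = x1 ∨ χ = x2 := by
      intro χ hχ
      by_cases h : χ = χ₁
      · left; exact h
      · right
        have : χ ∈ X' := Finset.mem_erase.mpr ⟨h, hχ⟩
        rw [hXeq] at this
        simpa using this
    have hnotY : ∀ χ ∈ Xf, χ ∉ Yf := fun χ hχ => Finset.disjoint_left.mp hdisj hχ
    -- the values on the elements of order 13
    have hval13 : ∀ χ ∈ Xf, ∀ y : G, orderOf y = 13 → (χ : G → ℂ) y = (a χ : ℂ) := by
      intro χ hχ y hy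
      obtain ⟨g, hgP, hg1⟩ := exists_conj_mem_sylow13 hG P y hy
      have hcl : IsClassFunction G (χ : G → ℂ) :=
        IsCharacter.isClassFunction (IsIrrCharacter.isCharacter χ.2)
      rw [← hcl y g]
      exact hXval χ hχ _ hgP hg1
    have hvan13 : ∀ χ : IrrCharacter G, χ ∉ Xf → χ ∉ Yf → ∀ y : G, orderOf y = 13 →
        (χ : G → ℂ) y = 0 := by
      intro χ hχX hχY y hy
      obtain ⟨g, hgP, hg1⟩ := exists_conj_mem_sylow13 hG P y hy
      have hcl : IsClassFunction G (χ : G → ℂ) :=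
        IsCharacter.isClassFunction (IsIrrCharacter.isCharacter χ.2)
      rw [← hcl y g]
      exact hvan χ hχX hχY _ hgP hg1
    have hrelg : ∀ η ∈ Yf, ∀ g : G, ¬ 13 ∣ orderOf g →
        (η : G → ℂ) g = 1 + (a x1 : ℂ) * (x1 : G → ℂ) g + (a x2 : ℂ) * (x2 : G → ℂ) g := by
      intro η hη g hg
      have h := hrel η hη g hg
      rw [hsumC (fun χ => (a χ : ℂ) * (χ : G → ℂ) g), hκ1, ha1, hχ₁] at h
      push_cast at h
      linear_combination -h
    have hrest : ∀ χ : IrrCharacter G, (χ : G → ℂ) ≠ (fun _ => 1) → χ ≠ x1 → χ ≠ x2 → χ ∉ Yf →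
        13 ∣ charDegree (χ : G → ℂ) ∧ ∀ y : G, orderOf y = 13 → (χ : G → ℂ) y = 0 := by
      intro χ h1 h2 h3 h4
      have hχX : χ ∉ Xf := by
        intro h
        rcases hXf_mem χ h with rfl | rfl | rfl
        · exact h1 hχ₁
        · exact h2 rfl
        · exact h3 rfl
      exact ⟨hout χ hχX h4, hvan13 χ hχX h4⟩
    have hYdeg : ∀ η ∈ Yf, charDegree (η : G → ℂ) = 16 := by
      intro η hη
      have := hdegY η hη
      rw [he16] at this
      exact this
    rcases hcase with ⟨hd1, hv1, hd2, hv2⟩ | ⟨hd1, hv1, hd2, hv2⟩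
    · refine ⟨x2, x1, Yf, hd2, hd1, hYc, hYdeg, hnotY x2 hx2Xf, hnotY x1 hx1Xf, ?_, hYreg, ?_, ?_⟩
      · intro y hy
        refine ⟨?_, ?_⟩
        · rw [hval13 x2 hx2Xf y hy, hv2]; norm_num
        · rw [hval13 x1 hx1Xf y hy, hv1]; norm_num
      · intro η hη g hg
        rw [hrelg η hη g hg, hv1, hv2]
        push_cast
        ring
      · intro χ h1 h2 h3 h4
        exact hrest χ h1 h3 h2 h4
    · refine ⟨x1, x2, Yf, hd1, hd2, hYc, hYdeg, hnotY x1 hx1Xf, hnotY x2 hx2Xf, ?_, hYreg, ?_, ?_⟩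
      · intro y hy
        refine ⟨?_, ?_⟩
        · rw [hval13 x1 hx1Xf y hy, hv1]; norm_num
        · rw [hval13 x2 hx2Xf y hy, hv2]; norm_num
      · intro η hη g hg
        rw [hrelg η hη g hg, hv1, hv2]
        push_cast
        ring
      · intro χ h1 h2 h3 h4
        exact hrest χ h1 h2 h3 h4

end Cfsg.Agent.Lib.Helper5.L33
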