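import Mathlib
import Cfsg.Agent.Lib.Helper5.L33C
import Cfsg.Agent.Lib.Helper24.Ord4320Cnt
import Cfsg.Agent.Lib.Lead.CharFS
import Cfsg.Agent.Lib.Lead.BrLeo16
import Cfsg.Agent.Lib.Lead.CharBurnside
import Cfsg.Agent.Lib.Helper23.DefectZeroIrr

/-!
# Simple groups of order 5616, part D: class multiplication with an element of order `13` (helper5)

With the data `Blk` of the principal `13`-block: only the seven characters of the block contribute
to the class multiplication coefficients `a(x, x', y)`, `y` of order `13`, and for `13`-regular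
`x`, `x'`
`#{s ~ x, s⁻¹ y ~ x'} |C(x)| |C(x')| = 5616 (1 - a a'/12 + b b'/27 - θ θ'/16)`
where `a, b` are the values of the characters of degree `12`, `27` and `θ = 1 - a + b`.
-/

set_option autoImplicit false
set_option linter.unusedSectionVars false
set_option linter.style.haveILetI false

namespace Cfsg.Agent.Lib.Helper5.L33

open Cfsg Cfsg.Agent.CharLib Cfsg.Agent.Lib.Helper24
open scoped ComplexConjugate

universe u

variable {G : Type u} [Group G] [Finite G]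

/-- the data of the principal `13`-block of a simple group of order `5616` -/
structure Blk (χ₁₂ χ₂₇ : IrrCharacter G) (Yf : Finset (IrrCharacter G)) : Prop where
  d12 : charDegree (χ₁₂ : G → ℂ) = 12
  d27 : charDegree (χ₂₇ : G → ℂ) = 27
  cY : Yf.card = 4
  dY : ∀ η ∈ Yf, charDegree (η : G → ℂ) = 16
  n12 : χ₁₂ ∉ Yf
  n27 : χ₂₇ ∉ Yf
  v13 : ∀ y : G, orderOf y = 13 → (χ₁₂ : G → ℂ) y = -1 ∧ (χ₂₇ : G → ℂ) y = 1
  Yreg : ∀ η ∈ Yf, ∀ η' ∈ Yf, ∀ g : G, ¬ 13 ∣ orderOf g → (η : G → ℂ) g = (η' : G → ℂ) g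
  rel : ∀ η ∈ Yf, ∀ g : G, ¬ 13 ∣ orderOf g →
    (η : G → ℂ) g = 1 - (χ₁₂ : G → ℂ) g + (χ₂₇ : G → ℂ) g
  rest : ∀ χ : IrrCharacter G, (χ : G → ℂ) ≠ (fun _ => 1) → χ ≠ χ₁₂ → χ ≠ χ₂₇ → χ ∉ Yf →
    13 ∣ charDegree (χ : G → ℂ) ∧ ∀ y : G, orderOf y = 13 → (χ : G → ℂ) y = 0

theorem exists_blk [IsSimpleGroup G] (hG : Nat.card G = 5616) :
    ∃ (χ₁₂ χ₂₇ : IrrCharacter G) (Yf : Finset (IrrCharacter G)), Blk χ₁₂ χ₂₇ Yf := by
  obtain ⟨χ₁₂, χ₂₇, Yf, h1, h2, h3, h4, h5, h6, h7, h8, h9, h10⟩ := block13 hG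
  exact ⟨χ₁₂, χ₂₇, Yf, ⟨h1, h2, h3, h4, h5, h6, h7, h8, h9, h10⟩⟩

/-- the trivial character -/
noncomputable def triv (G : Type u) [Group G] : IrrCharacter G :=
  ⟨(1 : G → ℂ), Cfsg.Agent.CharLib.isIrrCharacter_one⟩

theorem triv_apply (g : G) : ((triv G : IrrCharacter G) : G → ℂ) g = 1 := rfl

theorem deg_triv : charDegree ((triv G : IrrCharacter G) : G → ℂ) = 1 := by
  have h := irr_apply_one (triv G)
  rw [triv_apply] at h
  have h' : ((1 : ℕ) : ℂ) = ((charDegree ((triv G : IrrCharacter G) : G → ℂ) : ℕ) : ℂ) := by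
    rw [← h]; norm_num
  exact_mod_cast h'.symm

theorem eq_triv_of_fun {χ : IrrCharacter G} (h : (χ : G → ℂ) = (fun _ => 1)) : χ = triv G :=
  Subtype.ext h

namespace Blk

variable {χ₁₂ χ₂₇ : IrrCharacter G} {Yf : Finset (IrrCharacter G)} (B : Blk χ₁₂ χ₂₇ Yf)

include B

theorem triv_ne_12 : triv G ≠ χ₁₂ := by
  intro h
  have := B.d12
  rw [← h, deg_triv] at this
  omega

theorem triv_ne_27 : triv G ≠ χ₂₇ := by
  intro h
  have := B.d27
  rw [← h, deg_triv] at this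
  omega

theorem triv_notin : triv G ∉ Yf := by
  intro h
  have := B.dY _ h
  rw [deg_triv] at this
  omega

theorem ne_12_27 : χ₁₂ ≠ χ₂₇ := by
  intro h
  have := B.d27
  rw [← h, B.d12] at this
  omega

theorem apply_one_12 : (χ₁₂ : G → ℂ) 1 = 12 := by
  rw [irr_apply_one, B.d12]; norm_num

theorem apply_one_27 : (χ₂₇ : G → ℂ) 1 = 27 := by
  rw [irr_apply_one, B.d27]; norm_num

theorem apply_one_Y {η : IrrCharacter G} (hη : η ∈ Yf) : (η : G → ℂ) 1 = 16 := by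
  rw [irr_apply_one, B.dY η hη]; norm_num

open Classical in
/-- the characters outside the principal block -/
noncomputable def restSet (_B : Blk χ₁₂ χ₂₇ Yf) [Fintype (IrrCharacter G)] :
    Finset (IrrCharacter G) :=
  Finset.univ \ (insert (triv G) (insert χ₁₂ (insert χ₂₇ Yf)))

theorem mem_restSet [Fintype (IrrCharacter G)] (χ : IrrCharacter G) :
    χ ∈ B.restSet ↔ χ ≠ triv G ∧ χ ≠ χ₁₂ ∧ χ ≠ χ₂₇ ∧ χ ∉ Yf := by
  classical
  unfold restSet
  simp only [Finset.mem_sdiff, Finset.mem_univ, true_and, Finset.mem_insert, not_or]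

theorem rest_prop [Fintype (IrrCharacter G)] {χ : IrrCharacter G} (hχ : χ ∈ B.restSet) :
    13 ∣ charDegree (χ : G → ℂ) ∧ ∀ y : G, orderOf y = 13 → (χ : G → ℂ) y = 0 := by
  obtain ⟨h1, h2, h3, h4⟩ := (B.mem_restSet χ).mp hχ
  exact B.rest χ (fun h => h1 (eq_triv_of_fun h)) h2 h3 h4

/-- splitting a sum over all irreducible characters -/
theorem sum_split [Fintype (IrrCharacter G)] {M : Type*} [AddCommMonoid M]
    (F : IrrCharacter G → M) :
    ∑ χ, F χ = F (triv G) + (F χ₁₂ + (F χ₂₇ + ∑ η ∈ Yf, F η)) + ∑ χ ∈ B.restSet, F χ := by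
  classical
  have h1 := Finset.sum_sdiff (Finset.subset_univ (insert (triv G) (insert χ₁₂ (insert χ₂₇ Yf))))
    (f := F)
  have e : B.restSet = Finset.univ \ (insert (triv G) (insert χ₁₂ (insert χ₂₇ Yf))) := by
    unfold restSet
    congr
  rw [← h1, ← e, add_comm]
  congr 1
  rw [Finset.sum_insert, Finset.sum_insert, Finset.sum_insert B.n27]
  · simp only [Finset.mem_insert, not_or]
    exact ⟨B.ne_12_27, B.n12⟩
  · simp only [Finset.mem_insert, not_or]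
    exact ⟨B.triv_ne_12, B.triv_ne_27, B.triv_notin⟩

theorem sum_vanish [Fintype (IrrCharacter G)] (F : IrrCharacter G → ℂ)
    (hF : ∀ χ ∈ B.restSet, F χ = 0) :
    ∑ χ, F χ = F (triv G) + (F χ₁₂ + (F χ₂₇ + ∑ η ∈ Yf, F η)) := by
  rw [B.sum_split F, Finset.sum_eq_zero hF, add_zero]

/-- the sum of the values of the exceptional characters at an element of order `13` -/
theorem sum_Y_13 (y : G) (hy : orderOf y = 13) : ∑ η ∈ Yf, (η : G → ℂ) y = -1 := by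
  classical
  letI : Fintype G := Fintype.ofFinite G
  letI : Fintype (IrrCharacter G) := fintypeIrr G
  have hy1 : ¬ IsConj y 1 := by
    intro h
    have : y = 1 := isConj_one_left.mp h
    rw [this, orderOf_one] at hy
    omega
  have h := sum_irr_mul_conj (G := G) y 1
  rw [Cfsg.Agent.Lib.Helper19.Ord720.classInd_of_not hy1, zero_mul] at h
  rw [B.sum_vanish (fun χ => (χ : G → ℂ) y * conj ((χ : G → ℂ) 1))
    (fun χ hχ => by
      show (χ : G → ℂ) y * conj ((χ : G → ℂ) 1) = 0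
      rw [(B.rest_prop hχ).2 y hy, zero_mul])] at h
  simp only [triv_apply, B.apply_one_12, B.apply_one_27, (B.v13 y hy).1, (B.v13 y hy).2] at h
  have h2 : ∑ η ∈ Yf, (η : G → ℂ) y * conj ((η : G → ℂ) 1) = 16 * ∑ η ∈ Yf, (η : G → ℂ) y := by
    rw [Finset.mul_sum]
    apply Finset.sum_congr rfl
    intro η hη
    rw [B.apply_one_Y hη]
    have : conj (16 : ℂ) = 16 := by
      rw [show (16 : ℂ) = ((16 : ℕ) : ℂ) by norm_num, map_natCast]
    rw [this]
    ring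
  rw [h2] at h
  have c1 : conj (1 : ℂ) = 1 := map_one _
  have c12 : conj (12 : ℂ) = 12 := by
    rw [show (12 : ℂ) = ((12 : ℕ) : ℂ) by norm_num, map_natCast]
  have c27 : conj (27 : ℂ) = 27 := by
    rw [show (27 : ℂ) = ((27 : ℕ) : ℂ) by norm_num, map_natCast]
  rw [c1, c12, c27] at h
  linear_combination (1 / 16 : ℂ) * h

/-- the character sum of the class multiplication coefficient with an element of order `13` -/
theorem class_sum [Fintype (IrrCharacter G)] (x x' y : G) (hx : ¬ 13 ∣ orderOf x)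
    (hx' : ¬ 13 ∣ orderOf x') (hy : orderOf y = 13) :
    ∑ χ : IrrCharacter G, (χ : G → ℂ) x * (χ : G → ℂ) x' * (χ : G → ℂ) y⁻¹ / (χ : G → ℂ) 1 =
      1 - (χ₁₂ : G → ℂ) x * (χ₁₂ : G → ℂ) x' / 12 + (χ₂₇ : G → ℂ) x * (χ₂₇ : G → ℂ) x' / 27 -
        (1 - (χ₁₂ : G → ℂ) x + (χ₂₇ : G → ℂ) x) * (1 - (χ₁₂ : G → ℂ) x' + (χ₂₇ : G → ℂ) x') / 16 := by
  have hyi : orderOf y⁻¹ = 13 := by rw [orderOf_inv]; exact hy
  rw [B.sum_vanish (fun χ => (χ : G → ℂ) x * (χ : G → ℂ) x' * (χ : G → ℂ) y⁻¹ / (χ : G → ℂ) 1)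
    (fun χ hχ => by
      show (χ : G → ℂ) x * (χ : G → ℂ) x' * (χ : G → ℂ) y⁻¹ / (χ : G → ℂ) 1 = 0
      rw [(B.rest_prop hχ).2 y⁻¹ hyi, mul_zero, zero_div])]
  simp only [triv_apply, B.apply_one_12, B.apply_one_27, (B.v13 y⁻¹ hyi).1, (B.v13 y⁻¹ hyi).2]
  have h2 : ∑ η ∈ Yf, (η : G → ℂ) x * (η : G → ℂ) x' * (η : G → ℂ) y⁻¹ / (η : G → ℂ) 1 =
      (1 - (χ₁₂ : G → ℂ) x + (χ₂₇ : G → ℂ) x) * (1 - (χ₁₂ : G → ℂ) x' + (χ₂₇ : G → ℂ) x') / 16 *
        ∑ η ∈ Yf, (η : G → ℂ) y⁻¹ := by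
    rw [Finset.mul_sum]
    apply Finset.sum_congr rfl
    intro η hη
    rw [B.apply_one_Y hη, B.rel η hη x hx, B.rel η hη x' hx']
    ring
  rw [h2, B.sum_Y_13 y⁻¹ hyi]
  ring

/-- **the class multiplication coefficients** with an element of order `13` -/
theorem pair_count (hG : Nat.card G = 5616) (x x' y : G) (hx : ¬ 13 ∣ orderOf x)
    (hx' : ¬ 13 ∣ orderOf x') (hy : orderOf y = 13) :
    (Nat.card {s : G // IsConj x s ∧ IsConj x' (s⁻¹ * y)} : ℂ) *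
        ((Nat.card ↥(Subgroup.centralizer ({x} : Set G)) : ℂ) *
          (Nat.card ↥(Subgroup.centralizer ({x'} : Set G)) : ℂ)) =
      5616 * (1 - (χ₁₂ : G → ℂ) x * (χ₁₂ : G → ℂ) x' / 12 +
        (χ₂₇ : G → ℂ) x * (χ₂₇ : G → ℂ) x' / 27 -
        (1 - (χ₁₂ : G → ℂ) x + (χ₂₇ : G → ℂ) x) * (1 - (χ₁₂ : G → ℂ) x' + (χ₂₇ : G → ℂ) x') / 16) := by
  classical
  letI : Fintype G := Fintype.ofFinite G
  letI : Fintype (IrrCharacter G) := fintypeIrr G
  have h1 := Cfsg.Agent.Lib.Helper24.Ord4320.class_mul_count x x' y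
  have h2 := Cfsg.Agent.Lib.Helper24.Ord4320.card_pairs_conj x x' y
  rw [B.class_sum x x' y hx hx' hy, h2, ← Nat.card_eq_fintype_card, hG] at h1
  push_cast at h1
  exact h1

end Blk

end Cfsg.Agent.Lib.Helper5.L33
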