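import Mathlib
import Cfsg.Agent.Lib.Helper5.L33D
import Cfsg.Agent.Lib.Helper24.M11InvA

/-!
# Simple groups of order 5616, part E: character values on `13`-regular elements (helper5)

* the characters of degree `12` and `27` are unique of their degree, hence real;
* the character of degree `27` vanishes on the `3`-singular elements, the characters of degree `16`
  on the `2`-singular elements;
* an element of order `13` is not a product of two involutions: `χ₁₂ = 4`, `χ₂₇ = 3` on the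
  involutions;
* `χ₁₂ ∈ {0, 3}` on the elements of order `3`;
* `χ₁₂ = 1`, `χ₂₇ = 0` on the elements of order divisible by `6`.
-/

set_option autoImplicit false
set_option linter.unusedSectionVars false
set_option linter.style.haveILetI false

namespace Cfsg.Agent.Lib.Helper5.L33

open MulAction Cfsg Cfsg.Agent.Lib.Helper8.SmallSimple Cfsg.Agent.Lib.Helper8.SmallSimple2
  Cfsg.Agent.Lib.Helper7 Cfsg.Agent.Lib.Helper19.Ord4032 Cfsg.Agent.CharLib
  Cfsg.Agent.Lib.Helper24 Cfsg.Agent.Lib.Helper12.BSF Cfsg.Agent.Lib.Helper6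
open scoped ComplexConjugate

universe u

variable {G : Type u} [Group G] [Finite G]

theorem fact2_5616 : (5616 : ℕ).factorization 2 = 4 := by
  have h : (5616 : ℕ) = 2 ^ 4 * 351 := by norm_num
  rw [h, Nat.factorization_mul (by norm_num) (by norm_num), Finsupp.add_apply,
    Nat.Prime.factorization_pow Nat.prime_two, Finsupp.single_eq_same,
    Nat.factorization_eq_zero_of_not_dvd (by norm_num)]

theorem fact3_5616 : (5616 : ℕ).factorization 3 = 3 := by
  have h : (5616 : ℕ) = 3 ^ 3 * 208 := by norm_num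
  rw [h, Nat.factorization_mul (by norm_num) (by norm_num), Finsupp.add_apply,
    Nat.Prime.factorization_pow Nat.prime_three, Finsupp.single_eq_same,
    Nat.factorization_eq_zero_of_not_dvd (by norm_num)]

section local13

variable [IsSimpleGroup G]

/-- the cyclic group generated by an element of order `13` is a Sylow subgroup -/
theorem exists_sylow_eq_zpowers (hG : Nat.card G = 5616) [Fact (Nat.Prime 13)] (y : G)
    (hy : orderOf y = 13) : ∃ P : Sylow 13 G, (P : Subgroup G) = Subgroup.zpowers y := by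
  have hp : IsPGroup 13 ↥(Subgroup.zpowers y) := by
    apply IsPGroup.of_card (n := 1)
    rw [Nat.card_zpowers, hy, pow_one]
  obtain ⟨P, hP⟩ := hp.exists_le_sylow
  refine ⟨P, ?_⟩
  symm
  apply Subgroup.eq_of_le_of_card_ge hP
  rw [(Cfsg.Agent.Lib.Helper19.L33.sylow13_data hG P).1, Nat.card_zpowers, hy]

theorem card_centralizer_thirteen (hG : Nat.card G = 5616) (y : G) (hy : orderOf y = 13) :
    Nat.card ↥(Subgroup.centralizer ({y} : Set G)) = 13 := by
  haveI : Fact (Nat.Prime 13) := ⟨by norm_num⟩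
  obtain ⟨P, hP⟩ := exists_sylow_eq_zpowers hG y hy
  rw [← centralizer_zpowers_eq', ← hP]
  exact (Cfsg.Agent.Lib.Helper19.L33.sylow13_data hG P).2.2.2.1

/-- an element of order divisible by `13` has order `13` -/
theorem orderOf_of_thirteen_dvd (hG : Nat.card G = 5616) (g : G) (h : 13 ∣ orderOf g) :
    orderOf g = 13 := by
  have hpos : orderOf g ≠ 0 := (orderOf_pos g).ne'
  have hy := orderOf_pow_orderOf_div hpos h
  have hc := card_centralizer_thirteen hG _ hy
  have hmem : g ∈ Subgroup.centralizer ({g ^ (orderOf g / 13)} : Set G) := by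
    rw [Subgroup.mem_centralizer_singleton_iff]
    exact ((Commute.refl g).pow_right _).eq
  have hd := Subgroup.orderOf_dvd_natCard _ hmem
  rw [hc] at hd
  exact Nat.dvd_antisymm hd h

theorem reg_of_six (hG : Nat.card G = 5616) (w : G) (h6 : 6 ∣ orderOf w) : ¬ 13 ∣ orderOf w := by
  intro h
  rw [orderOf_of_thirteen_dvd hG w h] at h6
  omega

/-- no involution inverts an element of order `13` -/
theorem not_real_thirteen (hG : Nat.card G = 5616) (y : G) (hy : orderOf y = 13) (s : G)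
    (hs : orderOf s = 2) (h : s * y * s⁻¹ = y⁻¹) : False := by
  haveI : Fact (Nat.Prime 13) := ⟨by norm_num⟩
  have hss : s * s = 1 := by
    rw [← pow_two, ← hs]; exact pow_orderOf_eq_one s
  have hmem := Cfsg.Agent.Lib.Helper24.M11Inv.mem_normalizer_zpowers_of_inverts hss h
  obtain ⟨P, hP⟩ := exists_sylow_eq_zpowers hG y hy
  rw [← hP] at hmem
  have hN := (Cfsg.Agent.Lib.Helper19.L33.sylow13_data hG P).2.2.1
  have hd := Subgroup.orderOf_dvd_natCard _ hmem
  rw [hN, hs] at hd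
  omega

theorem exists_orderOf_thirteen (hG : Nat.card G = 5616) : ∃ y : G, orderOf y = 13 := by
  haveI : Fact (Nat.Prime 13) := ⟨by norm_num⟩
  exact exists_prime_orderOf_dvd_card' (G := G) 13 (by rw [hG]; norm_num)

end local13

namespace Blk

variable {χ₁₂ χ₂₇ : IrrCharacter G} {Yf : Finset (IrrCharacter G)} (B : Blk χ₁₂ χ₂₇ Yf)

include B

theorem uniq12 (ψ : IrrCharacter G) (h : charDegree (ψ : G → ℂ) = 12) : ψ = χ₁₂ := by
  by_contra hne
  have h1 : (ψ : G → ℂ) ≠ (fun _ => 1) := by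
    intro h'
    have := eq_triv_of_fun h'
    rw [this, deg_triv] at h
    omega
  have h2 : ψ ≠ χ₂₇ := by
    intro h'
    rw [h', B.d27] at h
    omega
  have h3 : ψ ∉ Yf := by
    intro h'
    rw [B.dY ψ h'] at h
    omega
  have := (B.rest ψ h1 hne h2 h3).1
  rw [h] at this
  omega

theorem uniq27 (ψ : IrrCharacter G) (h : charDegree (ψ : G → ℂ) = 27) : ψ = χ₂₇ := by
  by_contra hne
  have h1 : (ψ : G → ℂ) ≠ (fun _ => 1) := by
    intro h'
    have := eq_triv_of_fun h'
    rw [this, deg_triv] at h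
    omega
  have h2 : ψ ≠ χ₁₂ := by
    intro h'
    rw [h', B.d12] at h
    omega
  have h3 : ψ ∉ Yf := by
    intro h'
    rw [B.dY ψ h'] at h
    omega
  have := (B.rest ψ h1 h2 hne h3).1
  rw [h] at this
  omega

/-- every non-trivial irreducible character other than `χ₁₂` has degree at least `13` -/
theorem degree_ge (ψ : IrrCharacter G) (h1 : (ψ : G → ℂ) ≠ (fun _ => 1)) (h2 : ψ ≠ χ₁₂) :
    13 ≤ charDegree (ψ : G → ℂ) := by
  by_cases h3 : ψ = χ₂₇
  · rw [h3, B.d27]; norm_num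
  by_cases h4 : ψ ∈ Yf
  · rw [B.dY ψ h4]; norm_num
  have := (B.rest ψ h1 h2 h3 h4).1
  have hpos := irr_charDegree_pos ψ
  exact Nat.le_of_dvd hpos this

theorem real12 (g : G) : conj ((χ₁₂ : G → ℂ) g) = (χ₁₂ : G → ℂ) g := by
  let ψ : IrrCharacter G := ⟨fun g => conj ((χ₁₂ : G → ℂ) g), IsIrrCharacter.conj' χ₁₂.2⟩
  have hψ1 : (ψ : G → ℂ) 1 = 12 := by
    show conj ((χ₁₂ : G → ℂ) 1) = 12
    rw [B.apply_one_12, show (12 : ℂ) = ((12 : ℕ) : ℂ) by norm_num, map_natCast]
  have hdeg : charDegree (ψ : G → ℂ) = 12 := by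
    have h := irr_apply_one ψ
    rw [hψ1] at h
    have h' : ((12 : ℕ) : ℂ) = ((charDegree (ψ : G → ℂ) : ℕ) : ℂ) := by rw [← h]; norm_num
    exact_mod_cast h'.symm
  have := B.uniq12 ψ hdeg
  exact congrFun (congrArg Subtype.val this) g

theorem real27 (g : G) : conj ((χ₂₇ : G → ℂ) g) = (χ₂₇ : G → ℂ) g := by
  let ψ : IrrCharacter G := ⟨fun g => conj ((χ₂₇ : G → ℂ) g), IsIrrCharacter.conj' χ₂₇.2⟩
  have hψ1 : (ψ : G → ℂ) 1 = 27 := by
    show conj ((χ₂₇ : G → ℂ) 1) = 27
    rw [B.apply_one_27, show (27 : ℂ) = ((27 : ℕ) : ℂ) by norm_num, map_natCast]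
  have hdeg : charDegree (ψ : G → ℂ) = 27 := by
    have h := irr_apply_one ψ
    rw [hψ1] at h
    have h' : ((27 : ℕ) : ℂ) = ((charDegree (ψ : G → ℂ) : ℕ) : ℂ) := by rw [← h]; norm_num
    exact_mod_cast h'.symm
  have := B.uniq27 ψ hdeg
  exact congrFun (congrArg Subtype.val this) g

/-- the characters of degree `16` vanish on the elements of even order -/
theorem eta_two (hG : Nat.card G = 5616) {η : IrrCharacter G} (hη : η ∈ Yf) (g : G)
    (h2 : 2 ∣ orderOf g) : (η : G → ℂ) g = 0 := by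
  apply Cfsg.Agent.Lib.Helper23.irr_eq_zero_of_defect_zero η 2 Nat.prime_two _ g h2
  rw [hG, fact2_5616, B.dY η hη]
  norm_num

/-- the character of degree `27` vanishes on the elements of order divisible by `3` -/
theorem b_three (hG : Nat.card G = 5616) (g : G) (h3 : 3 ∣ orderOf g) : (χ₂₇ : G → ℂ) g = 0 := by
  apply Cfsg.Agent.Lib.Helper23.irr_eq_zero_of_defect_zero χ₂₇ 3 Nat.prime_three _ g h3
  rw [hG, fact3_5616, B.d27]
  norm_num

theorem exists_mem_Y : ∃ η, η ∈ Yf := by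
  apply Finset.card_pos.mp
  rw [B.cY]; norm_num

theorem th_two (hG : Nat.card G = 5616) (g : G) (h2 : 2 ∣ orderOf g) (hreg : ¬ 13 ∣ orderOf g) :
    1 - (χ₁₂ : G → ℂ) g + (χ₂₇ : G → ℂ) g = 0 := by
  obtain ⟨η, hη⟩ := B.exists_mem_Y
  rw [← B.rel η hη g hreg]
  exact B.eta_two hG hη g h2

/-- **the values at the involutions** -/
theorem val_invol [IsSimpleGroup G] (hG : Nat.card G = 5616) (t : G) (ht : orderOf t = 2) :
    (χ₁₂ : G → ℂ) t = 4 ∧ (χ₂₇ : G → ℂ) t = 3 := by
  obtain ⟨y, hy⟩ := exists_orderOf_thirteen hG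
  have hreg : ¬ 13 ∣ orderOf t := by rw [ht]; norm_num
  have hth := B.th_two hG t (by rw [ht]) hreg
  obtain ⟨n, hn⟩ := IsCharacter.apply_involution_int (IsIrrCharacter.isCharacter χ₁₂.2) t ht
  have hp := B.pair_count hG t t y hreg hreg hy
  have hempty : IsEmpty {s : G // IsConj t s ∧ IsConj t (s⁻¹ * y)} := by
    constructor
    rintro ⟨s, h1, h2⟩
    have hs : orderOf s = 2 := by
      rw [← Cfsg.Agent.Lib.Helper24.M11Inv.orderOf_eq_of_isConj h1, ht]
    have hs' : orderOf (s⁻¹ * y) = 2 := by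
      rw [← Cfsg.Agent.Lib.Helper24.M11Inv.orderOf_eq_of_isConj h2, ht]
    have hss : s * s = 1 := by
      rw [← pow_two, ← hs]; exact pow_orderOf_eq_one s
    have hss' : (s⁻¹ * y) * (s⁻¹ * y) = 1 := by
      rw [← pow_two, ← hs']; exact pow_orderOf_eq_one _
    have e1 : s⁻¹ = s := inv_eq_of_mul_eq_one_left hss
    apply not_real_thirteen hG y hy s hs
    -- `s y s⁻¹ = y⁻¹`
    rw [e1] at hss' ⊢
    have h3 : s * y * s * y = 1 := by
      calc s * y * s * y = (s * y) * (s * y) := by group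
        _ = 1 := hss'
    calc s * y * s = (s * y * s * y) * y⁻¹ := by group
      _ = y⁻¹ := by rw [h3, one_mul]
  rw [Nat.card_of_isEmpty, Nat.cast_zero, zero_mul] at hp
  have hb : (χ₂₇ : G → ℂ) t = (χ₁₂ : G → ℂ) t - 1 := by linear_combination hth
  rw [hb, hn] at hp
  have hZ : ((-5 * n ^ 2 - 8 * n + 112 : ℤ) : ℂ) = 0 := by
    push_cast
    linear_combination (-1 / 52 : ℂ) * hp
  have hZ' : -5 * n ^ 2 - 8 * n + 112 = 0 := by exact_mod_cast hZ
  have h5 : (n - 4) * (5 * n + 28) = 0 := by linear_combination -hZ'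
  have hn4 : n = 4 := by
    rcases mul_eq_zero.mp h5 with h | h
    · omega
    · omega
  refine ⟨?_, ?_⟩
  · rw [hn, hn4]; norm_num
  · rw [hb, hn, hn4]; norm_num

/-- the value of `χ₁₂` at an element of order `3` is an integer divisible by `3` -/
theorem val_three_int (x : G) (hx : orderOf x = 3) :
    ∃ w : ℤ, (χ₁₂ : G → ℂ) x = (w : ℂ) ∧ (3 : ℤ) ∣ w := by
  classical
  let _ : Fintype ↥(Subgroup.zpowers x) := Fintype.ofFinite _
  have hχ := IsIrrCharacter.isCharacter χ₁₂.2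
  have hx3 : x ^ 3 = 1 := by rw [← hx]; exact pow_orderOf_eq_one x
  have hx2 : x ^ 2 = x⁻¹ := by
    rw [eq_inv_iff_mul_eq_one, ← pow_succ]
    exact hx3
  have hinv : (χ₁₂ : G → ℂ) x⁻¹ = (χ₁₂ : G → ℂ) x := by
    rw [IsCharacter.apply_inv hχ, B.real12]
  have hall : ∀ u : ↥(Subgroup.zpowers x), u ≠ 1 →
      (χ₁₂ : G → ℂ) (u : G) = (χ₁₂ : G → ℂ) x := by
    intro u hu
    have hmem := u.2
    rw [mem_zpowers_iff_mem_range_orderOf, hx] at hmem
    obtain ⟨k, hk, hku⟩ := Finset.mem_image.mp hmem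
    rw [Finset.mem_range] at hk
    interval_cases k
    · exfalso
      apply hu
      apply Subtype.ext
      rw [← hku, pow_zero]
      rfl
    · rw [← hku, pow_one]
    · rw [← hku, hx2, hinv]
  have s1 := Cfsg.Agent.Lib.Helper19.Ord1008.sum_const_except_one
    (fun u : ↥(Subgroup.zpowers x) => (χ₁₂ : G → ℂ) (u : G)) 1 ((χ₁₂ : G → ℂ) x) hall
  obtain ⟨m, hm⟩ := sum_subgroup_irr (Subgroup.zpowers x) χ₁₂
  have hcard : Fintype.card ↥(Subgroup.zpowers x) = 3 := by
    rw [← Nat.card_eq_fintype_card, Nat.card_zpowers, hx]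
  simp only [Subgroup.coe_one] at s1
  rw [hm, hcard, B.apply_one_12] at s1
  have hq : (χ₁₂ : G → ℂ) x = (((3 * (m : ℚ) - 12) / 2 : ℚ) : ℂ) := by
    push_cast
    push_cast at s1
    linear_combination (-1 / 2 : ℂ) * s1
  have hint : IsIntegral ℤ ((χ₁₂ : G → ℂ) x) := irr_isIntegral χ₁₂ x
  rw [hq] at hint
  have h2 : IsIntegral ℤ ((3 * (m : ℚ) - 12) / 2 : ℚ) :=
    (isIntegral_algebraMap_iff (algebraMap ℚ ℂ).injective (R := ℤ)
      (x := ((3 * (m : ℚ) - 12) / 2 : ℚ))).mp hint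
  obtain ⟨v, hv⟩ := IsIntegrallyClosed.isIntegral_iff.mp h2
  have hv' : ((v : ℤ) : ℚ) = (3 * (m : ℚ) - 12) / 2 := hv
  refine ⟨v, ?_, ?_⟩
  · rw [hq, ← hv']
    push_cast
    rfl
  · have h3 : 2 * ((v : ℤ) : ℚ) + 12 = 3 * ((m : ℤ) : ℚ) := by
      rw [hv']
      push_cast
      ring
    have h4 : 2 * v + 12 = 3 * (m : ℤ) := by exact_mod_cast h3
    omega

/-- **the values at the elements of order `3`** -/
theorem val_three [IsSimpleGroup G] (hG : Nat.card G = 5616) (x : G) (hx : orderOf x = 3) :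
    ((χ₁₂ : G → ℂ) x = 0 ∨ (χ₁₂ : G → ℂ) x = 3) ∧ (χ₂₇ : G → ℂ) x = 0 := by
  obtain ⟨y, hy⟩ := exists_orderOf_thirteen hG
  have hreg : ¬ 13 ∣ orderOf x := by rw [hx]; norm_num
  have hb := B.b_three hG x (by rw [hx])
  obtain ⟨w, hw, h3⟩ := B.val_three_int x hx
  have hp := B.pair_count hG x x y hreg hreg hy
  rw [hb, hw] at hp
  set N := Nat.card {s : G // IsConj x s ∧ IsConj x (s⁻¹ * y)} with hN
  set c := Nat.card ↥(Subgroup.centralizer ({x} : Set G)) with hc
  have hZ : (((N : ℤ) * ((c : ℤ) * (c : ℤ)) : ℤ) : ℂ) =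
      ((117 * (45 + 6 * w - 7 * w ^ 2) : ℤ) : ℂ) := by
    push_cast
    linear_combination hp
  have hZ' : (N : ℤ) * ((c : ℤ) * (c : ℤ)) = 117 * (45 + 6 * w - 7 * w ^ 2) := by
    exact_mod_cast hZ
  have hnn : 0 ≤ 45 + 6 * w - 7 * w ^ 2 := by
    have : (0 : ℤ) ≤ (N : ℤ) * ((c : ℤ) * (c : ℤ)) := by positivity
    rw [hZ'] at this
    omega
  have hle : w ≤ 3 := by nlinarith
  have hge : -2 ≤ w := by nlinarith
  refine ⟨?_, hb⟩
  rw [hw]
  interval_cases w
  · omega
  · omega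
  · left; norm_num
  · omega
  · omega
  · right; norm_num

/-- **the values at the elements of order divisible by `6`** -/
theorem val_six [IsSimpleGroup G] (hG : Nat.card G = 5616) (w : G) (h6 : 6 ∣ orderOf w) :
    (χ₁₂ : G → ℂ) w = 1 ∧ (χ₂₇ : G → ℂ) w = 0 := by
  have hreg := reg_of_six hG w h6
  have hb := B.b_three hG w (dvd_trans (by norm_num) h6)
  have hth := B.th_two hG w (dvd_trans (by norm_num) h6) hreg
  refine ⟨?_, hb⟩
  rw [hb] at hth
  linear_combination -hth

end Blk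

end Cfsg.Agent.Lib.Helper5.L33
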