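import Mathlib
import Cfsg.Agent.Lib.Helper8.BSFGen
import Cfsg.Agent.Lib.Helper25.Gagola

/-!
helper5: general Brauer–Leonard degree equation for a Sylow subgroup `P` of prime order `p`
(no hypothesis on `C_G(P)`, any index `m = |N_G(P) : C_G(P)|` with `1 < m`, `m + 1 < p`).
Part A: `N_G(P) = C_G(P)⟨g⟩`, and the general `core_full`.
-/

set_option autoImplicit false
set_option linter.style.haveILetI false
set_option linter.unusedSectionVars false

namespace Cfsg.Agent.Lib.Helper5.BLFull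

open Cfsg Cfsg.Agent.CharLib Cfsg.Agent.Lib.Helper24 Cfsg.Agent.Lib.Helper6
open Cfsg.Agent.Lib.Helper12.BSF
open scoped ComplexConjugate

universe u

variable {G : Type u} [Group G] [Finite G]

/-- For a subgroup `H` of prime order, `N_G(H) / C_G(H)` is cyclic: `N_G(H) = C_G(H)⟨g⟩`. -/
theorem exists_cyc_of_card_prime (p : ℕ) [hp : Fact p.Prime] (H : Subgroup G)
    (hH : Nat.card H = p) :
    ∃ g : G, g ∈ Subgroup.normalizer (H : Set G) ∧
      Subgroup.centralizer (H : Set G) ⊔ Subgroup.zpowers g = Subgroup.normalizer (H : Set G) := by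
  classical
  have hHN : H ≤ Subgroup.normalizer (H : Set G) := Subgroup.le_normalizer
  haveI hKn : (H.subgroupOf (Subgroup.normalizer (H : Set G))).Normal :=
    Subgroup.normal_in_normalizer
  have hKcard : Nat.card (H.subgroupOf (Subgroup.normalizer (H : Set G))) = p := by
    rw [← hH]
    exact Nat.card_congr (Subgroup.subgroupOfEquivOfLe hHN).toEquiv
  haveI : IsCyclic (H.subgroupOf (Subgroup.normalizer (H : Set G))) :=
    isCyclic_of_prime_card hKcard
  haveI hcycU : IsCyclic (ZMod (Nat.card (H.subgroupOf (Subgroup.normalizer (H : Set G)))))ˣ := by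
    rw [hKcard]
    exact ZMod.isCyclic_units_prime hp.out
  haveI : IsCyclic (MulAut (H.subgroupOf (Subgroup.normalizer (H : Set G)))) :=
    (IsCyclic.mulAutMulEquiv (H.subgroupOf (Subgroup.normalizer (H : Set G)))).isCyclic.mpr hcycU
  let φ : Subgroup.normalizer (H : Set G) →*
      MulAut (H.subgroupOf (Subgroup.normalizer (H : Set G))) := MulAut.conjNormal
  haveI : IsCyclic φ.range := Subgroup.isCyclic φ.range
  obtain ⟨⟨x, hx⟩, hgen⟩ := IsCyclic.exists_generator (α := φ.range)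
  obtain ⟨g, rfl⟩ := MonoidHom.mem_range.mp hx
  refine ⟨(g : G), g.2, le_antisymm ?_ ?_⟩
  · exact sup_le (Subgroup.centralizer_le_normalizer _) (by rw [Subgroup.zpowers_le]; exact g.2)
  · intro n hn
    have h1 := hgen ⟨φ ⟨n, hn⟩, MonoidHom.mem_range.mpr ⟨_, rfl⟩⟩
    obtain ⟨k, hk⟩ := Subgroup.mem_zpowers_iff.mp h1
    have hk' : φ g ^ k = φ ⟨n, hn⟩ := by
      have := congrArg Subtype.val hk
      simpa using this
    have hc : φ (⟨n, hn⟩ * g ^ (-k)) = 1 := by
      rw [map_mul, map_zpow, ← hk', zpow_neg, mul_inv_cancel]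
    have hcC : n * (g : G) ^ (-k) ∈ Subgroup.centralizer (H : Set G) := by
      rw [Subgroup.mem_centralizer_iff]
      intro h hh
      have hh' : (⟨h, hHN hh⟩ : Subgroup.normalizer (H : Set G)) ∈
          H.subgroupOf (Subgroup.normalizer (H : Set G)) := by
        rw [Subgroup.mem_subgroupOf]; exact hh
      have h2 : φ (⟨n, hn⟩ * g ^ (-k)) ⟨⟨h, hHN hh⟩, hh'⟩ = ⟨⟨h, hHN hh⟩, hh'⟩ := by
        rw [hc]; rfl
      have h3 := congrArg (fun x : H.subgroupOf (Subgroup.normalizer (H : Set G)) =>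
        ((x : Subgroup.normalizer (H : Set G)) : G)) h2
      simp only [φ, MulAut.conjNormal_apply, Subgroup.coe_mul, Subgroup.coe_zpow,
        Subgroup.coe_inv] at h3
      -- h3 : n * g^(-k) * h * (n * g^(-k))⁻¹ = h
      calc h * (n * (g : G) ^ (-k)) = (n * (g : G) ^ (-k) * h * (n * (g : G) ^ (-k))⁻¹) *
            (n * (g : G) ^ (-k)) := by rw [h3]
        _ = n * (g : G) ^ (-k) * h := by group
    have hsplit : n = (n * (g : G) ^ (-k)) * (g : G) ^ k := by group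
    rw [hsplit]
    exact Subgroup.mul_mem _ (Subgroup.mem_sup_left hcC)
      (Subgroup.mem_sup_right (Subgroup.zpow_mem_zpowers _ k))

/-- **General degree equation** for a Sylow subgroup `P` of prime order `p` with
`|N_G(P) : C_G(P)| = m`, `1 < m`, `m + 1 < p`; `t = (p-1)/m`. No hypothesis on `C_G(P)`. -/
theorem core_full (p : ℕ) [hp : Fact p.Prime] (P : Sylow p G)
    (hP : Nat.card (P : Subgroup G) = p)
    (m : ℕ) (hm1 : 1 < m) (hm2 : m + 1 < p)
    (hCN : (Subgroup.centralizer ((P : Subgroup G) : Set G)).relIndex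
      (Subgroup.normalizer ((P : Subgroup G) : Set G)) = m) :
    ∃ (X : Finset (IrrCharacter G)) (a : IrrCharacter G → ℤ) (η : IrrCharacter G) (d δ : ℤ),
      (δ = 1 ∨ δ = -1) ∧ X.card + 1 ≤ m ∧ (∀ χ ∈ X, (χ : G → ℂ) ≠ fun _ => 1) ∧
      (∀ χ ∈ X, a χ ≠ 0) ∧
      (d - δ) ^ 2 + ((((p - 1) / m : ℕ) : ℤ) - 1) * d ^ 2 + ∑ χ ∈ X, a χ ^ 2 = (m : ℤ) ∧
      (∀ χ ∈ X, (p : ℤ) ∣ (charDegree (χ : G → ℂ) : ℤ) - a χ) ∧
      ((((p - 1) / m : ℕ) : ℤ) * d - δ) * (charDegree (η : G → ℂ) : ℤ) + 1 +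
        ∑ χ ∈ X, a χ * (charDegree (χ : G → ℂ) : ℤ) = 0 ∧
      (∀ χ ∈ X, ∀ y w : G, y ∈ (P : Subgroup G) → y ≠ 1 → Commute y w → ¬ p ∣ orderOf w →
        (χ : G → ℂ) (y * w) = (a χ : ℂ)) := by
  classical
  have hpp : p.Prime := hp.out
  obtain ⟨M, hM⟩ := exists_isPModular p
  have hPc : Nat.card P = p := hP
  have hcyc0 : IsCyclic ↥(P : Subgroup G) := isCyclic_of_prime_card hP
  have hab : IsMulCommutative P := IsCyclic.isMulCommutative
  have hm2' : m + 1 < Nat.card P := by rw [hPc]; exact hm2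
  have hCleN : Subgroup.centralizer ((P : Subgroup G) : Set G) ≤
      Subgroup.normalizer ((P : Subgroup G) : Set G) := Subgroup.centralizer_le_normalizer _
  have hcyc := exists_cyc_of_card_prime p (P : Subgroup G) hP
  have hfrob : ∀ y : G, y ∈ (P : Subgroup G) → y ≠ 1 →
      Subgroup.centralizer ({y} : Set G) ⊓ Subgroup.normalizer ((P : Subgroup G) : Set G) =
        Subgroup.centralizer ((P : Subgroup G) : Set G) := by
    intro y hy hy1
    apply le_antisymm
    · intro g hg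
      have hgy : g ∈ Subgroup.centralizer ({y} : Set G) := hg.1
      rw [Subgroup.mem_centralizer_singleton_iff] at hgy
      rw [Subgroup.mem_centralizer_iff]
      intro h hh
      have hz := le_zpowers_of_card_prime p (P : Subgroup G) hP y hy hy1 hh
      obtain ⟨k, rfl⟩ := Subgroup.mem_zpowers_iff.mp hz
      have hc : Commute g y := hgy
      exact ((hc.zpow_right k).eq).symm
    · apply le_inf _ hCleN
      intro g hg
      rw [Subgroup.mem_centralizer_singleton_iff]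
      rw [Subgroup.mem_centralizer_iff] at hg
      exact (hg y hy).symm
  obtain ⟨s, X, Y, hsm, -, -, hXs, hYr, ⟨χ₁, hχ₁X, hχ₁⟩, a, d, δ, ζ, hδ, hX, -, -, -, -,
    hnorm, -, hdeg⟩ := Cfsg.Agent.CharLib.brauer_leonard_main p M hM P hab m hm1 hm2' hCN hcyc hfrob
  -- a non-identity element of P
  have hnt : Nontrivial ↥(P : Subgroup G) := by
    haveI : Finite ↥(P : Subgroup G) := inferInstance
    rw [← Finite.one_lt_card_iff_nontrivial, hP]
    exact hpp.one_lt
  obtain ⟨y₀, hy₀⟩ := exists_ne (1 : ↥(P : Subgroup G))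
  -- values on p-singular elements
  have hvalg : ∀ χ ∈ X, ∀ y w : G, y ∈ (P : Subgroup G) → y ≠ 1 → Commute y w →
      ¬ p ∣ orderOf w → (χ : G → ℂ) (y * w) = (a χ : ℂ) := by
    intro χ hχ y w hy hy1 hyw hw
    refine (hX χ hχ).2 (y * w) y ?_ hy hy1
    refine ⟨w, rfl, hyw, ⟨1, ?_⟩, hw⟩
    rw [pow_one]
    exact orderOf_eq_of_card_prime p (P : Subgroup G) hP y hy hy1
  have hval : ∀ χ ∈ X, ∀ y : ↥(P : Subgroup G), y ≠ 1 → (χ : G → ℂ) (y : G) = (a χ : ℂ) := by
    intro χ hχ y hy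
    have hy1 : (y : G) ≠ 1 := fun h => hy (Subtype.ext h)
    have := hvalg χ hχ (y : G) 1 y.2 hy1 (Commute.one_right _)
      (by rw [orderOf_one]; exact hpp.one_lt.ne' ∘ Nat.dvd_one.mp)
    rwa [mul_one] at this
  -- a χ₁ = 1
  have ha1 : a χ₁ = 1 := by
    have h1 := hval χ₁ hχ₁X y₀ hy₀
    rw [hχ₁] at h1
    have h2 : ((a χ₁ : ℤ) : ℂ) = ((1 : ℤ) : ℂ) := by rw [← h1]; simp
    exact_mod_cast h2
  -- congruences
  have hcong : ∀ χ ∈ X, (p : ℤ) ∣ (charDegree (χ : G → ℂ) : ℤ) - a χ := by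
    intro χ hχ
    haveI : Fintype ↥(P : Subgroup G) := Fintype.ofFinite _
    obtain ⟨n, hn⟩ := sum_subgroup_irr (P : Subgroup G) χ
    have hcardF : Fintype.card ↥(P : Subgroup G) = p := by
      rw [← Nat.card_eq_fintype_card, hP]
    rw [← Finset.add_sum_erase Finset.univ _ (Finset.mem_univ (1 : ↥(P : Subgroup G)))] at hn
    have h1 : ∀ y ∈ Finset.univ.erase (1 : ↥(P : Subgroup G)),
        (χ : G → ℂ) (y : G) = (a χ : ℂ) := fun y hy => hval χ hχ y (Finset.ne_of_mem_erase hy)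
    rw [Finset.sum_congr rfl h1, Finset.sum_const, Finset.card_erase_of_mem (Finset.mem_univ _),
      Finset.card_univ, nsmul_eq_mul, hcardF] at hn
    have h2 : (χ : G → ℂ) ((1 : ↥(P : Subgroup G)) : G) = (charDegree (χ : G → ℂ) : ℂ) := by
      rw [Subgroup.coe_one, irr_apply_one]
    rw [h2] at hn
    refine ⟨(n : ℤ) - a χ, ?_⟩
    have h3 : (((charDegree (χ : G → ℂ) : ℤ) - a χ : ℤ) : ℂ) =
        (((p : ℤ) * ((n : ℤ) - a χ) : ℤ) : ℂ) := by
      push_cast
      rw [Nat.cast_sub hpp.pos] at hn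
      push_cast at hn
      linear_combination hn
    exact_mod_cast h3
  -- finite set X
  have hXfin : X.Finite := Set.toFinite X
  set XF : Finset (IrrCharacter G) := hXfin.toFinset with hXF
  have hmemXF : ∀ χ, χ ∈ XF ↔ χ ∈ X := fun χ => Set.Finite.mem_toFinset hXfin
  have hχ₁XF : χ₁ ∈ XF := (hmemXF χ₁).mpr hχ₁X
  have hXFcard : XF.card = s := by
    rw [← hXs, Nat.card_coe_set_eq, Set.ncard_eq_toFinset_card X hXfin]
  -- norm equation
  rw [finsum_mem_eq_finite_toFinset_sum _ hXfin] at hnorm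
  have hr : ((Nat.card P : ℤ) - 1) / (m : ℤ) = (((p - 1) / m : ℕ) : ℤ) := by
    rw [hPc, Int.natCast_div, Nat.cast_sub hpp.pos]
    simp
  rw [hr] at hnorm
  have hsplit : ∑ χ ∈ XF, a χ ^ 2 = 1 + ∑ χ ∈ XF.erase χ₁, a χ ^ 2 := by
    rw [← Finset.add_sum_erase XF _ hχ₁XF, ha1]
    norm_num
  -- Y nonempty
  have hYne : Nonempty ↥Y := by
    have h1 : Nat.card ↥Y ≠ 0 := by
      rw [hYr, hPc]
      have : 1 ≤ (p - 1) / m := by
        rw [Nat.le_div_iff_mul_le (by omega)]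
        omega
      omega
    exact (Nat.card_ne_zero.mp h1).1
  obtain ⟨⟨η, hη⟩⟩ := hYne
  have hdeg1 := hdeg η hη 1 (by rw [orderOf_one]; exact hpp.one_lt.ne' ∘ Nat.dvd_one.mp)
  rw [finsum_mem_eq_finite_toFinset_sum _ hXfin, hPc] at hdeg1
  rw [← Finset.add_sum_erase XF _ hχ₁XF, ha1, hχ₁] at hdeg1
  have hdeg2 : ∑ χ ∈ XF.erase χ₁, (a χ : ℂ) * (χ : G → ℂ) 1 =
      ((∑ χ ∈ XF.erase χ₁, a χ * (charDegree (χ : G → ℂ) : ℤ) : ℤ) : ℂ) := by
    push_cast
    apply Finset.sum_congr rfl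
    intro χ _
    rw [irr_apply_one]
  rw [hdeg2, irr_apply_one] at hdeg1
  clear hr
  generalize (p - 1) / m = t at hdeg1 hnorm ⊢
  refine ⟨XF.erase χ₁, a, η, d, δ, hδ, ?_, ?_, ?_, ?_, ?_, ?_, ?_⟩
  · rw [Finset.card_erase_of_mem hχ₁XF, hXFcard]
    have : 0 < s := by rw [← hXFcard]; exact Finset.card_pos.mpr ⟨χ₁, hχ₁XF⟩
    omega
  · intro χ hχ hχ1
    apply Finset.ne_of_mem_erase hχ
    apply Subtype.ext
    rw [hχ1, hχ₁]
  · intro χ hχ
    exact (hX χ ((hmemXF χ).mp (Finset.mem_of_mem_erase hχ))).1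
  · rw [hsplit] at hnorm
    linarith
  · intro χ hχ
    exact hcong χ ((hmemXF χ).mp (Finset.mem_of_mem_erase hχ))
  · have h4 : ((((t : ℤ) * d - δ) * (charDegree (η : G → ℂ) : ℤ) + 1 +
        ∑ χ ∈ XF.erase χ₁, a χ * (charDegree (χ : G → ℂ) : ℤ) : ℤ) : ℂ) = ((0 : ℤ) : ℂ) := by
      push_cast
      push_cast at hdeg1
      linear_combination hdeg1
    exact_mod_cast h4
  · intro χ hχ
    exact hvalg χ ((hmemXF χ).mp (Finset.mem_of_mem_erase hχ))

end Cfsg.Agent.Lib.Helper5.BLFull
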