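import Mathlib
import Cfsg.Agent.Lib.Helper5.BLFullA
import Cfsg.Agent.Lib.Helper10.GenOrtho
import Cfsg.Agent.Lib.Helper8.OrdSieveE

/-!
helper5: Brauer–Leonard degree equation, part B.
* `eq_one_of_apply_eq`: in a simple group a nontrivial irreducible character is faithful.
* `deg_ne_pred` (Lemma K): if `χ` takes the value `-1` on all `p`-singular powers of `y v`
  (`y` of order `p`, `v ≠ 1` a commuting `p'`-element) then `χ(1) ≠ p - 1`.
* `core_two`: the case `|N_G(P) : C_G(P)| = 2`.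
* `kill_two`, `no_simple_two`: Boolean criteria excluding a simple group of order `p * M`.
-/

set_option autoImplicit false
set_option linter.style.haveILetI false
set_option linter.unusedSectionVars false

namespace Cfsg.Agent.Lib.Helper5.BLFull

open Cfsg Cfsg.Agent.CharLib Cfsg.Agent.Lib.Helper24
open Cfsg.Agent.Lib.Helper12.BSF Cfsg.Agent.Lib.Helper25
open scoped ComplexConjugate

universe u

variable {G : Type u} [Group G] [Finite G]

/-- In a simple group, a nontrivial irreducible character is faithful. -/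
theorem eq_one_of_apply_eq [IsSimpleGroup G] (χ : IrrCharacter G)
    (hχ : (χ : G → ℂ) ≠ fun _ => 1) (g : G) (hg : (χ : G → ℂ) g = (χ : G → ℂ) 1) : g = 1 := by
  classical
  have hmem : g ∈ irrKer χ := (mem_irrKer χ g).mpr hg
  rcases (irrKer_normal χ).eq_bot_or_eq_top with hb | ht
  · rw [hb, Subgroup.mem_bot] at hmem
    exact hmem
  · exfalso
    have hconst : ∀ x : G, (χ : G → ℂ) x = (χ : G → ℂ) 1 := fun x =>
      (mem_irrKer χ x).mp (by rw [ht]; exact Subgroup.mem_top x)
    haveI : Fintype G := Fintype.ofFinite G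
    have h1 := Cfsg.Agent.CharLib.classInner_irr χ.2
      (Cfsg.Agent.CharLib.isIrrCharacter_one (G := G))
    have hne : ¬ ((χ : G → ℂ) = (1 : G → ℂ)) := fun h => hχ (by rw [h]; rfl)
    rw [if_neg hne] at h1
    unfold classInner at h1
    have h2 : ∑ x : G, (χ : G → ℂ) x * conj ((1 : G → ℂ) x) =
        (Nat.card G : ℂ) * (χ : G → ℂ) 1 := by
      have h3 : ∀ x ∈ (Finset.univ : Finset G),
          (χ : G → ℂ) x * conj ((1 : G → ℂ) x) = (χ : G → ℂ) 1 := by
        intro x _
        rw [hconst x, Pi.one_apply, map_one, mul_one]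
      rw [Finset.sum_congr rfl h3, Finset.sum_const, Finset.card_univ, nsmul_eq_mul,
        Nat.card_eq_fintype_card]
    have hcard : (Nat.card G : ℂ) ≠ 0 := Nat.cast_ne_zero.mpr Nat.card_pos.ne'
    rw [h2, ← mul_assoc, inv_mul_cancel₀ hcard, one_mul] at h1
    exact Cfsg.Agent.Lib.Helper24.irr_apply_one_ne_zero χ h1

/-- The sum of an irreducible character over the powers of an element. -/
theorem sum_zpowers_irr (χ : IrrCharacter G) (w : G) :
    ∃ n : ℕ, ∑ j ∈ Finset.range (orderOf w), (χ : G → ℂ) (w ^ j) = (orderOf w : ℂ) * n := by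
  classical
  haveI : Fintype ↥(Subgroup.zpowers w) := Fintype.ofFinite _
  obtain ⟨n, hn⟩ := sum_subgroup_irr (Subgroup.zpowers w) χ
  refine ⟨n, ?_⟩
  have hw : IsOfFinOrder w := isOfFinOrder_of_finite w
  have hcard : Fintype.card ↥(Subgroup.zpowers w) = orderOf w := by
    rw [← Nat.card_eq_fintype_card, Nat.card_zpowers]
  rw [hcard] at hn
  have h1 : ∑ y : ↥(Subgroup.zpowers w), (χ : G → ℂ) (y : G) =
      ∑ j : Fin (orderOf w), (χ : G → ℂ) (w ^ (j : ℕ)) := by
    rw [← Equiv.sum_comp (finEquivZPowers hw)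
      (fun y : ↥(Subgroup.zpowers w) => (χ : G → ℂ) (y : G))]
    apply Finset.sum_congr rfl
    intro j _
    rw [finEquivZPowers_apply]
  rw [← Fin.sum_univ_eq_sum_range (fun j => (χ : G → ℂ) (w ^ j)) (orderOf w), ← h1, hn]

theorem sum_range_mul_split {M : Type*} [AddCommMonoid M] (F : ℕ → M) (r p : ℕ) :
    ∑ j ∈ Finset.range (r * p), F j =
      ∑ i ∈ Finset.range r, ∑ k ∈ Finset.range p, F (i * p + k) := by
  induction r with
  | zero => simp
  | succ r ih =>
    rw [add_one_mul, Finset.sum_range_add, ih, Finset.sum_range_succ]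

/-- **Lemma K**: `y` of prime order `p`, `v ≠ 1` a `p'`-element commuting with `y`, `χ` a
nontrivial irreducible character of the simple group `G` with `χ((yv)^j) = -1` whenever
`p ∤ j`. Then `χ(1) ≠ p - 1`. -/
theorem deg_ne_pred [IsSimpleGroup G] (p : ℕ) [hp : Fact p.Prime] (χ : IrrCharacter G)
    (hχ : (χ : G → ℂ) ≠ fun _ => 1) (y v : G) (hy : orderOf y = p) (hv1 : v ≠ 1)
    (hc : Commute y v) (hpv : ¬ p ∣ orderOf v)
    (hval : ∀ j : ℕ, ¬ p ∣ j → (χ : G → ℂ) ((y * v) ^ j) = -1) :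
    charDegree (χ : G → ℂ) ≠ p - 1 := by
  classical
  intro hdeg
  have hpp : p.Prime := hp.out
  have hr0 : 0 < orderOf v := orderOf_pos v
  have hr1 : 1 < orderOf v := by
    rcases Nat.lt_or_ge 1 (orderOf v) with h | h
    · exact h
    · exfalso
      have h1 : orderOf v = 1 := by omega
      exact hv1 (orderOf_eq_one_iff.mp h1)
  have hcop : Nat.Coprime (orderOf y) (orderOf v) := by
    rw [hy]; exact (Nat.Prime.coprime_iff_not_dvd hpp).mpr hpv
  have how : orderOf (y * v) = orderOf v * p := by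
    rw [hc.orderOf_mul_eq_mul_orderOf_of_coprime hcop, hy, mul_comm]
  have hou : orderOf ((y * v) ^ p) = orderOf v := by
    rw [orderOf_pow' (y * v) hpp.ne_zero, how, Nat.gcd_eq_right (dvd_mul_left p (orderOf v)),
      Nat.mul_div_cancel _ hpp.pos]
  obtain ⟨n₁, hn₁⟩ := sum_zpowers_irr χ (y * v)
  obtain ⟨n₂, hn₂⟩ := sum_zpowers_irr χ ((y * v) ^ p)
  rw [how] at hn₁
  rw [hou] at hn₂
  generalize orderOf v = r at hr0 hr1 how hou hn₁ hn₂
  rw [sum_range_mul_split] at hn₁
  have hinner : ∀ i ∈ Finset.range r,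
      ∑ k ∈ Finset.range p, (χ : G → ℂ) ((y * v) ^ (i * p + k)) =
      (χ : G → ℂ) (((y * v) ^ p) ^ i) - ((p : ℂ) - 1) := by
    intro i _
    rw [← Finset.add_sum_erase (Finset.range p) _ (Finset.mem_range.mpr hpp.pos)]
    have h1 : ∀ k ∈ (Finset.range p).erase 0,
        (χ : G → ℂ) ((y * v) ^ (i * p + k)) = -1 := by
      intro k hk
      have hk0 : k ≠ 0 := Finset.ne_of_mem_erase hk
      have hkp : k < p := Finset.mem_range.mp (Finset.mem_of_mem_erase hk)
      apply hval
      intro hdvd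
      have h2 : p ∣ k := (Nat.dvd_add_right (dvd_mul_left p i)).mp hdvd
      have h3 := Nat.le_of_dvd (Nat.pos_of_ne_zero hk0) h2
      omega
    rw [Finset.sum_congr rfl h1, Finset.sum_const,
      Finset.card_erase_of_mem (Finset.mem_range.mpr hpp.pos), Finset.card_range, add_zero,
      ← pow_mul', nsmul_eq_mul, Nat.cast_sub hpp.one_lt.le, Nat.cast_one]
    ring
  rw [Finset.sum_congr rfl hinner, Finset.sum_sub_distrib, Finset.sum_const, Finset.card_range,
    nsmul_eq_mul, hn₂] at hn₁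
  have hrC : (r : ℂ) ≠ 0 := by exact_mod_cast hr0.ne'
  have hkey : (n₂ : ℂ) = (p : ℂ) * n₁ + ((p : ℂ) - 1) := by
    have h := hn₁
    push_cast at h
    apply mul_left_cancel₀ hrC
    linear_combination h
  have hkeyN : n₂ + 1 = p * n₁ + p := by
    have h : ((n₂ + 1 : ℕ) : ℂ) = ((p * n₁ + p : ℕ) : ℂ) := by
      push_cast
      linear_combination hkey
    exact_mod_cast h
  have hbound : ∀ i : ℕ, ‖(χ : G → ℂ) (((y * v) ^ p) ^ i)‖ ≤ ((p - 1 : ℕ) : ℝ) := by
    intro i
    have h1 := Cfsg.Agent.Lib.Helper10.irr_norm_le χ.2 (((y * v) ^ p) ^ i)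
    rw [irr_apply_one, hdeg, Complex.norm_natCast] at h1
    exact h1
  have hre : ∀ i : ℕ, ((χ : G → ℂ) (((y * v) ^ p) ^ i)).re ≤ ((p - 1 : ℕ) : ℝ) := fun i =>
    le_trans (Complex.re_le_norm _) (hbound i)
  have hsumre : ∑ i ∈ Finset.range r, ((χ : G → ℂ) (((y * v) ^ p) ^ i)).re = (r : ℝ) * n₂ := by
    have h := congrArg Complex.re hn₂
    rw [Complex.re_sum] at h
    rw [h]
    simp
  have hn₂le : n₂ ≤ p - 1 := by
    have h1 : ∑ i ∈ Finset.range r, ((χ : G → ℂ) (((y * v) ^ p) ^ i)).re ≤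
        ∑ _i ∈ Finset.range r, ((p - 1 : ℕ) : ℝ) :=
      Finset.sum_le_sum (fun i _ => hre i)
    rw [hsumre, Finset.sum_const, Finset.card_range, nsmul_eq_mul] at h1
    have hr0' : (0 : ℝ) < r := by exact_mod_cast hr0
    have h2 : (n₂ : ℝ) ≤ ((p - 1 : ℕ) : ℝ) := le_of_mul_le_mul_left h1 hr0'
    exact_mod_cast h2
  have hn₂eq : n₂ = p - 1 := by
    have hp1 : 1 ≤ p := hpp.one_lt.le
    rcases Nat.eq_zero_or_pos n₁ with h0 | h0
    · rw [h0] at hkeyN
      omega
    · exfalso
      have h1 : p ≤ p * n₁ := Nat.le_mul_of_pos_right p h0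
      omega
  have hzero : ∀ i ∈ Finset.range r,
      ((p - 1 : ℕ) : ℝ) - ((χ : G → ℂ) (((y * v) ^ p) ^ i)).re = 0 := by
    have hnn : ∀ i ∈ Finset.range r,
        0 ≤ ((p - 1 : ℕ) : ℝ) - ((χ : G → ℂ) (((y * v) ^ p) ^ i)).re :=
      fun i _ => sub_nonneg.mpr (hre i)
    have hs : ∑ i ∈ Finset.range r,
        (((p - 1 : ℕ) : ℝ) - ((χ : G → ℂ) (((y * v) ^ p) ^ i)).re) = 0 := by
      rw [Finset.sum_sub_distrib, hsumre, Finset.sum_const, Finset.card_range, nsmul_eq_mul,
        hn₂eq]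
      ring
    exact (Finset.sum_eq_zero_iff_of_nonneg hnn).mp hs
  have hre1 := hzero 1 (Finset.mem_range.mpr hr1)
  rw [pow_one] at hre1
  have hnorm1 := hbound 1
  rw [pow_one] at hnorm1
  have hχu : (χ : G → ℂ) ((y * v) ^ p) = (χ : G → ℂ) 1 := by
    rw [irr_apply_one, hdeg]
    have hre2 : ((χ : G → ℂ) ((y * v) ^ p)).re = ((p - 1 : ℕ) : ℝ) := by linarith
    have him : ((χ : G → ℂ) ((y * v) ^ p)).im = 0 := by
      have h3 : ‖(χ : G → ℂ) ((y * v) ^ p)‖ ^ 2 =
          ((χ : G → ℂ) ((y * v) ^ p)).re ^ 2 + ((χ : G → ℂ) ((y * v) ^ p)).im ^ 2 := by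
        rw [Complex.sq_norm, Complex.normSq_apply]
        ring
      have h4 : ‖(χ : G → ℂ) ((y * v) ^ p)‖ ^ 2 ≤ ((p - 1 : ℕ) : ℝ) ^ 2 :=
        pow_le_pow_left₀ (norm_nonneg _) hnorm1 2
      have h5 : ((χ : G → ℂ) ((y * v) ^ p)).im ^ 2 ≤ 0 := by
        rw [h3, hre2] at h4
        linarith
      have h6 : ((χ : G → ℂ) ((y * v) ^ p)).im ^ 2 = 0 := le_antisymm h5 (sq_nonneg _)
      exact pow_eq_zero_iff (two_ne_zero) |>.mp h6
    apply Complex.ext
    · rw [hre2]
      simp
    · rw [him]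
      simp
  have hu1 : (y * v) ^ p = 1 := eq_one_of_apply_eq χ hχ _ hχu
  rw [← orderOf_eq_one_iff, hou] at hu1
  omega

/-- Lemma K in the setting of `core_full`. -/
theorem deg_ne_pred_of_card_centralizer [IsSimpleGroup G] (p : ℕ) [hp : Fact p.Prime]
    (P : Sylow p G) (hP : Nat.card (P : Subgroup G) = p)
    (hC : Nat.card ↥(Subgroup.centralizer ((P : Subgroup G) : Set G)) ≠ p)
    (χ : IrrCharacter G) (hχ : (χ : G → ℂ) ≠ fun _ => 1)
    (hval : ∀ y w : G, y ∈ (P : Subgroup G) → y ≠ 1 → Commute y w → ¬ p ∣ orderOf w →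
      (χ : G → ℂ) (y * w) = -1) :
    charDegree (χ : G → ℂ) ≠ p - 1 := by
  classical
  have hpp : p.Prime := hp.out
  have hcomm := Cfsg.Agent.Lib.Helper7.comm_of_card_prime (P : Subgroup G) hP
  have hPC : (P : Subgroup G) ≤ Subgroup.centralizer ((P : Subgroup G) : Set G) := by
    intro x hx
    rw [Subgroup.mem_centralizer_iff]
    intro z hz
    exact hcomm z hz x hx
  have hdvd : p ∣ Nat.card ↥(Subgroup.centralizer ((P : Subgroup G) : Set G)) := by
    have h := Subgroup.card_dvd_of_le hPC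
    rwa [hP] at h
  obtain ⟨c, hc⟩ := hdvd
  have hc1 : c ≠ 1 := by
    rintro rfl
    exact hC (by rw [hc, mul_one])
  have hCG : Nat.card ↥(Subgroup.centralizer ((P : Subgroup G) : Set G)) ∣ Nat.card G :=
    Subgroup.card_subgroup_dvd_card _
  have hqp : c.minFac.Prime := Nat.minFac_prime hc1
  have hqc : c.minFac ∣ c := Nat.minFac_dvd c
  have hqne : c.minFac ≠ p := by
    intro hqe
    have hpc : p ∣ c := by rw [← hqe]; exact hqc
    have h1 : p * p ∣ Nat.card G := by
      refine dvd_trans ?_ hCG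
      rw [hc]
      exact Nat.mul_dvd_mul_left p hpc
    have h2 := (P : Subgroup G).card_mul_index
    rw [hP] at h2
    rw [← h2] at h1
    have h3 : p ∣ (P : Subgroup G).index := (Nat.mul_dvd_mul_iff_left hpp.pos).mp h1
    exact P.not_dvd_index h3
  haveI : Fact c.minFac.Prime := ⟨hqp⟩
  have hqC : c.minFac ∣ Nat.card ↥(Subgroup.centralizer ((P : Subgroup G) : Set G)) := by
    rw [hc]; exact dvd_mul_of_dvd_right hqc p
  obtain ⟨v0, hv0⟩ := exists_prime_orderOf_dvd_card' (G := ↥(Subgroup.centralizer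
    ((P : Subgroup G) : Set G))) c.minFac hqC
  have hvo : orderOf (v0 : G) = c.minFac := by rw [Subgroup.orderOf_coe]; exact hv0
  have hnt : Nontrivial ↥(P : Subgroup G) := by
    rw [← Finite.one_lt_card_iff_nontrivial, hP]
    exact hpp.one_lt
  obtain ⟨y0, hy0⟩ := exists_ne (1 : ↥(P : Subgroup G))
  have hy1 : (y0 : G) ≠ 1 := fun h => hy0 (Subtype.ext h)
  have hyo : orderOf (y0 : G) = p :=
    orderOf_eq_of_card_prime p (P : Subgroup G) hP y0 y0.2 hy1
  have hcyv : Commute (y0 : G) (v0 : G) := (Subgroup.mem_centralizer_iff.mp v0.2) y0 y0.2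
  have hpq : ¬ p ∣ c.minFac := fun h => hqne ((Nat.prime_dvd_prime_iff_eq hpp hqp).mp h).symm
  have hv1 : (v0 : G) ≠ 1 := by
    intro h
    rw [h, orderOf_one] at hvo
    exact hqp.one_lt.ne hvo
  have hpv : ¬ p ∣ orderOf (v0 : G) := by rw [hvo]; exact hpq
  refine deg_ne_pred p χ hχ (y0 : G) (v0 : G) hyo hv1 hcyv hpv ?_
  intro j hj
  rw [hcyv.mul_pow]
  apply hval
  · exact Subgroup.pow_mem _ y0.2 j
  · intro h
    apply hj
    rw [← hyo]
    exact orderOf_dvd_of_pow_eq_one h
  · exact hcyv.pow_pow j j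
  · intro h
    apply hpq
    rw [← hvo]
    exact dvd_trans h (orderOf_pow_dvd j)

/-- The degree equation for `|N_G(P) : C_G(P)| = 2`. -/
theorem core_two (p : ℕ) [hp : Fact p.Prime] (h5 : 5 ≤ p) (P : Sylow p G)
    (hP : Nat.card (P : Subgroup G) = p)
    (hCN : (Subgroup.centralizer ((P : Subgroup G) : Set G)).relIndex
      (Subgroup.normalizer ((P : Subgroup G) : Set G)) = 2) :
    ∃ (χ η : IrrCharacter G) (a : ℤ), (a = 1 ∨ a = -1) ∧ ((χ : G → ℂ) ≠ fun _ => 1) ∧
      (p : ℤ) ∣ (charDegree (χ : G → ℂ) : ℤ) - a ∧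
      ((charDegree (η : G → ℂ) : ℤ) = 1 + a * (charDegree (χ : G → ℂ) : ℤ) ∨
        (charDegree (η : G → ℂ) : ℤ) = -(1 + a * (charDegree (χ : G → ℂ) : ℤ))) ∧
      (∀ y w : G, y ∈ (P : Subgroup G) → y ≠ 1 → Commute y w → ¬ p ∣ orderOf w →
        (χ : G → ℂ) (y * w) = (a : ℂ)) := by
  classical
  obtain ⟨X, a, η, d, δ, hδ, hXc, hXne, ha0, hsq, hcong, hdeg, hval⟩ :=
    core_full p P hP 2 (by norm_num) (by omega) hCN
  have ht2 : (2 : ℤ) ≤ (((p - 1) / 2 : ℕ) : ℤ) := by
    have h : 2 ≤ (p - 1) / 2 := by omega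
    exact_mod_cast h
  generalize (((p - 1) / 2 : ℕ) : ℤ) = t at hsq hdeg ht2
  rw [Nat.cast_ofNat] at hsq
  have hf0 : (0 : ℤ) ≤ (charDegree (η : G → ℂ) : ℤ) := Int.natCast_nonneg _
  have hX1 : X.card ≤ 1 := by omega
  have hsum0 : 0 ≤ ∑ χ ∈ X, a χ ^ 2 := Finset.sum_nonneg (fun χ _ => sq_nonneg _)
  have hd2 : d ^ 2 ≤ 2 := by
    have h2 : 0 ≤ (t - 2) * d ^ 2 := mul_nonneg (by linarith) (sq_nonneg d)
    nlinarith [sq_nonneg (d - δ)]
  have hd1 : -1 ≤ d := by nlinarith
  have hd1' : d ≤ 1 := by nlinarith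
  rcases Nat.eq_zero_or_pos X.card with hX0 | hXpos
  · exfalso
    rw [Finset.card_eq_zero] at hX0
    rw [hX0, Finset.sum_empty] at hsq hdeg
    rcases hδ with rfl | rfl
    · interval_cases d
      · linarith
      · linarith
      · have ht : t = 3 := by linarith
        rw [ht] at hdeg
        omega
    · interval_cases d
      · have ht : t = 3 := by linarith
        rw [ht] at hdeg
        omega
      · linarith
      · linarith
  · have hX1' : X.card = 1 := by omega
    obtain ⟨χ, rfl⟩ := Finset.card_eq_one.mp hX1'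
    rw [Finset.sum_singleton] at hsq hdeg
    have hχmem : χ ∈ ({χ} : Finset (IrrCharacter G)) := Finset.mem_singleton_self χ
    have ha0' := ha0 χ hχmem
    have hapos : 1 ≤ a χ ^ 2 := by
      have h1 := sq_nonneg (a χ)
      have h2 : a χ ^ 2 ≠ 0 := pow_ne_zero 2 ha0'
      omega
    refine ⟨χ, η, a χ, ?_, hXne χ hχmem, hcong χ hχmem, ?_, hval χ hχmem⟩
    · apply pm_one_of_sq_le (a χ) ha0'
      have h2 : 0 ≤ (t - 1) * d ^ 2 := mul_nonneg (by linarith) (sq_nonneg d)
      nlinarith [sq_nonneg (d - δ)]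
    · rcases hδ with rfl | rfl
      · interval_cases d
        · exfalso
          linarith
        · left
          linarith
        · have ht : t = 2 := by linarith
          rw [ht] at hdeg
          right
          linarith
      · interval_cases d
        · have ht : t = 2 := by linarith
          rw [ht] at hdeg
          left
          linarith
        · right
          linarith
        · exfalso
          linarith

/-- data on `|N_G(P) : C_G(P)|` for a Sylow subgroup of prime order in a simple group -/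
theorem relIndex_facts [IsSimpleGroup G] (hG : ¬ IsMulCommutative G) {p : ℕ} [hp : Fact p.Prime]
    (P : Sylow p G) (hP : Nat.card (P : Subgroup G) = p) {k : ℕ}
    (hk : Nat.card ↥(Subgroup.normalizer ((P : Subgroup G) : Set G)) = k) :
    (Subgroup.centralizer ((P : Subgroup G) : Set G)).relIndex
        (Subgroup.normalizer ((P : Subgroup G) : Set G)) ∣ Nat.gcd (k / p) (p - 1) ∧
      (Subgroup.centralizer ((P : Subgroup G) : Set G)).relIndex
        (Subgroup.normalizer ((P : Subgroup G) : Set G)) ≠ 1 ∧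
      Nat.card ↥(Subgroup.centralizer ((P : Subgroup G) : Set G)) *
        (Subgroup.centralizer ((P : Subgroup G) : Set G)).relIndex
          (Subgroup.normalizer ((P : Subgroup G) : Set G)) = k := by
  have hpp : p.Prime := hp.out
  have hcomm := Cfsg.Agent.Lib.Helper7.comm_of_card_prime (P : Subgroup G) hP
  have h1 := Cfsg.Agent.Lib.Helper7.relIndex_centralizer_normalizer_dvd_of_prime
    (P : Subgroup G) hP
  have h3 := Cfsg.Agent.Lib.Helper7.card_centralizer_mul_relIndex (P : Subgroup G)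
  rw [hk] at h3
  have hPC : (P : Subgroup G) ≤ Subgroup.centralizer ((P : Subgroup G) : Set G) := by
    intro x hx
    rw [Subgroup.mem_centralizer_iff]
    intro z hz
    exact hcomm z hz x hx
  have h4 : p ∣ Nat.card ↥(Subgroup.centralizer ((P : Subgroup G) : Set G)) := by
    have h := Subgroup.card_dvd_of_le hPC
    rwa [hP] at h
  refine ⟨Nat.dvd_gcd ?_ h1, ?_, h3⟩
  · obtain ⟨c, hc'⟩ := h4
    rw [← h3, hc', mul_assoc, Nat.mul_div_cancel_left _ hpp.pos]
    exact dvd_mul_left _ _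
  · intro h
    exact Cfsg.Agent.Lib.Helper7.not_normalizer_le_centralizer hG P
      (by rw [hP]; exact hpp.one_lt) hcomm (Subgroup.relIndex_eq_one.mp h)

/-- Boolean criterion: no pair of degrees `f`, `f ± 1` as required by `core_two`. -/
def blCheck2 (N p : ℕ) (K : Bool) : Bool :=
  (Cfsg.Agent.Lib.Helper8.OrdSieve.divs N).all fun f =>
    decide (f = 1) || ((decide ((f - 1) % p ≠ 0) || decide (N % (f + 1) ≠ 0)) &&
      (decide ((f + 1) % p ≠ 0) || decide (N % (f - 1) ≠ 0) || (K && decide (f + 1 = p))))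

/-- No simple group with a Sylow subgroup of prime order `p ≥ 5`, `|N : C| = 2`, passing the
Boolean check. -/
theorem kill_two [IsSimpleGroup G] (hG : ¬ IsMulCommutative G) (p : ℕ) [hp : Fact p.Prime]
    (h5 : 5 ≤ p) (P : Sylow p G) (hP : Nat.card (P : Subgroup G) = p)
    (hCN : (Subgroup.centralizer ((P : Subgroup G) : Set G)).relIndex
      (Subgroup.normalizer ((P : Subgroup G) : Set G)) = 2) (K : Bool)
    (hK : K = true → Nat.card ↥(Subgroup.centralizer ((P : Subgroup G) : Set G)) ≠ p)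
    (hcheck : blCheck2 (Nat.card G) p K = true) : False := by
  classical
  have hpp : p.Prime := hp.out
  have hperf := commutator_eq_top_of_simple hG
  obtain ⟨χ, η, a, ha, hχ1, hcong, hdeg, hval⟩ := core_two p h5 P hP hCN
  have hfd : charDegree (χ : G → ℂ) ∣ Nat.card G := irr_charDegree_dvd_card χ
  have hgd : charDegree (η : G → ℂ) ∣ Nat.card G := irr_charDegree_dvd_card η
  have hf1 : charDegree (χ : G → ℂ) ≠ 1 := fun h => hχ1 (eq_one_of_charDegree_one hperf χ h)
  have hfpos : 0 < charDegree (χ : G → ℂ) := irr_charDegree_pos χ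
  have hgpos : 0 < charDegree (η : G → ℂ) := irr_charDegree_pos η
  have hmem := Cfsg.Agent.Lib.Helper8.OrdSieve.mem_divs Nat.card_pos hfd
  unfold blCheck2 at hcheck
  rw [List.all_eq_true] at hcheck
  have hcf := hcheck _ hmem
  simp only [Bool.or_eq_true, Bool.and_eq_true, decide_eq_true_eq] at hcf
  rcases hcf with h | ⟨h1, h2⟩
  · exact hf1 h
  · rcases ha with rfl | rfl
    · -- a = 1
      have hmod : (charDegree (χ : G → ℂ) - 1) % p = 0 := by
        have h3 : ((p : ℕ) : ℤ) ∣ ((charDegree (χ : G → ℂ) - 1 : ℕ) : ℤ) := by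
          rw [Nat.cast_sub hfpos]
          exact_mod_cast hcong
        exact Nat.mod_eq_zero_of_dvd (Int.natCast_dvd_natCast.mp h3)
      have hg : charDegree (η : G → ℂ) = charDegree (χ : G → ℂ) + 1 := by
        rcases hdeg with h | h
        · omega
        · omega
      rcases h1 with h1 | h1
      · exact h1 hmod
      · apply h1
        rw [← hg]
        exact Nat.mod_eq_zero_of_dvd hgd
    · -- a = -1
      have hmod : (charDegree (χ : G → ℂ) + 1) % p = 0 := by
        have h3 : ((p : ℕ) : ℤ) ∣ ((charDegree (χ : G → ℂ) + 1 : ℕ) : ℤ) := by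
          push_cast
          have h4 : (charDegree (χ : G → ℂ) : ℤ) - (-1) = (charDegree (χ : G → ℂ) : ℤ) + 1 := by
            ring
          rw [← h4]
          exact hcong
        exact Nat.mod_eq_zero_of_dvd (Int.natCast_dvd_natCast.mp h3)
      have hg : charDegree (η : G → ℂ) = charDegree (χ : G → ℂ) - 1 := by
        rcases hdeg with h | h
        · omega
        · omega
      rcases h2 with (h2 | h2) | ⟨hK1, hfp⟩
      · exact h2 hmod
      · apply h2
        rw [← hg]
        exact Nat.mod_eq_zero_of_dvd hgd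
      · refine deg_ne_pred_of_card_centralizer p P hP (hK hK1) χ hχ1 ?_ (by omega)
        intro y w hy hy1 hyw hw
        rw [hval y w hy hy1 hyw hw]
        simp

/-- No simple group of order `p * M` (`p ∤ M`, `p ≥ 5`) if for every admissible Sylow count
`n` one has `gcd (M / n, p - 1) = 2`, and the Boolean check holds. -/
theorem no_simple_two [IsSimpleGroup G] (hG : ¬ IsMulCommutative G) {p M : ℕ} (hp : p.Prime)
    (h5 : 5 ≤ p) (hM : 1 < M) (hN : Nat.card G = p * M) (hpM : ¬ p ∣ M) (K : Bool)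
    (hgcd : ((Cfsg.Agent.Lib.Helper8.OrdSieve.npList p 1 M).all fun n =>
      decide (Nat.gcd (M / n) (p - 1) = 2) && (!K || decide (M ≠ 2 * n))) = true)
    (hcheck : blCheck2 (p * M) p K = true) : False := by
  haveI := Fact.mk hp
  obtain ⟨P⟩ : Nonempty (Sylow p G) := inferInstance
  obtain ⟨hPc, hPi⟩ := Cfsg.Agent.Lib.Helper7.sylow_card_index_of_exact hN hpM P
  have hN' : Nat.card G = p ^ 1 * M := by rw [hN, pow_one]
  have hmem := Cfsg.Agent.Lib.Helper8.OrdSieve.sylow_count_mem hG hp (le_refl 1) hM hN' hpM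
  have hnM := (Cfsg.Agent.Lib.Helper8.OrdSieve.sylow_count_facts hp (le_refl 1) hM hN' hpM).1
  rw [List.all_eq_true] at hgcd
  have h1 := hgcd _ hmem
  simp only [Bool.and_eq_true, decide_eq_true_eq, Bool.or_eq_true, Bool.not_eq_true'] at h1
  obtain ⟨hg, hK⟩ := h1
  have hmulN := Cfsg.Agent.Lib.Helper7.card_sylow_mul_card_normalizer P
  have hn0 : 0 < Nat.card (Sylow p G) := Nat.card_pos
  generalize Nat.card (Sylow p G) = n at hmem hnM hg hK hmulN hn0
  obtain ⟨e, he⟩ := hnM
  have hk : Nat.card ↥(Subgroup.normalizer ((P : Subgroup G) : Set G)) = p * e := by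
    rw [hN, he] at hmulN
    apply Nat.eq_of_mul_eq_mul_left hn0
    rw [hmulN]
    ring
  obtain ⟨hd, hne, hmul⟩ := relIndex_facts hG P hPc hk
  have he' : M / n = e := by rw [he, Nat.mul_div_cancel_left _ hn0]
  rw [Nat.mul_div_cancel_left _ hp.pos, ← he', hg] at hd
  have hm2 : (Subgroup.centralizer ((P : Subgroup G) : Set G)).relIndex
      (Subgroup.normalizer ((P : Subgroup G) : Set G)) = 2 := by
    rcases (Nat.dvd_prime Nat.prime_two).mp hd with h | h
    · exact absurd h hne
    · exact h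
  refine kill_two hG p h5 P hPc hm2 K ?_ (by rw [hN]; exact hcheck)
  intro hK1 hC
  rw [hm2, hC] at hmul
  have he2 : e = 2 := by
    have h := Nat.eq_of_mul_eq_mul_left hp.pos hmul
    omega
  rcases hK with hK | hK
  · rw [hK] at hK1
    exact Bool.noConfusion hK1
  · apply hK
    rw [he, he2]
    ring

end Cfsg.Agent.Lib.Helper5.BLFull
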