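/-
S3282 batch 2 (characters; sub-planner helper1) leaves T3 `isGenChar_theta`, `isClassFunction_theta`;
statements frozen in `notes/S3282_leaves2.lean`. (helper5)
-/
import Mathlib
import Cfsg.Prelude.Def_Characters
import Cfsg.Agent.Lib.Helper24.BSWDefs
import Cfsg.Agent.Lib.Helper1.BSWCDefs
import Cfsg.Agent.Lib.Helper10.PowTwistChar
import Cfsg.Agent.Lib.Helper2.Artin
import Cfsg.Agent.Lib.Helper6.LinChar
import Cfsg.Agent.Lib.Lead.CharInd
import Cfsg.Agent.Lib.Lead.CharDecomp

set_option autoImplicit false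
open Cfsg Cfsg.Agent.Lib.Helper24.BSW Cfsg.Agent.CharLib Cfsg.Agent.Lib.Helper1.BSWC
open scoped ComplexConjugate

namespace Cfsg.Agent.Lib.Helper5.BSWCT3

universe u

variable {G : Type u} [Group G] [Fintype G]

/-- **T3** `Θ_μ` is a generalized character and a class function. -/
theorem isGenChar_theta (K : Subgroup G) (μ : ↥K →* ℂˣ) : IsGeneralizedCharacter G (theta K μ) := by
  unfold theta
  apply Cfsg.Agent.Lib.Helper2.IsGenChar.indFun
  exact ⟨1, fun x => ((μ x : ℂˣ) : ℂ), Cfsg.Agent.CharLib.isCharacter_one,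
    Cfsg.Agent.Lib.Helper6.isCharacter_of_hom μ, rfl⟩
theorem isClassFunction_theta (K : Subgroup G) (μ : ↥K →* ℂˣ) : IsClassFunction G (theta K μ) := by
  unfold theta
  exact Cfsg.Agent.CharLib.indFun_isClassFunction K _

end Cfsg.Agent.Lib.Helper5.BSWCT3
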