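/-
S3282 (Brauer-Suzuki-Wall, abstract form; planner helper24) leaf B1 `card_centralizer`, with the
shared description of `K ⊔ <s>` (`mem_sup_cases`). (helper5; statement frozen in `notes/S3282_leaves.lean`.)
-/
import Mathlib
import Cfsg.Prelude.Def_Characters
import Cfsg.Agent.Lib.Helper24.BSWDefs

set_option autoImplicit false
open Cfsg Cfsg.Agent.Lib.Helper24.BSW

namespace Cfsg.Agent.Lib.Helper5.BSWB1

variable {G : Type*} [Group G]

theorem s_mul_s {t s : G} {K : Subgroup G} (h : Hyp t s K) : s * s = 1 := by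
  have : s ^ 2 = 1 := by rw [← h.hs]; exact pow_orderOf_eq_one s
  rwa [pow_two] at this

theorem s_inv {t s : G} {K : Subgroup G} (h : Hyp t s K) : s⁻¹ = s :=
  inv_eq_of_mul_eq_one_right (s_mul_s h)

theorem t_mul_t {t s : G} {K : Subgroup G} (h : Hyp t s K) : t * t = 1 := by
  have : t ^ 2 = 1 := by rw [← h.ht]; exact pow_orderOf_eq_one t
  rwa [pow_two] at this

theorem comm_K {t s : G} {K : Subgroup G} (h : Hyp t s K) {a b : G} (ha : a ∈ K) (hb : b ∈ K) :
    a * b = b * a := by
  have := h.hKab.is_comm.comm ⟨a, ha⟩ ⟨b, hb⟩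
  exact congrArg Subtype.val this

/-- `s x s = x⁻¹` for `x ∈ K`. -/
theorem s_conj {t s : G} {K : Subgroup G} (h : Hyp t s K) {x : G} (hx : x ∈ K) : s * x * s = x⁻¹ := by
  have := h.hinv x hx
  rwa [s_inv h] at this

/-- the subgroup `K ∪ K s`. -/
def KS {t s : G} {K : Subgroup G} (h : Hyp t s K) : Subgroup G where
  carrier := {g | g ∈ K ∨ g * s ∈ K}
  one_mem' := Or.inl K.one_mem
  mul_mem' := by
    intro a b ha hb
    rcases ha with ha | ha <;> rcases hb with hb | hb
    · exact Or.inl (K.mul_mem ha hb)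
    · right
      rw [mul_assoc]
      exact K.mul_mem ha hb
    · right
      have e : a * b * s = (a * s) * (s * b * s) := by
        calc a * b * s = a * (s * s) * b * s := by rw [s_mul_s h, mul_one]
          _ = (a * s) * (s * b * s) := by simp only [mul_assoc]
      rw [e, s_conj h hb]
      exact K.mul_mem ha (K.inv_mem hb)
    · left
      have e : a * b = (a * s) * (s * (b * s) * s) := by
        calc a * b = a * (s * s) * b * (s * s) := by rw [s_mul_s h, mul_one, mul_one]
          _ = (a * s) * (s * (b * s) * s) := by simp only [mul_assoc]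
      rw [e, s_conj h hb]
      exact K.mul_mem ha (K.inv_mem hb)
  inv_mem' := by
    intro a ha
    rcases ha with ha | ha
    · exact Or.inl (K.inv_mem ha)
    · right
      have e : a⁻¹ * s = (s * (a * s) * s)⁻¹ := by
        rw [mul_inv_rev, mul_inv_rev, mul_inv_rev, s_inv h]
        calc a⁻¹ * s = (s * s) * a⁻¹ * s := by rw [s_mul_s h, one_mul]
          _ = s * (s * a⁻¹ * s) := by simp only [mul_assoc]
      rw [e, s_conj h ha, inv_inv]
      exact ha

theorem mem_sup_cases {t s : G} {K : Subgroup G} (h : Hyp t s K) :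
    ∀ g ∈ K ⊔ Subgroup.zpowers s, g ∈ K ∨ g * s ∈ K := by
  have hle : K ⊔ Subgroup.zpowers s ≤ KS h := by
    apply sup_le
    · intro x hx
      exact Or.inl hx
    · rw [Subgroup.zpowers_le]
      right
      rw [s_mul_s h]
      exact K.one_mem
  intro g hg
  exact hle hg

/-- **B1** `|C(t)| = 2|K|`, `|K|` is even. -/
theorem card_centralizer [Finite G] {t s : G} {K : Subgroup G} (h : Hyp t s K) :
    Nat.card (Subgroup.centralizer ({t} : Set G)) = 2 * Nat.card K ∧ Even (Nat.card K) := by
  constructor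
  · rw [← h.hH]
    have hKle : K ≤ K ⊔ Subgroup.zpowers s := le_sup_left
    have hsle : s ∈ K ⊔ Subgroup.zpowers s :=
      (le_sup_right : Subgroup.zpowers s ≤ K ⊔ Subgroup.zpowers s) (Subgroup.mem_zpowers s)
    have hidx : (K.subgroupOf (K ⊔ Subgroup.zpowers s)).index = 2 := by
      rw [Subgroup.index_eq_two_iff]
      refine ⟨⟨s, hsle⟩, fun b => ?_⟩
      rw [Subgroup.mem_subgroupOf, Subgroup.mem_subgroupOf, Subgroup.coe_mul]
      rcases mem_sup_cases h b.1 b.2 with hb | hb
      · right
        refine ⟨hb, fun hbs => h.hsK ?_⟩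
        have e : s = (b.1)⁻¹ * (b.1 * s) := by group
        rw [e]
        exact K.mul_mem (K.inv_mem hb) hbs
      · left
        refine ⟨hb, fun hb' => h.hsK ?_⟩
        have e : s = (b.1)⁻¹ * (b.1 * s) := by group
        rw [e]
        exact K.mul_mem (K.inv_mem hb') hb
    have h1 := Subgroup.card_mul_index (K.subgroupOf (K ⊔ Subgroup.zpowers s))
    rw [hidx] at h1
    have h2 : Nat.card (K.subgroupOf (K ⊔ Subgroup.zpowers s)) = Nat.card K :=
      Nat.card_congr (Subgroup.subgroupOfEquivOfLe hKle).toEquiv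
    rw [h2] at h1
    rw [← h1, mul_comm]
  · rw [even_iff_two_dvd, ← h.ht]
    exact Subgroup.orderOf_dvd_natCard K h.htK

end Cfsg.Agent.Lib.Helper5.BSWB1
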