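/-
S3282 (Brauer-Suzuki-Wall, abstract form; planner helper24) leaf B2 `eq_t_of_mem`.
(helper5; statement frozen in `notes/S3282_leaves.lean`.)
-/
import Mathlib
import Cfsg.Prelude.Def_Characters
import Cfsg.Agent.Lib.Helper24.BSWDefs
import Cfsg.Agent.Lib.Helper5.BSWB1

set_option autoImplicit false
open Cfsg Cfsg.Agent.Lib.Helper24.BSW

namespace Cfsg.Agent.Lib.Helper5.BSWB2

variable {G : Type*} [Group G] [Finite G]

omit [Finite G] in
/-- an element of `<t>` is `1` or `t`. -/
theorem mem_zpowers_t {t s : G} {K : Subgroup G} (h : Hyp t s K) {x : G}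
    (hx : x ∈ Subgroup.zpowers t) : x = 1 ∨ x = t := by
  obtain ⟨j, rfl⟩ := Subgroup.mem_zpowers_iff.mp hx
  have h2 : t ^ (j % ((orderOf t : ℕ) : ℤ)) = t ^ j := zpow_mod_orderOf t j
  rw [h.ht] at h2
  rw [← h2]
  rcases Int.emod_two_eq_zero_or_one j with h0 | h0
  · left
    rw [show ((2 : ℕ) : ℤ) = 2 from rfl, h0, zpow_zero]
  · right
    rw [show ((2 : ℕ) : ℤ) = 2 from rfl, h0, zpow_one]

/-- **B2** `t` is the only involution of `K`. -/
theorem eq_t_of_mem {t s : G} {K : Subgroup G} (h : Hyp t s K) :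
    ∀ x ∈ K, orderOf x = 2 → x = t := by
  intro x hx hx2
  have hxx : x * x = 1 := by
    have : x ^ 2 = 1 := by rw [← hx2]; exact pow_orderOf_eq_one x
    rwa [pow_two] at this
  have hxinv : x⁻¹ = x := inv_eq_of_mul_eq_one_right hxx
  have hsx : s * x * s⁻¹ = x := by rw [h.hinv x hx, hxinv]
  have hxC : x ∈ Subgroup.centralizer ({s} : Set G) := by
    rw [Subgroup.mem_centralizer_iff]
    intro y hy
    rw [Set.mem_singleton_iff] at hy
    subst hy
    calc y * x = y * x * y⁻¹ * y := by group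
      _ = x * y := by rw [hsx]
  have hxt : x ∈ Subgroup.zpowers t := by
    rw [← h.hCK]
    exact ⟨hx, hxC⟩
  rcases mem_zpowers_t h hxt with h1 | h1
  · exfalso
    rw [h1, orderOf_one] at hx2
    norm_num at hx2
  · exact h1

end Cfsg.Agent.Lib.Helper5.BSWB2
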