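/-
S3282 (Brauer-Suzuki-Wall, abstract form; planner helper24) leaf B3 `mem_cent_cases`.
(helper5; statement frozen in `notes/S3282_leaves.lean`.)
-/
import Mathlib
import Cfsg.Prelude.Def_Characters
import Cfsg.Agent.Lib.Helper24.BSWDefs
import Cfsg.Agent.Lib.Helper5.BSWB1

set_option autoImplicit false
open Cfsg Cfsg.Agent.Lib.Helper24.BSW

namespace Cfsg.Agent.Lib.Helper5.BSWB3

open Cfsg.Agent.Lib.Helper5.BSWB1

variable {G : Type*} [Group G] [Finite G]

/-- **B3** an element of `C(t)` lies in `K` or is an involution inverting `K`. -/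
theorem mem_cent_cases {t s : G} {K : Subgroup G} (h : Hyp t s K) :
    ∀ g ∈ Subgroup.centralizer ({t} : Set G),
      g ∈ K ∨ (g ∉ K ∧ orderOf g = 2 ∧ ∀ x ∈ K, g * x * g⁻¹ = x⁻¹) := by
  intro g hg
  rw [← h.hH] at hg
  by_cases hgK : g ∈ K
  · exact Or.inl hgK
  · right
    have hy : g * s ∈ K := (mem_sup_cases h g hg).resolve_left hgK
    have hgeq : g = (g * s) * s := by rw [mul_assoc, s_mul_s h, mul_one]
    have hgg : g * g = 1 := by
      calc g * g = g * (s * s) * g * (s * s) := by rw [s_mul_s h, mul_one, mul_one]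
        _ = (g * s) * (s * (g * s) * s) := by simp only [mul_assoc]
        _ = 1 := by rw [s_conj h hy, mul_inv_cancel]
    have hg1 : g ≠ 1 := fun h1 => hgK (h1 ▸ K.one_mem)
    have : Fact (Nat.Prime 2) := ⟨Nat.prime_two⟩
    refine ⟨hgK, orderOf_eq_prime (by rw [pow_two]; exact hgg) hg1, ?_⟩
    intro x hx
    have hginv : g⁻¹ = g := inv_eq_of_mul_eq_one_right hgg
    rw [hginv]
    calc g * x * g = g * (s * s) * x * (s * s) * g * (s * s) := by
            rw [s_mul_s h, mul_one, mul_one, mul_one]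
      _ = (g * s) * (s * x * s) * (s * (g * s) * s) := by simp only [mul_assoc]
      _ = (g * s) * x⁻¹ * (g * s)⁻¹ := by rw [s_conj h hx, s_conj h hy]
      _ = x⁻¹ := by
            rw [comm_K h hy (K.inv_mem hx), mul_assoc, mul_inv_cancel, mul_one]

end Cfsg.Agent.Lib.Helper5.BSWB3
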