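/-
S3282 (Brauer-Suzuki-Wall, abstract form; planner helper24) leaf B4 `conj_mem_cent`.
(helper5; statement frozen in `notes/S3282_leaves.lean`.)
-/
import Mathlib
import Cfsg.Prelude.Def_Characters
import Cfsg.Agent.Lib.Helper24.BSWDefs

set_option autoImplicit false
open Cfsg Cfsg.Agent.Lib.Helper24.BSW

namespace Cfsg.Agent.Lib.Helper5.BSWB4

variable {G : Type*} [Group G] [Finite G]

/-- **B4** (T.I.) if `1 ≠ y ∈ K` and `g y g⁻¹ ∈ K` then `g ∈ C(t)`. -/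
theorem conj_mem_cent {t s : G} {K : Subgroup G} (h : Hyp t s K) :
    ∀ g : G, ∀ y ∈ K, y ≠ 1 → g * y * g⁻¹ ∈ K → g ∈ Subgroup.centralizer ({t} : Set G) := by
  intro g y hy hy1 hgy
  by_contra hg
  have hbot := h.hTI g hg
  have hmem : g * y * g⁻¹ ∈ K ⊓ K.map (MulAut.conj g).toMonoidHom :=
    ⟨hgy, ⟨y, hy, rfl⟩⟩
  rw [hbot, Subgroup.mem_bot] at hmem
  apply hy1
  have e : y = g⁻¹ * (g * y * g⁻¹) * g := by group
  rw [e, hmem]
  group

end Cfsg.Agent.Lib.Helper5.BSWB4
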