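/-
S3282 batch 2 (characters; sub-planner helper1) leaf E3 `test_eq` in `_of` form over E1, E2, T2, T5;
statement frozen in `notes/S3282_leaves2.lean`. (helper5)
-/
import Mathlib
import Cfsg.Prelude.Def_Characters
import Cfsg.Agent.Lib.Helper24.BSWDefs
import Cfsg.Agent.Lib.Helper1.BSWCDefs
import Cfsg.Agent.Lib.Helper10.PowTwistChar
import Cfsg.Agent.Lib.Helper24.IrrFacts

set_option autoImplicit false
open Cfsg Cfsg.Agent.Lib.Helper24.BSW Cfsg.Agent.CharLib Cfsg.Agent.Lib.Helper1.BSWC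
open scoped ComplexConjugate

namespace Cfsg.Agent.Lib.Helper5.BSWCE3Of

universe u

variable {G : Type u} [Group G] [Fintype G]

/-- **E3** in `_of` form: `hE1` = E1, `hE2` = E2, `hT2`/`hT2'` = T2, `hT5` = T5 (all at this `μ`). -/
theorem test_eq_of {t : G} {K : Subgroup G} [Fintype (IrrCharacter G)]
    (μ : ↥K →* ℂˣ)
    (hE1 : ∀ g ∈ KK K, pairCount g = Nat.card K)
    (hE2 : ∀ z : G, (pairCount z : ℂ) * (2 * (Nat.card K : ℂ)) ^ 2 =
      (Nat.card G : ℂ) * ∑ χ : IrrCharacter G,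
        (χ : G → ℂ) t * (χ : G → ℂ) t * (χ : G → ℂ) z⁻¹ / (χ : G → ℂ) 1)
    (hT2 : ∀ y ∈ RR K, theta K μ y = 0) (hT2' : theta K μ 1 = 0)
    (hT5 : classInner (theta K μ) (1 : G → ℂ) = 1) :
    4 * (Nat.card K : ℂ) ^ 3 = (Nat.card G : ℂ) * ∑ χ : IrrCharacter G,
        mult K μ (χ : G → ℂ) * ((χ : G → ℂ) t) ^ 2 / (χ : G → ℂ) 1 := by
  classical
  have hN0 : (Nat.card G : ℂ) ≠ 0 := by
    exact_mod_cast (Nat.card_pos (α := G)).ne'
  have hA : ∀ z : G, (pairCount z : ℂ) * theta K μ z = (Nat.card K : ℂ) * theta K μ z := by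
    intro z
    by_cases hz : z = 1
    · rw [hz, hT2', mul_zero, mul_zero]
    · by_cases hx : ∃ x : G, x * z * x⁻¹ ∈ K
      · have hzK : z ∈ KK K := ⟨hz, hx⟩
        rw [hE1 z hzK]
      · have hzR : z ∈ RR K := ⟨hz, fun x hx' => hx ⟨x, hx'⟩⟩
        rw [hT2 z hzR, mul_zero, mul_zero]
  have hB : ∑ z : G, theta K μ z = (Nat.card G : ℂ) := by
    have h5 := hT5
    unfold classInner at h5
    simp only [Pi.one_apply, map_one, mul_one] at h5
    rw [inv_mul_eq_iff_eq_mul₀ hN0, mul_one] at h5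
    exact h5
  have hC : ∑ z : G, (pairCount z : ℂ) * theta K μ z = (Nat.card K : ℂ) * (Nat.card G : ℂ) := by
    rw [Finset.sum_congr rfl (fun z _ => hA z), ← Finset.mul_sum, hB]
  have hinner : ∀ χ : IrrCharacter G, ∑ z : G, theta K μ z * (χ : G → ℂ) z⁻¹ =
      (Nat.card G : ℂ) * mult K μ (χ : G → ℂ) := by
    intro χ
    unfold mult classInner
    rw [← mul_assoc, mul_inv_cancel₀ hN0, one_mul]
    apply Finset.sum_congr rfl
    intro z _
    rw [Cfsg.Agent.Lib.Helper24.irr_apply_inv χ z]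
  have hz : ∀ z : G, (pairCount z : ℂ) * theta K μ z * (2 * (Nat.card K : ℂ)) ^ 2 =
      (Nat.card G : ℂ) * ∑ χ : IrrCharacter G,
        ((χ : G → ℂ) t * (χ : G → ℂ) t / (χ : G → ℂ) 1) * (theta K μ z * (χ : G → ℂ) z⁻¹) := by
    intro z
    calc (pairCount z : ℂ) * theta K μ z * (2 * (Nat.card K : ℂ)) ^ 2
        = ((pairCount z : ℂ) * (2 * (Nat.card K : ℂ)) ^ 2) * theta K μ z := by ring
      _ = ((Nat.card G : ℂ) * ∑ χ : IrrCharacter G,
            (χ : G → ℂ) t * (χ : G → ℂ) t * (χ : G → ℂ) z⁻¹ / (χ : G → ℂ) 1) * theta K μ z := by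
          rw [hE2 z]
      _ = (Nat.card G : ℂ) * ∑ χ : IrrCharacter G,
            ((χ : G → ℂ) t * (χ : G → ℂ) t / (χ : G → ℂ) 1) *
              (theta K μ z * (χ : G → ℂ) z⁻¹) := by
          rw [mul_assoc, Finset.sum_mul]
          congr 1
          apply Finset.sum_congr rfl
          intro χ _
          ring
  have hD : (∑ z : G, (pairCount z : ℂ) * theta K μ z) * (2 * (Nat.card K : ℂ)) ^ 2 =
      (Nat.card G : ℂ) * ((Nat.card G : ℂ) * ∑ χ : IrrCharacter G,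
        mult K μ (χ : G → ℂ) * ((χ : G → ℂ) t) ^ 2 / (χ : G → ℂ) 1) := by
    rw [Finset.sum_mul, Finset.sum_congr rfl (fun z _ => hz z), ← Finset.mul_sum, Finset.sum_comm]
    congr 1
    rw [Finset.mul_sum]
    apply Finset.sum_congr rfl
    intro χ _
    rw [← Finset.mul_sum, hinner χ]
    ring
  rw [hC] at hD
  have hfin : (Nat.card G : ℂ) * (4 * (Nat.card K : ℂ) ^ 3) =
      (Nat.card G : ℂ) * ((Nat.card G : ℂ) * ∑ χ : IrrCharacter G,
        mult K μ (χ : G → ℂ) * ((χ : G → ℂ) t) ^ 2 / (χ : G → ℂ) 1) := by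
    rw [← hD]
    ring
  exact mul_left_cancel₀ hN0 hfin

end Cfsg.Agent.Lib.Helper5.BSWCE3Of
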