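/-
S3282 batch 2 (characters; sub-planner helper1) leaf T7 `powTwist_theta`;
statement frozen in `notes/S3282_leaves2.lean`. (helper5)
-/
import Mathlib
import Cfsg.Prelude.Def_Characters
import Cfsg.Agent.Lib.Helper24.BSWDefs
import Cfsg.Agent.Lib.Helper1.BSWCDefs
import Cfsg.Agent.Lib.Helper10.PowTwistChar

set_option autoImplicit false
open Cfsg Cfsg.Agent.Lib.Helper24.BSW Cfsg.Agent.CharLib Cfsg.Agent.Lib.Helper1.BSWC
open scoped ComplexConjugate

namespace Cfsg.Agent.Lib.Helper5.BSWCT7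

universe u

variable {G : Type u} [Group G] [Fintype G]

/-- **T7** power-map twists: `Θ_μ(g^n) = Θ_{μ^n}(g)` for `n` prime to `|G|`. -/
theorem powTwist_theta (K : Subgroup G) (μ : ↥K →* ℂˣ) (n : ℕ) (hn : n.Coprime (Nat.card G)) :
    Cfsg.Agent.Lib.Helper10.powTwist n (theta K μ) = theta K (μ ^ n) := by
  unfold theta
  rw [Cfsg.Agent.Lib.Helper10.powTwist_indFun K _ n hn]
  congr 1
  funext w
  rw [map_pow, MonoidHom.pow_apply]

end Cfsg.Agent.Lib.Helper5.BSWCT7
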