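/-
S3282 batch 2 (characters; sub-planner helper1) leaf V2 `sum_split`;
statement frozen in `notes/S3282_leaves2.lean`. (helper5)
-/
import Mathlib
import Cfsg.Prelude.Def_Characters
import Cfsg.Agent.Lib.Helper24.BSWDefs
import Cfsg.Agent.Lib.Helper1.BSWCDefs
import Cfsg.Agent.Lib.Helper10.PowTwistChar

set_option autoImplicit false
open Cfsg Cfsg.Agent.Lib.Helper24.BSW Cfsg.Agent.CharLib Cfsg.Agent.Lib.Helper1.BSWC
open scoped ComplexConjugate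

namespace Cfsg.Agent.Lib.Helper5.BSWCV2

universe u

variable {G : Type u} [Group G] [Fintype G]

/-- **V2** splitting a sum over all irreducible characters along the table (each `L μ` is hit by
exactly the two indices `μ, μ⁻¹`: `Coh.L_eq_iff`, and `μ ≠ μ⁻¹` as `μ² ≠ 1`). -/
theorem sum_split {K : Subgroup G} [Fintype (IrrCharacter G)] [Fintype (↥K →* ℂˣ)]
    {ν : ↥K →* ℂˣ} (hν : ν ≠ 1 ∧ ν * ν = 1 ∧ ∀ μ : ↥K →* ℂˣ, μ * μ = 1 → μ = 1 ∨ μ = ν)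
    {ε : ℤ} {X : IrrCharacter G} {L : (↥K →* ℂˣ) → IrrCharacter G} {Y₁ Y₂ : IrrCharacter G}
    (hc : Coh K ν ε X L Y₁ Y₂) (F : IrrCharacter G → ℂ)
    (hF : ∀ χ : IrrCharacter G, χ ≠ trivIrr G → χ ≠ X → χ ≠ Y₁ → χ ≠ Y₂ →
      (∀ μ : ↥K →* ℂˣ, μ ≠ 1 → μ ≠ ν → χ ≠ L μ) → F χ = 0) :
    2 * ∑ χ : IrrCharacter G, F χ = 2 * (F (trivIrr G) + F X + F Y₁ + F Y₂) +
      ∑ μ : ↥K →* ℂˣ, (open Classical in if μ = 1 ∨ μ = ν then 0 else F (L μ)) := by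
  classical
  obtain ⟨hν1, hν2, hνu⟩ := hν
  obtain ⟨I, hI⟩ : ∃ I : Finset (↥K →* ℂˣ),
      I = Finset.univ.filter (fun μ => μ ≠ 1 ∧ μ ≠ ν) := ⟨_, rfl⟩
  have hmemI : ∀ μ, μ ∈ I ↔ μ ≠ 1 ∧ μ ≠ ν := by
    intro μ
    rw [hI, Finset.mem_filter]
    simp
  have hsumI : ∀ (inst : DecidablePred (fun μ : ↥K →* ℂˣ => μ = 1 ∨ μ = ν)),
      ∑ μ : ↥K →* ℂˣ, (if μ = 1 ∨ μ = ν then 0 else F (L μ)) = ∑ μ ∈ I, F (L μ) := by
    intro inst
    rw [hI, Finset.sum_filter]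
    apply Finset.sum_congr rfl
    intro μ _
    by_cases h1 : μ = 1 ∨ μ = ν
    · rw [if_pos h1, if_neg]
      rintro ⟨h2, h3⟩
      rcases h1 with h1 | h1
      · exact h2 h1
      · exact h3 h1
    · rw [if_neg h1, if_pos]
      exact ⟨fun h => h1 (Or.inl h), fun h => h1 (Or.inr h)⟩
  rw [hsumI]
  have hνinv : ν⁻¹ = ν := @inv_eq_of_mul_eq_one_right (↥K →* ℂˣ) _ ν ν hν2
  have hfib : ∀ μ ∈ I, 2 * F (L μ) = ∑ j ∈ I with L j = L μ, F (L j) := by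
    intro μ hμ
    obtain ⟨hμ1, hμν⟩ := (hmemI μ).mp hμ
    have hi1 : μ⁻¹ ≠ 1 := fun h => hμ1 ((@inv_eq_one (↥K →* ℂˣ) _ μ).mp h)
    have hiν : μ⁻¹ ≠ ν := by
      intro h
      apply hμν
      have e : μ = ν⁻¹ := by
        rw [← h]
        exact (@inv_inv (↥K →* ℂˣ) _ μ).symm
      rw [e, hνinv]
    have hμinvI : μ⁻¹ ∈ I := (hmemI _).mpr ⟨hi1, hiν⟩
    have hμne : μ ≠ μ⁻¹ := by
      intro h
      have h2 : μ * μ = 1 := by
        have h3 : μ * μ⁻¹ = 1 := @mul_inv_cancel (↥K →* ℂˣ) _ μ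
        rw [← h] at h3
        exact h3
      rcases hνu μ h2 with h3 | h3
      · exact hμ1 h3
      · exact hμν h3
    have hLinv : L μ⁻¹ = L μ := ((hc.L_eq_iff μ μ⁻¹ hμ1 hμν hi1 hiν).mpr (Or.inr rfl)).symm
    have hset : I.filter (fun j => L j = L μ) = {μ, μ⁻¹} := by
      ext j
      rw [Finset.mem_filter, Finset.mem_insert, Finset.mem_singleton]
      constructor
      · rintro ⟨hj, hjL⟩
        obtain ⟨hj1, hjν⟩ := (hmemI j).mp hj
        exact (hc.L_eq_iff μ j hμ1 hμν hj1 hjν).mp hjL.symm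
      · rintro (h | h)
        · rw [h]
          exact ⟨hμ, rfl⟩
        · rw [h]
          exact ⟨hμinvI, hLinv⟩
    rw [hset, Finset.sum_pair hμne, hLinv]
    ring
  have himg : ∑ χ ∈ I.image L, 2 * F χ = ∑ μ ∈ I, F (L μ) :=
    Finset.sum_image' (fun μ => F (L μ)) hfib
  obtain ⟨S4, hS4⟩ : ∃ S4 : Finset (IrrCharacter G), S4 = {trivIrr G, X, Y₁, Y₂} := ⟨_, rfl⟩
  have h1 : trivIrr G ∉ ({X, Y₁, Y₂} : Finset (IrrCharacter G)) := by
    rw [Finset.mem_insert, Finset.mem_insert, Finset.mem_singleton]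
    rintro (h | h | h)
    · exact hc.X_ne h.symm
    · exact hc.Y_ne_triv.1 h.symm
    · exact hc.Y_ne_triv.2 h.symm
  have h2 : X ∉ ({Y₁, Y₂} : Finset (IrrCharacter G)) := by
    rw [Finset.mem_insert, Finset.mem_singleton]
    rintro (h | h)
    · exact hc.Y_ne_X.1 h.symm
    · exact hc.Y_ne_X.2 h.symm
  have hsum4 : ∑ χ ∈ S4, F χ = F (trivIrr G) + F X + F Y₁ + F Y₂ := by
    rw [hS4, Finset.sum_insert h1, Finset.sum_insert h2, Finset.sum_pair hc.Y_ne]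
    ring
  have hdisj : Disjoint S4 (I.image L) := by
    rw [Finset.disjoint_left]
    intro χ hχ4 hχL
    obtain ⟨μ, hμ, rfl⟩ := Finset.mem_image.mp hχL
    obtain ⟨hμ1, hμν⟩ := (hmemI μ).mp hμ
    obtain ⟨a, b, c, d⟩ := hc.L_ne μ hμ1 hμν
    rw [hS4, Finset.mem_insert, Finset.mem_insert, Finset.mem_insert, Finset.mem_singleton] at hχ4
    rcases hχ4 with h | h | h | h
    · exact a h
    · exact b h
    · exact c h
    · exact d h
  have htot : ∑ χ : IrrCharacter G, F χ = ∑ χ ∈ S4 ∪ I.image L, F χ := by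
    symm
    apply Finset.sum_subset (Finset.subset_univ _)
    intro χ _ hχ
    rw [Finset.mem_union, not_or] at hχ
    obtain ⟨h4, hL⟩ := hχ
    rw [hS4, Finset.mem_insert, Finset.mem_insert, Finset.mem_insert, Finset.mem_singleton] at h4
    push Not at h4
    apply hF χ h4.1 h4.2.1 h4.2.2.1 h4.2.2.2
    intro μ hμ1 hμν hχμ
    apply hL
    rw [hχμ]
    exact Finset.mem_image_of_mem L ((hmemI μ).mpr ⟨hμ1, hμν⟩)
  rw [← himg, htot, Finset.sum_union hdisj, hsum4, mul_add, Finset.mul_sum]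

end Cfsg.Agent.Lib.Helper5.BSWCV2
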