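/-
S4700 + S0996 (planner helper27), wrapper leaf LIN `eq_triv_of_degree_one` (frozen statement in
notes/S4700_W_leaves.lean): a perfect group has no non-trivial linear character.
-/
import Mathlib
import Cfsg.Prelude.Def_BlockRank
import Cfsg.Prelude.Def_CaseTheorems
import Cfsg.Agent.Lib.Helper6.BRHDefs
import Cfsg.Agent.Lib.Helper27.BRWDefs
import Cfsg.Agent.Lib.Helper23.LinTwist

set_option autoImplicit false

namespace Cfsg.Agent.Lib.Helper5.BRWLIN

open Cfsg Cfsg.Agent.Lib.Helper8.DOM Cfsg.Agent.Lib.Helper27.DO Cfsg.Agent.CharLib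
open Cfsg.Agent.Lib.Helper6.BRH Cfsg.Agent.Lib.Helper27.BRW
open scoped ComplexConjugate

universe u

variable {G : Type u} [Group G] [Finite G] {p : ℕ} [Fact p.Prime]

/-- **LIN** : a perfect group has no non-trivial linear character. -/
theorem eq_triv_of_degree_one (hperf : commutator G = ⊤) (χ : IrrCharacter G)
    (h1 : charDegree (χ : G → ℂ) = 1) : χ = trivIrr G := by
  obtain ⟨φ, hφ⟩ := Cfsg.Agent.Lib.Helper23.exists_lin_eq χ h1
  have hone : ∀ g : G, φ g = 1 :=
    Cfsg.Agent.Lib.Helper24.hom_eq_one_of_perfect hperf φ (fun a b => mul_comm _ _)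
  rw [← hφ]
  apply Subtype.ext
  funext g
  show ((φ g : ℂˣ) : ℂ) = 1
  rw [hone g]
  rfl

end Cfsg.Agent.Lib.Helper5.BRWLIN
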