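import Mathlib
import Cfsg.Prelude.Def_ClassicalGeometry

set_option autoImplicit false

namespace Cfsg.Agent.Lib.Helper5

open Matrix

variable {F : Type*} [CommRing F] (m : ℕ)

theorem J_mulVec_J_mulVec (v : Fin m ⊕ Fin m → F) :
    Matrix.J (Fin m) F *ᵥ (Matrix.J (Fin m) F *ᵥ v) = -v := by
  rw [Matrix.mulVec_mulVec, Matrix.J_squared, Matrix.neg_mulVec, Matrix.one_mulVec]

theorem J_mulVec_vecMul_J (v : Fin m ⊕ Fin m → F) :
    (Matrix.J (Fin m) F *ᵥ v) ᵥ* Matrix.J (Fin m) F = v := by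
  rw [← Matrix.mulVec_transpose, Matrix.J_transpose, Matrix.neg_mulVec, J_mulVec_J_mulVec, neg_neg]

theorem vecMul_J (v : Fin m ⊕ Fin m → F) :
    v ᵥ* Matrix.J (Fin m) F = -(Matrix.J (Fin m) F *ᵥ v) := by
  rw [← Matrix.mulVec_transpose, Matrix.J_transpose, Matrix.neg_mulVec]

theorem J_mulVec_inl (v : Fin m ⊕ Fin m → F) (i : Fin m) :
    (Matrix.J (Fin m) F *ᵥ v) (Sum.inl i) = -v (Sum.inr i) := by
  unfold Matrix.J
  rw [Matrix.fromBlocks_mulVec]
  simp [Matrix.neg_mulVec]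

theorem J_mulVec_inr (v : Fin m ⊕ Fin m → F) (i : Fin m) :
    (Matrix.J (Fin m) F *ᵥ v) (Sum.inr i) = v (Sum.inl i) := by
  unfold Matrix.J
  rw [Matrix.fromBlocks_mulVec]
  simp

theorem sympForm_eq_sum (u v : Fin m ⊕ Fin m → F) :
    Cfsg.sympForm m F u v =
      ∑ i : Fin m, (u (Sum.inr i) * v (Sum.inl i) - u (Sum.inl i) * v (Sum.inr i)) := by
  unfold Cfsg.sympForm
  rw [dotProduct, Fintype.sum_sum_type]
  simp only [J_mulVec_inl, J_mulVec_inr]
  rw [← Finset.sum_add_distrib]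
  apply Finset.sum_congr rfl
  intro i _
  ring

theorem sympForm_self (v : Fin m ⊕ Fin m → F) : Cfsg.sympForm m F v v = 0 := by
  rw [sympForm_eq_sum]
  apply Finset.sum_eq_zero
  intro i _
  ring

theorem sympForm_swap (u v : Fin m ⊕ Fin m → F) :
    Cfsg.sympForm m F u v = -Cfsg.sympForm m F v u := by
  rw [sympForm_eq_sum, sympForm_eq_sum, ← Finset.sum_neg_distrib]
  apply Finset.sum_congr rfl
  intro i _
  ring

theorem dot_J_self (v : Fin m ⊕ Fin m → F) : v ⬝ᵥ (Matrix.J (Fin m) F *ᵥ v) = 0 :=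
  sympForm_self m v

theorem J_dot_self (v : Fin m ⊕ Fin m → F) : (Matrix.J (Fin m) F *ᵥ v) ⬝ᵥ v = 0 := by
  rw [dotProduct_comm]; exact dot_J_self m v

/-- The nilpotent part of a symplectic transvection squares to zero. -/
theorem sympN_mul_sympN (v : Fin m ⊕ Fin m → F) :
    Matrix.vecMulVec v (Matrix.J (Fin m) F *ᵥ v) * Matrix.vecMulVec v (Matrix.J (Fin m) F *ᵥ v)
      = 0 := by
  rw [Matrix.vecMulVec_mul_vecMulVec, J_dot_self, zero_smul, Matrix.vecMulVec_zero]

theorem sympTransvection_mul (v : Fin m ⊕ Fin m → F) (c d : F) :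
    Cfsg.sympTransvection m v c * Cfsg.sympTransvection m v d
      = Cfsg.sympTransvection m v (c + d) := by
  unfold Cfsg.sympTransvection
  rw [add_mul, mul_add, mul_add, one_mul, mul_one, one_mul, Matrix.smul_mul, Matrix.mul_smul,
    sympN_mul_sympN, smul_zero, smul_zero, add_zero, add_smul, add_assoc]
  congr 1
  rw [add_comm]

theorem sympTransvection_mem (v : Fin m ⊕ Fin m → F) (c : F) :
    Cfsg.sympTransvection m v c ∈ Matrix.symplecticGroup (Fin m) F := by
  rw [SymplecticGroup.mem_iff]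
  unfold Cfsg.sympTransvection
  set J := Matrix.J (Fin m) F with hJ
  set w := J *ᵥ v with hw
  have h1 : (1 + c • Matrix.vecMulVec v w) * J = J + c • Matrix.vecMulVec v v := by
    rw [add_mul, one_mul, Matrix.smul_mul, Matrix.vecMulVec_mul, hw, hJ, J_mulVec_vecMul_J]
  have h2 : (1 + c • Matrix.vecMulVec v w)ᵀ = 1 + c • Matrix.vecMulVec w v := by
    rw [Matrix.transpose_add, Matrix.transpose_one, Matrix.transpose_smul,
      Matrix.transpose_vecMulVec]
  have h3 : J * Matrix.vecMulVec w v = -Matrix.vecMulVec v v := by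
    rw [Matrix.mul_vecMulVec, hw, hJ, J_mulVec_J_mulVec, Matrix.neg_vecMulVec]
  have h4 : Matrix.vecMulVec v v * Matrix.vecMulVec w v = 0 := by
    rw [Matrix.vecMulVec_mul_vecMulVec, hw, hJ, dot_J_self, zero_smul, Matrix.vecMulVec_zero]
  rw [h1, h2, add_mul, mul_add, mul_add, mul_one, mul_one, Matrix.mul_smul, h3,
    Matrix.smul_mul, Matrix.mul_smul, h4, smul_zero, smul_zero, add_zero, smul_neg]
  abel

theorem sympTransvection_mulVec (v x : Fin m ⊕ Fin m → F) (c : F) :
    Cfsg.sympTransvection m v c *ᵥ x = x + (c * Cfsg.sympForm m F x v) • v := by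
  unfold Cfsg.sympTransvection Cfsg.sympForm
  rw [Matrix.add_mulVec, Matrix.one_mulVec, Matrix.smul_mulVec, Matrix.vecMulVec_mulVec,
    dotProduct_comm]
  ext i
  simp only [Pi.add_apply, Pi.smul_apply, smul_eq_mul, MulOpposite.smul_eq_mul_unop,
    MulOpposite.unop_op]
  ring

section Bilin

variable {m}

theorem sympForm_add_left (x y z : Fin m ⊕ Fin m → F) :
    Cfsg.sympForm m F (x + y) z = Cfsg.sympForm m F x z + Cfsg.sympForm m F y z := by
  unfold Cfsg.sympForm; rw [add_dotProduct]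

theorem sympForm_add_right (x y z : Fin m ⊕ Fin m → F) :
    Cfsg.sympForm m F x (y + z) = Cfsg.sympForm m F x y + Cfsg.sympForm m F x z := by
  unfold Cfsg.sympForm; rw [Matrix.mulVec_add, dotProduct_add]

theorem sympForm_smul_left (c : F) (x z : Fin m ⊕ Fin m → F) :
    Cfsg.sympForm m F (c • x) z = c * Cfsg.sympForm m F x z := by
  unfold Cfsg.sympForm; rw [smul_dotProduct, smul_eq_mul]

theorem sympForm_smul_right (c : F) (x z : Fin m ⊕ Fin m → F) :
    Cfsg.sympForm m F x (c • z) = c * Cfsg.sympForm m F x z := by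
  unfold Cfsg.sympForm; rw [Matrix.mulVec_smul, dotProduct_smul, smul_eq_mul]

theorem sympForm_neg_left (x z : Fin m ⊕ Fin m → F) :
    Cfsg.sympForm m F (-x) z = -Cfsg.sympForm m F x z := by
  unfold Cfsg.sympForm; rw [neg_dotProduct]

theorem sympForm_neg_right (x z : Fin m ⊕ Fin m → F) :
    Cfsg.sympForm m F x (-z) = -Cfsg.sympForm m F x z := by
  unfold Cfsg.sympForm; rw [Matrix.mulVec_neg, dotProduct_neg]

theorem sympForm_sub_left (x y z : Fin m ⊕ Fin m → F) :
    Cfsg.sympForm m F (x - y) z = Cfsg.sympForm m F x z - Cfsg.sympForm m F y z := by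
  rw [sub_eq_add_neg, sympForm_add_left, sympForm_neg_left, ← sub_eq_add_neg]

theorem sympForm_sub_right (x y z : Fin m ⊕ Fin m → F) :
    Cfsg.sympForm m F x (y - z) = Cfsg.sympForm m F x y - Cfsg.sympForm m F x z := by
  rw [sub_eq_add_neg, sympForm_add_right, sympForm_neg_right, ← sub_eq_add_neg]

theorem sympForm_zero_left (z : Fin m ⊕ Fin m → F) : Cfsg.sympForm m F 0 z = 0 := by
  unfold Cfsg.sympForm; rw [zero_dotProduct]

/-- Elements of the symplectic group preserve the form. -/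
theorem sympForm_mulVec_of_mem {A : Matrix (Fin m ⊕ Fin m) (Fin m ⊕ Fin m) F}
    (hA : A ∈ Matrix.symplecticGroup (Fin m) F) (x y : Fin m ⊕ Fin m → F) :
    Cfsg.sympForm m F (A *ᵥ x) (A *ᵥ y) = Cfsg.sympForm m F x y := by
  unfold Cfsg.sympForm
  have h := SymplecticGroup.mem_iff'.mp hA
  rw [← Matrix.vecMul_transpose, ← Matrix.dotProduct_mulVec, Matrix.mulVec_mulVec,
    Matrix.mulVec_mulVec, h]

/-- Nondegeneracy: a vector pairing to zero with everything is zero. -/
theorem sympForm_nondeg (x : Fin m ⊕ Fin m → F) (hx : x ≠ 0) :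
    ∃ a, Cfsg.sympForm m F x a ≠ 0 := by
  classical
  obtain ⟨k, hk⟩ : ∃ k, x k ≠ 0 := by
    by_contra h
    apply hx
    funext k
    by_contra hk
    exact h ⟨k, hk⟩
  refine ⟨-(Matrix.J (Fin m) F *ᵥ (Pi.single k 1)), ?_⟩
  unfold Cfsg.sympForm
  rw [Matrix.mulVec_neg, J_mulVec_J_mulVec, neg_neg, dotProduct_single, mul_one]
  exact hk

end Bilin

end Cfsg.Agent.Lib.Helper5
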