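import Mathlib
import Cfsg.Prelude.Def_ClassicalGeometry
import Cfsg.Agent.Lib.Helper5.Symp

set_option autoImplicit false

namespace Cfsg.Agent.Lib.Helper5

open Matrix

variable {F : Type*} [Field F] {m : ℕ}

/-- The subgroup of the symplectic group generated by the symplectic transvections. -/
def transvGroup (m : ℕ) (F : Type*) [Field F] : Subgroup (Matrix.symplecticGroup (Fin m) F) :=
  Subgroup.closure {A : Matrix.symplecticGroup (Fin m) F |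
    ∃ (w : Fin m ⊕ Fin m → F) (c : F),
      (A : Matrix (Fin m ⊕ Fin m) (Fin m ⊕ Fin m) F) = Cfsg.sympTransvection m w c}

/-- One transvection step: if `f x y ≠ 0` some transvection maps `x` to `y`, fixing every `z`
orthogonal to `x - y`. -/
theorem transv_step (x y : Fin m ⊕ Fin m → F) (hxy : Cfsg.sympForm m F x y ≠ 0) :
    ∃ A ∈ transvGroup m F, (A : Matrix (Fin m ⊕ Fin m) (Fin m ⊕ Fin m) F) *ᵥ x = y ∧
      ∀ z, Cfsg.sympForm m F z (x - y) = 0 →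
        (A : Matrix (Fin m ⊕ Fin m) (Fin m ⊕ Fin m) F) *ᵥ z = z := by
  refine ⟨⟨Cfsg.sympTransvection m (x - y) (Cfsg.sympForm m F x y)⁻¹,
    sympTransvection_mem m _ _⟩, Subgroup.subset_closure ⟨_, _, rfl⟩, ?_, ?_⟩
  · change Cfsg.sympTransvection m (x - y) (Cfsg.sympForm m F x y)⁻¹ *ᵥ x = y
    rw [sympTransvection_mulVec, sympForm_sub_right, sympForm_self, zero_sub, mul_neg,
      inv_mul_cancel₀ hxy, neg_smul, one_smul]
    abel
  · intro z hz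
    change Cfsg.sympTransvection m (x - y) (Cfsg.sympForm m F x y)⁻¹ *ᵥ z = z
    rw [sympTransvection_mulVec, hz, mul_zero, zero_smul, add_zero]

theorem transv_trans1 (x y : Fin m ⊕ Fin m → F) (hx : x ≠ 0) (hy : y ≠ 0) :
    ∃ A ∈ transvGroup m F, (A : Matrix (Fin m ⊕ Fin m) (Fin m ⊕ Fin m) F) *ᵥ x = y := by
  by_cases hxy : Cfsg.sympForm m F x y ≠ 0
  · obtain ⟨A, hA, hAx, -⟩ := transv_step x y hxy
    exact ⟨A, hA, hAx⟩
  · rw [not_not] at hxy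
    obtain ⟨a, ha⟩ := sympForm_nondeg x hx
    obtain ⟨b, hb⟩ := sympForm_nondeg y hy
    obtain ⟨z, hxz, hyz⟩ : ∃ z, Cfsg.sympForm m F x z ≠ 0 ∧ Cfsg.sympForm m F y z ≠ 0 := by
      by_cases hya : Cfsg.sympForm m F y a ≠ 0
      · exact ⟨a, ha, hya⟩
      · rw [not_not] at hya
        by_cases hxb : Cfsg.sympForm m F x b ≠ 0
        · exact ⟨b, hxb, hb⟩
        · rw [not_not] at hxb
          refine ⟨a + b, ?_, ?_⟩
          · rw [sympForm_add_right, hxb, add_zero]; exact ha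
          · rw [sympForm_add_right, hya, zero_add]; exact hb
    have hzy : Cfsg.sympForm m F z y ≠ 0 := by
      rw [sympForm_swap]; exact neg_ne_zero.mpr hyz
    obtain ⟨A1, hA1, hA1x, -⟩ := transv_step x z hxz
    obtain ⟨A2, hA2, hA2z, -⟩ := transv_step z y hzy
    refine ⟨A2 * A1, Subgroup.mul_mem _ hA2 hA1, ?_⟩
    change ((A2 : Matrix (Fin m ⊕ Fin m) (Fin m ⊕ Fin m) F) *
      (A1 : Matrix (Fin m ⊕ Fin m) (Fin m ⊕ Fin m) F)) *ᵥ x = y
    rw [← Matrix.mulVec_mulVec, hA1x, hA2z]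

theorem transv_trans2 (u y y' : Fin m ⊕ Fin m → F) (h1 : Cfsg.sympForm m F u y = 1)
    (h2 : Cfsg.sympForm m F u y' = 1) :
    ∃ B ∈ transvGroup m F, (B : Matrix (Fin m ⊕ Fin m) (Fin m ⊕ Fin m) F) *ᵥ u = u ∧
      (B : Matrix (Fin m ⊕ Fin m) (Fin m ⊕ Fin m) F) *ᵥ y = y' := by
  by_cases hyy : Cfsg.sympForm m F y y' ≠ 0
  · obtain ⟨A, hA, hAy, hfix⟩ := transv_step y y' hyy
    refine ⟨A, hA, hfix u ?_, hAy⟩
    rw [sympForm_sub_right, h1, h2, sub_self]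
  · rw [not_not] at hyy
    have hyu : Cfsg.sympForm m F y u = -1 := by rw [sympForm_swap, h1]
    have hx1 : Cfsg.sympForm m F y (y + u) ≠ 0 := by
      rw [sympForm_add_right, sympForm_self, zero_add, hyu]
      exact neg_ne_zero.mpr one_ne_zero
    have hx2 : Cfsg.sympForm m F (y + u) y' ≠ 0 := by
      rw [sympForm_add_left, hyy, zero_add, h2]
      exact one_ne_zero
    obtain ⟨A1, hA1, hA1y, hfix1⟩ := transv_step y (y + u) hx1
    obtain ⟨A2, hA2, hA2x, hfix2⟩ := transv_step (y + u) y' hx2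
    have hu1 : (A1 : Matrix (Fin m ⊕ Fin m) (Fin m ⊕ Fin m) F) *ᵥ u = u := by
      apply hfix1
      rw [sympForm_sub_right, sympForm_add_right, sympForm_self, h1]
      ring
    have hu2 : (A2 : Matrix (Fin m ⊕ Fin m) (Fin m ⊕ Fin m) F) *ᵥ u = u := by
      apply hfix2
      rw [sympForm_sub_right, sympForm_add_right, sympForm_self, h1, h2]
      ring
    refine ⟨A2 * A1, Subgroup.mul_mem _ hA2 hA1, ?_, ?_⟩
    · change ((A2 : Matrix (Fin m ⊕ Fin m) (Fin m ⊕ Fin m) F) *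
        (A1 : Matrix (Fin m ⊕ Fin m) (Fin m ⊕ Fin m) F)) *ᵥ u = u
      rw [← Matrix.mulVec_mulVec, hu1, hu2]
    · change ((A2 : Matrix (Fin m ⊕ Fin m) (Fin m ⊕ Fin m) F) *
        (A1 : Matrix (Fin m ⊕ Fin m) (Fin m ⊕ Fin m) F)) *ᵥ y = y'
      rw [← Matrix.mulVec_mulVec, hA1y, hA2x]

theorem transv_hyperbolic_pairs (u v u' v' : Fin m ⊕ Fin m → F)
    (h : Cfsg.sympForm m F u v = 1) (h' : Cfsg.sympForm m F u' v' = 1) :
    ∃ A ∈ transvGroup m F, (A : Matrix (Fin m ⊕ Fin m) (Fin m ⊕ Fin m) F) *ᵥ u = u' ∧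
      (A : Matrix (Fin m ⊕ Fin m) (Fin m ⊕ Fin m) F) *ᵥ v = v' := by
  have hu : u ≠ 0 := by
    rintro rfl
    rw [sympForm_zero_left] at h
    exact zero_ne_one h
  have hu' : u' ≠ 0 := by
    rintro rfl
    rw [sympForm_zero_left] at h'
    exact zero_ne_one h'
  obtain ⟨A1, hA1, hA1u⟩ := transv_trans1 u u' hu hu'
  have hpres : Cfsg.sympForm m F u'
      ((A1 : Matrix (Fin m ⊕ Fin m) (Fin m ⊕ Fin m) F) *ᵥ v) = 1 := by
    rw [← hA1u, sympForm_mulVec_of_mem A1.2, h]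
  obtain ⟨B, hB, hBu, hBv⟩ := transv_trans2 u' _ v' hpres h'
  refine ⟨B * A1, Subgroup.mul_mem _ hB hA1, ?_, ?_⟩
  · change ((B : Matrix (Fin m ⊕ Fin m) (Fin m ⊕ Fin m) F) *
      (A1 : Matrix (Fin m ⊕ Fin m) (Fin m ⊕ Fin m) F)) *ᵥ u = u'
    rw [← Matrix.mulVec_mulVec, hA1u, hBu]
  · change ((B : Matrix (Fin m ⊕ Fin m) (Fin m ⊕ Fin m) F) *
      (A1 : Matrix (Fin m ⊕ Fin m) (Fin m ⊕ Fin m) F)) *ᵥ v = v'
    rw [← Matrix.mulVec_mulVec, hBv]

end Cfsg.Agent.Lib.Helper5
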