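import Mathlib
import Cfsg.Prelude.Def_ClassicalGeometry
import Cfsg.Agent.Lib.Helper5.Symp
import Cfsg.Agent.Lib.Helper5.SympTrans

set_option autoImplicit false

namespace Cfsg.Agent.Lib.Helper5

open Matrix

variable {F : Type*} [Field F] {m : ℕ}

/-- The subgroup generated by the symplectic transvections along vectors of `W`. -/
def transvGroupIn (m : ℕ) (F : Type*) [Field F] (W : Submodule F (Fin m ⊕ Fin m → F)) :
    Subgroup (Matrix.symplecticGroup (Fin m) F) :=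
  Subgroup.closure {A : Matrix.symplecticGroup (Fin m) F |
    ∃ (w : Fin m ⊕ Fin m → F) (c : F), w ∈ W ∧
      (A : Matrix (Fin m ⊕ Fin m) (Fin m ⊕ Fin m) F) = Cfsg.sympTransvection m w c}

theorem transvGroupIn_le (W : Submodule F (Fin m ⊕ Fin m → F)) :
    transvGroupIn m F W ≤ transvGroup m F := by
  apply Subgroup.closure_mono
  rintro A ⟨w, c, -, h⟩
  exact ⟨w, c, h⟩

theorem coe_inv_mulVec_cancel (A : Matrix.symplecticGroup (Fin m) F) (x : Fin m ⊕ Fin m → F) :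
    (A : Matrix (Fin m ⊕ Fin m) (Fin m ⊕ Fin m) F) *ᵥ
      (((A⁻¹ : Matrix.symplecticGroup (Fin m) F) :
        Matrix (Fin m ⊕ Fin m) (Fin m ⊕ Fin m) F) *ᵥ x) = x := by
  rw [Matrix.mulVec_mulVec]
  have : (A : Matrix (Fin m ⊕ Fin m) (Fin m ⊕ Fin m) F) *
      ((A⁻¹ : Matrix.symplecticGroup (Fin m) F) : Matrix (Fin m ⊕ Fin m) (Fin m ⊕ Fin m) F)
      = 1 := by
    have h := congrArg Subtype.val (mul_inv_cancel A)
    exact h
  rw [this, Matrix.one_mulVec]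

theorem coe_inv_mulVec_cancel' (A : Matrix.symplecticGroup (Fin m) F) (x : Fin m ⊕ Fin m → F) :
    ((A⁻¹ : Matrix.symplecticGroup (Fin m) F) : Matrix (Fin m ⊕ Fin m) (Fin m ⊕ Fin m) F) *ᵥ
      ((A : Matrix (Fin m ⊕ Fin m) (Fin m ⊕ Fin m) F) *ᵥ x) = x := by
  rw [Matrix.mulVec_mulVec]
  have : ((A⁻¹ : Matrix.symplecticGroup (Fin m) F) : Matrix (Fin m ⊕ Fin m) (Fin m ⊕ Fin m) F) *
      (A : Matrix (Fin m ⊕ Fin m) (Fin m ⊕ Fin m) F) = 1 := by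
    have h := congrArg Subtype.val (inv_mul_cancel A)
    exact h
  rw [this, Matrix.one_mulVec]

/-- Elements of `transvGroupIn W` fix every vector orthogonal to `W`. -/
theorem transvGroupIn_fixes (W : Submodule F (Fin m ⊕ Fin m → F))
    (A : Matrix.symplecticGroup (Fin m) F) (hA : A ∈ transvGroupIn m F W)
    (z : Fin m ⊕ Fin m → F) (hz : ∀ w ∈ W, Cfsg.sympForm m F z w = 0) :
    (A : Matrix (Fin m ⊕ Fin m) (Fin m ⊕ Fin m) F) *ᵥ z = z := by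
  unfold transvGroupIn at hA
  induction hA using Subgroup.closure_induction with
  | mem A hA =>
    obtain ⟨w, c, hw, h⟩ := hA
    rw [h, sympTransvection_mulVec, hz w hw, mul_zero, zero_smul, add_zero]
  | one => simp
  | mul A B _ _ hA hB =>
    change ((A : Matrix (Fin m ⊕ Fin m) (Fin m ⊕ Fin m) F) *
      (B : Matrix (Fin m ⊕ Fin m) (Fin m ⊕ Fin m) F)) *ᵥ z = z
    rw [← Matrix.mulVec_mulVec, hB, hA]
  | inv A _ hA =>
    have := coe_inv_mulVec_cancel' A z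
    rw [hA] at this
    exact this

/-- Elements of `transvGroupIn W` preserve `W`. -/
theorem transvGroupIn_preserves (W : Submodule F (Fin m ⊕ Fin m → F))
    (A : Matrix.symplecticGroup (Fin m) F) (hA : A ∈ transvGroupIn m F W)
    (x : Fin m ⊕ Fin m → F) :
    x ∈ W ↔ (A : Matrix (Fin m ⊕ Fin m) (Fin m ⊕ Fin m) F) *ᵥ x ∈ W := by
  unfold transvGroupIn at hA
  induction hA using Subgroup.closure_induction generalizing x with
  | mem A hA =>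
    obtain ⟨w, c, hw, h⟩ := hA
    rw [h, sympTransvection_mulVec]
    constructor
    · intro hx
      exact W.add_mem hx (W.smul_mem _ hw)
    · intro hx
      have := W.sub_mem hx (W.smul_mem (c * Cfsg.sympForm m F x w) hw)
      simpa using this
  | one => simp
  | mul A B _ _ hA hB =>
    change x ∈ W ↔ ((A : Matrix (Fin m ⊕ Fin m) (Fin m ⊕ Fin m) F) *
      (B : Matrix (Fin m ⊕ Fin m) (Fin m ⊕ Fin m) F)) *ᵥ x ∈ W
    rw [← Matrix.mulVec_mulVec, ← hA, ← hB]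
  | inv A _ hA =>
    rw [hA (((A⁻¹ : Matrix.symplecticGroup (Fin m) F) :
      Matrix (Fin m ⊕ Fin m) (Fin m ⊕ Fin m) F) *ᵥ x), coe_inv_mulVec_cancel]

theorem transvIn_step (W : Submodule F (Fin m ⊕ Fin m → F)) (x y : Fin m ⊕ Fin m → F)
    (hx : x ∈ W) (hy : y ∈ W) (hxy : Cfsg.sympForm m F x y ≠ 0) :
    ∃ A ∈ transvGroupIn m F W, (A : Matrix (Fin m ⊕ Fin m) (Fin m ⊕ Fin m) F) *ᵥ x = y ∧
      ∀ z, Cfsg.sympForm m F z (x - y) = 0 →
        (A : Matrix (Fin m ⊕ Fin m) (Fin m ⊕ Fin m) F) *ᵥ z = z := by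
  refine ⟨⟨Cfsg.sympTransvection m (x - y) (Cfsg.sympForm m F x y)⁻¹,
    sympTransvection_mem m _ _⟩, Subgroup.subset_closure ⟨_, _, W.sub_mem hx hy, rfl⟩, ?_, ?_⟩
  · change Cfsg.sympTransvection m (x - y) (Cfsg.sympForm m F x y)⁻¹ *ᵥ x = y
    rw [sympTransvection_mulVec, sympForm_sub_right, sympForm_self, zero_sub, mul_neg,
      inv_mul_cancel₀ hxy, neg_smul, one_smul]
    abel
  · intro z hz
    change Cfsg.sympTransvection m (x - y) (Cfsg.sympForm m F x y)⁻¹ *ᵥ z = z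
    rw [sympTransvection_mulVec, hz, mul_zero, zero_smul, add_zero]

theorem transvIn_trans1 (W : Submodule F (Fin m ⊕ Fin m → F))
    (hW : ∀ x ∈ W, x ≠ 0 → ∃ a ∈ W, Cfsg.sympForm m F x a ≠ 0)
    (x y : Fin m ⊕ Fin m → F) (hxW : x ∈ W) (hyW : y ∈ W) (hx : x ≠ 0) (hy : y ≠ 0) :
    ∃ A ∈ transvGroupIn m F W, (A : Matrix (Fin m ⊕ Fin m) (Fin m ⊕ Fin m) F) *ᵥ x = y := by
  by_cases hxy : Cfsg.sympForm m F x y ≠ 0
  · obtain ⟨A, hA, hAx, -⟩ := transvIn_step W x y hxW hyW hxy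
    exact ⟨A, hA, hAx⟩
  · rw [not_not] at hxy
    obtain ⟨a, haW, ha⟩ := hW x hxW hx
    obtain ⟨b, hbW, hb⟩ := hW y hyW hy
    obtain ⟨z, hzW, hxz, hyz⟩ : ∃ z ∈ W, Cfsg.sympForm m F x z ≠ 0 ∧
        Cfsg.sympForm m F y z ≠ 0 := by
      by_cases hya : Cfsg.sympForm m F y a ≠ 0
      · exact ⟨a, haW, ha, hya⟩
      · rw [not_not] at hya
        by_cases hxb : Cfsg.sympForm m F x b ≠ 0
        · exact ⟨b, hbW, hxb, hb⟩
        · rw [not_not] at hxb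
          refine ⟨a + b, W.add_mem haW hbW, ?_, ?_⟩
          · rw [sympForm_add_right, hxb, add_zero]; exact ha
          · rw [sympForm_add_right, hya, zero_add]; exact hb
    have hzy : Cfsg.sympForm m F z y ≠ 0 := by
      rw [sympForm_swap]; exact neg_ne_zero.mpr hyz
    obtain ⟨A1, hA1, hA1x, -⟩ := transvIn_step W x z hxW hzW hxz
    obtain ⟨A2, hA2, hA2z, -⟩ := transvIn_step W z y hzW hyW hzy
    refine ⟨A2 * A1, Subgroup.mul_mem _ hA2 hA1, ?_⟩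
    change ((A2 : Matrix (Fin m ⊕ Fin m) (Fin m ⊕ Fin m) F) *
      (A1 : Matrix (Fin m ⊕ Fin m) (Fin m ⊕ Fin m) F)) *ᵥ x = y
    rw [← Matrix.mulVec_mulVec, hA1x, hA2z]

theorem transvIn_trans2 (W : Submodule F (Fin m ⊕ Fin m → F))
    (u y y' : Fin m ⊕ Fin m → F) (huW : u ∈ W) (hyW : y ∈ W) (hy'W : y' ∈ W)
    (h1 : Cfsg.sympForm m F u y = 1) (h2 : Cfsg.sympForm m F u y' = 1) :
    ∃ B ∈ transvGroupIn m F W, (B : Matrix (Fin m ⊕ Fin m) (Fin m ⊕ Fin m) F) *ᵥ u = u ∧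
      (B : Matrix (Fin m ⊕ Fin m) (Fin m ⊕ Fin m) F) *ᵥ y = y' := by
  by_cases hyy : Cfsg.sympForm m F y y' ≠ 0
  · obtain ⟨A, hA, hAy, hfix⟩ := transvIn_step W y y' hyW hy'W hyy
    refine ⟨A, hA, hfix u ?_, hAy⟩
    rw [sympForm_sub_right, h1, h2, sub_self]
  · rw [not_not] at hyy
    have hyu : Cfsg.sympForm m F y u = -1 := by rw [sympForm_swap, h1]
    have hx1 : Cfsg.sympForm m F y (y + u) ≠ 0 := by
      rw [sympForm_add_right, sympForm_self, zero_add, hyu]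
      exact neg_ne_zero.mpr one_ne_zero
    have hx2 : Cfsg.sympForm m F (y + u) y' ≠ 0 := by
      rw [sympForm_add_left, hyy, zero_add, h2]
      exact one_ne_zero
    have hyuW : y + u ∈ W := W.add_mem hyW huW
    obtain ⟨A1, hA1, hA1y, hfix1⟩ := transvIn_step W y (y + u) hyW hyuW hx1
    obtain ⟨A2, hA2, hA2x, hfix2⟩ := transvIn_step W (y + u) y' hyuW hy'W hx2
    have hu1 : (A1 : Matrix (Fin m ⊕ Fin m) (Fin m ⊕ Fin m) F) *ᵥ u = u := by
      apply hfix1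
      rw [sympForm_sub_right, sympForm_add_right, sympForm_self, h1]
      ring
    have hu2 : (A2 : Matrix (Fin m ⊕ Fin m) (Fin m ⊕ Fin m) F) *ᵥ u = u := by
      apply hfix2
      rw [sympForm_sub_right, sympForm_add_right, sympForm_self, h1, h2]
      ring
    refine ⟨A2 * A1, Subgroup.mul_mem _ hA2 hA1, ?_, ?_⟩
    · change ((A2 : Matrix (Fin m ⊕ Fin m) (Fin m ⊕ Fin m) F) *
        (A1 : Matrix (Fin m ⊕ Fin m) (Fin m ⊕ Fin m) F)) *ᵥ u = u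
      rw [← Matrix.mulVec_mulVec, hu1, hu2]
    · change ((A2 : Matrix (Fin m ⊕ Fin m) (Fin m ⊕ Fin m) F) *
        (A1 : Matrix (Fin m ⊕ Fin m) (Fin m ⊕ Fin m) F)) *ᵥ y = y'
      rw [← Matrix.mulVec_mulVec, hA1y, hA2x]

theorem transvIn_hyperbolic_pairs (W : Submodule F (Fin m ⊕ Fin m → F))
    (hW : ∀ x ∈ W, x ≠ 0 → ∃ a ∈ W, Cfsg.sympForm m F x a ≠ 0)
    (u v u' v' : Fin m ⊕ Fin m → F) (huW : u ∈ W) (hvW : v ∈ W) (hu'W : u' ∈ W) (hv'W : v' ∈ W)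
    (h : Cfsg.sympForm m F u v = 1) (h' : Cfsg.sympForm m F u' v' = 1) :
    ∃ A ∈ transvGroupIn m F W, (A : Matrix (Fin m ⊕ Fin m) (Fin m ⊕ Fin m) F) *ᵥ u = u' ∧
      (A : Matrix (Fin m ⊕ Fin m) (Fin m ⊕ Fin m) F) *ᵥ v = v' := by
  have hu : u ≠ 0 := by
    rintro rfl
    rw [sympForm_zero_left] at h
    exact zero_ne_one h
  have hu' : u' ≠ 0 := by
    rintro rfl
    rw [sympForm_zero_left] at h'
    exact zero_ne_one h'
  obtain ⟨A1, hA1, hA1u⟩ := transvIn_trans1 W hW u u' huW hu'W hu hu'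
  have hpres : Cfsg.sympForm m F u'
      ((A1 : Matrix (Fin m ⊕ Fin m) (Fin m ⊕ Fin m) F) *ᵥ v) = 1 := by
    rw [← hA1u, sympForm_mulVec_of_mem A1.2, h]
  have hA1vW : (A1 : Matrix (Fin m ⊕ Fin m) (Fin m ⊕ Fin m) F) *ᵥ v ∈ W :=
    (transvGroupIn_preserves W A1 hA1 v).mp hvW
  obtain ⟨B, hB, hBu, hBv⟩ := transvIn_trans2 W u' _ v' hu'W hA1vW hv'W hpres h'
  refine ⟨B * A1, Subgroup.mul_mem _ hB hA1, ?_, ?_⟩
  · change ((B : Matrix (Fin m ⊕ Fin m) (Fin m ⊕ Fin m) F) *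
      (A1 : Matrix (Fin m ⊕ Fin m) (Fin m ⊕ Fin m) F)) *ᵥ u = u'
    rw [← Matrix.mulVec_mulVec, hA1u, hBu]
  · change ((B : Matrix (Fin m ⊕ Fin m) (Fin m ⊕ Fin m) F) *
      (A1 : Matrix (Fin m ⊕ Fin m) (Fin m ⊕ Fin m) F)) *ᵥ v = v'
    rw [← Matrix.mulVec_mulVec, hBv]

end Cfsg.Agent.Lib.Helper5
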