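import Mathlib
import Cfsg.Prelude.Def_ClassicalGeometry
import Cfsg.Agent.Lib.Helper5.Symp
import Cfsg.Agent.Lib.Helper5.SympTrans
import Cfsg.Agent.Lib.Helper5.SympGen

set_option autoImplicit false

namespace Cfsg.Agent.Lib.Helper5

open Matrix

variable {F : Type*} [Field F] {m : ℕ}

theorem sympForm_single_inl (x : Fin m ⊕ Fin m → F) (i : Fin m) :
    Cfsg.sympForm m F x (Pi.single (Sum.inl i) 1) = x (Sum.inr i) := by
  classical
  rw [sympForm_eq_sum]
  simp [Pi.single_apply, Finset.sum_ite_eq']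

theorem sympForm_single_inr (x : Fin m ⊕ Fin m → F) (i : Fin m) :
    Cfsg.sympForm m F x (Pi.single (Sum.inr i) 1) = -x (Sum.inl i) := by
  classical
  rw [sympForm_eq_sum]
  simp [Pi.single_apply, Finset.sum_ite_eq']

/-- The subspace of vectors whose first `k` coordinate pairs vanish. -/
def tailSpace (m : ℕ) (F : Type*) [Field F] (k : ℕ) : Submodule F (Fin m ⊕ Fin m → F) where
  carrier := {x | ∀ i : Fin m, (i : ℕ) < k → x (Sum.inl i) = 0 ∧ x (Sum.inr i) = 0}
  add_mem' := by
    intro x y hx hy i hi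
    simp [(hx i hi).1, (hx i hi).2, (hy i hi).1, (hy i hi).2]
  zero_mem' := by
    intro i _
    simp
  smul_mem' := by
    intro c x hx i hi
    simp [(hx i hi).1, (hx i hi).2]

theorem mem_tailSpace (k : ℕ) (x : Fin m ⊕ Fin m → F) :
    x ∈ tailSpace m F k ↔ ∀ i : Fin m, (i : ℕ) < k → x (Sum.inl i) = 0 ∧ x (Sum.inr i) = 0 :=
  Iff.rfl

theorem single_inl_mem_tailSpace (k : ℕ) (i : Fin m) (hi : k ≤ (i : ℕ)) :
    (Pi.single (Sum.inl i) 1 : Fin m ⊕ Fin m → F) ∈ tailSpace m F k := by
  classical
  intro j hj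
  have hne : j ≠ i := by
    intro h; subst h; omega
  constructor
  · rw [Pi.single_apply, if_neg]
    intro h
    exact hne (Sum.inl.inj h)
  · rw [Pi.single_apply, if_neg]
    intro h
    cases h

theorem single_inr_mem_tailSpace (k : ℕ) (i : Fin m) (hi : k ≤ (i : ℕ)) :
    (Pi.single (Sum.inr i) 1 : Fin m ⊕ Fin m → F) ∈ tailSpace m F k := by
  classical
  intro j hj
  have hne : j ≠ i := by
    intro h; subst h; omega
  constructor
  · rw [Pi.single_apply, if_neg]
    intro h
    cases h
  · rw [Pi.single_apply, if_neg]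
    intro h
    exact hne (Sum.inr.inj h)

theorem tailSpace_nondeg (k : ℕ) :
    ∀ x ∈ tailSpace m F k, x ≠ 0 → ∃ a ∈ tailSpace m F k, Cfsg.sympForm m F x a ≠ 0 := by
  classical
  intro x hx hx0
  obtain ⟨j, hj⟩ : ∃ j, x j ≠ 0 := by
    by_contra h
    apply hx0
    funext j
    by_contra hj
    exact h ⟨j, hj⟩
  rcases j with i | i
  · have hik : k ≤ (i : ℕ) := by
      by_contra h
      exact hj (hx i (by omega)).1
    refine ⟨Pi.single (Sum.inr i) 1, single_inr_mem_tailSpace k i hik, ?_⟩
    rw [sympForm_single_inr]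
    exact neg_ne_zero.mpr hj
  · have hik : k ≤ (i : ℕ) := by
      by_contra h
      exact hj (hx i (by omega)).2
    refine ⟨Pi.single (Sum.inl i) 1, single_inl_mem_tailSpace k i hik, ?_⟩
    rw [sympForm_single_inl]
    exact hj

/-- The key induction: a symplectic matrix fixing the first `k` hyperbolic pairs of the
standard basis lies in the group generated by transvections. -/
theorem mem_transvGroup_of_fixes (d : ℕ) : ∀ (k : ℕ), k + d = m →
    ∀ A : Matrix.symplecticGroup (Fin m) F,
      (∀ i : Fin m, (i : ℕ) < k →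
        (A : Matrix (Fin m ⊕ Fin m) (Fin m ⊕ Fin m) F) *ᵥ (Pi.single (Sum.inl i) 1)
          = Pi.single (Sum.inl i) 1 ∧
        (A : Matrix (Fin m ⊕ Fin m) (Fin m ⊕ Fin m) F) *ᵥ (Pi.single (Sum.inr i) 1)
          = Pi.single (Sum.inr i) 1) →
      A ∈ transvGroup m F := by
  classical
  induction d with
  | zero =>
    intro k hk A hA
    have hA1 : A = 1 := by
      apply Subtype.ext
      ext a b
      have hcol : ∀ j : Fin m ⊕ Fin m,
          (A : Matrix (Fin m ⊕ Fin m) (Fin m ⊕ Fin m) F) *ᵥ (Pi.single j 1) = Pi.single j 1 := by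
        intro j
        rcases j with i | i
        · exact (hA i (by have := i.2; omega)).1
        · exact (hA i (by have := i.2; omega)).2
      have h1 := congrFun (hcol b) a
      rw [Matrix.mulVec_single_one] at h1
      simp only [Matrix.col_apply] at h1
      rw [h1]
      change _ = (1 : Matrix (Fin m ⊕ Fin m) (Fin m ⊕ Fin m) F) a b
      rw [Matrix.one_apply, Pi.single_apply]
    rw [hA1]
    exact Subgroup.one_mem _
  | succ d ih =>
    intro k hk A hA
    have hkm : k < m := by omega
    let kk : Fin m := ⟨k, hkm⟩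
    set M : Matrix (Fin m ⊕ Fin m) (Fin m ⊕ Fin m) F :=
      (A : Matrix (Fin m ⊕ Fin m) (Fin m ⊕ Fin m) F) with hM
    set W := tailSpace m F k with hWdef
    -- coordinates i < k are preserved by A
    have hcoord : ∀ (x : Fin m ⊕ Fin m → F) (i : Fin m), (i : ℕ) < k →
        (M *ᵥ x) (Sum.inl i) = x (Sum.inl i) ∧ (M *ᵥ x) (Sum.inr i) = x (Sum.inr i) := by
      intro x i hi
      obtain ⟨h1, h2⟩ := hA i hi
      constructor
      · have := sympForm_mulVec_of_mem A.2 x (Pi.single (Sum.inr i) 1)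
        rw [h2, sympForm_single_inr, sympForm_single_inr] at this
        exact neg_injective this
      · have := sympForm_mulVec_of_mem A.2 x (Pi.single (Sum.inl i) 1)
        rw [h1, sympForm_single_inl, sympForm_single_inl] at this
        exact this
    have hAW : ∀ x, x ∈ W → M *ᵥ x ∈ W := by
      intro x hx i hi
      obtain ⟨h1, h2⟩ := hcoord x i hi
      rw [h1, h2]
      exact hx i hi
    have hekW : (Pi.single (Sum.inl kk) 1 : Fin m ⊕ Fin m → F) ∈ W :=
      single_inl_mem_tailSpace k kk le_rfl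
    have hfkW : (Pi.single (Sum.inr kk) 1 : Fin m ⊕ Fin m → F) ∈ W :=
      single_inr_mem_tailSpace k kk le_rfl
    have hpair : Cfsg.sympForm m F (Pi.single (Sum.inr kk) 1 : Fin m ⊕ Fin m → F)
        (Pi.single (Sum.inl kk) 1) = 1 := by
      rw [sympForm_single_inl, Pi.single_eq_same]
    have hpair' : Cfsg.sympForm m F (M *ᵥ (Pi.single (Sum.inr kk) 1))
        (M *ᵥ (Pi.single (Sum.inl kk) 1)) = 1 := by
      rw [sympForm_mulVec_of_mem A.2, hpair]
    obtain ⟨T, hT, hTf, hTe⟩ := transvIn_hyperbolic_pairs W (tailSpace_nondeg k)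
      (Pi.single (Sum.inr kk) 1) (Pi.single (Sum.inl kk) 1)
      (M *ᵥ (Pi.single (Sum.inr kk) 1)) (M *ᵥ (Pi.single (Sum.inl kk) 1))
      hfkW hekW (hAW _ hfkW) (hAW _ hekW) hpair hpair'
    -- T fixes e_i, f_i for i < k
    have hTfix : ∀ i : Fin m, (i : ℕ) < k →
        (T : Matrix (Fin m ⊕ Fin m) (Fin m ⊕ Fin m) F) *ᵥ (Pi.single (Sum.inl i) 1)
          = Pi.single (Sum.inl i) 1 ∧
        (T : Matrix (Fin m ⊕ Fin m) (Fin m ⊕ Fin m) F) *ᵥ (Pi.single (Sum.inr i) 1)
          = Pi.single (Sum.inr i) 1 := by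
      intro i hi
      constructor
      · apply transvGroupIn_fixes W T hT
        intro w hw
        rw [sympForm_swap, sympForm_single_inl, (hw i hi).2, neg_zero]
      · apply transvGroupIn_fixes W T hT
        intro w hw
        rw [sympForm_swap, sympForm_single_inr, (hw i hi).1, neg_zero, neg_zero]
    -- B = T⁻¹ * A fixes one more pair
    have hB : T⁻¹ * A ∈ transvGroup m F := by
      apply ih (k + 1) (by omega)
      intro i hi
      have hcoe : ((T⁻¹ * A : Matrix.symplecticGroup (Fin m) F) :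
          Matrix (Fin m ⊕ Fin m) (Fin m ⊕ Fin m) F) =
          ((T⁻¹ : Matrix.symplecticGroup (Fin m) F) :
            Matrix (Fin m ⊕ Fin m) (Fin m ⊕ Fin m) F) * M := rfl
      rw [hcoe, ← Matrix.mulVec_mulVec, ← Matrix.mulVec_mulVec]
      rcases Nat.lt_succ_iff_lt_or_eq.mp hi with hlt | heq
      · obtain ⟨h1, h2⟩ := hA i hlt
        obtain ⟨t1, t2⟩ := hTfix i hlt
        rw [h1, h2]
        constructor
        · conv_lhs => rw [← t1]
          exact coe_inv_mulVec_cancel' T _
        · conv_lhs => rw [← t2]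
          exact coe_inv_mulVec_cancel' T _
      · have hik : i = kk := Fin.ext heq
        subst hik
        rw [← hTe, ← hTf]
        exact ⟨coe_inv_mulVec_cancel' T _, coe_inv_mulVec_cancel' T _⟩
    have hTG : T ∈ transvGroup m F := transvGroupIn_le W hT
    have : A = T * (T⁻¹ * A) := by group
    rw [this]
    exact Subgroup.mul_mem _ hTG hB

theorem transvGroup_eq_top : transvGroup m F = ⊤ := by
  rw [eq_top_iff]
  intro A _
  apply mem_transvGroup_of_fixes m 0 (by omega) A
  intro i hi
  exact absurd hi (Nat.not_lt_zero _)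

end Cfsg.Agent.Lib.Helper5
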