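import Mathlib
import Cfsg.Prelude.Def_ClassicalGeometry
import Cfsg.Prelude.Def_GeometricClasses
import Cfsg.Agent.Lib.Helper5.Symp
import Cfsg.Agent.Lib.Helper5.SympTrans
import Cfsg.Agent.Lib.Helper5.SympGen
import Cfsg.Agent.Lib.Helper5.SympGen2

/-!
Common tools for the maximality of subspace stabilisers in `Sp_2m(F)` (as the subgroup `spGL` of GL):
symplectic transvections as elements of GL, the set of centres of the transvections of a subgroup,
generation, orthogonal complements.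
-/

set_option autoImplicit false
set_option linter.unusedSectionVars false
set_option linter.unusedVariables false
set_option linter.unusedSimpArgs false

namespace Cfsg.Agent.Lib.Helper5.SpMax
open Cfsg Matrix Cfsg.Agent.Lib.Helper5

section GLgen
variable {F : Type*} [Field F] {ι : Type} [Fintype ι] [DecidableEq ι]

lemma mul_inv_mulVec (g : GL ι F) (v : ι → F) :
    (g : Matrix ι ι F) *ᵥ (((g⁻¹ : GL ι F) : Matrix ι ι F) *ᵥ v) = v := by
  rw [Matrix.mulVec_mulVec, ← Units.val_mul, mul_inv_cancel, Units.val_one, Matrix.one_mulVec]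

lemma inv_mul_mulVec (g : GL ι F) (v : ι → F) :
    ((g⁻¹ : GL ι F) : Matrix ι ι F) *ᵥ ((g : Matrix ι ι F) *ᵥ v) = v := by
  rw [Matrix.mulVec_mulVec, ← Units.val_mul, inv_mul_cancel, Units.val_one, Matrix.one_mulVec]

lemma mulVec_inj (g : GL ι F) {u v : ι → F}
    (h : (g : Matrix ι ι F) *ᵥ u = (g : Matrix ι ι F) *ᵥ v) : u = v := by
  rw [← inv_mul_mulVec g u, h, inv_mul_mulVec]

lemma mat_eq_of_mulVec {A B : Matrix ι ι F} (h : ∀ v, A *ᵥ v = B *ᵥ v) : A = B := by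
  apply Matrix.toLin'.injective
  apply LinearMap.ext
  intro v
  rw [Matrix.toLin'_apply, Matrix.toLin'_apply, h]

lemma mem_stab {W : Submodule F (ι → F)} {g : GL ι F} :
    g ∈ Cfsg.Geo.subspaceStabilizer W ↔ ∀ v, v ∈ W ↔ (g : Matrix ι ι F) *ᵥ v ∈ W :=
  Iff.rfl

lemma mem_stab_of_maps {W : Submodule F (ι → F)} {g : GL ι F}
    (h1 : ∀ v ∈ W, (g : Matrix ι ι F) *ᵥ v ∈ W)
    (h2 : ∀ v ∈ W, ((g⁻¹ : GL ι F) : Matrix ι ι F) *ᵥ v ∈ W) :
    g ∈ Cfsg.Geo.subspaceStabilizer W := by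
  rw [mem_stab]
  intro v
  constructor
  · exact h1 v
  · intro hv
    have := h2 _ hv
    rwa [inv_mul_mulVec] at this

lemma mem_stab_of_fix {W : Submodule F (ι → F)} {g : GL ι F}
    (h : ∀ x ∈ W, (g : Matrix ι ι F) *ᵥ x = x) : g ∈ Cfsg.Geo.subspaceStabilizer W := by
  apply mem_stab_of_maps
  · intro v hv; rw [h v hv]; exact hv
  · intro v hv
    have h3 : ((g⁻¹ : GL ι F) : Matrix ι ι F) *ᵥ v = v := by
      conv_lhs => rw [← h v hv]
      exact inv_mul_mulVec g v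
    rw [h3]; exact hv

/-- an invertible matrix mapping `W` into itself stabilises `W` -/
lemma mem_stab_of_maps_le {W : Submodule F (ι → F)} {g : GL ι F}
    (h : ∀ w ∈ W, (g : Matrix ι ι F) *ᵥ w ∈ W) : g ∈ Cfsg.Geo.subspaceStabilizer W := by
  apply mem_stab_of_maps h
  set φ : W →ₗ[F] W := (Matrix.toLin' (g : Matrix ι ι F)).restrict
    (fun x hx => by rw [Matrix.toLin'_apply]; exact h x hx) with hφ
  have hinj : Function.Injective φ := by
    intro x y hxy
    have h1 : (g : Matrix ι ι F) *ᵥ (x : ι → F) = (g : Matrix ι ι F) *ᵥ (y : ι → F) := by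
      have := congrArg Subtype.val hxy
      simpa [hφ, LinearMap.restrict_apply] using this
    exact Subtype.ext (mulVec_inj g h1)
  have hsurj : Function.Surjective φ := LinearMap.injective_iff_surjective.mp hinj
  intro v hv
  obtain ⟨w, hw⟩ := hsurj ⟨v, hv⟩
  have h1 : (g : Matrix ι ι F) *ᵥ (w : ι → F) = v := by
    have := congrArg Subtype.val hw
    simpa [hφ, LinearMap.restrict_apply] using this
  rw [← h1, inv_mul_mulVec]
  exact w.2

lemma finrank_le_of_maps {X Y : Submodule F (ι → F)} {g : GL ι F}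
    (h : ∀ x ∈ X, (g : Matrix ι ι F) *ᵥ x ∈ Y) : Module.finrank F X ≤ Module.finrank F Y := by
  set φ : X →ₗ[F] Y := (Matrix.toLin' (g : Matrix ι ι F)).restrict
    (fun x hx => by rw [Matrix.toLin'_apply]; exact h x hx) with hφ
  apply LinearMap.finrank_le_finrank_of_injective (f := φ)
  intro x y hxy
  have h1 : (g : Matrix ι ι F) *ᵥ (x : ι → F) = (g : Matrix ι ι F) *ᵥ (y : ι → F) := by
    have := congrArg Subtype.val hxy
    simpa [hφ, LinearMap.restrict_apply] using this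
  exact Subtype.ext (mulVec_inj g h1)

/-- a subspace mapped into a union of two subspaces is mapped into one of them -/
lemma sub_union (X Y Z : Submodule F (ι → F)) (A : Matrix ι ι F)
    (h : ∀ z ∈ Z, A *ᵥ z ∈ X ∨ A *ᵥ z ∈ Y) :
    (∀ z ∈ Z, A *ᵥ z ∈ X) ∨ (∀ z ∈ Z, A *ᵥ z ∈ Y) := by
  by_contra hcon
  push Not at hcon
  obtain ⟨⟨z₁, hz₁, h1⟩, ⟨z₂, hz₂, h2⟩⟩ := hcon
  have h1' := (h z₁ hz₁).resolve_left h1
  have h2' := (h z₂ hz₂).resolve_right h2
  rcases h (z₁ + z₂) (Z.add_mem hz₁ hz₂) with h3 | h3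
  · rw [Matrix.mulVec_add] at h3
    exact h1 ((X.add_mem_iff_left h2').mp h3)
  · rw [Matrix.mulVec_add] at h3
    exact h2 ((Y.add_mem_iff_right h1').mp h3)

end GLgen

section Sp
variable {F : Type*} [Field F] {m : ℕ}

lemma mem_spGL {g : GL (Fin m ⊕ Fin m) F} : g ∈ spGL m F ↔
    ∀ u v, sympForm m F ((g : Matrix (Fin m ⊕ Fin m) (Fin m ⊕ Fin m) F) *ᵥ u)
      ((g : Matrix (Fin m ⊕ Fin m) (Fin m ⊕ Fin m) F) *ᵥ v) = sympForm m F u v := Iff.rfl

/-- the symplectic transvection as an element of GL -/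
noncomputable def tvc (a : Fin m ⊕ Fin m → F) (c : F) : GL (Fin m ⊕ Fin m) F :=
  ⟨sympTransvection m a c, sympTransvection m a (-c),
    by rw [sympTransvection_mul, add_neg_cancel]; simp [sympTransvection],
    by rw [sympTransvection_mul, neg_add_cancel]; simp [sympTransvection]⟩

lemma tvc_mem (a : Fin m ⊕ Fin m → F) (c : F) : tvc a c ∈ spGL m F :=
  fun u v => sympForm_mulVec_of_mem (sympTransvection_mem m a c) u v

lemma tvc_mulVec (a x : Fin m ⊕ Fin m → F) (c : F) :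
    ((tvc a c : GL (Fin m ⊕ Fin m) F) : Matrix (Fin m ⊕ Fin m) (Fin m ⊕ Fin m) F) *ᵥ x
      = x + (c * sympForm m F x a) • a := by
  change sympTransvection m a c *ᵥ x = _
  rw [sympTransvection_mulVec]

lemma tvc_inv (a : Fin m ⊕ Fin m → F) (c : F) : (tvc a c)⁻¹ = tvc a (-c) := Units.ext rfl

lemma val_mem_symplectic {g : GL (Fin m ⊕ Fin m) F} (hg : g ∈ spGL m F) :
    (g : Matrix (Fin m ⊕ Fin m) (Fin m ⊕ Fin m) F) ∈ Matrix.symplecticGroup (Fin m) F := by
  rw [SymplecticGroup.mem_iff']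
  have h1 : ∀ x y : Fin m ⊕ Fin m → F,
      x ⬝ᵥ (((g : Matrix (Fin m ⊕ Fin m) (Fin m ⊕ Fin m) F)ᵀ * Matrix.J (Fin m) F *
        (g : Matrix (Fin m ⊕ Fin m) (Fin m ⊕ Fin m) F)) *ᵥ y) = x ⬝ᵥ (Matrix.J (Fin m) F *ᵥ y) := by
    intro x y
    have := mem_spGL.mp hg x y
    unfold sympForm at this
    rw [← Matrix.vecMul_transpose, ← Matrix.dotProduct_mulVec, Matrix.mulVec_mulVec,
      Matrix.mulVec_mulVec] at this
    exact this
  ext i j
  have := h1 (Pi.single i 1) (Pi.single j 1)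
  simpa using this

/-- lifting elements of the group generated by the transvections with centres in `U` -/
lemma closure_lift (K : Subgroup (GL (Fin m ⊕ Fin m) F)) (U : Submodule F (Fin m ⊕ Fin m → F))
    (hK : ∀ a ∈ U, ∀ c, tvc a c ∈ K) (A : Matrix.symplecticGroup (Fin m) F)
    (hA : A ∈ transvGroupIn m F U) :
    ∃ y ∈ K, (y : Matrix (Fin m ⊕ Fin m) (Fin m ⊕ Fin m) F) =
      (A : Matrix (Fin m ⊕ Fin m) (Fin m ⊕ Fin m) F) := by
  unfold transvGroupIn at hA
  induction hA using Subgroup.closure_induction with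
  | mem A hA =>
    obtain ⟨w, c, hw, h⟩ := hA
    exact ⟨tvc w c, hK w hw c, h.symm⟩
  | one => exact ⟨1, K.one_mem, rfl⟩
  | mul A B _ _ hA hB =>
    obtain ⟨y, hy, hyA⟩ := hA
    obtain ⟨z, hz, hzB⟩ := hB
    refine ⟨y * z, K.mul_mem hy hz, ?_⟩
    rw [Units.val_mul, hyA, hzB]
    rfl
  | inv A _ hA =>
    obtain ⟨y, hy, hyA⟩ := hA
    refine ⟨y⁻¹, K.inv_mem hy, ?_⟩
    apply Units.inv_eq_of_mul_eq_one_right
    rw [hyA]
    exact congrArg Subtype.val (mul_inv_cancel A)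

/-- the set of centres of the transvection groups contained in `M` -/
def Sset (M : Subgroup (GL (Fin m ⊕ Fin m) F)) : Set (Fin m ⊕ Fin m → F) :=
  {a | ∀ c, tvc a c ∈ M}

lemma le_of_forall_mem_Sset (M : Subgroup (GL (Fin m ⊕ Fin m) F)) (hM : ∀ a, a ∈ Sset M) :
    spGL m F ≤ M := by
  intro x hx
  have hA : (⟨(x : Matrix (Fin m ⊕ Fin m) (Fin m ⊕ Fin m) F), val_mem_symplectic hx⟩ :
      Matrix.symplecticGroup (Fin m) F) ∈ transvGroupIn m F ⊤ := by
    have h1 : transvGroup m F ≤ transvGroupIn m F ⊤ := by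
      apply Subgroup.closure_mono
      rintro A ⟨w, c, h⟩
      exact ⟨w, c, Submodule.mem_top, h⟩
    apply h1
    rw [transvGroup_eq_top]
    trivial
  obtain ⟨y, hy, hyx⟩ := closure_lift M ⊤ (fun a _ c => hM a c) _ hA
  have : y = x := Units.ext hyx
  rwa [← this]

lemma conj_tvc {x : GL (Fin m ⊕ Fin m) F} (hx : x ∈ spGL m F) (a : Fin m ⊕ Fin m → F) (c : F) :
    x * tvc a c * x⁻¹ = tvc ((x : Matrix (Fin m ⊕ Fin m) (Fin m ⊕ Fin m) F) *ᵥ a) c := by
  apply Units.ext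
  apply mat_eq_of_mulVec
  intro v
  rw [Units.val_mul, Units.val_mul, ← Matrix.mulVec_mulVec, ← Matrix.mulVec_mulVec, tvc_mulVec,
    Matrix.mulVec_add, Matrix.mulVec_smul, mul_inv_mulVec, tvc_mulVec]
  have : sympForm m F (((x⁻¹ : GL (Fin m ⊕ Fin m) F) : Matrix (Fin m ⊕ Fin m) (Fin m ⊕ Fin m) F) *ᵥ v) a
      = sympForm m F v ((x : Matrix (Fin m ⊕ Fin m) (Fin m ⊕ Fin m) F) *ᵥ a) := by
    rw [← mem_spGL.mp hx _ a, mul_inv_mulVec]
  rw [this]

lemma Sset_mulVec_mem {M : Subgroup (GL (Fin m ⊕ Fin m) F)} (hMS : M ≤ spGL m F)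
    {x : GL (Fin m ⊕ Fin m) F} (hx : x ∈ M) {a : Fin m ⊕ Fin m → F} (ha : a ∈ Sset M) :
    (x : Matrix (Fin m ⊕ Fin m) (Fin m ⊕ Fin m) F) *ᵥ a ∈ Sset M := by
  intro c
  rw [← conj_tvc (hMS hx)]
  exact M.mul_mem (M.mul_mem hx (ha c)) (M.inv_mem hx)

/-- orthogonal complement -/
def perp (W : Submodule F (Fin m ⊕ Fin m → F)) : Submodule F (Fin m ⊕ Fin m → F) where
  carrier := {v | ∀ w ∈ W, sympForm m F v w = 0}
  add_mem' := by
    intro a b ha hb w hw
    rw [sympForm_add_left, ha w hw, hb w hw, add_zero]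
  zero_mem' := by
    intro w _
    exact sympForm_zero_left w
  smul_mem' := by
    intro c a ha w hw
    rw [sympForm_smul_left, ha w hw, mul_zero]

lemma mem_perp {W : Submodule F (Fin m ⊕ Fin m → F)} {v : Fin m ⊕ Fin m → F} :
    v ∈ perp W ↔ ∀ w ∈ W, sympForm m F v w = 0 := Iff.rfl

lemma tvc_mem_stab_of_mem {W : Submodule F (Fin m ⊕ Fin m → F)} {a : Fin m ⊕ Fin m → F}
    (ha : a ∈ W) (c : F) : tvc a c ∈ Cfsg.Geo.subspaceStabilizer W := by
  rw [mem_stab]
  intro v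
  rw [tvc_mulVec, W.add_mem_iff_left (W.smul_mem _ ha)]

lemma tvc_mem_stab_of_perp {W : Submodule F (Fin m ⊕ Fin m → F)} {a : Fin m ⊕ Fin m → F}
    (ha : a ∈ perp W) (c : F) : tvc a c ∈ Cfsg.Geo.subspaceStabilizer W := by
  apply mem_stab_of_fix
  intro x hx
  have : sympForm m F x a = 0 := by rw [sympForm_swap, ha x hx, neg_zero]
  rw [tvc_mulVec, this, mul_zero, zero_smul, add_zero]

/-- the form as a bilinear map -/
noncomputable def Bform (m : ℕ) (F : Type*) [Field F] :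
    (Fin m ⊕ Fin m → F) →ₗ[F] (Fin m ⊕ Fin m → F) →ₗ[F] F :=
  LinearMap.mk₂ F (sympForm m F) sympForm_add_left
    (fun c x y => by rw [sympForm_smul_left, smul_eq_mul]) sympForm_add_right
    (fun c x y => by rw [sympForm_smul_right, smul_eq_mul])

lemma Bform_apply (u v : Fin m ⊕ Fin m → F) : Bform m F u v = sympForm m F u v := rfl

/-- orthogonal decomposition with respect to a non-degenerate subspace -/
lemma exists_decomp (W : Submodule F (Fin m ⊕ Fin m → F))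
    (hW : ∀ w ∈ W, w ≠ 0 → ∃ x ∈ W, sympForm m F w x ≠ 0) (v : Fin m ⊕ Fin m → F) :
    ∃ a ∈ W, v - a ∈ perp W := by
  set Ψ : W →ₗ[F] W →ₗ[F] F := (Bform m F).domRestrict₁₂ W W with hΨ
  have hinj : Function.Injective Ψ := by
    rw [injective_iff_map_eq_zero]
    intro a ha
    by_contra ha0
    have ha0' : (a : Fin m ⊕ Fin m → F) ≠ 0 := fun h => ha0 (Subtype.ext h)
    obtain ⟨x, hxW, hx⟩ := hW a a.2 ha0'
    apply hx
    have := LinearMap.congr_fun ha ⟨x, hxW⟩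
    simpa [hΨ, LinearMap.domRestrict₁₂_apply, Bform_apply] using this
  have hsurj : Function.Surjective Ψ :=
    (LinearMap.injective_iff_surjective_of_finrank_eq_finrank
      (Subspace.dual_finrank_eq (K := F) (V := W)).symm).mp hinj
  obtain ⟨a, ha⟩ := hsurj ((Bform m F v).domRestrict W)
  refine ⟨a, a.2, fun w hw => ?_⟩
  have := LinearMap.congr_fun ha ⟨w, hw⟩
  have h2 : sympForm m F a w = sympForm m F v w := by
    simpa [hΨ, LinearMap.domRestrict₁₂_apply, Bform_apply, LinearMap.domRestrict_apply] using this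
  rw [sympForm_sub_left, h2, sub_self]

end Sp

end Cfsg.Agent.Lib.Helper5.SpMax
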