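import Cfsg.Agent.Lib.Helper25.POmegaSimple

set_option autoImplicit false
set_option linter.unusedSectionVars false
set_option linter.unusedVariables false
set_option linter.unusedSimpArgs false

namespace Cfsg.Agent.Lib.Helper5.TSMax

open Module QuadraticMap Matrix Cfsg.Agent.Lib.Helper25.CD Cfsg.Agent.Lib.Helper25.Spin
  Cfsg.Agent.Lib.Helper25.Fam Cfsg.Agent.Lib.Helper25.Siegel
  Cfsg.Agent.Lib.Helper25.PS Cfsg.Agent.Lib.Helper25.OGeom Cfsg.Agent.Lib.Helper15

section general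

variable {F : Type*} [Field F] {V : Type*} [AddCommGroup V] [Module F V] (Q : QuadraticForm F V)

theorem pself {u : V} (hu : Q u = 0) : polar Q u u = 0 := by
  rw [Cfsg.Agent.Lib.Helper25.MaxTS.polar_self, hu, mul_zero]

theorem Q_sub' (x y : V) : Q (x - y) = Q x + Q y - polar Q x y := by
  have h := Cfsg.Agent.Lib.Helper25.MaxTS.Q_add_smul (Q := Q) x y (-1)
  have e : x + (-1 : F) • y = x - y := by module
  rw [e] at h
  rw [h]; ring

/-- Siegel maps with `u ∈ W` stabilise the totally singular `W`. -/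
theorem siegF_mem_of_left {W : Submodule F V} (hW : Cfsg.Agent.Lib.Helper25.MaxTS.TS Q W) {u : V}
    (hu : u ∈ W) (v : V) (c : F) {x : V} (hx : x ∈ W) : siegF Q u v c x ∈ W := by
  unfold siegF
  rw [hW.polar_eq_zero hu hx, zero_smul, zero_sub]
  exact W.add_mem hx (W.smul_mem _ (W.neg_mem (W.smul_mem _ hu)))

theorem siegF_fix {u v x : V} (h1 : polar Q u x = 0) (h2 : polar Q v x = 0) (c : F) :
    siegF Q u v c x = x := by
  unfold siegF
  rw [h1, h2]; simp

/-- Moving `w` to `w'` by two Siegel maps based at `u`. -/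
theorem sieg_move {u w w' e : V} {b : F} (hb : b ≠ 0) (hu : Q u = 0) (hw : Q w = 0)
    (hw' : Q w' = 0) (h1 : polar Q u w = b) (h2 : polar Q u w' = b) (he : Q e = 0)
    (hue : polar Q u e = 0) (hed : polar Q e (w' - w) = Q (w' - w)) :
    siegF Q u e b⁻¹ (siegF Q u (w' - w - e) b⁻¹ w) = w' := by
  have hQd : Q (w' - w) = - polar Q w' w := by rw [Q_sub', hw, hw']; ring
  have hew : polar Q e w' - polar Q e w = - polar Q w' w := by
    rw [← hQd, ← hed, polar_sub_right]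
  unfold siegF
  simp only [polar_add_right, polar_smul_right, polar_sub_right, polar_sub_left, polar_add_left,
    polar_smul_left, smul_eq_mul, h1, h2, hue, pself Q hu, pself Q hw, pself Q he,
    polar_comm Q w u, polar_comm Q w' u, polar_comm Q e u, polar_comm Q w e, polar_comm Q w' e]
  have hew' : polar Q e w' = polar Q e w - polar Q w' w := by linear_combination hew
  rw [hew']
  match_scalars <;> field_simp <;> ring

/-- The element used in the totally singular overspace case. -/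
theorem sieg_pair_apply {s r y e : V} (hs : Q s = 0) (hr : Q r = 0) (hsr : polar Q s r = 1)
    (hsy : polar Q s y = 0) (hry : polar Q r y = 0) (he : Q e = 0) (hse : polar Q s e = 0)
    (hey : polar Q e y = Q y) :
    siegF Q s e 1 (siegF Q s (y - e) 1 r) = r + y - Q y • s := by
  unfold siegF
  simp only [polar_add_right, polar_smul_right, polar_sub_right, polar_sub_left, polar_add_left,
    polar_smul_left, smul_eq_mul, hsr, hsy, hry, hse, hey, pself Q hs, pself Q hr, pself Q he,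
    polar_comm Q r s, polar_comm Q y s, polar_comm Q e s, polar_comm Q y r, polar_comm Q y e]
  match_scalars <;> ring

theorem sieg_pair_fix {s y e x : V} (hs : Q s = 0) (hse : polar Q s e = 0)
    (hsx : polar Q s x = 0) (hyx : polar Q y x = 0) :
    siegF Q s e 1 (siegF Q s (y - e) 1 x) = x := by
  unfold siegF
  simp only [polar_add_right, polar_smul_right, polar_sub_right, polar_sub_left, polar_add_left,
    polar_smul_left, smul_eq_mul, hsx, hyx, hse, pself Q hs, polar_comm Q e s]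
  match_scalars <;> ring

end general

section matrix

variable {ι : Type} [Fintype ι] [DecidableEq ι] {F : Type*} [Field F] [Fintype F]
  (Q : QuadraticForm F (ι → F))

/-- `P` is good for `M` if its root group lies in `M`. -/
def Good (M : Subgroup ↥(Cfsg.isometryGroup F ⇑Q)) (P : SPt Q) : Prop := X Q P ≤ M

theorem good_smul {M : Subgroup ↥(Cfsg.isometryGroup F ⇑Q)} {g : ↥(Cfsg.isometryGroup F ⇑Q)}
    (hg : g ∈ M) {P : SPt Q} (hP : Good Q M P) : Good Q M (g • P) := by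
  intro h hh
  rw [mem_X_smul] at hh
  have h1 := hP hh
  have e : h = g * (g⁻¹ * h * g) * g⁻¹ := by group
  rw [e]
  exact M.mul_mem (M.mul_mem hg h1) (M.inv_mem hg)

theorem siegG_mem_X {u : ι → F} (hu0 : u ≠ 0) (hu : Q u = 0) (v : ι → F) (c : F) (hv : Q v = 0)
    (huv : polar Q u v = 0) : siegG Q u v c hu hv huv ∈ X Q (mk' Q u hu0 hu) :=
  Subgroup.subset_closure ⟨u, Submodule.mem_span_singleton_self u, hu0, v, c, hv, huv, rfl⟩

theorem exists_mem_X_move (hQ : (polarBilin Q).Nondegenerate) (hn : 5 ≤ Fintype.card ι)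
    {u w w' : ι → F} (hu0 : u ≠ 0) (hu : Q u = 0) (hw0 : w ≠ 0) (hw : Q w = 0) (hw'0 : w' ≠ 0)
    (hw' : Q w' = 0) (h1 : polar Q u w ≠ 0) (h2 : polar Q u w' ≠ 0) :
    ∃ g ∈ X Q (mk' Q u hu0 hu), g • mk' Q w hw0 hw = mk' Q w' hw'0 hw' := by
  obtain ⟨b, hb⟩ : ∃ b, b = polar Q u w := ⟨_, rfl⟩
  have hb0 : b ≠ 0 := by rw [hb]; exact h1
  obtain ⟨t, ht⟩ : ∃ t, t = b * (polar Q u w')⁻¹ := ⟨_, rfl⟩
  obtain ⟨w'', hw''⟩ : ∃ w'', w'' = t • w' := ⟨_, rfl⟩
  have hQw'' : Q w'' = 0 := by rw [hw'', QuadraticMap.map_smul, hw', smul_zero]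
  have h2' : polar Q u w'' = b := by
    rw [hw'', polar_smul_right, smul_eq_mul, ht, mul_assoc, inv_mul_cancel₀ h2, mul_one]
  obtain ⟨d, hd⟩ : ∃ d, d = w'' - w := ⟨_, rfl⟩
  have hud : polar Q u d = 0 := by rw [hd, polar_sub_right, h2', ← hb, sub_self]
  obtain ⟨e, he, hue, hed⟩ : ∃ e, Q e = 0 ∧ polar Q u e = 0 ∧ polar Q e d = Q d := by
    by_cases hQd : Q d = 0
    · exact ⟨0, by simp, by simp, by rw [hQd]; simp⟩
    · obtain ⟨w0, hw0def⟩ : ∃ w0, w0 = b⁻¹ • w := ⟨_, rfl⟩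
      have hQw0 : Q w0 = 0 := by rw [hw0def, QuadraticMap.map_smul, hw, smul_zero]
      have huw0 : polar Q u w0 = 1 := by
        rw [hw0def, polar_smul_right, smul_eq_mul, ← hb, inv_mul_cancel₀ hb0]
      have hnd := perpPair_nd Q ⊤ (ndOn_top Q hQ) (e := u) (f := w0) Submodule.mem_top
        Submodule.mem_top hu hQw0 huw0
      have hfr := perpPair_finrank Q ⊤ (e := u) (f := w0) Submodule.mem_top Submodule.mem_top hu
        hQw0 huw0
      rw [finrank_top, Module.finrank_fintype_fun_eq_card] at hfr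
      obtain ⟨d', hd'⟩ : ∃ d', d' = d - polar Q w0 d • u := ⟨_, rfl⟩
      have hd'mem : d' ∈ perpPair Q ⊤ u w0 := by
        rw [mem_perpPair]
        refine ⟨Submodule.mem_top, ?_, ?_⟩
        · rw [hd', polar_sub_right, polar_smul_right, pself Q hu, hud]; simp
        · rw [hd', polar_sub_right, polar_smul_right, polar_comm Q w0 u, huw0]; simp
      have hd'0 : d' ≠ 0 := by
        intro h0
        apply hQd
        have e1 : d = polar Q w0 d • u := by rw [hd'] at h0; exact sub_eq_zero.1 h0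
        rw [e1, QuadraticMap.map_smul, hu, smul_zero]
      obtain ⟨z, hzN, hQz, hdz⟩ := exists_sing_not_perp Q hnd (by omega) hd'mem hd'0
      rw [mem_perpPair] at hzN
      have hdz' : polar Q d z ≠ 0 := by
        have e1 : polar Q d' z = polar Q d z := by
          rw [hd', polar_sub_left, polar_smul_left, hzN.2.1]; simp
        rwa [e1] at hdz
      refine ⟨(Q d * (polar Q d z)⁻¹) • z, ?_, ?_, ?_⟩
      · rw [QuadraticMap.map_smul, hQz, smul_zero]
      · rw [polar_smul_right, hzN.2.1, smul_zero]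
      · rw [polar_smul_left, polar_comm Q z d, smul_eq_mul, mul_assoc, inv_mul_cancel₀ hdz',
          mul_one]
  have hd2 : Q (d - e) = 0 := by
    rw [Q_sub', he, polar_comm Q d e, hed]; ring
  have hud2 : polar Q u (d - e) = 0 := by rw [polar_sub_right, hud, hue, sub_zero]
  refine ⟨siegG Q u e b⁻¹ hu he hue * siegG Q u (d - e) b⁻¹ hu hd2 hud2,
    mul_mem (siegG_mem_X Q hu0 hu e _ he hue) (siegG_mem_X Q hu0 hu _ _ hd2 hud2), ?_⟩
  rw [smul_mk']
  apply mk'_eq_of_smul Q hw'0 hw' _ _ (t := t)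
  rw [map_mul, LinearEquiv.mul_apply, toOG_siegG, toOG_siegG, ← hw'']
  have := sieg_move Q hb0 hu hw hQw'' hb.symm h2' he hue (by rw [← hd]; exact hed)
  rw [← hd] at this
  exact this

theorem all_good_of_opposite (hQ : (polarBilin Q).Nondegenerate) (hn : 5 ≤ Fintype.card ι)
    (M : Subgroup ↥(Cfsg.isometryGroup F ⇑Q)) {P R : SPt Q} (hP : Good Q M P) (hR : Good Q M R)
    (hPR : ¬ ort Q P R) : ∀ S, Good Q M S := by
  have key : ∀ (u w : ι → F) (hu0 : u ≠ 0) (hu : Q u = 0) (hw0 : w ≠ 0) (hw : Q w = 0),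
      Good Q M (mk' Q u hu0 hu) → Good Q M (mk' Q w hw0 hw) → polar Q u w ≠ 0 →
      ∀ (s : ι → F) (hs0 : s ≠ 0) (hs : Q s = 0), polar Q u s ≠ 0 →
        Good Q M (mk' Q s hs0 hs) := by
    intro u w hu0 hu hw0 hw hP hR huw s hs0 hs hus
    obtain ⟨g, hgX, hg⟩ := exists_mem_X_move Q hQ hn hu0 hu hw0 hw hs0 hs huw hus
    rw [← hg]
    exact good_smul Q (hP hgX) hR
  obtain ⟨u, hu0, hu, rfl⟩ := exists_rep Q P
  obtain ⟨w, hw0, hw, rfl⟩ := exists_rep Q R
  rw [ort_mk'] at hPR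
  intro S
  obtain ⟨s, hs0, hs, rfl⟩ := exists_rep Q S
  by_cases hus : polar Q u s = 0
  · obtain ⟨z, hQz, hzu, hzs⟩ := exists_sing_nonperp_pair Q hQ hu0 hs0 hu hs hus
    have hz0 : z ≠ 0 := by
      rintro rfl
      simp at hzu
    have hT : Good Q M (mk' Q z hz0 hQz) :=
      key u w hu0 hu hw0 hw hP hR hPR z hz0 hQz (by rw [polar_comm]; exact hzu)
    exact key z u hz0 hQz hu0 hu hT hP hzu s hs0 hs hzs
  · exact key u w hu0 hu hw0 hw hP hR hPR s hs0 hs hus

theorem eq_omega_of_all_good (hQ : (polarBilin Q).Nondegenerate) (hn : 7 ≤ Fintype.card ι)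
    (M : Subgroup ↥(Cfsg.isometryGroup F ⇑Q)) (hM : M ≤ Cfsg.Omega F ⇑Q)
    (h : ∀ S, Good Q M S) : M = Cfsg.Omega F ⇑Q := by
  apply le_antisymm hM
  rw [omega_eq_root' Q hQ hn]
  exact (rootSet_le_iSup_X Q).trans (iSup_le h)

theorem good_of_mem (hQ : (polarBilin Q).Nondegenerate) (hn : 7 ≤ Fintype.card ι)
    {W : Submodule F (ι → F)} (hW : Cfsg.Agent.Lib.Helper25.MaxTS.TS Q W)
    {M : Subgroup ↥(Cfsg.isometryGroup F ⇑Q)} (hM : stabSub Q W ⊓ Cfsg.Omega F ⇑Q ≤ M)
    {u : ι → F} (hu0 : u ≠ 0) (hu : Q u = 0) (huW : u ∈ W) : Good Q M (mk' Q u hu0 hu) := by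
  unfold Good X
  rw [Subgroup.closure_le]
  rintro g ⟨u', hu'P, hu'0, v, c, hv, hu'v, hg⟩
  have hu'W : u' ∈ W := by
    rw [mk'_val] at hu'P
    obtain ⟨a, rfl⟩ := Submodule.mem_span_singleton.1 hu'P
    exact W.smul_mem _ huW
  have hQu' : Q u' = 0 := hW u' hu'W
  rw [eq_siegG_of_coe Q hQu' hv hu'v hg]
  apply hM
  refine Subgroup.mem_inf.2 ⟨?_, siegG_mem_omega Q hQ hn u' v c hQu' hv hu'v⟩
  apply mem_stabSub_of_le
  intro x hx
  rw [toOG_siegG]
  exact siegF_mem_of_left Q hW hu'W v c hx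

theorem ts_finrank_le (hQ : (polarBilin Q).Nondegenerate) {U : Submodule F (ι → F)}
    (hU : Cfsg.Agent.Lib.Helper25.MaxTS.TS Q U) : 2 * finrank F U ≤ Fintype.card ι := by
  have h1 := Cfsg.Agent.Lib.Helper25.MaxTS.finrank_perp hQ U
  have h2 : finrank F U ≤ finrank F (Cfsg.Agent.Lib.Helper25.MaxTS.perp Q U) :=
    Submodule.finrank_mono hU.le_perp
  have h3 : finrank F U ≤ finrank F (ι → F) := Submodule.finrank_le U
  rw [Module.finrank_fintype_fun_eq_card] at h1 h3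
  omega

/-- The key step: a subgroup of `Ω` properly containing the stabiliser of the totally singular
subspace `W` is `Ω`. -/
theorem eq_omega_of_lt (hQ : (polarBilin Q).Nondegenerate) (hn : 7 ≤ Fintype.card ι)
    {W : Submodule F (ι → F)} (hW : Cfsg.Agent.Lib.Helper25.MaxTS.TS Q W)
    (hex : ¬ (Fintype.card ι = 2 * (finrank F W + 1) ∧
      ∃ U : Submodule F (ι → F), Cfsg.Agent.Lib.Helper25.MaxTS.TS Q U ∧
        finrank F U = finrank F W + 1))
    (M : Subgroup ↥(Cfsg.isometryGroup F ⇑Q)) (hSM : stabSub Q W ⊓ Cfsg.Omega F ⇑Q ≤ M)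
    (hMΩ : M ≤ Cfsg.Omega F ⇑Q) (hne : M ≠ stabSub Q W ⊓ Cfsg.Omega F ⇑Q) :
    M = Cfsg.Omega F ⇑Q := by
  obtain ⟨h, hhM, hhS⟩ : ∃ h ∈ M, h ∉ stabSub Q W := by
    by_contra hcon
    push Not at hcon
    apply hne
    exact le_antisymm (fun g hg => Subgroup.mem_inf.2 ⟨hcon g hg, hMΩ hg⟩) hSM
  obtain ⟨x, hxW, hrW⟩ : ∃ x ∈ W, toOG Q h x ∉ W := by
    by_contra hcon
    push Not at hcon
    exact hhS (mem_stabSub_of_le Q hcon)
  have hx0 : x ≠ 0 := by
    rintro rfl
    apply hrW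
    rw [map_zero]
    exact W.zero_mem
  have hQx : Q x = 0 := hW x hxW
  have hgx : Good Q M (mk' Q x hx0 hQx) := good_of_mem Q hQ hn hW hSM hx0 hQx hxW
  have hgr0 := good_smul Q hhM hgx
  rw [smul_mk'] at hgr0
  obtain ⟨r, hr⟩ : ∃ r, r = toOG Q h x := ⟨_, rfl⟩
  have hr0 : r ≠ 0 := by
    rintro rfl
    apply hrW
    rw [← hr]
    exact W.zero_mem
  have hQr : Q r = 0 := by rw [hr, Q_toOG, hQx]
  have hgr : Good Q M (mk' Q r hr0 hQr) := by
    subst hr
    exact hgr0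
  rw [← hr] at hrW
  apply eq_omega_of_all_good Q hQ hn M hMΩ
  by_cases hperp : ∀ u ∈ W, polar Q u r = 0
  swap
  · push Not at hperp
    obtain ⟨u, huW, hur⟩ := hperp
    have hu0 : u ≠ 0 := by
      rintro rfl
      simp at hur
    have hQu : Q u = 0 := hW u huW
    exact all_good_of_opposite Q hQ (by omega) M (good_of_mem Q hQ hn hW hSM hu0 hQu huW) hgr
      (by rw [ort_mk']; exact hur)
  -- the case `r ∈ W^⊥`
  have hrperp : r ∈ Cfsg.Agent.Lib.Helper25.MaxTS.perp Q W :=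
    Cfsg.Agent.Lib.Helper25.MaxTS.mem_perp.2 hperp
  have hU'TS : Cfsg.Agent.Lib.Helper25.MaxTS.TS Q (W ⊔ Submodule.span F {r}) :=
    hW.sup_span hQr hrperp
  have hU'fr : finrank F (W ⊔ Submodule.span F {r} : Submodule F (ι → F)) = finrank F W + 1 :=
    Cfsg.Agent.Lib.Helper25.MaxTS.finrank_sup_span hrW
  have hle := ts_finrank_le Q hQ hU'TS
  have hn3 : 2 * finrank F W + 3 ≤ Fintype.card ι := by
    have h1 : Fintype.card ι ≠ 2 * (finrank F W + 1) := fun h => hex ⟨h, _, hU'TS, hU'fr⟩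
    rw [hU'fr] at hle
    omega
  -- a singular `s ∈ W^⊥` with `f(s, r) = 1`
  obtain ⟨s0, hs0perp, hs0r⟩ : ∃ s0 ∈ Cfsg.Agent.Lib.Helper25.MaxTS.perp Q W,
      polar Q s0 r ≠ 0 := by
    by_contra hcon
    push Not at hcon
    apply hrW
    rw [← Cfsg.Agent.Lib.Helper25.MaxTS.perp_perp hQ W, Cfsg.Agent.Lib.Helper25.MaxTS.mem_perp]
    exact hcon
  obtain ⟨s1, hs1⟩ : ∃ s1, s1 = s0 + (-(Q s0 * (polar Q s0 r)⁻¹)) • r := ⟨_, rfl⟩
  have hQs1 : Q s1 = 0 := by
    rw [hs1, Cfsg.Agent.Lib.Helper25.MaxTS.Q_add_smul, hQr]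
    field_simp
    ring
  have hs1perp : s1 ∈ Cfsg.Agent.Lib.Helper25.MaxTS.perp Q W := by
    rw [hs1]
    exact Submodule.add_mem _ hs0perp (Submodule.smul_mem _ _ hrperp)
  have hs1r : polar Q s1 r = polar Q s0 r := by
    rw [hs1, polar_add_left, polar_smul_left, pself Q hQr]
    simp
  obtain ⟨s, hs⟩ : ∃ s, s = (polar Q s0 r)⁻¹ • s1 := ⟨_, rfl⟩
  have hQs : Q s = 0 := by rw [hs, QuadraticMap.map_smul, hQs1, smul_zero]
  have hsperp : s ∈ Cfsg.Agent.Lib.Helper25.MaxTS.perp Q W := by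
    rw [hs]
    exact Submodule.smul_mem _ _ hs1perp
  have hsr : polar Q s r = 1 := by
    rw [hs, polar_smul_left, hs1r, smul_eq_mul, inv_mul_cancel₀ hs0r]
  -- the subspace `T = W + <r, s>` and a nonsingular `y ∈ T^⊥`
  obtain ⟨T, hT⟩ : ∃ T : Submodule F (ι → F), T = W ⊔ Submodule.span F {r, s} := ⟨_, rfl⟩
  have hTfr : finrank F T ≤ finrank F W + 2 := by
    rw [hT]
    exact (Submodule.finrank_add_le_finrank_add_finrank _ _).trans
      (Nat.add_le_add_left (finrank_span_pair_le r s) _)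
  have hperpT : ∀ y, y ∈ Cfsg.Agent.Lib.Helper25.MaxTS.perp Q T ↔
      (∀ w ∈ W, polar Q w y = 0) ∧ polar Q r y = 0 ∧ polar Q s y = 0 := by
    intro y
    rw [Cfsg.Agent.Lib.Helper25.MaxTS.mem_perp, hT]
    constructor
    · intro h
      exact ⟨fun w hw => h w (Submodule.mem_sup_left hw),
        h r (Submodule.mem_sup_right (Submodule.subset_span (by simp))),
        h s (Submodule.mem_sup_right (Submodule.subset_span (by simp)))⟩
    · rintro ⟨h1, h2, h3⟩ t ht
      obtain ⟨w, hw, z, hz, rfl⟩ := Submodule.mem_sup.1 ht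
      obtain ⟨a, b, rfl⟩ := Submodule.mem_span_pair.1 hz
      rw [polar_add_left, polar_add_left, polar_smul_left, polar_smul_left, h1 w hw, h2, h3]
      simp
  have hWT : W ≤ Cfsg.Agent.Lib.Helper25.MaxTS.perp Q T := by
    intro w hw
    rw [hperpT]
    refine ⟨fun w' hw' => hW.polar_eq_zero hw' hw, ?_, ?_⟩
    · rw [polar_comm]
      exact Cfsg.Agent.Lib.Helper25.MaxTS.mem_perp.1 hrperp w hw
    · rw [polar_comm]
      exact Cfsg.Agent.Lib.Helper25.MaxTS.mem_perp.1 hsperp w hw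
  have hfrT : finrank F W < finrank F (Cfsg.Agent.Lib.Helper25.MaxTS.perp Q T) := by
    rw [Cfsg.Agent.Lib.Helper25.MaxTS.finrank_perp hQ, Module.finrank_fintype_fun_eq_card]
    omega
  obtain ⟨y0, hy0T, hy0W⟩ : ∃ y0 ∈ Cfsg.Agent.Lib.Helper25.MaxTS.perp Q T, y0 ∉ W := by
    by_contra hcon
    push Not at hcon
    have := Submodule.finrank_mono (show Cfsg.Agent.Lib.Helper25.MaxTS.perp Q T ≤ W from hcon)
    omega
  have hy0nT : y0 ∉ T := by
    intro hy0
    rw [hT] at hy0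
    obtain ⟨w, hw, z, hz, hwz⟩ := Submodule.mem_sup.1 hy0
    obtain ⟨a, b, rfl⟩ := Submodule.mem_span_pair.1 hz
    obtain ⟨h1, h2, h3⟩ := (hperpT _).1 hy0T
    have hrw : polar Q r w = 0 := by
      rw [polar_comm]
      exact Cfsg.Agent.Lib.Helper25.MaxTS.mem_perp.1 hrperp w hw
    have hsw : polar Q s w = 0 := by
      rw [polar_comm]
      exact Cfsg.Agent.Lib.Helper25.MaxTS.mem_perp.1 hsperp w hw
    rw [← hwz, polar_add_right, polar_add_right, polar_smul_right, polar_smul_right, hrw,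
      pself Q hQr, polar_comm Q r s, hsr] at h2
    rw [← hwz, polar_add_right, polar_add_right, polar_smul_right, polar_smul_right, hsw,
      pself Q hQs, hsr] at h3
    have hb : b = 0 := by simpa using h2
    have ha : a = 0 := by simpa using h3
    apply hy0W
    rw [← hwz, ha, hb]
    simpa using hw
  obtain ⟨y, hyT, hQy⟩ : ∃ y ∈ Cfsg.Agent.Lib.Helper25.MaxTS.perp Q T, Q y ≠ 0 := by
    by_cases h0 : Q y0 = 0
    swap
    · exact ⟨y0, hy0T, h0⟩
    obtain ⟨y1, hy1T, hy10⟩ : ∃ y1 ∈ Cfsg.Agent.Lib.Helper25.MaxTS.perp Q T,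
        polar Q y1 y0 ≠ 0 := by
      by_contra hcon
      push Not at hcon
      apply hy0nT
      rw [← Cfsg.Agent.Lib.Helper25.MaxTS.perp_perp hQ T, Cfsg.Agent.Lib.Helper25.MaxTS.mem_perp]
      exact hcon
    by_cases h1 : Q y1 = 0
    swap
    · exact ⟨y1, hy1T, h1⟩
    refine ⟨y1 + y0, Submodule.add_mem _ hy1T hy0T, ?_⟩
    rw [Cfsg.Agent.Lib.Helper25.MaxTS.Q_add, h0, h1, zero_add, zero_add]
    exact hy10
  obtain ⟨hyW, hry, hsy⟩ := (hperpT y).1 hyT
  -- the singular `e`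
  have hnd := perpPair_nd Q ⊤ (ndOn_top Q hQ) (e := s) (f := r) Submodule.mem_top
    Submodule.mem_top hQs hQr hsr
  have hfr := perpPair_finrank Q ⊤ (e := s) (f := r) Submodule.mem_top Submodule.mem_top hQs
    hQr hsr
  rw [finrank_top, Module.finrank_fintype_fun_eq_card] at hfr
  have hymem : y ∈ perpPair Q ⊤ s r := by
    rw [mem_perpPair]
    exact ⟨Submodule.mem_top, hsy, hry⟩
  have hy0' : y ≠ 0 := by
    rintro rfl
    simp at hQy
  obtain ⟨z, hzN, hQz, hyz⟩ := exists_sing_not_perp Q hnd (by omega) hymem hy0'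
  rw [mem_perpPair] at hzN
  obtain ⟨e, he⟩ : ∃ e, e = (Q y * (polar Q y z)⁻¹) • z := ⟨_, rfl⟩
  have hQe : Q e = 0 := by rw [he, QuadraticMap.map_smul, hQz, smul_zero]
  have hse : polar Q s e = 0 := by rw [he, polar_smul_right, hzN.2.1, smul_zero]
  have hey : polar Q e y = Q y := by
    rw [he, polar_smul_left, polar_comm Q z y, smul_eq_mul, mul_assoc, inv_mul_cancel₀ hyz,
      mul_one]
  have hQye : Q (y - e) = 0 := by
    rw [Q_sub', hQe, polar_comm Q y e, hey]
    ring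
  have hsye : polar Q s (y - e) = 0 := by rw [polar_sub_right, hsy, hse, sub_zero]
  obtain ⟨g, hg⟩ : ∃ g, g = siegG Q s e 1 hQs hQe hse * siegG Q s (y - e) 1 hQs hQye hsye :=
    ⟨_, rfl⟩
  have hgval : ∀ v, toOG Q g v = siegF Q s e 1 (siegF Q s (y - e) 1 v) := by
    intro v
    rw [hg, map_mul, LinearEquiv.mul_apply, toOG_siegG, toOG_siegG]
  have hgM : g ∈ M := by
    apply hSM
    refine Subgroup.mem_inf.2 ⟨?_, ?_⟩
    · apply mem_stabSub_of_le
      intro v hv
      rw [hgval, sieg_pair_fix Q hQs hse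
        (by rw [polar_comm]; exact Cfsg.Agent.Lib.Helper25.MaxTS.mem_perp.1 hsperp v hv)
        (by rw [polar_comm]; exact hyW v hv)]
      exact hv
    · rw [hg]
      exact mul_mem (siegG_mem_omega Q hQ hn _ _ _ hQs hQe hse)
        (siegG_mem_omega Q hQ hn _ _ _ hQs hQye hsye)
  have hgr' := good_smul Q hgM hgr
  rw [smul_mk'] at hgr'
  refine all_good_of_opposite Q hQ (by omega) M hgr' hgr ?_
  rw [ort_mk', hgval, sieg_pair_apply Q hQs hQr hsr hsy hry hQe hse hey]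
  rw [polar_sub_left, polar_add_left, polar_smul_left, pself Q hQr, hsr, polar_comm Q y r, hry]
  simpa using hQy

theorem stab_lt (hQ : (polarBilin Q).Nondegenerate) (hn : 5 ≤ Fintype.card ι)
    {W : Submodule F (ι → F)} (hW : Cfsg.Agent.Lib.Helper25.MaxTS.TS Q W) (hW0 : W ≠ ⊥) :
    stabSub Q W ⊓ Cfsg.Omega F ⇑Q < Cfsg.Omega F ⇑Q := by
  refine lt_of_le_of_ne inf_le_right ?_
  intro heq
  have hle : Cfsg.Omega F ⇑Q ≤ stabSub Q W := by
    rw [← heq]
    exact inf_le_left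
  obtain ⟨u, huW, hu0⟩ := (Submodule.ne_bot_iff W).1 hW0
  have hQu : Q u = 0 := hW u huW
  have hall : ∀ x ∈ {x : ι → F | Q x = 0}, x ∈ W := by
    intro x hQx
    by_cases hx0 : x = 0
    · rw [hx0]
      exact W.zero_mem
    have := omega_pretransitive Q hQ hn
    obtain ⟨g, hg⟩ := MulAction.exists_smul_eq ↥(Cfsg.Omega F ⇑Q) (mk' Q u hu0 hQu)
      (mk' Q x hx0 hQx)
    have hg' : (g : ↥(Cfsg.isometryGroup F ⇑Q)) • mk' Q u hu0 hQu = mk' Q x hx0 hQx := hg
    rw [smul_mk'] at hg'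
    obtain ⟨t, ht⟩ := exists_smul_of_mk'_eq Q _ _ hx0 hQx hg'.symm
    rw [ht]
    apply W.smul_mem
    have h1 := (mem_stabSub Q).1 (hle g.2)
    rw [← h1]
    exact Submodule.mem_map_of_mem huW
  have h3 : 3 ≤ finrank F (ι → F) := by
    rw [Module.finrank_fintype_fun_eq_card]
    omega
  have htop : W = ⊤ := by
    rw [eq_top_iff, ← span_singular_eq_top Q hQ h3]
    exact Submodule.span_le.2 hall
  apply hu0
  apply hQ.1 u
  intro y
  rw [polarBilin_apply_apply]
  exact hW.polar_eq_zero huW (by rw [htop]; exact Submodule.mem_top)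

end matrix

section transfer

theorem isMaximalIn_map {G G' : Type*} [Group G] [Group G'] (f : G →* G')
    (hf : Function.Injective f) {K H : Subgroup G} (hlt : H < K)
    (hmax : ∀ M : Subgroup G, H ≤ M → M ≤ K → M = H ∨ M = K) :
    Cfsg.Geo.IsMaximalIn (K.map f) (H.map f) := by
  refine ⟨lt_of_le_of_ne (Subgroup.map_mono hlt.le)
    (fun h => hlt.ne (Subgroup.map_injective hf h)), ?_⟩
  intro M' h1 h2
  have hM' : (M'.comap f).map f = M' := by
    rw [Subgroup.map_comap_eq, inf_eq_right]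
    exact h2.trans (Subgroup.map_le_range f K)
  have hK : M'.comap f ≤ K := by
    intro g hg
    obtain ⟨k, hk, hkg⟩ := h2 hg
    rw [← hf hkg]
    exact hk
  rcases hmax (M'.comap f) (Subgroup.map_le_iff_le_comap.1 h1) hK with h | h
  · left
    rw [← hM', h]
  · right
    rw [← hM', h]

end transfer

section final

variable {ι : Type} [Fintype ι] [DecidableEq ι] {F : Type*} [Field F] [Fintype F]
  (Q : QuadraticForm F (ι → F))

/-- The stabiliser in `Ω` of a nonzero totally singular subspace is a maximal subgroup of `Ω`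
(dimension at least seven), unless `W` has codimension one in a totally singular subspace of
half the dimension. -/
theorem isMaximalIn_ts (hQ : (polarBilin Q).Nondegenerate) (hn : 7 ≤ Fintype.card ι)
    {W : Submodule F (ι → F)} (hW : Cfsg.Geo.IsTotallySingularQuad ⇑Q W) (hW0 : W ≠ ⊥)
    (hex : ¬ (Fintype.card ι = 2 * (finrank F W + 1) ∧
      ∃ U : Submodule F (ι → F), Cfsg.Geo.IsTotallySingularQuad ⇑Q U ∧
        finrank F U = finrank F W + 1)) :
    Cfsg.Geo.IsMaximalIn (Cfsg.Geo.omegaGL ⇑Q)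
      (Cfsg.Geo.subspaceStabilizer W ⊓ Cfsg.Geo.omegaGL ⇑Q) := by
  have hW' : Cfsg.Agent.Lib.Helper25.MaxTS.TS Q W := hW
  have e1 : Cfsg.Geo.subspaceStabilizer W ⊓ Cfsg.Geo.omegaGL ⇑Q =
      (stabSub Q W ⊓ Cfsg.Omega F ⇑Q).map (Cfsg.isometryGroup F ⇑Q).subtype := by
    ext x
    constructor
    · rintro ⟨hx1, g, hg, rfl⟩
      exact ⟨g, ⟨hx1, hg⟩, rfl⟩
    · rintro ⟨g, ⟨hg1, hg2⟩, rfl⟩
      exact ⟨hg1, g, hg2, rfl⟩
  rw [e1]
  exact isMaximalIn_map _ (Subgroup.subtype_injective _) (stab_lt Q hQ (by omega) hW' hW0)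
    (fun M h1 h2 => by
      by_cases hM : M = stabSub Q W ⊓ Cfsg.Omega F ⇑Q
      · exact Or.inl hM
      · exact Or.inr (eq_omega_of_lt Q hQ hn hW' hex M h1 h2 hM))

end final

end Cfsg.Agent.Lib.Helper5.TSMax
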