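import Cfsg.Agent.Lib.Helper5.PairMax

set_option autoImplicit false
set_option linter.unusedSectionVars false
set_option linter.unusedVariables false
set_option linter.unusedSimpArgs false

namespace Cfsg.Agent.Lib.Helper5.NDMax

open Module QuadraticMap Matrix Cfsg.Agent.Lib.Helper25.CD Cfsg.Agent.Lib.Helper25.Spin
  Cfsg.Agent.Lib.Helper25.Fam Cfsg.Agent.Lib.Helper25.Siegel
  Cfsg.Agent.Lib.Helper25.PS Cfsg.Agent.Lib.Helper25.OGeom Cfsg.Agent.Lib.Helper15
  Cfsg.Agent.Lib.Helper5.TSMax Cfsg.Agent.Lib.Helper5.NSMax Cfsg.Agent.Lib.Helper5.PairMax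

section general

variable {F : Type*} [Field F] [Fintype F] {V : Type*} [AddCommGroup V] [Module F V]
  [FiniteDimensional F V] (Q : QuadraticForm F V)

theorem exists_dual_nd {W : Submodule F V} (hW : NdOn Q W) {P : Submodule F V} {y : V}
    (hyW : y ∈ W) (hyP : y ∉ P) :
    ∃ b ∈ W, (∀ p ∈ P, p ∈ W → polar Q b p = 0) ∧ polar Q b y = 1 := by
  obtain ⟨f, hfy, hPf⟩ := Submodule.exists_le_ker_of_notMem hyP
  have hinj : Function.Injective ((polarBilin Q).domRestrict₁₂ W W) := by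
    rw [← LinearMap.ker_eq_bot, LinearMap.ker_eq_bot']
    intro b hb
    have hb0 : (b : V) = 0 := by
      apply hW (b : V) b.2
      intro w' hw'
      have := LinearMap.congr_fun hb ⟨w', hw'⟩
      rw [LinearMap.domRestrict₁₂_apply, polarBilin_apply_apply] at this
      simpa using this
    exact Subtype.ext hb0
  have hsurj : Function.Surjective ((polarBilin Q).domRestrict₁₂ W W) := by
    refine (LinearMap.injective_iff_surjective_of_finrank_eq_finrank ?_).1 hinj
    exact Subspace.dual_finrank_eq.symm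
  obtain ⟨b, hb⟩ := hsurj (((f y)⁻¹ • f).domRestrict W)
  have hb' : ∀ x (hx : x ∈ W), polar Q (b : V) x = (f y)⁻¹ * f x := by
    intro x hx
    have := LinearMap.congr_fun hb ⟨x, hx⟩
    rw [LinearMap.domRestrict₁₂_apply, polarBilin_apply_apply] at this
    simpa using this
  refine ⟨b, b.2, fun p hp hpW => ?_, ?_⟩
  · rw [hb' p hpW, LinearMap.mem_ker.1 (hPf hp), mul_zero]
  · rw [hb' y hyW, inv_mul_cancel₀ hfy]

theorem exists_two_sing (hQ : (polarBilin Q).Nondegenerate) {W : Submodule F V}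
    (h6 : 6 ≤ finrank F W) (v1 v2 : V) :
    ∃ α1 ∈ W, ∃ α2 ∈ W, α1 ≠ 0 ∧ Q α1 = 0 ∧ Q α2 = 0 ∧ α2 ∉ Submodule.span F {α1} ∧
      polar Q v1 α1 = 0 ∧ polar Q v2 α1 = 0 ∧ polar Q v1 α2 = 0 ∧ polar Q v2 α2 = 0 := by
  obtain ⟨X, hX⟩ : ∃ X : Submodule F V,
      X = W ⊓ Cfsg.Agent.Lib.Helper25.MaxTS.perp Q (Submodule.span F {v1}) ⊓
        Cfsg.Agent.Lib.Helper25.MaxTS.perp Q (Submodule.span F {v2}) := ⟨_, rfl⟩
  have h1 := finrank_inf_perp_ge Q hQ W v1
  have h2 := finrank_inf_perp_ge Q hQ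
    (W ⊓ Cfsg.Agent.Lib.Helper25.MaxTS.perp Q (Submodule.span F {v1})) v2
  have hXfr : 4 ≤ finrank F X := by
    rw [hX]
    omega
  have hXmem : ∀ v ∈ X, v ∈ W ∧ polar Q v1 v = 0 ∧ polar Q v2 v = 0 := by
    intro v hv
    rw [hX] at hv
    obtain ⟨⟨hvW, hv1⟩, hv2⟩ := hv
    exact ⟨hvW, Cfsg.Agent.Lib.Helper25.MaxTS.mem_perp_span.1 hv1,
      Cfsg.Agent.Lib.Helper25.MaxTS.mem_perp_span.1 hv2⟩
  obtain ⟨α1, hα1X, hα10, hQα1⟩ := exists_singular_in Q X (by omega)
  obtain ⟨f, hf⟩ : ∃ f, polar Q α1 f ≠ 0 := by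
    by_contra hcon
    push Not at hcon
    exact hα10 (hQ.1 α1 (fun y => by rw [polarBilin_apply_apply]; exact hcon y))
  have h3 := finrank_inf_perp_ge Q hQ X f
  obtain ⟨α2, hα2X', hα20, hQα2⟩ := exists_singular_in Q
    (X ⊓ Cfsg.Agent.Lib.Helper25.MaxTS.perp Q (Submodule.span F {f})) (by omega)
  obtain ⟨hα2X, hα2f⟩ := hα2X'
  have hfα2 : polar Q f α2 = 0 := Cfsg.Agent.Lib.Helper25.MaxTS.mem_perp_span.1 hα2f
  obtain ⟨h11, h12, h13⟩ := hXmem α1 hα1X
  obtain ⟨h21, h22, h23⟩ := hXmem α2 hα2X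
  refine ⟨α1, h11, α2, h21, hα10, hQα1, hQα2, ?_, h12, h13, h22, h23⟩
  intro hmem
  obtain ⟨c, rfl⟩ := Submodule.mem_span_singleton.1 hmem
  have hc0 : c ≠ 0 := by
    rintro rfl
    exact hα20 (zero_smul _ _)
  rw [polar_smul_right, smul_eq_mul] at hfα2
  have h4 : polar Q f α1 = 0 := (mul_eq_zero.1 hfα2).resolve_left hc0
  exact hf (by rw [polar_comm]; exact h4)

/-- Irreducibility: a nonzero subspace of a nondegenerate space invariant under reflections and
generalised Siegel maps is everything, except for hyperbolic planes over fields with at most three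
elements. -/
theorem irred {W' A : Submodule F V} (hW' : NdOn Q W') (hA : A ≤ W') (hA0 : A ≠ ⊥)
    (hrefl : ∀ x ∈ A, ∀ w ∈ W', Q w ≠ 0 → polar Q w x ≠ 0 → w ∈ A)
    (hegen : ∀ x ∈ A, ∀ p ∈ W', Q p = 0 → ∀ z ∈ W', polar Q p z = 0 → egen Q p z x ∈ A)
    (hexc : ¬ (Fintype.card F ≤ 3 ∧ finrank F W' = 2 ∧ ∃ e ∈ W', e ≠ 0 ∧ Q e = 0)) :
    W' ≤ A := by
  classical
  obtain ⟨x, hxA, hx0⟩ := (Submodule.ne_bot_iff A).1 hA0
  have hxW' : x ∈ W' := hA hxA
  have hAfr : 0 < finrank F A :=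
    Module.finrank_pos_iff_exists_ne_zero.2 ⟨⟨x, hxA⟩, fun h => hx0 (congrArg Subtype.val h)⟩
  have hpos : 1 ≤ finrank F W' := le_trans hAfr (Submodule.finrank_mono hA)
  rcases Nat.lt_or_ge (finrank F W') 3 with hlt | h3
  · rcases (by omega : finrank F W' = 1 ∨ finrank F W' = 2) with h1 | h2
    · have hAW : A = W' := Submodule.eq_of_le_of_finrank_le hA (by rw [h1]; exact hAfr)
      rw [hAW]
    · have key : ∃ w ∈ W', Q w ≠ 0 ∧ polar Q w x ≠ 0 ∧ w ∉ Submodule.span F {x} := by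
        by_cases hiso : ∃ e ∈ W', e ≠ 0 ∧ Q e = 0
        · obtain ⟨e, heW', he0, hQe⟩ := hiso
          have hq4 : 4 ≤ Fintype.card F := by
            by_contra h
            exact hexc ⟨by omega, h2, e, heW', he0, hQe⟩
          obtain ⟨f, hfW', hQf, hef⟩ := exists_hyp_partner Q W' hW' heW' he0 hQe
          have hN := perpPair_finrank Q W' heW' hfW' hQe hQf hef
          have hN0 : perpPair Q W' e f = ⊥ := Submodule.finrank_eq_zero.1 (by omega)
          obtain ⟨α, hα⟩ : ∃ α, α = polar Q f x := ⟨_, rfl⟩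
          obtain ⟨β, hβ⟩ : ∃ β, β = polar Q e x := ⟨_, rfl⟩
          have hx : x = α • e + β • f := by
            have hmem : x - α • e - β • f ∈ perpPair Q W' e f := by
              rw [mem_perpPair]
              refine ⟨W'.sub_mem (W'.sub_mem hxW' (W'.smul_mem _ heW')) (W'.smul_mem _ hfW'),
                ?_, ?_⟩
              · rw [polar_sub_right, polar_sub_right, polar_smul_right, polar_smul_right,
                  pself Q hQe, hef, ← hβ]
                simp
              · rw [polar_sub_right, polar_sub_right, polar_smul_right, polar_smul_right,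
                  pself Q hQf, polar_comm Q f e, hef, ← hα]
                simp
            rw [hN0, Submodule.mem_bot] at hmem
            have h5 : x = x - α • e - β • f + (α • e + β • f) := by abel
            rw [h5, hmem, zero_add]
          obtain ⟨γ, hγ⟩ : ∃ γ : F, γ ∉ ({0, -α * β⁻¹, α * β⁻¹} : Finset F) := by
            by_contra hcon
            push Not at hcon
            have h5 : ({0, -α * β⁻¹, α * β⁻¹} : Finset F) = Finset.univ :=
              Finset.eq_univ_iff_forall.2 hcon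
            have h6 := Finset.card_le_three (a := (0 : F)) (b := -α * β⁻¹) (c := α * β⁻¹)
            rw [h5, Finset.card_univ] at h6
            omega
          simp only [Finset.mem_insert, Finset.mem_singleton, not_or] at hγ
          obtain ⟨hγ0, hγ1, hγ2⟩ := hγ
          have hαβ : α ≠ 0 ∨ β ≠ 0 := by
            by_contra h
            push Not at h
            apply hx0
            rw [hx, h.1, h.2]
            simp
          have h7 : α + γ * β ≠ 0 := by
            intro h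
            by_cases hβ0 : β = 0
            · rw [hβ0, mul_zero, add_zero] at h
              rcases hαβ with h' | h'
              · exact h' h
              · exact h' hβ0
            · apply hγ1
              field_simp
              linear_combination h
          have h8 : α - γ * β ≠ 0 := by
            intro h
            by_cases hβ0 : β = 0
            · rw [hβ0, mul_zero, sub_zero] at h
              rcases hαβ with h' | h'
              · exact h' h
              · exact h' hβ0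
            · apply hγ2
              field_simp
              linear_combination -h
          refine ⟨f + γ • e, W'.add_mem hfW' (W'.smul_mem _ heW'), ?_, ?_, ?_⟩
          · rw [Cfsg.Agent.Lib.Helper25.MaxTS.Q_add_smul, hQf, hQe, polar_comm Q f e, hef]
            simpa using hγ0
          · rw [polar_add_left, polar_smul_left, ← hα, ← hβ, smul_eq_mul]
            exact h7
          · intro hmem
            obtain ⟨c, hc⟩ := Submodule.mem_span_singleton.1 hmem
            have e1 : c * β = 1 := by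
              have := congrArg (fun v => polar Q e v) hc
              simp only [polar_smul_right, polar_add_right, pself Q hQe, hef, ← hβ,
                smul_eq_mul] at this
              simpa using this
            have e2 : c * α = γ := by
              have := congrArg (fun v => polar Q f v) hc
              simp only [polar_smul_right, polar_add_right, pself Q hQf, polar_comm Q f e, hef,
                ← hα, smul_eq_mul] at this
              simpa using this
            apply h8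
            linear_combination β * e2 - α * e1
        · push Not at hiso
          have hlt' : Submodule.span F {x} < W' := by
            apply lt_of_le_of_ne (Submodule.span_le.2 (Set.singleton_subset_iff.2 hxW'))
            intro h
            rw [← h, finrank_span_singleton hx0] at h2
            omega
          obtain ⟨z, hzW', hzx⟩ := SetLike.exists_of_lt hlt'
          have hz0 : z ≠ 0 := by
            rintro rfl
            exact hzx (Submodule.zero_mem _)
          by_cases hzx' : polar Q z x = 0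
          · have hxx : polar Q x x ≠ 0 := by
              intro hxx
              apply hx0
              apply hW' x hxW'
              intro w' hw'
              have htop : Submodule.span F {x} ⊔ Submodule.span F {z} = W' :=
                Submodule.eq_of_le_of_finrank_le
                  (sup_le (Submodule.span_le.2 (Set.singleton_subset_iff.2 hxW'))
                    (Submodule.span_le.2 (Set.singleton_subset_iff.2 hzW')))
                  (by rw [Cfsg.Agent.Lib.Helper25.MaxTS.finrank_sup_span hzx,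
                    finrank_span_singleton hx0, h2])
              rw [← htop] at hw'
              obtain ⟨a, ha, b, hb, rfl⟩ := Submodule.mem_sup.1 hw'
              obtain ⟨s, rfl⟩ := Submodule.mem_span_singleton.1 ha
              obtain ⟨t, rfl⟩ := Submodule.mem_span_singleton.1 hb
              rw [polar_add_right, polar_smul_right, polar_smul_right, hxx, polar_comm Q x z,
                hzx']
              simp
            refine ⟨x + z, W'.add_mem hxW' hzW', hiso _ (W'.add_mem hxW' hzW') ?_, ?_, ?_⟩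
            · intro h
              apply hzx
              have h5 : z = -x := eq_neg_of_add_eq_zero_right h
              rw [h5]
              exact Submodule.neg_mem _ (Submodule.mem_span_singleton_self x)
            · rw [polar_add_left, hzx', add_zero]
              exact hxx
            · intro h
              apply hzx
              have h5 := Submodule.sub_mem _ h (Submodule.mem_span_singleton_self x)
              rwa [add_sub_cancel_left] at h5
          · exact ⟨z, hzW', hiso z hzW' hz0, hzx', hzx⟩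
      obtain ⟨w, hwW', hQw, hwx, hwx'⟩ := key
      have hwA : w ∈ A := hrefl x hxA w hwW' hQw hwx
      have hle : Submodule.span F {x} ⊔ Submodule.span F {w} ≤ A :=
        sup_le (Submodule.span_le.2 (Set.singleton_subset_iff.2 hxA))
          (Submodule.span_le.2 (Set.singleton_subset_iff.2 hwA))
      have hfr : finrank F (Submodule.span F {x} ⊔ Submodule.span F {w} : Submodule F V) = 2 := by
        rw [Cfsg.Agent.Lib.Helper25.MaxTS.finrank_sup_span hwx', finrank_span_singleton hx0]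
      have hAW : A = W' := Submodule.eq_of_le_of_finrank_le hA (by
        rw [h2, ← hfr]
        exact Submodule.finrank_mono hle)
      rw [hAW]
  · obtain ⟨p, hpW', hQp, hxp⟩ := exists_sing_not_perp Q hW' h3 hxW' hx0
    have hp0 : p ≠ 0 := by
      rintro rfl
      simp at hxp
    obtain ⟨f, hfW', hQf, hpf⟩ := exists_hyp_partner Q W' hW' hpW' hp0 hQp
    have hNnd := perpPair_nd Q W' hW' hpW' hfW' hQp hQf hpf
    have hNfr := perpPair_finrank Q W' hpW' hfW' hQp hQf hpf
    have hNpos : 0 < finrank F (perpPair Q W' p f) := by omega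
    obtain ⟨z1', hz1'⟩ := Module.finrank_pos_iff_exists_ne_zero.1 hNpos
    obtain ⟨z1, hz1N, hz10⟩ : ∃ z1 ∈ perpPair Q W' p f, z1 ≠ 0 :=
      ⟨z1', z1'.2, fun h => hz1' (Subtype.ext h)⟩
    obtain ⟨z2, hz2N, hz12⟩ : ∃ z2 ∈ perpPair Q W' p f, polar Q z1 z2 ≠ 0 := by
      by_contra hcon
      push Not at hcon
      exact hz10 (hNnd z1 hz1N hcon)
    rw [mem_perpPair] at hz1N hz2N
    obtain ⟨hz1W', hpz1, -⟩ := hz1N
    obtain ⟨hz2W', hpz2, -⟩ := hz2N
    obtain ⟨t, ht⟩ : ∃ t, t = polar Q p x := ⟨_, rfl⟩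
    have ht0 : t ≠ 0 := by
      rw [ht, polar_comm]
      exact hxp
    have hv : ∀ z ∈ W', polar Q p z = 0 →
        t • z - (polar Q z x + Q z * t) • p ∈ A := by
      intro z hz hpz
      have h5 := A.sub_mem (hegen x hxA p hpW' hQp z hz hpz) hxA
      have e : egen Q p z x - x = t • z - (polar Q z x + Q z * t) • p := by
        unfold egen
        rw [← ht]
        module
      rwa [e] at h5
    have hpA : p ∈ A := by
      have h5 := A.sub_mem (A.sub_mem (hv (z1 + z2) (W'.add_mem hz1W' hz2W')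
        (by rw [polar_add_right, hpz1, hpz2, add_zero])) (hv z1 hz1W' hpz1)) (hv z2 hz2W' hpz2)
      have e : t • (z1 + z2) - (polar Q (z1 + z2) x + Q (z1 + z2) * t) • p -
          (t • z1 - (polar Q z1 x + Q z1 * t) • p) - (t • z2 - (polar Q z2 x + Q z2 * t) • p) =
          (-(t * polar Q z1 z2)) • p := by
        rw [Cfsg.Agent.Lib.Helper25.MaxTS.Q_add, polar_add_left]
        module
      rw [e] at h5
      have h6 := A.smul_mem (-(t * polar Q z1 z2))⁻¹ h5
      rwa [smul_smul, inv_mul_cancel₀ (neg_ne_zero.2 (mul_ne_zero ht0 hz12)), one_smul] at h6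
    have hzA : ∀ z ∈ W', polar Q p z = 0 → z ∈ A := by
      intro z hz hpz
      have h5 := A.add_mem (hv z hz hpz) (A.smul_mem (polar Q z x + Q z * t) hpA)
      rw [sub_add_cancel] at h5
      have h6 := A.smul_mem t⁻¹ h5
      rwa [smul_smul, inv_mul_cancel₀ ht0, one_smul] at h6
    intro y hy
    have h5 : y - (polar Q p y * t⁻¹) • x ∈ A := by
      apply hzA _ (W'.sub_mem hy (W'.smul_mem _ hxW'))
      rw [polar_sub_right, polar_smul_right, ← ht, smul_eq_mul, mul_assoc, inv_mul_cancel₀ ht0,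
        mul_one, sub_self]
    have h6 := A.add_mem h5 (A.smul_mem (polar Q p y * t⁻¹) hxA)
    rwa [sub_add_cancel] at h6

end general

section matrix

variable {ι : Type} [Fintype ι] [DecidableEq ι] {F : Type*} [Field F] [Fintype F]
  (Q : QuadraticForm F (ι → F))

theorem refl_pair_mem_omega (hQ : (polarBilin Q).Nondegenerate) (hn : 7 ≤ Fintype.card ι)
    {a b : ι → F} {c : F} (hc : c ≠ 0) (ha : Q a = c) (hb : Q b = c) :
    reflM Q a * reflM Q b ∈ Cfsg.Omega F ⇑Q := by
  rw [omega_eq_root' Q hQ hn]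
  by_cases h2 : (2 : F) = 0
  · exact pair_same_norm_even Q h2 hQ (by omega) hc ha hb
  · exact pair_same_norm Q h2 hQ (by omega) hc ha hb

/-- The data of a nondegenerate subspace `W` with complement `W'` whose stabiliser lies in `M`. -/
structure NSetup (M : Subgroup ↥(Cfsg.isometryGroup F ⇑Q)) (W W' : Submodule F (ι → F)) :
    Prop where
  nd : (polarBilin Q).Nondegenerate
  card : 7 ≤ Fintype.card ι
  orth : ∀ x ∈ W, ∀ y ∈ W', polar Q x y = 0
  disj : W ⊓ W' = ⊥
  sup : W ⊔ W' = ⊤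
  big : 6 ≤ finrank F W
  stab : ∀ g ∈ Cfsg.Omega F ⇑Q, (∀ x ∈ W, toOG Q g x ∈ W) → g ∈ M
  le : M ≤ Cfsg.Omega F ⇑Q
  exc : ¬ (Fintype.card F ≤ 3 ∧ finrank F W' = 2 ∧ ∃ e ∈ W', e ≠ 0 ∧ Q e = 0)

variable {Q}

theorem inA_zero (M : Subgroup ↥(Cfsg.isometryGroup F ⇑Q)) (u : ι → F) : InA Q M u 0 := by
  intro c
  refine ⟨1, M.one_mem, fun x => ?_⟩
  rw [map_one]
  unfold egen
  simp

theorem good_of_all {M : Subgroup ↥(Cfsg.isometryGroup F ⇑Q)} {u : ι → F} (hu0 : u ≠ 0)
    (hQu : Q u = 0) (hall : ∀ v, polar Q u v = 0 → InA Q M u v) :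
    Good Q M (mk' Q u hu0 hQu) := by
  unfold Good X
  rw [Subgroup.closure_le]
  rintro g ⟨u1, hu1P, hu10, v, c, hv, hu1v, hg⟩
  rw [mk'_val] at hu1P
  obtain ⟨t, rfl⟩ := Submodule.mem_span_singleton.1 hu1P
  have ht0 : t ≠ 0 := by
    rintro rfl
    exact hu10 (zero_smul _ _)
  have huv : polar Q u v = 0 := by
    rw [polar_smul_left, smul_eq_mul] at hu1v
    exact (mul_eq_zero.1 hu1v).resolve_left ht0
  have hQtu : Q (t • u) = 0 := by rw [QuadraticMap.map_smul, hQu, smul_zero]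
  rw [eq_siegG_of_coe Q hQtu hv hu1v hg, siegG_smul_left Q t c hQu hv huv hQtu hu1v]
  obtain ⟨g', hg'M, hg'⟩ := hall v huv (t * c)
  have e : g' = siegG Q u v (t * c) hQu hv huv := by
    apply toOG_injective Q
    ext1 x
    rw [hg', toOG_siegG, egen_sing Q hv]
  rw [← e]
  exact hg'M

section setup

variable {M : Subgroup ↥(Cfsg.isometryGroup F ⇑Q)} {W W' : Submodule F (ι → F)}

theorem NSetup.dec (hS : NSetup Q M W W') (v : ι → F) : ∃ a ∈ W, ∃ b ∈ W', v = a + b := by
  have hv : v ∈ W ⊔ W' := by rw [hS.sup]; exact Submodule.mem_top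
  obtain ⟨a, ha, b, hb, h⟩ := Submodule.mem_sup.1 hv
  exact ⟨a, ha, b, hb, h.symm⟩

theorem NSetup.ndW (hS : NSetup Q M W W') : NdOn Q W := by
  intro w hw hall
  apply hS.nd.1 w
  intro y
  rw [polarBilin_apply_apply]
  obtain ⟨a, ha, b, hb, rfl⟩ := hS.dec y
  rw [polar_add_right, hall a ha, hS.orth w hw b hb, add_zero]

theorem NSetup.ndW' (hS : NSetup Q M W W') : NdOn Q W' := by
  intro w hw hall
  apply hS.nd.1 w
  intro y
  rw [polarBilin_apply_apply]
  obtain ⟨a, ha, b, hb, rfl⟩ := hS.dec y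
  rw [polar_add_right, hall b hb, polar_comm Q w a, hS.orth a ha w hw, add_zero]

theorem NSetup.inA_W (hS : NSetup Q M W W') {u x : ι → F} (hu : u ∈ W) (hu0 : u ≠ 0)
    (hQu : Q u = 0) (hx : x ∈ W) (hux : polar Q u x = 0) : InA Q M u x := by
  intro c
  obtain ⟨g, hgΩ, hg⟩ := exists_egen Q hS.nd hS.card hu0 hQu (y := c • x)
    (by rw [polar_smul_right, hux, smul_zero])
  refine ⟨g, hS.stab g hgΩ (fun v hv => ?_), hg⟩
  rw [hg]
  unfold egen
  exact W.sub_mem (W.sub_mem (W.add_mem hv (W.smul_mem _ (W.smul_mem _ hx)))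
    (W.smul_mem _ hu)) (W.smul_mem _ hu)

theorem NSetup.inA_all_of_star (hS : NSetup Q M W W') {u y : ι → F} (hu : u ∈ W) (hu0 : u ≠ 0)
    (hQu : Q u = 0) (hy : y ∈ W') (hy0 : y ≠ 0) (h : InA Q M u y) :
    ∀ v, polar Q u v = 0 → InA Q M u v := by
  have hQ := hS.nd
  have hn := hS.card
  have huW' : ∀ z ∈ W', polar Q u z = 0 := fun z hz => hS.orth u hu z hz
  obtain ⟨A, hAmem⟩ : ∃ A : Submodule F (ι → F), ∀ z, z ∈ A ↔ z ∈ W' ∧ InA Q M u z :=
    ⟨{ carrier := {z | z ∈ W' ∧ InA Q M u z}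
       add_mem' := fun {a b} ha hb => ⟨W'.add_mem ha.1 hb.1,
         InA.add hQu (huW' a ha.1) (huW' b hb.1) ha.2 hb.2⟩
       zero_mem' := ⟨W'.zero_mem, inA_zero M u⟩
       smul_mem' := fun c {a} ha => ⟨W'.smul_mem c ha.1, ha.2.smul c⟩ }, fun z => Iff.rfl⟩
  have hAW' : A ≤ W' := fun z hz => ((hAmem z).1 hz).1
  have hA0 : A ≠ ⊥ := by
    intro h0
    have h1 : y ∈ A := (hAmem y).2 ⟨hy, h⟩
    rw [h0, Submodule.mem_bot] at h1
    exact hy0 h1
  obtain ⟨f, hfW, hQf, huf⟩ := exists_hyp_partner Q W hS.ndW hu hu0 hQu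
  have hNnd := perpPair_nd Q W hS.ndW hu hfW hQu hQf huf
  have hNfr := perpPair_finrank Q W hu hfW hQu hQf huf
  have hbig := hS.big
  have hrefl : ∀ x ∈ A, ∀ w ∈ W', Q w ≠ 0 → polar Q w x ≠ 0 → w ∈ A := by
    intro x hxA w hwW' hQw hwx
    obtain ⟨hxW', hxin⟩ := (hAmem x).1 hxA
    obtain ⟨z, hzN, hQz⟩ := universal Q hNnd (by omega) (Q w)
    rw [mem_perpPair] at hzN
    obtain ⟨hzW, huz, -⟩ := hzN
    have hmΩ : reflM Q w * reflM Q z ∈ Cfsg.Omega F ⇑Q :=
      refl_pair_mem_omega Q hQ hn hQw rfl hQz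
    have hmapply : ∀ v, toOG Q (reflM Q w * reflM Q z) v = reflE Q w (reflE Q z v) := by
      intro v
      rw [map_mul, LinearEquiv.mul_apply, toOG_reflM, toOG_reflM]
    have hmM : reflM Q w * reflM Q z ∈ M := by
      apply hS.stab _ hmΩ
      intro v hv
      rw [hmapply, reflE_apply Q z v]
      have h1 : v - ((Q z)⁻¹ * polar Q z v) • z ∈ W := W.sub_mem hv (W.smul_mem _ hzW)
      rw [reflE_apply, polar_comm Q w _, hS.orth _ h1 w hwW']
      simpa using h1
    have h1 := InA.conj hmM hxin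
    rw [hmapply, hmapply] at h1
    have e1 : reflE Q w (reflE Q z u) = u := by
      have e0 : reflE Q z u = u := by
        rw [reflE_apply, polar_comm Q z u, huz]
        simp
      rw [e0, reflE_apply, polar_comm Q w u, huW' w hwW']
      simp
    have e2 : reflE Q w (reflE Q z x) = x - ((Q w)⁻¹ * polar Q w x) • w := by
      have e0 : reflE Q z x = x := by
        rw [reflE_apply, hS.orth z hzW x hxW']
        simp
      rw [e0, reflE_apply]
    rw [e1, e2] at h1
    obtain ⟨κ, hκ⟩ : ∃ κ, κ = (Q w)⁻¹ * polar Q w x := ⟨_, rfl⟩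
    have hκ0 : κ ≠ 0 := by
      rw [hκ]
      exact mul_ne_zero (inv_ne_zero hQw) hwx
    rw [← hκ] at h1
    have h2 := InA.add hQu (huW' x hxW') (by
      rw [polar_smul_right, polar_sub_right, polar_smul_right, huW' x hxW', huW' w hwW']
      simp) hxin (h1.smul (-1))
    have e3 : x + (-1 : F) • (x - κ • w) = κ • w := by module
    rw [e3] at h2
    have h3 := h2.smul κ⁻¹
    rw [smul_smul, inv_mul_cancel₀ hκ0, one_smul] at h3
    exact (hAmem w).2 ⟨hwW', h3⟩
  have hegen : ∀ x ∈ A, ∀ p ∈ W', Q p = 0 → ∀ z ∈ W', polar Q p z = 0 →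
      egen Q p z x ∈ A := by
    intro x hxA p hpW' hQp z hzW' hpz
    obtain ⟨hxW', hxin⟩ := (hAmem x).1 hxA
    by_cases hp0 : p = 0
    · have e : egen Q p z x = x := by
        rw [hp0]
        unfold egen
        simp
      rw [e]
      exact hxA
    obtain ⟨g, hgΩ, hg⟩ := exists_egen Q hQ hn hp0 hQp hpz
    have hfix : ∀ v ∈ W, toOG Q g v = v := by
      intro v hv
      rw [hg]
      exact egen_fix Q (by rw [polar_comm]; exact hS.orth v hv p hpW')
        (by rw [polar_comm]; exact hS.orth v hv z hzW')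
    have hgM : g ∈ M := hS.stab g hgΩ (fun v hv => by rw [hfix v hv]; exact hv)
    have h1 := InA.conj hgM hxin
    rw [hfix u hu, hg] at h1
    refine (hAmem _).2 ⟨?_, h1⟩
    unfold egen
    exact W'.sub_mem (W'.sub_mem (W'.add_mem hxW' (W'.smul_mem _ hzW')) (W'.smul_mem _ hpW'))
      (W'.smul_mem _ hpW')
  have hall := irred Q hS.ndW' hAW' hA0 hrefl hegen hS.exc
  intro v huv
  obtain ⟨a, ha, b, hb, rfl⟩ := hS.dec v
  have hub : polar Q u b = 0 := huW' b hb
  have hua : polar Q u a = 0 := by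
    rw [polar_add_right, hub, add_zero] at huv
    exact huv
  exact InA.add hQu hua hub (hS.inA_W hu hu0 hQu ha hua) ((hAmem b).1 (hall hb)).2

theorem NSetup.transfer (hS : NSetup Q M W W') {u p y : ι → F} (hu : u ∈ W) (hu0 : u ≠ 0)
    (hQu : Q u = 0) (hp : p ∈ W) (hp0 : p ≠ 0) (hQp : Q p = 0) (hup : polar Q u p = 0)
    (hnp : u ∉ Submodule.span F {p}) (hy : y ∈ W') (h : InA Q M u y) : InA Q M p y := by
  obtain ⟨x', hx'W, hx'P, hx'u⟩ := exists_dual_nd Q hS.ndW (P := Submodule.span F {p}) hu hnp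
  have hx'p : polar Q x' p = 0 := hx'P p (Submodule.mem_span_singleton_self p) hp
  have hpx' : polar Q p x' = 0 := by rw [polar_comm]; exact hx'p
  obtain ⟨g, hgM, hg⟩ := h 1
  simp only [one_smul] at hg
  have hinx' := hS.inA_W hp hp0 hQp hx'W hpx'
  have h1 := InA.conj hgM hinx'
  have e1 : toOG Q g p = p := by
    rw [hg]
    exact egen_fix Q hup (by rw [polar_comm]; exact hS.orth p hp y hy)
  have e2 : toOG Q g x' = x' + y - Q y • u := by
    rw [hg]
    unfold egen
    rw [polar_comm Q u x', hx'u, polar_comm Q y x', hS.orth x' hx'W y hy]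
    module
  rw [e1, e2] at h1
  have hpy : polar Q p y = 0 := hS.orth p hp y hy
  have hpu : polar Q p u = 0 := by rw [polar_comm]; exact hup
  have h2 := InA.add hQp (by
    rw [polar_sub_right, polar_add_right, polar_smul_right, hpx', hpy, hpu]
    simp) (by rw [polar_smul_right, hpx', smul_zero]) h1 (hinx'.smul (-1))
  have h3 := InA.add hQp (by
    rw [polar_add_right, polar_sub_right, polar_add_right, polar_smul_right, polar_smul_right,
      hpx', hpy, hpu]
    simp) (by rw [polar_smul_right, hpu, smul_zero]) h2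
    ((hS.inA_W hp hp0 hQp hu hpu).smul (Q y))
  have e3 : x' + y - Q y • u + (-1 : F) • x' + Q y • u = y := by module
  rwa [e3] at h3

theorem NSetup.eq_omega_of_star (hS : NSetup Q M W W') {u y : ι → F} (hu : u ∈ W) (hu0 : u ≠ 0)
    (hQu : Q u = 0) (hy : y ∈ W') (hy0 : y ≠ 0) (h : InA Q M u y) :
    M = Cfsg.Omega F ⇑Q := by
  have hQ := hS.nd
  have hn := hS.card
  have hbig := hS.big
  have hg1 : Good Q M (mk' Q u hu0 hQu) :=
    good_of_all hu0 hQu (hS.inA_all_of_star hu hu0 hQu hy hy0 h)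
  obtain ⟨u2, hu2W, hQu2, huu2⟩ := exists_hyp_partner Q W hS.ndW hu hu0 hQu
  have hu20 : u2 ≠ 0 := by
    rintro rfl
    simp at huu2
  have hNfr := perpPair_finrank Q W hu hu2W hQu hQu2 huu2
  obtain ⟨p, hpN, hp0, hQp⟩ := exists_singular_in Q (perpPair Q W u u2) (by omega)
  rw [mem_perpPair] at hpN
  obtain ⟨hpW, hup, hu2p⟩ := hpN
  have h1 : u ∉ Submodule.span F {p} := by
    intro hmem
    obtain ⟨c, hc⟩ := Submodule.mem_span_singleton.1 hmem
    rw [← hc, polar_smul_left, polar_comm Q p u2, hu2p, smul_zero] at huu2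
    exact zero_ne_one huu2
  have h2 : p ∉ Submodule.span F {u2} := by
    intro hmem
    obtain ⟨c, hc⟩ := Submodule.mem_span_singleton.1 hmem
    rw [← hc, polar_smul_right, huu2, smul_eq_mul, mul_one] at hup
    apply hp0
    rw [← hc, hup, zero_smul]
  have hin_p := hS.transfer hu hu0 hQu hpW hp0 hQp hup h1 hy h
  have hin_u2 := hS.transfer hpW hp0 hQp hu2W hu20 hQu2 (by rw [polar_comm]; exact hu2p) h2 hy
    hin_p
  have hg2 : Good Q M (mk' Q u2 hu20 hQu2) :=
    good_of_all hu20 hQu2 (hS.inA_all_of_star hu2W hu20 hQu2 hy hy0 hin_u2)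
  apply eq_omega_of_all_good Q hQ hn M hS.le
  exact all_good_of_opposite Q hQ (by omega) M hg1 hg2 (by
    rw [ort_mk', huu2]
    exact one_ne_zero)

theorem NSetup.rigid (hS : NSetup Q M W W') (hne : M ≠ Cfsg.Omega F ⇑Q)
    {m : ↥(Cfsg.isometryGroup F ⇑Q)} (hm : m ∈ M) {α x : ι → F} (hα : α ∈ W) (hα0 : α ≠ 0)
    (hQα : Q α = 0) (hmα : toOG Q m α ∈ W) (hx : x ∈ W) (hαx : polar Q α x = 0) :
    toOG Q m x ∈ W := by
  have h1 := InA.conj hm (hS.inA_W hα hα0 hQα hx hαx)
  obtain ⟨a, ha, b, hb, hab⟩ := hS.dec (toOG Q m x)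
  by_cases hb0 : b = 0
  · rw [hab, hb0, add_zero]
    exact ha
  exfalso
  have hmα0 : toOG Q m α ≠ 0 := fun h => hα0 ((toOG Q m).injective (by rw [h, map_zero]))
  have hQmα : Q (toOG Q m α) = 0 := by rw [Q_toOG, hQα]
  have hpol : polar Q (toOG Q m α) (toOG Q m x) = 0 := by rw [polar_toOG, hαx]
  have hpb : polar Q (toOG Q m α) b = 0 := hS.orth _ hmα b hb
  have hpa : polar Q (toOG Q m α) a = 0 := by
    have h5 := hpol
    rw [hab, polar_add_right, hpb, add_zero] at h5
    exact h5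
  have h2 := InA.add hQmα hpol (by rw [polar_smul_right, hpa, smul_zero]) h1
    ((hS.inA_W hmα hmα0 hQmα ha hpa).smul (-1))
  have e : toOG Q m x + (-1 : F) • a = b := by
    rw [hab]
    module
  rw [e] at h2
  exact hne (hS.eq_omega_of_star hmα hmα0 hQmα hb hb0 h2)

theorem NSetup.stab_of_two (hS : NSetup Q M W W') (hne : M ≠ Cfsg.Omega F ⇑Q)
    {m : ↥(Cfsg.isometryGroup F ⇑Q)} (hm : m ∈ M) {α1 α2 : ι → F} (h1W : α1 ∈ W)
    (h2W : α2 ∈ W) (h10 : α1 ≠ 0) (hQ1 : Q α1 = 0) (hQ2 : Q α2 = 0)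
    (hind : α2 ∉ Submodule.span F {α1}) (hm1 : toOG Q m α1 ∈ W) (hm2 : toOG Q m α2 ∈ W) :
    ∀ x ∈ W, toOG Q m x ∈ W := by
  have h20 : α2 ≠ 0 := by
    rintro rfl
    exact hind (Submodule.zero_mem _)
  have hind' : α1 ∉ Submodule.span F {α2} := by
    intro hmem
    obtain ⟨c, hc⟩ := Submodule.mem_span_singleton.1 hmem
    have hc0 : c ≠ 0 := by
      rintro rfl
      rw [zero_smul] at hc
      exact h10 hc.symm
    apply hind
    rw [Submodule.mem_span_singleton]
    exact ⟨c⁻¹, by rw [← hc, smul_smul, inv_mul_cancel₀ hc0, one_smul]⟩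
  obtain ⟨d, hdW, hdP, hd1⟩ := exists_dual_nd Q hS.ndW (P := Submodule.span F {α2}) h1W hind'
  have hd2 : polar Q d α2 = 0 := hdP α2 (Submodule.mem_span_singleton_self α2) h2W
  intro x hx
  have hmd : toOG Q m d ∈ W :=
    hS.rigid hne hm h2W h20 hQ2 hm2 hdW (by rw [polar_comm]; exact hd2)
  have hx0 : toOG Q m (x - polar Q α1 x • d) ∈ W := by
    apply hS.rigid hne hm h1W h10 hQ1 hm1 (W.sub_mem hx (W.smul_mem _ hdW))
    rw [polar_sub_right, polar_smul_right, polar_comm Q α1 d, hd1]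
    simp
  have e : x = (x - polar Q α1 x • d) + polar Q α1 x • d := by abel
  rw [e, map_add, map_smul]
  exact W.add_mem hx0 (W.smul_mem _ hmd)

theorem NSetup.root_stab (hS : NSetup Q M W W') (hne : M ≠ Cfsg.Omega F ⇑Q)
    {h : ↥(Cfsg.isometryGroup F ⇑Q)} (hh : h ∈ M) {p z : ι → F} (hp : p ∈ W) (hp0 : p ≠ 0)
    (hQp : Q p = 0) (hz : z ∈ W) (hpz : polar Q p z = 0) :
    ∀ x ∈ W, egen Q (toOG Q h p) (toOG Q h z) x ∈ W := by
  have h1 := InA.conj hh (hS.inA_W hp hp0 hQp hz hpz)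
  obtain ⟨r, hrM, hr⟩ := h1 1
  simp only [one_smul] at hr
  obtain ⟨α1, h1W, α2, h2W, h10, hQ1, hQ2, hind, h11, h12, h21, h22⟩ :=
    exists_two_sing Q hS.nd hS.big (toOG Q h p) (toOG Q h z)
  have hr1 : toOG Q r α1 = α1 := by
    rw [hr]
    exact egen_fix Q h11 h12
  have hr2 : toOG Q r α2 = α2 := by
    rw [hr]
    exact egen_fix Q h21 h22
  intro x hx
  rw [← hr]
  exact hS.stab_of_two hne hrM h1W h2W h10 hQ1 hQ2 hind (by rw [hr1]; exact h1W)
    (by rw [hr2]; exact h2W) x hx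

theorem NSetup.orth_of_ne (hS : NSetup Q M W W') (hne : M ≠ Cfsg.Omega F ⇑Q)
    {h : ↥(Cfsg.isometryGroup F ⇑Q)} (hh : h ∈ M) (hnot : ¬ ∀ x ∈ W, toOG Q h x ∈ W) :
    ∀ x ∈ W, ∀ p ∈ W, Q p = 0 → polar Q (toOG Q h p) x = 0 := by
  intro x hx p hp hQp
  by_contra ht
  apply hnot
  have hbig := hS.big
  have hp0 : p ≠ 0 := by
    rintro rfl
    apply ht
    rw [map_zero]
    simp
  obtain ⟨f, hfW, hQf, hpf⟩ := exists_hyp_partner Q W hS.ndW hp hp0 hQp
  have hNnd := perpPair_nd Q W hS.ndW hp hfW hQp hQf hpf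
  have hNfr := perpPair_finrank Q W hp hfW hQp hQf hpf
  obtain ⟨z1, hz1N, hz10, hQz1⟩ := exists_singular_in Q (perpPair Q W p f) (by omega)
  obtain ⟨z2, hz2N, hQz2, hz12⟩ := exists_hyp_partner Q _ hNnd hz1N hz10 hQz1
  rw [mem_perpPair] at hz1N hz2N
  obtain ⟨hz1W, hpz1, hfz1⟩ := hz1N
  obtain ⟨hz2W, hpz2, -⟩ := hz2N
  obtain ⟨t, ht'⟩ : ∃ t, t = polar Q (toOG Q h p) x := ⟨_, rfl⟩
  have ht0 : t ≠ 0 := by
    rw [ht']
    exact ht
  obtain ⟨P, hP⟩ : ∃ P, P = toOG Q h p := ⟨_, rfl⟩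
  have hw : ∀ z ∈ W, polar Q p z = 0 →
      t • toOG Q h z - (polar Q (toOG Q h z) x + Q z * t) • P ∈ W := by
    intro z hz hpz
    have h5 := W.sub_mem (hS.root_stab hne hh hp hp0 hQp hz hpz x hx) hx
    have e : egen Q (toOG Q h p) (toOG Q h z) x - x =
        t • toOG Q h z - (polar Q (toOG Q h z) x + Q z * t) • P := by
      unfold egen
      rw [← ht', ← hP, Q_toOG]
      module
    rwa [e] at h5
  have hPW : P ∈ W := by
    have h5 := W.sub_mem (W.sub_mem (hw (z1 + z2) (W.add_mem hz1W hz2W)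
      (by rw [polar_add_right, hpz1, hpz2, add_zero])) (hw z1 hz1W hpz1)) (hw z2 hz2W hpz2)
    have e : t • toOG Q h (z1 + z2) -
        (polar Q (toOG Q h (z1 + z2)) x + Q (z1 + z2) * t) • P -
        (t • toOG Q h z1 - (polar Q (toOG Q h z1) x + Q z1 * t) • P) -
        (t • toOG Q h z2 - (polar Q (toOG Q h z2) x + Q z2 * t) • P) = (-t) • P := by
      rw [map_add, polar_add_left, Cfsg.Agent.Lib.Helper25.MaxTS.Q_add, hQz1, hQz2, hz12]
      module
    rw [e] at h5
    have h6 := W.smul_mem (-t)⁻¹ h5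
    rwa [smul_smul, inv_mul_cancel₀ (neg_ne_zero.2 ht0), one_smul] at h6
  have hzW : ∀ z ∈ W, polar Q p z = 0 → toOG Q h z ∈ W := by
    intro z hz hpz
    have h5 := W.add_mem (hw z hz hpz) (W.smul_mem (polar Q (toOG Q h z) x + Q z * t) hPW)
    rw [sub_add_cancel] at h5
    have h6 := W.smul_mem t⁻¹ h5
    rwa [smul_smul, inv_mul_cancel₀ ht0, one_smul] at h6
  have hind : z1 ∉ Submodule.span F {p} := by
    intro hmem
    obtain ⟨c, hc⟩ := Submodule.mem_span_singleton.1 hmem
    rw [← hc, polar_smul_right, polar_comm Q f p, hpf, smul_eq_mul, mul_one] at hfz1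
    apply hz10
    rw [← hc, hfz1, zero_smul]
  exact hS.stab_of_two hne hh hp hz1W hp0 hQp hQz1 hind (by rw [← hP]; exact hPW)
    (hzW z1 hz1W hpz1)

theorem NSetup.le_stab (hS : NSetup Q M W W') (hne : M ≠ Cfsg.Omega F ⇑Q)
    (hns : ∀ g ∈ Cfsg.Omega F ⇑Q, ¬ ∀ x ∈ W, toOG Q g x ∈ W')
    {h : ↥(Cfsg.isometryGroup F ⇑Q)} (hh : h ∈ M) : ∀ x ∈ W, toOG Q h x ∈ W := by
  by_contra hnot
  have horth := hS.orth_of_ne hne hh hnot
  apply hns h⁻¹ (hS.le (M.inv_mem hh))
  intro x hx
  obtain ⟨a, ha, b, hb, hab⟩ := hS.dec (toOG Q h⁻¹ x)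
  have ha0 : a = 0 := by
    by_contra ha0
    obtain ⟨z, hzW, hQz, haz⟩ := exists_sing_not_perp Q hS.ndW
      (by have := hS.big; omega) ha ha0
    apply haz
    have e1 : toOG Q h (toOG Q h⁻¹ x) = x := by
      rw [← LinearEquiv.mul_apply, ← map_mul, mul_inv_cancel, map_one]
      rfl
    have h1 : polar Q (toOG Q h⁻¹ x) z = 0 := by
      rw [← polar_toOG Q h, e1, polar_comm]
      exact horth x hx z hzW hQz
    rw [hab, polar_add_left, polar_comm Q b z, hS.orth z hzW b hb, add_zero] at h1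
    exact h1
  rw [hab, ha0, zero_add]
  exact hb

end setup

variable (Q)

/-- The stabiliser in `Ω` of a nondegenerate subspace `W` (with `W' = W^⊥`, `dim W ≥ 6`, `W'` not a
hyperbolic plane over a field with at most three elements, and no element of `Ω` mapping `W` into
`W'`) is a maximal subgroup of `Ω`. -/
theorem isMaximalIn_nd (hQ : (polarBilin Q).Nondegenerate) (hcard : 7 ≤ Fintype.card ι)
    {W W' : Submodule F (ι → F)} (horth : ∀ x ∈ W, ∀ y ∈ W', polar Q x y = 0)
    (hdisj : W ⊓ W' = ⊥) (hsup : W ⊔ W' = ⊤) (hbig : 6 ≤ finrank F W) (hW'0 : W' ≠ ⊥)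
    (hexc : ¬ (Fintype.card F ≤ 3 ∧ finrank F W' = 2 ∧ ∃ e ∈ W', e ≠ 0 ∧ Q e = 0))
    (hns : ∀ g ∈ Cfsg.Omega F ⇑Q, ¬ ∀ x ∈ W, toOG Q g x ∈ W') :
    Cfsg.Geo.IsMaximalIn (Cfsg.Geo.omegaGL ⇑Q)
      (Cfsg.Geo.subspaceStabilizer W ⊓ Cfsg.Geo.omegaGL ⇑Q) := by
  have e1 : Cfsg.Geo.subspaceStabilizer W ⊓ Cfsg.Geo.omegaGL ⇑Q =
      (stabSub Q W ⊓ Cfsg.Omega F ⇑Q).map (Cfsg.isometryGroup F ⇑Q).subtype := by
    ext x
    constructor
    · rintro ⟨hx1, g, hg, rfl⟩
      exact ⟨g, ⟨hx1, hg⟩, rfl⟩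
    · rintro ⟨g, ⟨hg1, hg2⟩, rfl⟩
      exact ⟨hg1, g, hg2, rfl⟩
  rw [e1]
  have hlt : stabSub Q W ⊓ Cfsg.Omega F ⇑Q < Cfsg.Omega F ⇑Q := by
    refine lt_of_le_of_ne inf_le_right (fun heq => ?_)
    have hS0 : NSetup Q (Cfsg.Omega F ⇑Q) W W' :=
      ⟨hQ, hcard, horth, hdisj, hsup, hbig, fun g hg _ => hg, le_rfl, hexc⟩
    obtain ⟨u, huW, hu0, hQu⟩ := exists_singular_in Q W (by omega)
    obtain ⟨f, hfW, hQf, huf⟩ := exists_hyp_partner Q W hS0.ndW huW hu0 hQu
    obtain ⟨y, hyW', hy0⟩ := (Submodule.ne_bot_iff W').1 hW'0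
    obtain ⟨g, hgΩ, hg⟩ := exists_egen Q hQ hcard hu0 hQu (y := y) (horth u huW y hyW')
    have hgS : g ∈ stabSub Q W := by
      have h5 : g ∈ stabSub Q W ⊓ Cfsg.Omega F ⇑Q := by
        rw [heq]
        exact hgΩ
      exact h5.1
    have h1 : toOG Q g f ∈ W := by
      have h5 := (mem_stabSub Q).1 hgS
      rw [← h5]
      exact Submodule.mem_map_of_mem hfW
    rw [hg] at h1
    unfold egen at h1
    rw [huf, polar_comm Q y f, horth f hfW y hyW'] at h1
    have h2 : y ∈ W := by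
      have e : y = (f + (1 : F) • y - (0 : F) • u - (Q y * 1) • u) - f + Q y • u := by module
      rw [e]
      exact W.add_mem (W.sub_mem h1 hfW) (W.smul_mem _ huW)
    have h3 : y ∈ W ⊓ W' := ⟨h2, hyW'⟩
    rw [hdisj, Submodule.mem_bot] at h3
    exact hy0 h3
  refine isMaximalIn_map _ (Subgroup.subtype_injective _) hlt (fun M h1 h2 => ?_)
  by_cases hM : M = Cfsg.Omega F ⇑Q
  · exact Or.inr hM
  · left
    have hS : NSetup Q M W W' :=
      ⟨hQ, hcard, horth, hdisj, hsup, hbig,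
        fun g hg hx => h1 ⟨mem_stabSub_of_le Q hx, hg⟩, h2, hexc⟩
    apply le_antisymm _ h1
    intro g hg
    exact ⟨mem_stabSub_of_le Q (hS.le_stab hM hns hg), h2 hg⟩

end matrix

end Cfsg.Agent.Lib.Helper5.NDMax
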