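import Mathlib
import Cfsg.Prelude.Def_ClassicalGeometry
import Cfsg.Prelude.Def_GeometricClasses

/-!
Toolkit for an abstract non-degenerate unitary (σ-Hermitian) form `f` on `F^n` over a finite field,
`σ` an automorphism of order two (`Cfsg.Geo.IsUnitaryForm σ f`):
trace and norm surjectivity, sesquilinear algebra, Riesz representation, non-degenerate subspaces,
existence of isotropic vectors, hyperbolic pairs, vectors of prescribed norm, isotropic vectors in
general position.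
-/

set_option autoImplicit false
set_option linter.unusedSectionVars false
set_option linter.unusedVariables false
set_option linter.unusedSimpArgs false

namespace Cfsg.Agent.Lib.Helper5.UForm
open Cfsg

section Fld
variable {F : Type*} [Field F] {σ : F ≃+* F} (hinv : ∀ a : F, σ (σ a) = a)
  (hne : σ ≠ RingEquiv.refl F)

include hne in
lemma exists_moved : ∃ θ : F, σ θ ≠ θ := by
  by_contra h
  push Not at h
  exact hne (RingEquiv.ext fun x => by simpa using h x)

include hinv hne in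
lemma exists_tr_ne : ∃ θ : F, θ + σ θ ≠ 0 := by
  obtain ⟨θ, hθ⟩ := exists_moved hne
  by_cases h2 : (2 : F) = 0
  · refine ⟨θ, fun h => hθ ?_⟩
    have h1 : σ θ = -θ := by linear_combination h
    rw [h1]
    linear_combination (-θ) * h2
  · refine ⟨1, ?_⟩
    rw [map_one]
    intro h
    apply h2
    linear_combination h

include hinv hne in
lemma tr_surj (r : F) (hr : σ r = r) : ∃ z : F, z + σ z = r := by
  obtain ⟨θ, hθ⟩ := exists_tr_ne hinv hne
  have hθ' : σ θ + θ ≠ 0 := by rwa [add_comm]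
  refine ⟨r * θ / (θ + σ θ), ?_⟩
  rw [map_div₀, map_mul, map_add, hinv, hr]
  field_simp
  ring

include hinv hne in
lemma exists_skew : ∃ c : F, c ≠ 0 ∧ σ c = -c := by
  obtain ⟨θ, hθ⟩ := exists_moved hne
  exact ⟨θ - σ θ, sub_ne_zero.mpr (Ne.symm hθ), by rw [map_sub, hinv]; ring⟩

include hinv in
lemma decomp_skew_fixed {y : F} (hy : y + σ y ≠ 0) (z : F) :
    ∃ s r : F, σ s = -s ∧ σ r = r ∧ z = s + r * y := by
  obtain ⟨r, hrdef⟩ : ∃ r : F, r = (z + σ z) / (y + σ y) := ⟨_, rfl⟩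
  have hσr : σ r = r := by
    rw [hrdef, map_div₀, map_add, map_add, hinv, hinv, add_comm (σ z), add_comm (σ y)]
  have hr2 : r * (y + σ y) = z + σ z := by rw [hrdef]; exact div_mul_cancel₀ _ hy
  refine ⟨z - r * y, r, ?_, hσr, by ring⟩
  rw [map_sub, map_mul, hσr]
  linear_combination (-1 : F) * hr2

include hinv hne in
lemma norm_surj [Fintype F] (r : F) (hr0 : r ≠ 0) (hr : σ r = r) : ∃ z : F, z * σ z = r := by
  classical
  obtain ⟨c, hc0, hc⟩ := exists_skew hinv hne
  let σu : Fˣ →* Fˣ := Units.map ((σ : F →+* F) : F →* F)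
  have hσu : ∀ z : Fˣ, ((σu z : Fˣ) : F) = σ (z : F) := fun z => rfl
  have hσσ : ∀ z : Fˣ, σu (σu z) = z := fun z => Units.ext (by rw [hσu, hσu, hinv])
  let Nm : Fˣ →* Fˣ := MonoidHom.id Fˣ * σu
  let ρ : Fˣ →* Fˣ := MonoidHom.id Fˣ * σu⁻¹
  have hNm : ∀ z, Nm z = z * σu z := fun z => rfl
  have hρ : ∀ z, ρ z = z * (σu z)⁻¹ := fun z => rfl
  have hker : Nm.ker = ρ.range := by
    ext z
    rw [MonoidHom.mem_ker, MonoidHom.mem_range, hNm]
    constructor
    · intro hz
      have hzF : (z : F) * σ (z : F) = 1 := by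
        have := congrArg Units.val hz
        rwa [Units.val_mul, hσu, Units.val_one] at this
      by_cases h1 : (z : F) = -1
      · refine ⟨Units.mk0 c hc0, ?_⟩
        rw [hρ]
        apply Units.ext
        rw [Units.val_mul, Units.val_inv_eq_inv_val, hσu, Units.val_mk0, hc, h1, inv_neg, mul_neg,
          mul_inv_cancel₀ hc0]
      · have hy0 : (1 : F) + z ≠ 0 := fun h => h1 (by linear_combination h)
        refine ⟨Units.mk0 (1 + (z : F)) hy0, ?_⟩
        rw [hρ, mul_inv_eq_iff_eq_mul]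
        apply Units.ext
        rw [Units.val_mul, hσu, Units.val_mk0, map_add, map_one]
        linear_combination (-1 : F) * hzF
    · rintro ⟨y, rfl⟩
      rw [hρ, map_mul, map_inv, hσσ]
      have : y * (σu y)⁻¹ * (σu y * y⁻¹) = (y * y⁻¹) * ((σu y)⁻¹ * σu y) := by ac_rfl
      rw [this, mul_inv_cancel, inv_mul_cancel, one_mul]
  have hrange : Nm.range ≤ ρ.ker := by
    rintro _ ⟨y, rfl⟩
    rw [MonoidHom.mem_ker, hρ, hNm, map_mul, hσσ, mul_comm (σu y) y, mul_inv_cancel]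
  have hc1 := Subgroup.card_mul_index Nm.ker
  have hc2 := Subgroup.card_mul_index ρ.ker
  rw [Subgroup.index_ker] at hc1 hc2
  rw [hker] at hc1
  have hpos : 0 < Nat.card ρ.range := Nat.card_pos
  have hcard : Nat.card Nm.range = Nat.card ρ.ker := by
    have : Nat.card ρ.range * Nat.card Nm.range = Nat.card ρ.range * Nat.card ρ.ker := by
      rw [hc1, mul_comm, hc2]
    exact Nat.eq_of_mul_eq_mul_left hpos this
  have heq : Nm.range = ρ.ker := Subgroup.eq_of_le_of_card_ge hrange (le_of_eq hcard.symm)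
  have hmem : Units.mk0 r hr0 ∈ ρ.ker := by
    rw [MonoidHom.mem_ker, hρ, mul_inv_eq_one]
    apply Units.ext
    rw [hσu, Units.val_mk0, hr]
  rw [← heq] at hmem
  obtain ⟨y, hy⟩ := hmem
  refine ⟨(y : F), ?_⟩
  have := congrArg Units.val hy
  rwa [hNm, Units.val_mul, hσu, Units.val_mk0] at this

end Fld

section Form
variable {F : Type*} [Field F] {n : ℕ} {σ : F ≃+* F}
  {f : (Fin n → F) → (Fin n → F) → F}

/-- the restriction of `f` to `U` is non-degenerate -/
def ND (f : (Fin n → F) → (Fin n → F) → F) (U : Submodule F (Fin n → F)) : Prop :=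
  ∀ u ∈ U, u ≠ 0 → ∃ x ∈ U, f x u ≠ 0

lemma exists_mem_ne_zero {U : Submodule F (Fin n → F)} (h : 1 ≤ Module.finrank F U) :
    ∃ x ∈ U, x ≠ 0 := by
  obtain ⟨x, hx⟩ := Module.finrank_pos_iff_exists_ne_zero.mp (by omega : 0 < Module.finrank F U)
  exact ⟨x, x.2, fun h0 => hx (Subtype.ext h0)⟩

lemma coeff_zero {e b : Fin n → F} (he : e ≠ 0) (hb : b ∉ Submodule.span F {e}) {ν₁ ν₂ : F}
    (h : ν₁ • e + ν₂ • b = 0) : ν₁ = 0 ∧ ν₂ = 0 := by
  have h2 : ν₂ = 0 := by
    by_contra hne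
    apply hb
    have : b = (-(ν₁ / ν₂)) • e := by
      have h1 : ν₂ • b = -(ν₁ • e) := eq_neg_of_add_eq_zero_right h
      have h3 : b = ν₂⁻¹ • (ν₂ • b) := by rw [smul_smul, inv_mul_cancel₀ hne, one_smul]
      rw [h3, h1, smul_neg, smul_smul, neg_smul]
      congr 2
      field_simp
    rw [this]
    exact Submodule.smul_mem _ _ (Submodule.mem_span_singleton_self e)
  refine ⟨?_, h2⟩
  rw [h2, zero_smul, add_zero] at h
  exact (smul_eq_zero.mp h).resolve_right he

variable (hf : Cfsg.Geo.IsUnitaryForm σ f)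
include hf

lemma u_add_right (x a b : Fin n → F) : f x (a + b) = f x a + f x b := by
  rw [hf.herm, hf.add_left, map_add, ← hf.herm, ← hf.herm]

lemma u_smul_right (c : F) (x a : Fin n → F) : f x (c • a) = σ c * f x a := by
  rw [hf.herm, hf.smul_left, map_mul, ← hf.herm]

lemma u_zero_left (x : Fin n → F) : f 0 x = 0 := by
  have := hf.smul_left 0 0 x
  rwa [zero_smul, zero_mul] at this

lemma u_zero_right (x : Fin n → F) : f x 0 = 0 := by
  rw [hf.herm, u_zero_left hf, map_zero]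

lemma u_neg_left (a x : Fin n → F) : f (-a) x = -f a x := by
  have := hf.smul_left (-1) a x
  rwa [neg_one_smul, neg_one_mul] at this

lemma u_sub_left (a b x : Fin n → F) : f (a - b) x = f a x - f b x := by
  rw [sub_eq_add_neg, hf.add_left, u_neg_left hf, ← sub_eq_add_neg]

lemma u_neg_right (x a : Fin n → F) : f x (-a) = -f x a := by
  rw [hf.herm, u_neg_left hf, map_neg, ← hf.herm]

lemma u_sub_right (x a b : Fin n → F) : f x (a - b) = f x a - f x b := by
  rw [sub_eq_add_neg, u_add_right hf, u_neg_right hf, ← sub_eq_add_neg]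

lemma u_self_fixed (x : Fin n → F) : σ (f x x) = f x x := (hf.herm x x).symm

lemma u_symm_zero {x y : Fin n → F} (h : f x y = 0) : f y x = 0 := by
  rw [hf.herm, h, map_zero]

lemma u_symm_ne {x y : Fin n → F} (h : f x y ≠ 0) : f y x ≠ 0 :=
  fun h' => h (u_symm_zero hf h')

lemma u_eq_zero_of_forall_left {v : Fin n → F} (h : ∀ x, f x v = 0) : v = 0 := by
  by_contra hv
  obtain ⟨x, hx⟩ := (hf.nondegenerate v hv).1
  exact hx (h x)

lemma u_eq_zero_of_forall_right {v : Fin n → F} (h : ∀ x, f v x = 0) : v = 0 := by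
  by_contra hv
  obtain ⟨x, hx⟩ := (hf.nondegenerate v hv).2
  exact hx (h x)

/-- `x ↦ f x a` as a linear functional -/
def uL (a : Fin n → F) : (Fin n → F) →ₗ[F] F where
  toFun x := f x a
  map_add' x y := hf.add_left x y a
  map_smul' c x := by
    simp only [RingHom.id_apply, smul_eq_mul]
    exact hf.smul_left c x a

lemma uL_apply (a x : Fin n → F) : uL hf a x = f x a := rfl

lemma uL_add (a b : Fin n → F) : uL hf (a + b) = uL hf a + uL hf b :=
  LinearMap.ext fun x => by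
    rw [LinearMap.add_apply, uL_apply, uL_apply, uL_apply, u_add_right hf]

lemma uL_smul (c : F) (a : Fin n → F) : uL hf (c • a) = σ c • uL hf a :=
  LinearMap.ext fun x => by
    rw [LinearMap.smul_apply, uL_apply, uL_apply, u_smul_right hf, smul_eq_mul]

lemma u_expand (x y : Fin n → F) (l : F) :
    f (x + l • y) (x + l • y) = f x x + σ l * f x y + l * f y x + l * σ l * f y y := by
  rw [hf.add_left, u_add_right hf, u_add_right hf, hf.smul_left, hf.smul_left, u_smul_right hf,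
    u_smul_right hf]
  ring

/-- adding a multiple of an isotropic non-orthogonal vector reaches every norm -/
lemma exists_iso_add {x y : Fin n → F} (hy : f y y = 0) (hxy : f x y ≠ 0) (r : F)
    (hr : σ r = r) : ∃ l : F, f (x + l • y) (x + l • y) = r := by
  obtain ⟨z, hz⟩ := tr_surj hf.involutive hf.ne_refl (r - f x x)
    (by rw [map_sub, hr, u_self_fixed hf])
  have h2 : σ (f x y) ≠ 0 := by rwa [Ne, map_eq_zero]
  refine ⟨z / σ (f x y), ?_⟩
  rw [u_expand hf, hy, mul_zero, add_zero, map_div₀, hf.involutive, hf.herm y x,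
    div_mul_cancel₀ _ hxy, div_mul_cancel₀ _ h2]
  linear_combination hz

/-- the orthogonal hyperplane of `v` -/
def pp (v : Fin n → F) : Submodule F (Fin n → F) := LinearMap.ker (uL hf v)

lemma mem_pp {v x : Fin n → F} : x ∈ pp hf v ↔ f x v = 0 := LinearMap.mem_ker

lemma finrank_inf_pp (U : Submodule F (Fin n → F)) (v : Fin n → F) :
    Module.finrank F U ≤ Module.finrank F ↥(U ⊓ pp hf v) + 1 := by
  have h1 := Submodule.finrank_sup_add_finrank_inf_eq U (pp hf v)
  have h2 : Module.finrank F ↥(U ⊔ pp hf v) ≤ Module.finrank F (Fin n → F) :=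
    Submodule.finrank_le _
  have h3 := LinearMap.finrank_range_add_finrank_ker (uL hf v)
  have h4 : Module.finrank F ↥(LinearMap.range (uL hf v)) ≤ 1 := by
    have := Submodule.finrank_le (LinearMap.range (uL hf v))
    rwa [Module.finrank_self] at this
  have h5 : Module.finrank F ↥(pp hf v) = Module.finrank F ↥(LinearMap.ker (uL hf v)) := rfl
  omega

lemma ND_top : ND f ⊤ := fun u _ hu => by
  obtain ⟨x, hx⟩ := (hf.nondegenerate u hu).1
  exact ⟨x, Submodule.mem_top, hx⟩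

lemma ND_noniso {U : Submodule F (Fin n → F)} (hU : ND f U) {x : Fin n → F} (hx : x ∈ U)
    (hxx : f x x ≠ 0) : ND f (U ⊓ pp hf x) := by
  intro u hu hu0
  obtain ⟨huU, hux⟩ := Submodule.mem_inf.mp hu
  rw [mem_pp] at hux
  obtain ⟨y, hyU, hy⟩ := hU u huU hu0
  refine ⟨y - (f y x / f x x) • x,
    Submodule.mem_inf.mpr ⟨U.sub_mem hyU (U.smul_mem _ hx), ?_⟩, ?_⟩
  · rw [mem_pp, u_sub_left hf, hf.smul_left, div_mul_cancel₀ _ hxx, sub_self]
  · rw [u_sub_left hf, hf.smul_left, u_symm_zero hf hux, mul_zero, sub_zero]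
    exact hy

lemma ND_hyp {U : Submodule F (Fin n → F)} (hU : ND f U) {e e' : Fin n → F} (he : e ∈ U)
    (he' : e' ∈ U) (hee : f e e = 0) (he'e' : f e' e' = 0) (h1 : f e e' = 1) :
    ND f (U ⊓ pp hf e ⊓ pp hf e') := by
  have h1' : f e' e = 1 := by rw [hf.herm, h1, map_one]
  intro u hu hu0
  obtain ⟨hu1, hue'⟩ := Submodule.mem_inf.mp hu
  obtain ⟨huU, hue⟩ := Submodule.mem_inf.mp hu1
  rw [mem_pp] at hue hue'
  obtain ⟨y, hyU, hy⟩ := hU u huU hu0
  refine ⟨y - f y e' • e - f y e • e',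
    Submodule.mem_inf.mpr ⟨Submodule.mem_inf.mpr
      ⟨U.sub_mem (U.sub_mem hyU (U.smul_mem _ he)) (U.smul_mem _ he'), ?_⟩, ?_⟩, ?_⟩
  · rw [mem_pp, u_sub_left hf, u_sub_left hf, hf.smul_left, hf.smul_left, hee, h1']
    ring
  · rw [mem_pp, u_sub_left hf, u_sub_left hf, hf.smul_left, hf.smul_left, h1, he'e']
    ring
  · rw [u_sub_left hf, u_sub_left hf, hf.smul_left, hf.smul_left, u_symm_zero hf hue,
      u_symm_zero hf hue', mul_zero, mul_zero, sub_zero, sub_zero]
    exact hy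

/-- isotropic vectors exist in non-degenerate subspaces of dimension at least two -/
lemma exists_iso [Fintype F] {U : Submodule F (Fin n → F)} (hU : ND f U)
    (hd : 2 ≤ Module.finrank F U) : ∃ e ∈ U, e ≠ 0 ∧ f e e = 0 := by
  obtain ⟨x, hxU, hx0⟩ := exists_mem_ne_zero (by omega : 1 ≤ Module.finrank F U)
  by_cases hxx : f x x = 0
  · exact ⟨x, hxU, hx0, hxx⟩
  have hd' := finrank_inf_pp hf U x
  obtain ⟨y, hyU', hy0⟩ := exists_mem_ne_zero (U := U ⊓ pp hf x) (by omega)
  obtain ⟨hyU, hyx⟩ := Submodule.mem_inf.mp hyU'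
  rw [mem_pp] at hyx
  by_cases hyy : f y y = 0
  · exact ⟨y, hyU, hy0, hyy⟩
  obtain ⟨l, hl⟩ := norm_surj hf.involutive hf.ne_refl (-(f x x) / f y y)
    (div_ne_zero (neg_ne_zero.mpr hxx) hyy)
    (by rw [map_div₀, map_neg, u_self_fixed hf, u_self_fixed hf])
  refine ⟨x + l • y, U.add_mem hxU (U.smul_mem _ hyU), ?_, ?_⟩
  · intro h0
    have : f (x + l • y) x = f x x := by
      rw [hf.add_left, hf.smul_left, hyx, mul_zero, add_zero]
    rw [h0, u_zero_left hf] at this
    exact hxx this.symm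
  · rw [u_expand hf, hyx, u_symm_zero hf hyx, mul_zero, mul_zero, add_zero, add_zero, hl,
      div_mul_cancel₀ _ hyy, add_neg_cancel]

lemma exists_partner {U : Submodule F (Fin n → F)} (hU : ND f U) {e : Fin n → F} (he : e ∈ U)
    (he0 : e ≠ 0) (hee : f e e = 0) : ∃ e' ∈ U, f e' e' = 0 ∧ f e e' = 1 := by
  obtain ⟨y, hyU, hy⟩ := hU e he he0
  obtain ⟨l, hl⟩ := exists_iso_add hf hee hy 0 (map_zero σ)
  have hg : f (y + l • e) e = f y e := by
    rw [hf.add_left, hf.smul_left, hee, mul_zero, add_zero]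
  refine ⟨(f y e)⁻¹ • (y + l • e), U.smul_mem _ (U.add_mem hyU (U.smul_mem _ he)), ?_, ?_⟩
  · rw [hf.smul_left, u_smul_right hf, hl, mul_zero, mul_zero]
  · rw [u_smul_right hf, hf.herm e, hg, ← map_mul, inv_mul_cancel₀ hy, map_one]

lemma exists_hyp [Fintype F] {U : Submodule F (Fin n → F)} (hU : ND f U)
    (hd : 2 ≤ Module.finrank F U) :
    ∃ e ∈ U, ∃ e' ∈ U, f e e = 0 ∧ f e' e' = 0 ∧ f e e' = 1 := by
  obtain ⟨e, heU, he0, hee⟩ := exists_iso hf hU hd
  obtain ⟨e', he'U, he'e', h1⟩ := exists_partner hf hU heU he0 hee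
  exact ⟨e, heU, e', he'U, hee, he'e', h1⟩

lemma exists_norm [Fintype F] {U : Submodule F (Fin n → F)} (hU : ND f U)
    (hd : 2 ≤ Module.finrank F U) (r : F) (hr : σ r = r) : ∃ u ∈ U, f u u = r := by
  obtain ⟨e, heU, e', he'U, hee, he'e', h1⟩ := exists_hyp hf hU hd
  obtain ⟨l, hl⟩ := tr_surj hf.involutive hf.ne_refl r hr
  refine ⟨e + l • e', U.add_mem heU (U.smul_mem _ he'U), ?_⟩
  rw [u_expand hf, hee, he'e', h1, hf.herm e' e, h1, map_one]
  linear_combination hl

/-- every vector of a non-degenerate subspace of dimension at least three is a sum of three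
isotropic vectors of the subspace -/
lemma exists_iso_decomp [Fintype F] {U : Submodule F (Fin n → F)} (hU : ND f U)
    (hd : 3 ≤ Module.finrank F U) {x : Fin n → F} (hx : x ∈ U) :
    ∃ b₁ ∈ U, ∃ b₂ ∈ U, ∃ b₃ ∈ U, f b₁ b₁ = 0 ∧ f b₂ b₂ = 0 ∧ f b₃ b₃ = 0 ∧
      x = b₁ + b₂ + b₃ := by
  by_cases hxx : f x x = 0
  · exact ⟨x, hx, 0, U.zero_mem, 0, U.zero_mem, hxx, u_zero_left hf 0, u_zero_left hf 0,
      by simp⟩
  have hd' := finrank_inf_pp hf U x
  have hU' := ND_noniso hf hU hx hxx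
  obtain ⟨e, heU', e', he'U', hee, he'e', h1⟩ := exists_hyp hf hU' (by omega)
  obtain ⟨heU, hex⟩ := Submodule.mem_inf.mp heU'
  obtain ⟨he'U, he'x⟩ := Submodule.mem_inf.mp he'U'
  rw [mem_pp] at hex he'x
  obtain ⟨l, hl⟩ := tr_surj hf.involutive hf.ne_refl (-(f x x))
    (by rw [map_neg, u_self_fixed hf])
  have key : ∀ u : Fin n → F, f u x = 0 → f u u = -(f x x) → f (x + u) (x + u) = 0 := by
    intro u hux huu
    rw [hf.add_left, u_add_right hf, u_add_right hf, hux, u_symm_zero hf hux, huu]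
    ring
  have hux : f (e + l • e') x = 0 := by
    rw [hf.add_left, hf.smul_left, hex, he'x, mul_zero, add_zero]
  have huu : f (e + l • e') (e + l • e') = -(f x x) := by
    rw [u_expand hf, hee, he'e', h1, hf.herm e' e, h1, map_one]
    linear_combination hl
  refine ⟨x + (e + l • e'), U.add_mem hx (U.add_mem heU (U.smul_mem _ he'U)), -e,
    U.neg_mem heU, -(l • e'), U.neg_mem (U.smul_mem _ he'U), key _ hux huu, ?_, ?_, ?_⟩
  · rw [u_neg_left hf, u_neg_right hf, hee]; simp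
  · rw [u_neg_left hf, u_neg_right hf, hf.smul_left, u_smul_right hf, he'e']; simp
  · abel

lemma exists_iso_ne [Fintype F] {U : Submodule F (Fin n → F)} (hU : ND f U)
    (hd : 3 ≤ Module.finrank F U) (p : Fin n → F) (hp : ∃ x ∈ U, f x p ≠ 0) :
    ∃ w ∈ U, f w w = 0 ∧ f w p ≠ 0 := by
  obtain ⟨x, hxU, hxp⟩ := hp
  obtain ⟨b₁, h1U, b₂, h2U, b₃, h3U, h1, h2, h3, hsum⟩ := exists_iso_decomp hf hU hd hxU
  by_contra hcon
  push Not at hcon
  apply hxp
  rw [hsum, hf.add_left, hf.add_left, hcon b₁ h1U h1, hcon b₂ h2U h2, hcon b₃ h3U h3]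
  simp

/-- a non-trivial isotropic combination of two isotropic vectors -/
lemma exists_iso_comb {w₁ w₂ : Fin n → F} (hw₁ : f w₁ w₁ = 0) (hw₂ : f w₂ w₂ = 0) :
    ∃ l : F, l ≠ 0 ∧ f (w₁ + l • w₂) (w₁ + l • w₂) = 0 := by
  by_cases hg : f w₁ w₂ = 0
  · refine ⟨1, one_ne_zero, ?_⟩
    rw [u_expand hf, hw₁, hw₂, hg, u_symm_zero hf hg]
    simp
  · obtain ⟨c, hc0, hc⟩ := exists_skew hf.involutive hf.ne_refl
    have hg' : σ (f w₁ w₂) ≠ 0 := by rwa [Ne, map_eq_zero]
    refine ⟨-c / σ (f w₁ w₂), div_ne_zero (neg_ne_zero.mpr hc0) hg', ?_⟩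
    rw [u_expand hf, hw₁, hw₂, hf.herm w₂ w₁, map_div₀, map_neg, hc, hf.involutive, neg_neg,
      div_mul_cancel₀ _ hg, div_mul_cancel₀ _ hg']
    ring

lemma exists_iso_ne2 [Fintype F] {U : Submodule F (Fin n → F)} (hU : ND f U)
    (hd : 3 ≤ Module.finrank F U) (p₁ p₂ : Fin n → F) (hp₁ : ∃ x ∈ U, f x p₁ ≠ 0)
    (hp₂ : ∃ x ∈ U, f x p₂ ≠ 0) : ∃ w ∈ U, f w w = 0 ∧ f w p₁ ≠ 0 ∧ f w p₂ ≠ 0 := by
  obtain ⟨w₁, hw₁U, hw₁, hw₁p⟩ := exists_iso_ne hf hU hd p₁ hp₁
  obtain ⟨w₂, hw₂U, hw₂, hw₂p⟩ := exists_iso_ne hf hU hd p₂ hp₂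
  by_cases h12 : f w₁ p₂ ≠ 0
  · exact ⟨w₁, hw₁U, hw₁, hw₁p, h12⟩
  rw [not_not] at h12
  by_cases h21 : f w₂ p₁ ≠ 0
  · exact ⟨w₂, hw₂U, hw₂, h21, hw₂p⟩
  rw [not_not] at h21
  obtain ⟨l, hl0, hl⟩ := exists_iso_comb hf hw₁ hw₂
  refine ⟨w₁ + l • w₂, U.add_mem hw₁U (U.smul_mem _ hw₂U), hl, ?_, ?_⟩
  · rw [hf.add_left, hf.smul_left, h21, mul_zero, add_zero]
    exact hw₁p
  · rw [hf.add_left, hf.smul_left, h12, zero_add]
    exact mul_ne_zero hl0 hw₂p

/-- Riesz representation -/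
lemma exists_repr [Fintype F] (s : (Fin n → F) →ₗ[F] F) : ∃ b, ∀ x, s x = f x b := by
  let e := (Pi.basisFun F (Fin n)).toDualEquiv
  let τ : (Fin n → F) → (Fin n → F) := fun b => e.symm (uL hf b)
  have hinj : Function.Injective τ := by
    intro b b' h
    have h1 : uL hf b = uL hf b' := e.symm.injective h
    have h2 : b - b' = 0 := by
      apply u_eq_zero_of_forall_left hf
      intro x
      rw [u_sub_right hf, ← uL_apply hf b, ← uL_apply hf b', h1, sub_self]
    exact sub_eq_zero.mp h2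
  have hsurj := Finite.injective_iff_surjective.mp hinj
  obtain ⟨b, hb⟩ := hsurj (e.symm s)
  refine ⟨b, fun x => ?_⟩
  have h1 : uL hf b = s := e.symm.injective hb
  rw [← h1, uL_apply]

lemma exists_sep {a b : Fin n → F} (ha : a ≠ 0) (hb : b ∉ Submodule.span F {a}) :
    ∃ p, f a p = 0 ∧ f b p ≠ 0 := by
  by_contra hcon
  push Not at hcon
  apply hb
  obtain ⟨w₀, hw₀⟩ := (hf.nondegenerate a ha).2
  have key : ∀ w, f (b - (f b w₀ / f a w₀) • a) w = 0 := by
    intro w
    have h1 := hcon (w - σ (f a w / f a w₀) • w₀)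
      (by rw [u_sub_right hf, u_smul_right hf, hf.involutive, div_mul_cancel₀ _ hw₀, sub_self])
    rw [u_sub_right hf, u_smul_right hf, hf.involutive] at h1
    rw [u_sub_left hf, hf.smul_left]
    have h2 : f b w = f a w / f a w₀ * f b w₀ := by linear_combination h1
    rw [h2]
    ring
  have h2 : b - (f b w₀ / f a w₀) • a = 0 := u_eq_zero_of_forall_right hf key
  rw [sub_eq_zero.mp h2]
  exact Submodule.smul_mem _ _ (Submodule.mem_span_singleton_self a)

end Form

end Cfsg.Agent.Lib.Helper5.UForm
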