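import Mathlib
import Cfsg.Prelude.Def_Classical
import Cfsg.Prelude.Def_LieClassical
import Cfsg.Prelude.Def_ClassicalGeometry
import Cfsg.Prelude.Def_GeometricClasses
import Cfsg.Agent.Lib.Helper14.Unitary
import Cfsg.Agent.Lib.Helper14.Unitary3
import Cfsg.Agent.Lib.Helper5.UForm

/-!
Bridge between the standard Hermitian form `hermForm n F q` (`|F| = q^2`) and the abstract unitary
form toolkit `UForm`: the automorphism `x ↦ x^q` as a ring equivalence, `hermForm` as an
`IsUnitaryForm`, the action of `unitaryTransvection`.
-/

set_option autoImplicit false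
set_option linter.unusedSectionVars false
set_option linter.unusedVariables false
set_option linter.unusedSimpArgs false

namespace Cfsg.Agent.Lib.Helper5.HermBridge
open Cfsg Matrix Cfsg.Agent.Lib.Helper14 Cfsg.Agent.Lib.Helper5.UForm

variable {F : Type*} [Field F] [Fintype F] {q n : ℕ}

lemma pow_q_pow_q (hF : Fintype.card F = q ^ 2) (x : F) : (x ^ q) ^ q = x := by
  rw [← pow_mul, ← sq, ← hF, FiniteField.pow_card]

/-- `x ↦ x^q` as a ring homomorphism -/
noncomputable def frobHom (hF : Fintype.card F = q ^ 2) : F →+* F where
  toFun x := x ^ q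
  map_one' := one_pow q
  map_mul' x y := mul_pow x y q
  map_zero' := by
    classical
    have := herm_two_le hF
    exact zero_pow (by omega)
  map_add' x y := by
    classical
    exact herm_add_pow hF x y

/-- `x ↦ x^q` as a ring automorphism -/
noncomputable def frobQ (hF : Fintype.card F = q ^ 2) : F ≃+* F :=
  RingEquiv.ofRingHom (frobHom hF) (frobHom hF)
    (by ext x; exact pow_q_pow_q hF x) (by ext x; exact pow_q_pow_q hF x)

lemma frobQ_apply (hF : Fintype.card F = q ^ 2) (x : F) : frobQ hF x = x ^ q := rfl

theorem herm_unitary (hF : Fintype.card F = q ^ 2) :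
    Cfsg.Geo.IsUnitaryForm (frobQ hF) (Cfsg.hermForm n F q) where
  ne_refl := by
    classical
    intro h
    obtain ⟨l, hl1, hl2⟩ := exists_normOne_sq_ne_one hF
    apply hl2
    have : frobQ hF l = l := by rw [h]; rfl
    rw [frobQ_apply] at this
    rw [this] at hl1
    exact hl1
  involutive a := pow_q_pow_q hF a
  add_left x y v := hermForm_add_left x y v
  smul_left c x v := hermForm_smul_left c x v
  herm v w := by
    classical
    rw [frobQ_apply]
    exact (hermForm_conj hF w v).symm
  nondegenerate := by
    classical
    have hq := herm_two_le hF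
    intro v hv
    obtain ⟨i, hi⟩ : ∃ i, v i ≠ 0 := by
      by_contra hcon
      push Not at hcon
      exact hv (funext hcon)
    constructor
    · refine ⟨Pi.single i 1, ?_⟩
      unfold Cfsg.hermForm
      rw [Finset.sum_eq_single i]
      · rw [Pi.single_eq_same, one_mul]
        exact pow_ne_zero _ hi
      · intro j _ hji
        rw [Pi.single_eq_of_ne hji, zero_mul]
      · intro h; exact absurd (Finset.mem_univ i) h
    · refine ⟨Pi.single i 1, ?_⟩
      unfold Cfsg.hermForm
      rw [Finset.sum_eq_single i]
      · rw [Pi.single_eq_same, one_pow, mul_one]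
        exact hi
      · intro j _ hji
        rw [Pi.single_eq_of_ne hji, zero_pow (by omega), mul_zero]
      · intro h; exact absurd (Finset.mem_univ i) h

omit [Fintype F] in
lemma ut_mulVec (v x : Fin n → F) (c : F) :
    Cfsg.unitaryTransvection n q v c *ᵥ x = x + (c * Cfsg.hermForm n F q x v) • v := by
  unfold Cfsg.unitaryTransvection
  rw [Matrix.add_mulVec, Matrix.one_mulVec, Matrix.smul_mulVec, Matrix.vecMulVec_mulVec]
  have h1 : (fun j => v j ^ q) ⬝ᵥ x = Cfsg.hermForm n F q x v := by
    unfold Cfsg.hermForm dotProduct
    apply Finset.sum_congr rfl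
    intro i _
    ring
  rw [h1]
  congr 1
  ext i
  simp only [Pi.smul_apply, smul_eq_mul, MulOpposite.smul_eq_mul_unop, MulOpposite.unop_op]
  ring

end Cfsg.Agent.Lib.Helper5.HermBridge
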