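import Mathlib
import Cfsg.Prelude.Def_ClassicalGeometry
import Cfsg.Prelude.Def_GeometricClasses
import Cfsg.Agent.Lib.Helper2.SLGen
import Cfsg.Agent.Lib.Helper5.SpMax

/-!
Calculus of transvections `x ↦ x + s(x) a` inside a subgroup `M` of `GL_n(F)`:
`TM M s a` says that this transvection lies in `M`.  Conjugation, products, inverses, commutators,
and generation of `SL_n(F)`.
-/

set_option autoImplicit false
set_option linter.unusedSectionVars false
set_option linter.unusedVariables false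
set_option linter.unusedSimpArgs false

namespace Cfsg.Agent.Lib.Helper5.TMCalc
open Cfsg Matrix Cfsg.Agent.Lib.Helper5.SpMax

variable {F : Type*} [Field F] {n : ℕ}

lemma exists_rank_one (s : (Fin n → F) →ₗ[F] F) (a : Fin n → F) (hs : s a = 0) :
    ∃ g : GL (Fin n) F, g ∈ Cfsg.Geo.specialLinear (Fin n) F ∧
      (∀ v, (g : Matrix (Fin n) (Fin n) F) *ᵥ v = v + s v • a) := by
  set r : Fin n → F := fun j => s (Pi.single j 1) with hr
  have hdot : ∀ x : Fin n → F, r ⬝ᵥ x = s x := by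
    intro x
    have hx : x = ∑ i, x i • (Pi.single i (1 : F) : Fin n → F) := by
      ext j
      simp [Finset.sum_apply, Pi.single_apply]
    conv_rhs => rw [hx, map_sum]
    simp only [dotProduct, hr, map_smul, smul_eq_mul]
    apply Finset.sum_congr rfl
    intro i _
    ring
  set M : Matrix (Fin n) (Fin n) F := 1 + Matrix.vecMulVec a r with hM
  have hdet : M.det = 1 := by
    have h1 : M = 1 + Matrix.replicateCol Unit a * Matrix.replicateRow Unit r := by
      rw [hM]; congr 1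
      ext i j; simp [Matrix.vecMulVec_apply, Matrix.mul_apply]
    rw [h1, Matrix.det_one_add_replicateCol_mul_replicateRow, hdot, hs, add_zero]
  have hMx : ∀ x : Fin n → F, M *ᵥ x = x + s x • a := by
    intro x
    rw [hM, Matrix.add_mulVec, Matrix.one_mulVec, Matrix.vecMulVec_mulVec, hdot]
    congr 1
    ext i
    simp [mul_comm]
  refine ⟨Matrix.GeneralLinearGroup.mkOfDetNeZero M (by rw [hdet]; exact one_ne_zero), ?_, hMx⟩
  change _ ∈ (Matrix.GeneralLinearGroup.det : GL (Fin n) F →* Fˣ).ker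
  rw [MonoidHom.mem_ker]
  apply Units.ext
  simp [hdet]

lemma transvection_mulVec (i j : Fin n) (c : F) (v : Fin n → F) :
    Matrix.transvection i j c *ᵥ v = v + (c * v j) • (Pi.single i (1 : F) : Fin n → F) := by
  unfold Matrix.transvection
  rw [Matrix.add_mulVec, Matrix.one_mulVec]
  congr 1
  ext l
  simp only [Matrix.mulVec, dotProduct, Matrix.single_apply, Pi.smul_apply, Pi.single_apply,
    smul_eq_mul]
  by_cases hl : i = l
  · subst hl
    simp
  · simp [hl, Ne.symm hl]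

/-- "the transvection `x ↦ x + s(x) a` lies in `M`" -/
def TM (M : Subgroup (GL (Fin n) F)) (s : (Fin n → F) →ₗ[F] F) (a : Fin n → F) : Prop :=
  s a = 0 ∧ ∃ t ∈ M, ∀ v, (t : Matrix (Fin n) (Fin n) F) *ᵥ v = v + s v • a

lemma TM_mono {M M' : Subgroup (GL (Fin n) F)} (h : M ≤ M') {s : (Fin n → F) →ₗ[F] F}
    {a : Fin n → F} (hT : TM M s a) : TM M' s a := by
  obtain ⟨h0, t, ht, htv⟩ := hT
  exact ⟨h0, t, h ht, htv⟩

lemma TM_of_eq {M : Subgroup (GL (Fin n) F)} {s s' : (Fin n → F) →ₗ[F] F} {a : Fin n → F}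
    (hs : ∀ v, s v = s' v) (hT : TM M s a) : TM M s' a := by
  have : s = s' := LinearMap.ext hs
  rw [← this]; exact hT

lemma TM_conj {M : Subgroup (GL (Fin n) F)} {x : GL (Fin n) F} (hx : x ∈ M)
    {s : (Fin n → F) →ₗ[F] F} {a : Fin n → F} (hT : TM M s a) :
    TM M (s ∘ₗ Matrix.toLin' ((x⁻¹ : GL (Fin n) F) : Matrix (Fin n) (Fin n) F))
      ((x : Matrix (Fin n) (Fin n) F) *ᵥ a) := by
  obtain ⟨h0, t, ht, htv⟩ := hT
  refine ⟨?_, x * t * x⁻¹, M.mul_mem (M.mul_mem hx ht) (M.inv_mem hx), ?_⟩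
  · rw [LinearMap.comp_apply, Matrix.toLin'_apply, inv_mul_mulVec, h0]
  · intro v
    rw [Units.val_mul, Units.val_mul, ← Matrix.mulVec_mulVec, ← Matrix.mulVec_mulVec, htv,
      Matrix.mulVec_add, Matrix.mulVec_smul, mul_inv_mulVec, LinearMap.comp_apply,
      Matrix.toLin'_apply]

lemma TM_zero_center (M : Subgroup (GL (Fin n) F)) (s : (Fin n → F) →ₗ[F] F) : TM M s 0 :=
  ⟨map_zero s, 1, M.one_mem, fun v => by simp⟩

lemma TM_zero_fun (M : Subgroup (GL (Fin n) F)) (a : Fin n → F) :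
    TM M (0 : (Fin n → F) →ₗ[F] F) a :=
  ⟨rfl, 1, M.one_mem, fun v => by simp⟩

lemma TM_add {M : Subgroup (GL (Fin n) F)} {s s' : (Fin n → F) →ₗ[F] F} {a : Fin n → F}
    (h : TM M s a) (h' : TM M s' a) : TM M (s + s') a := by
  obtain ⟨h0, t, ht, htv⟩ := h
  obtain ⟨h0', t', ht', htv'⟩ := h'
  refine ⟨by rw [LinearMap.add_apply, h0, h0', add_zero], t * t', M.mul_mem ht ht', fun v => ?_⟩
  rw [Units.val_mul, ← Matrix.mulVec_mulVec, htv', htv]
  simp only [map_add, map_smul, h0, smul_eq_mul, mul_zero, add_zero, LinearMap.add_apply]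
  rw [add_smul]; abel

lemma inv_apply_of {t : GL (Fin n) F} {s : (Fin n → F) →ₗ[F] F} {a : Fin n → F} (h0 : s a = 0)
    (htv : ∀ v, (t : Matrix (Fin n) (Fin n) F) *ᵥ v = v + s v • a) (v : Fin n → F) :
    ((t⁻¹ : GL (Fin n) F) : Matrix (Fin n) (Fin n) F) *ᵥ v = v - s v • a := by
  have h := htv (v - s v • a)
  rw [map_sub, map_smul, h0, smul_eq_mul, mul_zero, sub_zero, sub_add_cancel] at h
  have h2 := inv_mul_mulVec t (v - s v • a)
  rwa [h] at h2

lemma TM_neg {M : Subgroup (GL (Fin n) F)} {s : (Fin n → F) →ₗ[F] F} {a : Fin n → F}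
    (h : TM M s a) : TM M (-s) a := by
  obtain ⟨h0, t, ht, htv⟩ := h
  refine ⟨by rw [LinearMap.neg_apply, h0, neg_zero], t⁻¹, M.inv_mem ht, fun v => ?_⟩
  rw [inv_apply_of h0 htv, LinearMap.neg_apply, neg_smul, sub_eq_add_neg]

/-- commutator of two transvections -/
lemma TM_comm {M : Subgroup (GL (Fin n) F)} {s s' : (Fin n → F) →ₗ[F] F} {a b : Fin n → F}
    (h : TM M s a) (h' : TM M s' b) (hsa : s' a = 0) : TM M (s b • s') a := by
  obtain ⟨h0, t, ht, htv⟩ := h
  obtain ⟨h0', t', ht', htv'⟩ := h'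
  refine ⟨by rw [LinearMap.smul_apply, hsa, smul_zero], t * t' * t⁻¹ * t'⁻¹,
    M.mul_mem (M.mul_mem (M.mul_mem ht ht') (M.inv_mem ht)) (M.inv_mem ht'), fun v => ?_⟩
  rw [Units.val_mul, Units.val_mul, Units.val_mul, ← Matrix.mulVec_mulVec,
    ← Matrix.mulVec_mulVec, ← Matrix.mulVec_mulVec, inv_apply_of h0' htv', inv_apply_of h0 htv,
    htv', htv]
  simp only [map_sub, map_add, map_smul, smul_eq_mul, h0, h0', hsa, mul_zero, sub_zero, add_zero,
    LinearMap.smul_apply]
  ext i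
  simp only [Pi.add_apply, Pi.sub_apply, Pi.smul_apply, smul_eq_mul]
  ring

lemma TM_smul_center {M : Subgroup (GL (Fin n) F)} {s : (Fin n → F) →ₗ[F] F} {a : Fin n → F}
    {c : F} (h : TM M (c • s) a) : TM M s (c • a) := by
  obtain ⟨h0, t, ht, htv⟩ := h
  refine ⟨by rw [map_smul]; exact h0, t, ht, fun v => ?_⟩
  rw [htv, LinearMap.smul_apply, smul_smul, smul_eq_mul, mul_comm]

lemma TM_center_smul {M : Subgroup (GL (Fin n) F)} {s : (Fin n → F) →ₗ[F] F} {a : Fin n → F}
    {c : F} (h : TM M s (c • a)) : TM M (c • s) a := by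
  obtain ⟨h0, t, ht, htv⟩ := h
  refine ⟨by rw [map_smul] at h0; exact h0, t, ht, fun v => ?_⟩
  rw [htv, LinearMap.smul_apply, smul_smul, smul_eq_mul, mul_comm]

lemma single_ne_zero (i : Fin n) : (Pi.single i 1 : Fin n → F) ≠ 0 := by
  intro h
  have := congrFun h i
  simp at this

/-- a subgroup containing all transvections contains `SL_n(F)` -/
lemma le_of_all_TM {M : Subgroup (GL (Fin n) F)} (hn : 2 ≤ n)
    (h5 : ∀ (a : Fin n → F) (s : (Fin n → F) →ₗ[F] F), s a = 0 → TM M s a) :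
    Cfsg.Geo.specialLinear (Fin n) F ≤ M := by
  intro x hx
  have hdet : (x : Matrix (Fin n) (Fin n) F).det = 1 := by
    have h1 := congrArg Units.val (MonoidHom.mem_ker.mp hx)
    simpa using h1
  have hnt : Nontrivial (Fin n) := Fin.nontrivial_iff_two_le.mpr (by omega)
  have key : ∀ A : Matrix.SpecialLinearGroup (Fin n) F,
      ∃ y ∈ M, (y : Matrix (Fin n) (Fin n) F) = (A : Matrix (Fin n) (Fin n) F) := by
    intro A
    refine Cfsg.Agent.Lib.Helper2.sl_transvection_induction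
      (fun A => ∃ y ∈ M, (y : Matrix (Fin n) (Fin n) F) = (A : Matrix (Fin n) (Fin n) F)) ?_ ?_ A
    · intro i j hij c
      obtain ⟨-, t, htM, htv⟩ := h5 (Pi.single i 1) (c • LinearMap.proj j)
        (by rw [LinearMap.smul_apply, LinearMap.proj_apply, Pi.single_apply,
          if_neg (Ne.symm hij), smul_zero])
      refine ⟨t, htM, ?_⟩
      apply mat_eq_of_mulVec
      intro v
      rw [htv]
      change _ = Matrix.transvection i j c *ᵥ v
      rw [transvection_mulVec, LinearMap.smul_apply, LinearMap.proj_apply, smul_eq_mul]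
    · rintro A B ⟨y, hy, hyA⟩ ⟨z, hz, hzB⟩
      refine ⟨y * z, M.mul_mem hy hz, ?_⟩
      rw [Units.val_mul, hyA, hzB]
      rfl
  obtain ⟨y, hy, hyx⟩ := key ⟨(x : Matrix (Fin n) (Fin n) F), hdet⟩
  have : y = x := Units.ext hyx
  rwa [← this]

end Cfsg.Agent.Lib.Helper5.TMCalc
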