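import Mathlib
import Cfsg.Agent.Lib.Helper5.TMCalc
import Cfsg.Agent.Lib.Helper5.UForm

/-!
Eichler (Siegel-type) elements `x ↦ x + f(x,w) v - f(x,v) w - κ f(x,v) v` of the unitary group of an
abstract unitary form, `v` isotropic, `w ⟂ v`, `κ + σ κ = f(w,w)`; their commutators are unitary
transvections with centre `v`.
-/

set_option autoImplicit false
set_option linter.unusedSectionVars false
set_option linter.unusedVariables false
set_option linter.unusedSimpArgs false

namespace Cfsg.Agent.Lib.Helper5.UEichler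
open Cfsg Matrix Cfsg.Agent.Lib.Helper5.SpMax Cfsg.Agent.Lib.Helper5.TMCalc
  Cfsg.Agent.Lib.Helper5.UForm

variable {F : Type*} [Field F] {n : ℕ} {σ : F ≃+* F}
  {f : (Fin n → F) → (Fin n → F) → F} (hf : Cfsg.Geo.IsUnitaryForm σ f)
include hf

/-- a non-zero non-degenerate subspace contains a non-isotropic vector -/
lemma exists_noniso {U : Submodule F (Fin n → F)} (hU : ND f U) (hne : ∃ z ∈ U, z ≠ 0) :
    ∃ w ∈ U, f w w ≠ 0 := by
  by_contra hcon
  push Not at hcon
  obtain ⟨z, hzU, hz0⟩ := hne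
  obtain ⟨x, hxU, hxz⟩ := hU z hzU hz0
  obtain ⟨τ, hτ⟩ := exists_tr_ne hf.involutive hf.ne_refl
  have h1 := hcon (x + σ (τ / f x z) • z) (U.add_mem hxU (U.smul_mem _ hzU))
  rw [u_expand hf, hcon x hxU, hcon z hzU, hf.involutive, hf.herm z x, map_div₀,
    div_mul_cancel₀ _ hxz] at h1
  have h2 : σ (f x z) ≠ 0 := by rwa [Ne, map_eq_zero]
  rw [div_mul_cancel₀ _ h2] at h1
  apply hτ
  linear_combination h1

/-- the Eichler element as an element of `SL` inside `GL` -/
lemma exists_E {v w : Fin n → F} (hvv : f v v = 0) (hwv : f w v = 0) (κ : F) :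
    ∃ g : GL (Fin n) F, g ∈ Cfsg.Geo.specialLinear (Fin n) F ∧
      ∀ x, (g : Matrix (Fin n) (Fin n) F) *ᵥ x = x + f x w • v - f x v • w - (κ * f x v) • v := by
  have hvw : f v w = 0 := u_symm_zero hf hwv
  obtain ⟨g₁, hg₁S, hg₁⟩ := exists_rank_one (uL hf w) v (by rw [uL_apply]; exact hvw)
  obtain ⟨g₂, hg₂S, hg₂⟩ := exists_rank_one (-(uL hf v)) (w + (κ - f w w) • v)
    (by rw [LinearMap.neg_apply, uL_apply, hf.add_left, hf.smul_left, hwv, hvv, mul_zero,
      add_zero, neg_zero])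
  refine ⟨g₁ * g₂, mul_mem hg₁S hg₂S, fun x => ?_⟩
  rw [Units.val_mul, ← Matrix.mulVec_mulVec, hg₂, hg₁]
  simp only [LinearMap.neg_apply, uL_apply, hf.add_left, hf.smul_left, u_neg_left hf, hwv, hvv,
    hvw, mul_zero, add_zero]
  ext i
  simp only [Pi.add_apply, Pi.sub_apply, Pi.smul_apply, Pi.neg_apply, smul_eq_mul]
  ring

/-- the Eichler element is an isometry -/
lemma E_isometry {v w : Fin n → F} (hvv : f v v = 0) (hwv : f w v = 0) {κ : F}
    (hκ : κ + σ κ = f w w) {g : GL (Fin n) F}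
    (hg : ∀ x, (g : Matrix (Fin n) (Fin n) F) *ᵥ x = x + f x w • v - f x v • w - (κ * f x v) • v)
    (x y : Fin n → F) :
    f ((g : Matrix (Fin n) (Fin n) F) *ᵥ x) ((g : Matrix (Fin n) (Fin n) F) *ᵥ y) = f x y := by
  have hvw : f v w = 0 := u_symm_zero hf hwv
  rw [hg x, hg y]
  simp only [hf.add_left, u_sub_left hf, hf.smul_left, u_add_right hf, u_sub_right hf,
    u_smul_right hf, hvv, hwv, hvw, mul_zero, zero_mul, add_zero, sub_zero, zero_sub, map_mul,
    hf.herm v y, hf.herm w y]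
  linear_combination (-(f x v * σ (f y v))) * hκ

/-- values of the form after applying an Eichler element -/
lemma E_apply_v {v w : Fin n → F} (hvv : f v v = 0) (hwv : f w v = 0) {κ : F}
    {g : GL (Fin n) F}
    (hg : ∀ x, (g : Matrix (Fin n) (Fin n) F) *ᵥ x = x + f x w • v - f x v • w - (κ * f x v) • v)
    (x : Fin n → F) : f ((g : Matrix (Fin n) (Fin n) F) *ᵥ x) v = f x v := by
  rw [hg x]
  simp only [hf.add_left, u_sub_left hf, hf.smul_left, hvv, hwv, mul_zero, add_zero, sub_zero]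

lemma E_apply_w {v w w' : Fin n → F} (hvv : f v v = 0) (hwv : f w v = 0) (hw'v : f w' v = 0)
    {κ : F} {g : GL (Fin n) F}
    (hg : ∀ x, (g : Matrix (Fin n) (Fin n) F) *ᵥ x = x + f x w • v - f x v • w - (κ * f x v) • v)
    (x : Fin n → F) :
    f ((g : Matrix (Fin n) (Fin n) F) *ᵥ x) w' = f x w' - f x v * f w w' := by
  have hvw' : f v w' = 0 := u_symm_zero hf hw'v
  rw [hg x]
  simp only [hf.add_left, u_sub_left hf, hf.smul_left, hvw', mul_zero, add_zero, sub_zero]

/-- the commutator relation: `E E' = t E' E` with `t` the transvection with centre `v` and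
parameter `f w w' - f w' w` -/
lemma E_comm {v w w' : Fin n → F} (hvv : f v v = 0) (hwv : f w v = 0) (hw'v : f w' v = 0)
    {κ κ' : F} {g g' t : GL (Fin n) F}
    (hg : ∀ x, (g : Matrix (Fin n) (Fin n) F) *ᵥ x = x + f x w • v - f x v • w - (κ * f x v) • v)
    (hg' : ∀ x, (g' : Matrix (Fin n) (Fin n) F) *ᵥ x =
      x + f x w' • v - f x v • w' - (κ' * f x v) • v)
    (ht : ∀ x, (t : Matrix (Fin n) (Fin n) F) *ᵥ x = x + ((f w w' - f w' w) * f x v) • v) :
    g * g' = t * g' * g := by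
  apply Units.ext
  apply mat_eq_of_mulVec
  intro x
  rw [Units.val_mul, Units.val_mul, Units.val_mul, ← Matrix.mulVec_mulVec,
    ← Matrix.mulVec_mulVec, ← Matrix.mulVec_mulVec, ht,
    E_apply_v hf hvv hw'v hg', E_apply_v hf hvv hwv hg,
    hg ((g' : Matrix (Fin n) (Fin n) F) *ᵥ x), hg' ((g : Matrix (Fin n) (Fin n) F) *ᵥ x),
    E_apply_v hf hvv hw'v hg', E_apply_v hf hvv hwv hg,
    E_apply_w hf hvv hw'v hwv hg', E_apply_w hf hvv hwv hw'v hg, hg x, hg' x]
  ext i
  simp only [Pi.add_apply, Pi.sub_apply, Pi.smul_apply, smul_eq_mul]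
  ring

end Cfsg.Agent.Lib.Helper5.UEichler
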