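import Mathlib
import Cfsg.Agent.Lib.Helper5.HermBridge
import Cfsg.Agent.Lib.Helper5.UEichler

/-!
`SU_n(q)` is generated by its unitary transvections (`n ≥ 3`, `(n, q) ≠ (3, 2)`).

For a non-degenerate subspace `U` of the standard Hermitian space, `TU q U` is the subgroup of `SU n F q`
generated by the unitary transvections with centre in `U`, and `PU q U` says that every element of `SU` that
maps `U` to itself and fixes the vectors orthogonal to `U` lies in `TU q U`.  Main results: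
`step` (one transvection moving `a` to `b`), `rel_of_plane`, `T1` (transitivity of `TU U` on vectors of norm
one), `T0` (on non-zero isotropic vectors), `partners` (on hyperbolic pairs), `base2` (dimension two),
`nstep`, `hstep`, `PU_of_ND`, `closure_transvections_eq_top`.
-/

set_option autoImplicit false
set_option linter.unusedSectionVars false
set_option linter.unusedVariables false
set_option linter.unusedSimpArgs false

namespace Cfsg.Agent.Lib.Helper5.SUGen
open Cfsg Matrix Cfsg.Agent.Lib.Helper14 Cfsg.Agent.Lib.Helper5.SpMax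
  Cfsg.Agent.Lib.Helper5.UForm Cfsg.Agent.Lib.Helper5.UEichler Cfsg.Agent.Lib.Helper5.HermBridge

section Abs
variable {F : Type*} [Field F] {n : ℕ} {σ : F ≃+* F}
  {f : (Fin n → F) → (Fin n → F) → F} (hf : Cfsg.Geo.IsUnitaryForm σ f)
include hf

/-- vectors of every fixed norm in non-zero non-degenerate subspaces -/
lemma exists_norm1 [Fintype F] {U : Submodule F (Fin n → F)} (hU : ND f U)
    (hd : 1 ≤ Module.finrank F U) (r : F) (hr : σ r = r) : ∃ u ∈ U, f u u = r := by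
  by_cases hr0 : r = 0
  · exact ⟨0, U.zero_mem, by rw [hr0, u_zero_left hf]⟩
  obtain ⟨z, hzU, hz0⟩ := exists_mem_ne_zero hd
  obtain ⟨w, hwU, hww⟩ := exists_noniso hf hU ⟨z, hzU, hz0⟩
  obtain ⟨l, hl⟩ := norm_surj hf.involutive hf.ne_refl (r / f w w) (div_ne_zero hr0 hww)
    (by rw [map_div₀, hr, u_self_fixed hf])
  refine ⟨l • w, U.smul_mem _ hwU, ?_⟩
  rw [hf.smul_left, u_smul_right hf, ← mul_assoc, hl, div_mul_cancel₀ _ hww]

/-- the orthogonal complement of a non-degenerate plane inside a non-degenerate subspace -/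
lemma ND_plane {U : Submodule F (Fin n → F)} (hU : ND f U) {a c : Fin n → F} (ha : a ∈ U)
    (hc : c ∈ U) (hD : f a a * f c c - f a c * f c a ≠ 0) :
    ND f (U ⊓ pp hf a ⊓ pp hf c) := by
  intro u hu hu0
  obtain ⟨hu1, huc⟩ := Submodule.mem_inf.mp hu
  obtain ⟨huU, hua⟩ := Submodule.mem_inf.mp hu1
  rw [mem_pp] at hua huc
  obtain ⟨y, hyU, hy⟩ := hU u huU hu0
  obtain ⟨D, hDdef⟩ : ∃ D, D = f a a * f c c - f a c * f c a := ⟨_, rfl⟩
  rw [← hDdef] at hD
  refine ⟨y - ((f y a * f c c - f y c * f c a) / D) • a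
      - ((f y c * f a a - f y a * f a c) / D) • c,
    Submodule.mem_inf.mpr ⟨Submodule.mem_inf.mpr
      ⟨U.sub_mem (U.sub_mem hyU (U.smul_mem _ ha)) (U.smul_mem _ hc), ?_⟩, ?_⟩, ?_⟩
  · rw [mem_pp, u_sub_left hf, u_sub_left hf, hf.smul_left, hf.smul_left]
    field_simp
    rw [hDdef]; ring
  · rw [mem_pp, u_sub_left hf, u_sub_left hf, hf.smul_left, hf.smul_left]
    field_simp
    rw [hDdef]; ring
  · rw [u_sub_left hf, u_sub_left hf, hf.smul_left, hf.smul_left, u_symm_zero hf hua,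
      u_symm_zero hf huc, mul_zero, mul_zero, sub_zero, sub_zero]
    exact hy

/-- prescribed products with a non-degenerate pair and prescribed norm -/
lemma exists_prescribed [Fintype F] {U : Submodule F (Fin n → F)} (hU : ND f U)
    (hd : 3 ≤ Module.finrank F U) {a c : Fin n → F} (ha : a ∈ U) (hc : c ∈ U)
    (hD : f a a * f c c - f a c * f c a ≠ 0) (α β s : F) (hs : σ s = s) :
    ∃ w ∈ U, f w a = α ∧ f w c = β ∧ f w w = s := by
  have hR := ND_plane hf hU ha hc hD
  have hd1 := finrank_inf_pp hf U a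
  have hd2 := finrank_inf_pp hf (U ⊓ pp hf a) c
  obtain ⟨D, hDdef⟩ : ∃ D, D = f a a * f c c - f a c * f c a := ⟨_, rfl⟩
  rw [← hDdef] at hD
  obtain ⟨w₀, hw₀def⟩ : ∃ w₀, w₀ = ((α * f c c - β * f c a) / D) • a
      + ((β * f a a - α * f a c) / D) • c := ⟨_, rfl⟩
  have hw₀U : w₀ ∈ U := by rw [hw₀def]; exact U.add_mem (U.smul_mem _ ha) (U.smul_mem _ hc)
  have hw₀a : f w₀ a = α := by
    rw [hw₀def, hf.add_left, hf.smul_left, hf.smul_left]
    field_simp
    rw [hDdef]; ring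
  have hw₀c : f w₀ c = β := by
    rw [hw₀def, hf.add_left, hf.smul_left, hf.smul_left]
    field_simp
    rw [hDdef]; ring
  obtain ⟨r, hrR, hrr⟩ := exists_norm1 hf hR (by omega) (s - f w₀ w₀)
    (by rw [map_sub, hs, u_self_fixed hf])
  obtain ⟨hr1, hrc⟩ := Submodule.mem_inf.mp hrR
  obtain ⟨hrU, hra⟩ := Submodule.mem_inf.mp hr1
  rw [mem_pp] at hra hrc
  have hrw₀ : f r w₀ = 0 := by
    rw [hw₀def, u_add_right hf, u_smul_right hf, u_smul_right hf, hra, hrc, mul_zero, mul_zero,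
      add_zero]
  refine ⟨w₀ + r, U.add_mem hw₀U hrU, ?_, ?_, ?_⟩
  · rw [hf.add_left, hw₀a, hra, add_zero]
  · rw [hf.add_left, hw₀c, hrc, add_zero]
  · rw [hf.add_left, u_add_right hf, u_add_right hf, hrw₀, u_symm_zero hf hrw₀, hrr]
    ring

end Abs

section Grp
variable {F : Type*} [Field F] [Fintype F] {q n : ℕ}

/-- the action of `SU` on vectors -/
def av (A : ↥(Cfsg.SU n F q)) (x : Fin n → F) : Fin n → F :=
  ((A : Matrix.SpecialLinearGroup (Fin n) F) : Matrix (Fin n) (Fin n) F) *ᵥ x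

omit [Fintype F] in
lemma av_one (x : Fin n → F) : av (1 : ↥(Cfsg.SU n F q)) x = x := by
  unfold av; simp

omit [Fintype F] in
lemma av_mul (A B : ↥(Cfsg.SU n F q)) (x : Fin n → F) : av (A * B) x = av A (av B x) := by
  unfold av
  rw [Subgroup.coe_mul, Matrix.SpecialLinearGroup.coe_mul, Matrix.mulVec_mulVec]

omit [Fintype F] in
lemma av_inv_av (A : ↥(Cfsg.SU n F q)) (x : Fin n → F) : av A⁻¹ (av A x) = x := by
  rw [← av_mul, inv_mul_cancel, av_one]

omit [Fintype F] in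
lemma av_av_inv (A : ↥(Cfsg.SU n F q)) (x : Fin n → F) : av A (av A⁻¹ x) = x := by
  rw [← av_mul, mul_inv_cancel, av_one]

omit [Fintype F] in
lemma av_add (A : ↥(Cfsg.SU n F q)) (x y : Fin n → F) : av A (x + y) = av A x + av A y :=
  Matrix.mulVec_add _ _ _

omit [Fintype F] in
lemma av_smul (A : ↥(Cfsg.SU n F q)) (c : F) (x : Fin n → F) : av A (c • x) = c • av A x :=
  Matrix.mulVec_smul _ _ _

omit [Fintype F] in
lemma av_sub (A : ↥(Cfsg.SU n F q)) (x y : Fin n → F) : av A (x - y) = av A x - av A y :=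
  Matrix.mulVec_sub _ _ _

omit [Fintype F] in
lemma av_zero (A : ↥(Cfsg.SU n F q)) : av A 0 = 0 := Matrix.mulVec_zero _

omit [Fintype F] in
lemma av_iso (A : ↥(Cfsg.SU n F q)) (x y : Fin n → F) :
    Cfsg.hermForm n F q (av A x) (av A y) = Cfsg.hermForm n F q x y := A.2 x y

omit [Fintype F] in
lemma av_ext {A B : ↥(Cfsg.SU n F q)} (h : ∀ x, av A x = av B x) : A = B := by
  apply Subtype.ext
  apply Subtype.ext
  exact mat_eq_of_mulVec h

omit [Fintype F] in
lemma det_rank_one (a r : Fin n → F) : (1 + Matrix.vecMulVec a r).det = 1 + r ⬝ᵥ a := by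
  have h1 : (1 + Matrix.vecMulVec a r : Matrix (Fin n) (Fin n) F)
      = 1 + Matrix.replicateCol Unit a * Matrix.replicateRow Unit r := by
    congr 1
    ext i j; simp [Matrix.vecMulVec_apply, Matrix.mul_apply]
  rw [h1, Matrix.det_one_add_replicateCol_mul_replicateRow]

omit [Fintype F] in
lemma pow_dot (v x : Fin n → F) : (fun j => v j ^ q) ⬝ᵥ x = Cfsg.hermForm n F q x v := by
  unfold Cfsg.hermForm dotProduct
  apply Finset.sum_congr rfl
  intro i _
  ring

/-- unitary transvections as elements of `SU` -/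
lemma exists_tv (hF : Fintype.card F = q ^ 2) {v : Fin n → F}
    (hv : Cfsg.hermForm n F q v v = 0) {c : F} (hc : frobQ hF c = -c) :
    ∃ A : ↥(Cfsg.SU n F q), ((A : Matrix.SpecialLinearGroup (Fin n) F) :
      Matrix (Fin n) (Fin n) F) = Cfsg.unitaryTransvection n q v c := by
  have hf := herm_unitary (n := n) hF
  have hdet : (Cfsg.unitaryTransvection n q v c).det = 1 := by
    have h1 : Cfsg.unitaryTransvection n q v c = 1 + Matrix.vecMulVec (c • v) (fun j => v j ^ q) := by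
      unfold Cfsg.unitaryTransvection
      rw [Matrix.smul_vecMulVec]
    rw [h1, det_rank_one, pow_dot, hf.smul_left, hv, mul_zero, add_zero]
  refine ⟨⟨⟨Cfsg.unitaryTransvection n q v c, hdet⟩, ?_⟩, rfl⟩
  intro x y
  change Cfsg.hermForm n F q (Cfsg.unitaryTransvection n q v c *ᵥ x)
    (Cfsg.unitaryTransvection n q v c *ᵥ y) = _
  rw [ut_mulVec, ut_mulVec, hf.add_left, u_add_right hf, u_add_right hf, hf.smul_left,
    hf.smul_left, u_smul_right hf, u_smul_right hf, hv, map_mul, hc, hf.herm v y]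
  ring

/-- the group generated by the unitary transvections with centre in `U` -/
def TU (q : ℕ) (U : Submodule F (Fin n → F)) : Subgroup ↥(Cfsg.SU n F q) :=
  Subgroup.closure {A | ∃ v ∈ U, ∃ c : F, Cfsg.hermForm n F q v v = 0 ∧
    ((A : Matrix.SpecialLinearGroup (Fin n) F) : Matrix (Fin n) (Fin n) F) =
      Cfsg.unitaryTransvection n q v c}

omit [Fintype F] in
lemma TU_mono {U U' : Submodule F (Fin n → F)} (h : U ≤ U') : TU q U ≤ TU q U' := by
  apply Subgroup.closure_mono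
  rintro A ⟨v, hv, c, h0, hA⟩
  exact ⟨v, h hv, c, h0, hA⟩

omit [Fintype F] in
/-- elements of `TU U` move vectors only inside `U` -/
lemma TU_sub {U : Submodule F (Fin n → F)} {t : ↥(Cfsg.SU n F q)} (ht : t ∈ TU q U)
    (x : Fin n → F) : av t x - x ∈ U := by
  revert x
  refine Subgroup.closure_induction (p := fun t _ => ∀ x, av t x - x ∈ U) ?_ ?_ ?_ ?_ ht
  · rintro A ⟨v, hv, c, h0, hA⟩ x
    unfold av
    rw [hA, ut_mulVec, add_sub_cancel_left]
    exact U.smul_mem _ hv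
  · intro x
    rw [av_one, sub_self]
    exact U.zero_mem
  · intro a b _ _ ha hb x
    have : av (a * b) x - x = (av a (av b x) - av b x) + (av b x - x) := by
      rw [av_mul]; abel
    rw [this]
    exact U.add_mem (ha _) (hb _)
  · intro a _ ha x
    have : av a⁻¹ x - x = -(av a (av a⁻¹ x) - av a⁻¹ x) := by
      rw [av_av_inv]; abel
    rw [this]
    exact U.neg_mem (ha _)

omit [Fintype F] in
lemma TU_maps {U : Submodule F (Fin n → F)} {t : ↥(Cfsg.SU n F q)} (ht : t ∈ TU q U)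
    {x : Fin n → F} (hx : x ∈ U) : av t x ∈ U := by
  have := U.add_mem (TU_sub ht x) hx
  rwa [sub_add_cancel] at this

omit [Fintype F] in
/-- elements of `TU U` fix the vectors orthogonal to `U` -/
lemma TU_fix {U : Submodule F (Fin n → F)} {t : ↥(Cfsg.SU n F q)} (ht : t ∈ TU q U)
    {x : Fin n → F} (hx : ∀ u ∈ U, Cfsg.hermForm n F q x u = 0) : av t x = x := by
  suffices key : ∀ x, (∀ u ∈ U, Cfsg.hermForm n F q x u = 0) → av t x = x from key x hx
  refine Subgroup.closure_induction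
    (p := fun t _ => ∀ x, (∀ u ∈ U, Cfsg.hermForm n F q x u = 0) → av t x = x) ?_ ?_ ?_ ?_ ht
  · rintro A ⟨v, hv, c, h0, hA⟩ x hx
    unfold av
    rw [hA, ut_mulVec, hx v hv, mul_zero, zero_smul, add_zero]
  · intro x _
    exact av_one x
  · intro a b _ _ ha hb x hx
    rw [av_mul, hb x hx, ha x hx]
  · intro a _ ha x hx
    have := ha x hx
    calc av a⁻¹ x = av a⁻¹ (av a x) := by rw [this]
      _ = x := av_inv_av a x

/-- the basic step: a single transvection moving `a` to `b` -/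
lemma step (hF : Fintype.card F = q ^ 2) {U : Submodule F (Fin n → F)} {a b : Fin n → F}
    (ha : a ∈ U) (hb : b ∈ U)
    (hab : Cfsg.hermForm n F q a a = Cfsg.hermForm n F q b b)
    (hδ : frobQ hF (Cfsg.hermForm n F q b a - Cfsg.hermForm n F q a a)
      = -(Cfsg.hermForm n F q b a - Cfsg.hermForm n F q a a))
    (hδ0 : Cfsg.hermForm n F q b a - Cfsg.hermForm n F q a a ≠ 0) :
    ∃ t ∈ TU q U, av t a = b ∧
      ∀ z, Cfsg.hermForm n F q z (b - a) = 0 → av t z = z := by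
  have hf := herm_unitary (n := n) hF
  obtain ⟨δ, hδdef⟩ : ∃ δ, δ = Cfsg.hermForm n F q b a - Cfsg.hermForm n F q a a := ⟨_, rfl⟩
  rw [← hδdef] at hδ hδ0
  have hr : frobQ hF (Cfsg.hermForm n F q a a) = Cfsg.hermForm n F q a a := u_self_fixed hf a
  have hba : Cfsg.hermForm n F q b a = δ + Cfsg.hermForm n F q a a := by rw [hδdef]; ring
  have hab' : Cfsg.hermForm n F q a b = -δ + Cfsg.hermForm n F q a a := by
    rw [hf.herm a b, hba, map_add, hδ, hr]
  have hvv : Cfsg.hermForm n F q (b - a) (b - a) = 0 := by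
    rw [u_sub_left hf, u_sub_right hf, u_sub_right hf, hba, hab', ← hab]
    ring
  have hc : frobQ hF (-δ⁻¹) = -(-δ⁻¹) := by
    rw [map_neg, map_inv₀, hδ, inv_neg]
  obtain ⟨t, ht⟩ := exists_tv hF hvv hc
  refine ⟨t, Subgroup.subset_closure ⟨b - a, U.sub_mem hb ha, -δ⁻¹, hvv, ht⟩, ?_, ?_⟩
  · unfold av
    rw [ht, ut_mulVec, u_sub_right hf, hab']
    have : -δ⁻¹ * (-δ + Cfsg.hermForm n F q a a - Cfsg.hermForm n F q a a) = 1 := by
      field_simp
      ring
    rw [this, one_smul]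
    abel
  · intro z hz
    unfold av
    rw [ht, ut_mulVec, hz, mul_zero, zero_smul, add_zero]

end Grp

section Abs2
variable {F : Type*} [Field F] {n : ℕ} {σ : F ≃+* F}
  {f : (Fin n → F) → (Fin n → F) → F} (hf : Cfsg.Geo.IsUnitaryForm σ f)
include hf

lemma u_comb (x y : F) (a b : Fin n → F) : f (x • a + y • b) (x • a + y • b)
    = x * σ x * f a a + x * σ y * f a b + y * σ x * f b a + y * σ y * f b b := by
  simp only [hf.add_left, u_add_right hf, hf.smul_left, u_smul_right hf]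
  ring

/-- isotropic vectors in general position, for subspaces of dimension at least two -/
lemma exists_iso_ne' [Fintype F] {U : Submodule F (Fin n → F)} (hU : ND f U)
    (hd : 2 ≤ Module.finrank F U) (p : Fin n → F) (hp : ∃ x ∈ U, f x p ≠ 0) :
    ∃ w ∈ U, f w w = 0 ∧ f w p ≠ 0 := by
  obtain ⟨e, heU, e', he'U, hee, he'e', h1⟩ := exists_hyp hf hU hd
  have h1' : f e' e = 1 := by rw [hf.herm, h1, map_one]
  by_cases h2 : f e p ≠ 0
  · exact ⟨e, heU, hee, h2⟩
  by_cases h3 : f e' p ≠ 0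
  · exact ⟨e', he'U, he'e', h3⟩
  rw [not_not] at h2 h3
  obtain ⟨x, hxU, hxp⟩ := hp
  obtain ⟨z, hzdef⟩ : ∃ z, z = x - f x e' • e - f x e • e' := ⟨_, rfl⟩
  have hzU : z ∈ U := by
    rw [hzdef]; exact U.sub_mem (U.sub_mem hxU (U.smul_mem _ heU)) (U.smul_mem _ he'U)
  have hze : f z e = 0 := by
    rw [hzdef, u_sub_left hf, u_sub_left hf, hf.smul_left, hf.smul_left, hee, h1']; ring
  have hze' : f z e' = 0 := by
    rw [hzdef, u_sub_left hf, u_sub_left hf, hf.smul_left, hf.smul_left, h1, he'e']; ring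
  have hzp : f z p = f x p := by
    rw [hzdef, u_sub_left hf, u_sub_left hf, hf.smul_left, hf.smul_left, h2, h3]; ring
  obtain ⟨l, hl⟩ := tr_surj hf.involutive hf.ne_refl (-(f z z))
    (by rw [map_neg, u_self_fixed hf])
  obtain ⟨u, hudef⟩ : ∃ u, u = e + l • e' := ⟨_, rfl⟩
  have huU : u ∈ U := by rw [hudef]; exact U.add_mem heU (U.smul_mem _ he'U)
  have hzu : f z u = 0 := by
    rw [hudef, u_add_right hf, u_smul_right hf, hze, hze', mul_zero, add_zero]
  have huu : f u u = l + σ l := by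
    rw [hudef, u_expand hf, hee, he'e', h1, h1']; ring
  have hup : f u p = 0 := by
    rw [hudef, hf.add_left, hf.smul_left, h2, h3, mul_zero, add_zero]
  refine ⟨z + u, U.add_mem hzU huU, ?_, ?_⟩
  · rw [hf.add_left, u_add_right hf, u_add_right hf, hzu, u_symm_zero hf hzu, huu]
    linear_combination hl
  · rw [hf.add_left, hup, add_zero, hzp]
    exact hxp

end Abs2

section Grp2
variable {F : Type*} [Field F] [Fintype F] {q n : ℕ}

/-- `a` can be moved to `b` by an element of `TU U` -/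
def Rel (q : ℕ) (U : Submodule F (Fin n → F)) (a b : Fin n → F) : Prop :=
  ∃ t ∈ TU q U, av t a = b

omit [Fintype F] in
lemma Rel.trans {U : Submodule F (Fin n → F)} {a b c : Fin n → F} (h1 : Rel q U a b)
    (h2 : Rel q U b c) : Rel q U a c := by
  obtain ⟨t₁, ht₁, h1⟩ := h1
  obtain ⟨t₂, ht₂, h2⟩ := h2
  exact ⟨t₂ * t₁, mul_mem ht₂ ht₁, by rw [av_mul, h1, h2]⟩

/-- two vectors of the same norm spanning a non-degenerate plane are connected -/
lemma rel_of_plane (hF : Fintype.card F = q ^ 2) {U : Submodule F (Fin n → F)}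
    (hU : ND (Cfsg.hermForm n F q) U) (hd : 3 ≤ Module.finrank F U) {a c : Fin n → F}
    (ha : a ∈ U) (hc : c ∈ U) (hac : Cfsg.hermForm n F q a a = Cfsg.hermForm n F q c c)
    (hD : Cfsg.hermForm n F q a a * Cfsg.hermForm n F q c c
      - Cfsg.hermForm n F q a c * Cfsg.hermForm n F q c a ≠ 0) : Rel q U a c := by
  have hf := herm_unitary (n := n) hF
  obtain ⟨κ, hκ0, hκ⟩ := exists_skew hf.involutive hf.ne_refl
  obtain ⟨r, hrdef⟩ : ∃ r, r = Cfsg.hermForm n F q a a := ⟨_, rfl⟩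
  have hr : frobQ hF r = r := by rw [hrdef]; exact u_self_fixed hf a
  obtain ⟨w, hwU, hwa, hwc, hww⟩ := exists_prescribed hf hU hd ha hc hD (r + κ) (r - κ) r hr
  obtain ⟨t₁, ht₁, h1, -⟩ := step hF ha hwU (by rw [hww, hrdef])
    (by rw [hwa, ← hrdef]; simpa using hκ) (by rw [hwa, ← hrdef]; simpa using hκ0)
  have hcw : Cfsg.hermForm n F q c w = r + κ := by
    rw [hf.herm c w, hwc, map_sub, hr, hκ]; ring
  obtain ⟨t₂, ht₂, h2, -⟩ := step hF hwU hc (by rw [hww, ← hac, hrdef])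
    (by rw [hcw, hww]; simpa using hκ) (by rw [hcw, hww]; simpa using hκ0)
  exact Rel.trans ⟨t₁, ht₁, h1⟩ ⟨t₂, ht₂, h2⟩

/-- a non-zero element whose norm is not one -/
lemma exists_norm_ne_one (hF : Fintype.card F = q ^ 2) (hq : 3 ≤ q) :
    ∃ y : F, y ≠ 0 ∧ y * frobQ hF y ≠ 1 := by
  classical
  by_contra hcon
  push Not at hcon
  have h1 : (Finset.univ.erase (0 : F)) ⊆ (Polynomial.nthRoots (q + 1) (1 : F)).toFinset := by
    intro y hy
    rw [Multiset.mem_toFinset, Polynomial.mem_nthRoots (by omega)]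
    have := hcon y (Finset.ne_of_mem_erase hy)
    rw [frobQ_apply] at this
    rw [pow_succ', this]
  have h2 := Finset.card_le_card h1
  rw [Finset.card_erase_of_mem (Finset.mem_univ _), Finset.card_univ, hF] at h2
  have h3 : (Polynomial.nthRoots (q + 1) (1 : F)).toFinset.card ≤ q + 1 :=
    le_trans (Multiset.toFinset_card_le _) (Polynomial.card_nthRoots _ _)
  have h4 : q ^ 2 ≥ 3 * q := by nlinarith
  omega

/-- transitivity of `TU U` on the vectors of norm one -/
lemma T1 (hF : Fintype.card F = q ^ 2) {U : Submodule F (Fin n → F)}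
    (hU : ND (Cfsg.hermForm n F q) U) (hd : 3 ≤ Module.finrank F U)
    (hq : 3 ≤ q ∨ 4 ≤ Module.finrank F U) {a b : Fin n → F} (ha : a ∈ U) (hb : b ∈ U)
    (haa : Cfsg.hermForm n F q a a = 1) (hbb : Cfsg.hermForm n F q b b = 1) : Rel q U a b := by
  have hf := herm_unitary (n := n) hF
  obtain ⟨μ, hμdef⟩ : ∃ μ, μ = Cfsg.hermForm n F q b a := ⟨_, rfl⟩
  have hab : Cfsg.hermForm n F q a b = frobQ hF μ := by rw [hμdef]; exact hf.herm a b
  by_cases hN : μ * frobQ hF μ = 1
  swap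
  · apply rel_of_plane hF hU hd ha hb (by rw [haa, hbb])
    rw [haa, hbb, hab, ← hμdef]
    intro h0
    apply hN
    linear_combination -h0
  -- the degenerate case
  have hA := ND_noniso hf hU ha (by rw [haa]; exact one_ne_zero)
  have hdA := finrank_inf_pp hf U a
  obtain ⟨b', hb'def⟩ : ∃ b', b' = b - μ • a := ⟨_, rfl⟩
  have hb'a : Cfsg.hermForm n F q b' a = 0 := by
    rw [hb'def, u_sub_left hf, hf.smul_left, haa, ← hμdef]; ring
  have hb'A : b' ∈ U ⊓ pp hf a :=
    Submodule.mem_inf.mpr ⟨by rw [hb'def]; exact U.sub_mem hb (U.smul_mem _ ha),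
      (mem_pp hf).mpr hb'a⟩
  have hb'b' : Cfsg.hermForm n F q b' b' = 0 := by
    rw [hb'def, u_sub_left hf, u_sub_right hf, u_sub_right hf, hf.smul_left, hf.smul_left,
      u_smul_right hf, u_smul_right hf, haa, hbb, hab, ← hμdef]
    linear_combination (-1 : F) * hN
  have hbdec : b = μ • a + b' := by rw [hb'def]; abel
  -- it suffices to find a suitable intermediate vector
  suffices hc : ∃ c ∈ U ⊓ pp hf a, Cfsg.hermForm n F q c c = 1 ∧
      Cfsg.hermForm n F q c b' * frobQ hF (Cfsg.hermForm n F q c b') ≠ 1 by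
    obtain ⟨c, hcA, hcc, hcb'⟩ := hc
    obtain ⟨hcU, hca⟩ := Submodule.mem_inf.mp hcA
    rw [mem_pp] at hca
    have h1 : Rel q U a c := by
      apply rel_of_plane hF hU hd ha hcU (by rw [haa, hcc])
      rw [haa, hcc, hca, u_symm_zero hf hca]
      simp
    have hcb : Cfsg.hermForm n F q c b = Cfsg.hermForm n F q c b' := by
      rw [hbdec, u_add_right hf, u_smul_right hf, hca, mul_zero, zero_add]
    have h2 : Rel q U c b := by
      apply rel_of_plane hF hU hd hcU hb (by rw [hbb, hcc])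
      rw [hcc, hbb, hf.herm b c, hcb]
      intro h0
      apply hcb'
      linear_combination -h0
    exact Rel.trans h1 h2
  by_cases hb'0 : b' = 0
  · obtain ⟨c, hcA, hcc⟩ := exists_norm hf hA (by omega) 1 (map_one _)
    refine ⟨c, hcA, hcc, ?_⟩
    rw [hb'0, u_zero_right hf, zero_mul]
    exact zero_ne_one
  obtain ⟨b'', hb''A, hb''b'', hb'b''⟩ := exists_partner hf hA hb'A hb'0 hb'b'
  have hb''b' : Cfsg.hermForm n F q b'' b' = 1 := by rw [hf.herm, hb'b'', map_one]
  by_cases hq3 : 3 ≤ q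
  · obtain ⟨y, hy0, hy⟩ := exists_norm_ne_one hF hq3
    obtain ⟨z, hz⟩ := tr_surj hf.involutive hf.ne_refl 1 (map_one _)
    have hσy : frobQ hF y ≠ 0 := by rwa [Ne, map_eq_zero]
    refine ⟨(z / frobQ hF y) • b' + y • b'',
      Submodule.add_mem _ (Submodule.smul_mem _ _ hb'A) (Submodule.smul_mem _ _ hb''A), ?_, ?_⟩
    · rw [u_comb hf, hb'b', hb''b'', hb'b'', hb''b', map_div₀, hf.involutive]
      field_simp
      linear_combination (frobQ hF y * y) * hz
    · rw [hf.add_left, hf.smul_left, hf.smul_left, hb'b', hb''b', mul_zero, zero_add, mul_one]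
      exact hy
  · have h4 : 4 ≤ Module.finrank F U := by
      rcases hq with h | h
      · exact absurd h hq3
      · exact h
    have hA' := ND_hyp hf hA hb'A hb''A hb'b' hb''b'' hb'b''
    have hd1 := finrank_inf_pp hf (U ⊓ pp hf a) b'
    have hd2 := finrank_inf_pp hf (U ⊓ pp hf a ⊓ pp hf b') b''
    obtain ⟨c, hcA', hcc⟩ := exists_norm1 hf hA' (by omega) 1 (map_one _)
    obtain ⟨hc1, -⟩ := Submodule.mem_inf.mp hcA'
    obtain ⟨hcA, hcb'⟩ := Submodule.mem_inf.mp hc1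
    rw [mem_pp] at hcb'
    refine ⟨c, hcA, hcc, ?_⟩
    rw [hcb', zero_mul]
    exact zero_ne_one

/-- transitivity of `TU U` on the non-zero isotropic vectors -/
lemma T0 (hF : Fintype.card F = q ^ 2) {U : Submodule F (Fin n → F)}
    (hU : ND (Cfsg.hermForm n F q) U) (hd : 3 ≤ Module.finrank F U) {a b : Fin n → F}
    (ha : a ∈ U) (hb : b ∈ U) (ha0 : a ≠ 0) (hb0 : b ≠ 0)
    (haa : Cfsg.hermForm n F q a a = 0) (hbb : Cfsg.hermForm n F q b b = 0) : Rel q U a b := by
  have hf := herm_unitary (n := n) hF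
  obtain ⟨w, hwU, hww, hwa, hwb⟩ := exists_iso_ne2 hf hU hd a b (hU a ha ha0) (hU b hb hb0)
  have h1 : Rel q U a w := by
    apply rel_of_plane hF hU hd ha hwU (by rw [haa, hww])
    rw [haa, hww]
    have := u_symm_ne hf hwa
    simp only [mul_zero, zero_sub, ne_eq, neg_eq_zero, mul_eq_zero, not_or]
    exact ⟨this, hwa⟩
  have h2 : Rel q U w b := by
    apply rel_of_plane hF hU hd hwU hb (by rw [hbb, hww])
    rw [hbb, hww]
    have := u_symm_ne hf hwb
    simp only [mul_zero, zero_sub, ne_eq, neg_eq_zero, mul_eq_zero, not_or]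
    exact ⟨hwb, this⟩
  exact Rel.trans h1 h2

end Grp2

section Grp3
variable {F : Type*} [Field F] [Fintype F] {q n : ℕ}

/-- the stabiliser of an isotropic vector in `TU U` is transitive on its hyperbolic partners -/
lemma partners (hF : Fintype.card F = q ^ 2) {U : Submodule F (Fin n → F)}
    (hU : ND (Cfsg.hermForm n F q) U) (hd : 4 ≤ Module.finrank F U) {e e' e'' : Fin n → F}
    (he : e ∈ U) (he' : e' ∈ U) (he'' : e'' ∈ U)
    (hee : Cfsg.hermForm n F q e e = 0) (h1 : Cfsg.hermForm n F q e' e' = 0)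
    (h2 : Cfsg.hermForm n F q e'' e'' = 0) (h3 : Cfsg.hermForm n F q e' e = 1)
    (h4 : Cfsg.hermForm n F q e'' e = 1) :
    ∃ t ∈ TU q U, av t e = e ∧ av t e' = e'' := by
  have hf := herm_unitary (n := n) hF
  have h3' : Cfsg.hermForm n F q e e' = 1 := by rw [hf.herm, h3, map_one]
  have h4' : Cfsg.hermForm n F q e e'' = 1 := by rw [hf.herm, h4, map_one]
  obtain ⟨μ, hμdef⟩ : ∃ μ, μ = Cfsg.hermForm n F q e'' e' := ⟨_, rfl⟩
  have hμ' : Cfsg.hermForm n F q e' e'' = frobQ hF μ := by rw [hμdef]; exact hf.herm e' e''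
  obtain ⟨y'', hy''def⟩ : ∃ y'', y'' = e'' - e' - μ • e := ⟨_, rfl⟩
  have he''dec : e'' = e' + μ • e + y'' := by rw [hy''def]; abel
  have hy''U : y'' ∈ U := by
    rw [hy''def]; exact U.sub_mem (U.sub_mem he'' he') (U.smul_mem _ he)
  have hy''e : Cfsg.hermForm n F q y'' e = 0 := by
    rw [hy''def, u_sub_left hf, u_sub_left hf, hf.smul_left, h4, h3, hee]; ring
  have hy''e' : Cfsg.hermForm n F q y'' e' = 0 := by
    rw [hy''def, u_sub_left hf, u_sub_left hf, hf.smul_left, ← hμdef, h1, h3']; ring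
  have hy''y'' : Cfsg.hermForm n F q y'' y'' = -(μ + frobQ hF μ) := by
    have h5 : Cfsg.hermForm n F q y'' e'' = Cfsg.hermForm n F q y'' y'' := by
      rw [he''dec, u_add_right hf, u_add_right hf, u_smul_right hf, hy''e, hy''e']; ring
    rw [← h5, hy''def, u_sub_left hf, u_sub_left hf, hf.smul_left, h2, hμ', h4']; ring
  by_cases hy0 : y'' = 0
  · by_cases hμ0 : μ = 0
    · refine ⟨1, one_mem _, av_one e, ?_⟩
      rw [av_one, he''dec, hy0, hμ0, zero_smul, add_zero, add_zero]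
    · have hskew : frobQ hF μ = -μ := by
        rw [hy0, u_zero_left hf] at hy''y''
        linear_combination hy''y''
      obtain ⟨t, ht, hta, htz⟩ := step hF he' he'' (by rw [h1, h2])
        (by rw [← hμdef, h1, sub_zero]; exact hskew) (by rw [← hμdef, h1, sub_zero]; exact hμ0)
      refine ⟨t, ht, htz e ?_, hta⟩
      rw [u_sub_right hf, h4', h3', sub_self]
  -- the general case
  have hW := ND_hyp hf hU he he' hee h1 h3'
  have hd1 := finrank_inf_pp hf U e
  have hd2 := finrank_inf_pp hf (U ⊓ pp hf e) e'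
  have hy''W : y'' ∈ U ⊓ pp hf e ⊓ pp hf e' :=
    Submodule.mem_inf.mpr ⟨Submodule.mem_inf.mpr ⟨hy''U, (mem_pp hf).mpr hy''e⟩,
      (mem_pp hf).mpr hy''e'⟩
  obtain ⟨y₁, hy₁W, hy₁y₁, hy₁y''⟩ := exists_iso_ne' hf hW (by omega) y'' (hW y'' hy''W hy0)
  obtain ⟨hy₁1, hy₁e'⟩ := Submodule.mem_inf.mp hy₁W
  obtain ⟨hy₁U, hy₁e⟩ := Submodule.mem_inf.mp hy₁1
  rw [mem_pp] at hy₁e hy₁e'
  obtain ⟨κ, hκ0, hκ⟩ := exists_skew hf.involutive hf.ne_refl
  obtain ⟨θ₀, hθ₀⟩ := tr_surj hf.involutive hf.ne_refl (Cfsg.hermForm n F q y'' y'')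
    (u_self_fixed hf y'')
  obtain ⟨θ, hθtr, hθne⟩ : ∃ θ, θ + frobQ hF θ = Cfsg.hermForm n F q y'' y'' ∧
      κ + frobQ hF μ + θ ≠ 0 := by
    by_cases hbad : κ + frobQ hF μ + θ₀ = 0
    · refine ⟨θ₀ + κ, ?_, ?_⟩
      · rw [map_add, hκ]; linear_combination hθ₀
      · intro h0
        apply hκ0
        linear_combination h0 - hbad
    · exact ⟨θ₀, hθ₀, hbad⟩
  obtain ⟨y, hydef⟩ : ∃ y, y = (θ / Cfsg.hermForm n F q y₁ y'') • y₁ := ⟨_, rfl⟩
  have hyU : y ∈ U := by rw [hydef]; exact U.smul_mem _ hy₁U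
  have hye : Cfsg.hermForm n F q y e = 0 := by rw [hydef, hf.smul_left, hy₁e, mul_zero]
  have hye' : Cfsg.hermForm n F q y e' = 0 := by rw [hydef, hf.smul_left, hy₁e', mul_zero]
  have hyy : Cfsg.hermForm n F q y y = 0 := by
    rw [hydef, hf.smul_left, u_smul_right hf, hy₁y₁, mul_zero, mul_zero]
  have hyy'' : Cfsg.hermForm n F q y y'' = θ := by
    rw [hydef, hf.smul_left, div_mul_cancel₀ _ hy₁y'']
  obtain ⟨w, hwdef⟩ : ∃ w, w = e' + κ • e + y := ⟨_, rfl⟩
  have hwU : w ∈ U := by rw [hwdef]; exact U.add_mem (U.add_mem he' (U.smul_mem _ he)) hyU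
  have hwe : Cfsg.hermForm n F q w e = 1 := by
    rw [hwdef, hf.add_left, hf.add_left, hf.smul_left, h3, hee, hye]; ring
  have hwe' : Cfsg.hermForm n F q w e' = κ := by
    rw [hwdef, hf.add_left, hf.add_left, hf.smul_left, h1, h3', hye']; ring
  have hwy : Cfsg.hermForm n F q w y = 0 := by
    rw [hwdef, hf.add_left, hf.add_left, hf.smul_left, u_symm_zero hf hye, u_symm_zero hf hye',
      hyy]; ring
  have hww : Cfsg.hermForm n F q w w = 0 := by
    have : Cfsg.hermForm n F q w w = Cfsg.hermForm n F q w e' + frobQ hF κ * Cfsg.hermForm n F q w e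
        + Cfsg.hermForm n F q w y := by
      conv_lhs => rw [hwdef]
      rw [u_add_right hf, u_add_right hf, u_smul_right hf, ← hwdef]
    rw [this, hwe', hwe, hwy, hκ]; ring
  have hwy'' : Cfsg.hermForm n F q w y'' = θ := by
    rw [hwdef, hf.add_left, hf.add_left, hf.smul_left, u_symm_zero hf hy''e,
      u_symm_zero hf hy''e', hyy'']; ring
  have hwe'' : Cfsg.hermForm n F q w e'' = κ + frobQ hF μ + θ := by
    rw [he''dec, u_add_right hf, u_add_right hf, u_smul_right hf, hwe', hwe, hwy'']; ring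
  have hew : Cfsg.hermForm n F q e w = 1 := by rw [hf.herm, hwe, map_one]
  obtain ⟨t₁, ht₁, h1a, h1z⟩ := step hF he' hwU (by rw [h1, hww])
    (by rw [hwe', h1, sub_zero]; exact hκ) (by rw [hwe', h1, sub_zero]; exact hκ0)
  have hskew2 : frobQ hF (κ + frobQ hF μ + θ) = -(κ + frobQ hF μ + θ) := by
    rw [map_add, map_add, hκ, hf.involutive]
    linear_combination hθtr + hy''y''
  obtain ⟨t₂, ht₂, h2a, h2z⟩ := step hF hwU he'' (by rw [h2, hww])
    (by rw [hf.herm e'' w, hwe'', hww, sub_zero, hf.involutive, hskew2, neg_neg])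
    (by rw [hf.herm e'' w, hwe'', hww, sub_zero, hskew2]; exact neg_ne_zero.mpr hθne)
  refine ⟨t₂ * t₁, mul_mem ht₂ ht₁, ?_, ?_⟩
  · rw [av_mul, h1z e (by rw [u_sub_right hf, hew, h3', sub_self]),
      h2z e (by rw [u_sub_right hf, hew, h4', sub_self])]
  · rw [av_mul, h1a, h2a]

end Grp3

section Abs3
variable {F : Type*} [Field F] {n : ℕ} {σ : F ≃+* F}
  {f : (Fin n → F) → (Fin n → F) → F} (hf : Cfsg.Geo.IsUnitaryForm σ f)
include hf

/-- in a two-dimensional subspace a hyperbolic pair is a basis -/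
lemma hyp_decomp {U : Submodule F (Fin n → F)} (hd : Module.finrank F U = 2) {e e' : Fin n → F}
    (he : e ∈ U) (he' : e' ∈ U) (hee : f e e = 0) (he'e' : f e' e' = 0) (h1 : f e e' = 1)
    {x : Fin n → F} (hx : x ∈ U) : x = f x e' • e + f x e • e' := by
  have h1' : f e' e = 1 := by rw [hf.herm, h1, map_one]
  have hlt1 : U ⊓ pp hf e < U := by
    refine lt_of_le_of_ne inf_le_left (fun h => ?_)
    have h5 : e' ∈ U ⊓ pp hf e := by rw [h]; exact he'
    have h6 := (mem_pp hf).mp (Submodule.mem_inf.mp h5).2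
    rw [h1'] at h6
    exact one_ne_zero h6
  have hlt2 : U ⊓ pp hf e ⊓ pp hf e' < U ⊓ pp hf e := by
    refine lt_of_le_of_ne inf_le_left (fun h => ?_)
    have h5 : e ∈ U ⊓ pp hf e ⊓ pp hf e' := by
      rw [h]; exact Submodule.mem_inf.mpr ⟨he, (mem_pp hf).mpr hee⟩
    have h6 := (mem_pp hf).mp (Submodule.mem_inf.mp h5).2
    rw [h1] at h6
    exact one_ne_zero h6
  have h2 := Submodule.finrank_lt_finrank_of_lt hlt1
  have h3 := Submodule.finrank_lt_finrank_of_lt hlt2
  have h4 : Module.finrank F ↥(U ⊓ pp hf e ⊓ pp hf e') = 0 := by omega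
  have h5 : U ⊓ pp hf e ⊓ pp hf e' = ⊥ := Submodule.finrank_eq_zero.mp h4
  have h6 : x - f x e' • e - f x e • e' ∈ U ⊓ pp hf e ⊓ pp hf e' := by
    refine Submodule.mem_inf.mpr ⟨Submodule.mem_inf.mpr
      ⟨U.sub_mem (U.sub_mem hx (U.smul_mem _ he)) (U.smul_mem _ he'), ?_⟩, ?_⟩
    · rw [mem_pp, u_sub_left hf, u_sub_left hf, hf.smul_left, hf.smul_left, hee, h1']; ring
    · rw [mem_pp, u_sub_left hf, u_sub_left hf, hf.smul_left, hf.smul_left, h1, he'e']; ring
  rw [h5, Submodule.mem_bot, sub_sub, sub_eq_zero] at h6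
  exact h6

end Abs3

section Grp4
variable {F : Type*} [Field F] [Fintype F] {q n : ℕ}

/-- the elements of `SU` acting on `U` and fixing its orthogonal complement lie in `TU U` -/
def PU (q : ℕ) (U : Submodule F (Fin n → F)) : Prop :=
  ∀ g : ↥(Cfsg.SU n F q), (∀ x ∈ U, av g x ∈ U) →
    (∀ x, (∀ u ∈ U, Cfsg.hermForm n F q x u = 0) → av g x = x) → g ∈ TU q U

omit [Fintype F] in
lemma rk1_mulVec (a b x : Fin n → F) (c : F) :
    (1 + Matrix.vecMulVec (c • a) (fun j => b j ^ q)) *ᵥ x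
      = x + (c * Cfsg.hermForm n F q x b) • a := by
  rw [Matrix.add_mulVec, Matrix.one_mulVec, Matrix.vecMulVec_mulVec, pow_dot]
  congr 1
  ext i
  simp only [Pi.smul_apply, smul_eq_mul, MulOpposite.smul_eq_mul_unop, MulOpposite.unop_op]
  ring

/-- the "Weyl elements" of a hyperbolic pair -/
lemma w_spec (hF : Fintype.card F = q ^ 2) {U : Submodule F (Fin n → F)} {e e' : Fin n → F}
    (he : e ∈ U) (he' : e' ∈ U) (hee : Cfsg.hermForm n F q e e = 0)
    (he'e' : Cfsg.hermForm n F q e' e' = 0) (h1 : Cfsg.hermForm n F q e e' = 1) {c : F}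
    (hc0 : c ≠ 0) (hc : frobQ hF c = -c) :
    ∃ w ∈ TU q U, av w e = (-c⁻¹) • e' ∧ av w e' = c • e := by
  have hf := herm_unitary (n := n) hF
  have h1' : Cfsg.hermForm n F q e' e = 1 := by rw [hf.herm, h1, map_one]
  have hc' : frobQ hF (-c⁻¹) = -(-c⁻¹) := by rw [map_neg, map_inv₀, hc, inv_neg]
  obtain ⟨A₁, hA₁⟩ := exists_tv hF hee hc
  obtain ⟨A₂, hA₂⟩ := exists_tv hF he'e' hc'
  have hA₁T : A₁ ∈ TU q U := Subgroup.subset_closure ⟨e, he, c, hee, hA₁⟩
  have hA₂T : A₂ ∈ TU q U := Subgroup.subset_closure ⟨e', he', -c⁻¹, he'e', hA₂⟩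
  have hA₁x : ∀ x, av A₁ x = x + (c * Cfsg.hermForm n F q x e) • e := by
    intro x; unfold av; rw [hA₁, ut_mulVec]
  have hA₂x : ∀ x, av A₂ x = x + (-c⁻¹ * Cfsg.hermForm n F q x e') • e' := by
    intro x; unfold av; rw [hA₂, ut_mulVec]
  refine ⟨A₁ * A₂ * A₁, mul_mem (mul_mem hA₁T hA₂T) hA₁T, ?_, ?_⟩
  · rw [av_mul, av_mul, hA₁x e, hee, mul_zero, zero_smul, add_zero, hA₂x e, h1, mul_one, hA₁x,
      hf.add_left, hf.smul_left, hee, h1']
    have hcc : c * (0 + -c⁻¹ * 1) = -1 := by field_simp; ring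
    rw [hcc]
    module
  · rw [av_mul, av_mul, hA₁x e', h1', mul_one, hA₂x, hf.add_left, hf.smul_left, he'e', h1]
    have hcc : -c⁻¹ * (0 + c * 1) = -1 := by field_simp; ring
    rw [hcc, hA₁x, hf.add_left, hf.add_left, hf.smul_left, hf.smul_left, hee, h1']
    have hcc2 : c * (1 + c * 0 + -1 * 1) = 0 := by ring
    rw [hcc2]
    module

/-- the two-dimensional case -/
lemma base2 (hF : Fintype.card F = q ^ 2) {U : Submodule F (Fin n → F)}
    (hU : ND (Cfsg.hermForm n F q) U) (hd : Module.finrank F U = 2) : PU q U := by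
  have hf := herm_unitary (n := n) hF
  intro g hgU hgfix
  obtain ⟨e, heU, e', he'U, hee, he'e', h1⟩ := exists_hyp hf hU (by omega)
  have h1' : Cfsg.hermForm n F q e' e = 1 := by rw [hf.herm, h1, map_one]
  have dec : ∀ x ∈ U, x = Cfsg.hermForm n F q x e' • e + Cfsg.hermForm n F q x e • e' :=
    fun x hx => hyp_decomp hf hd heU he'U hee he'e' h1 hx
  obtain ⟨κ, hκ0, hκ⟩ := exists_skew hf.involutive hf.ne_refl
  -- Step 1
  have hs1 : ∃ t₁ ∈ TU q U, ∃ l : F, l ≠ 0 ∧ av (t₁ * g) e = l • e := by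
    obtain ⟨a, hadef⟩ : ∃ a, a = av g e := ⟨_, rfl⟩
    have haU : a ∈ U := by rw [hadef]; exact hgU e heU
    have haa : Cfsg.hermForm n F q a a = 0 := by rw [hadef, av_iso, hee]
    have ha0 : a ≠ 0 := by
      intro h0
      have h5 := av_iso g e' e
      rw [← hadef, h0, u_zero_right hf, h1'] at h5
      exact zero_ne_one h5
    by_cases hae : Cfsg.hermForm n F q a e = 0
    · refine ⟨1, one_mem _, Cfsg.hermForm n F q a e', ?_, ?_⟩
      · intro h0
        apply ha0
        rw [dec a haU, hae, h0, zero_smul, zero_smul, add_zero]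
      · rw [one_mul, ← hadef]
        conv_lhs => rw [dec a haU, hae, zero_smul, add_zero]
    · have hea : Cfsg.hermForm n F q e a ≠ 0 := u_symm_ne hf hae
      obtain ⟨t₁, ht₁, h1a, -⟩ := step hF haU (U.smul_mem (κ / Cfsg.hermForm n F q e a) heU)
        (by rw [haa, hf.smul_left, u_smul_right hf, hee, mul_zero, mul_zero])
        (by rw [hf.smul_left, div_mul_cancel₀ _ hea, haa, sub_zero]; exact hκ)
        (by rw [hf.smul_left, div_mul_cancel₀ _ hea, haa, sub_zero]; exact hκ0)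
      exact ⟨t₁, ht₁, κ / Cfsg.hermForm n F q e a, div_ne_zero hκ0 hea,
        by rw [av_mul, ← hadef, h1a]⟩
  obtain ⟨t₁, ht₁, l, hl0, hg₁e⟩ := hs1
  obtain ⟨g₁, hg₁def⟩ : ∃ g₁, g₁ = t₁ * g := ⟨_, rfl⟩
  rw [← hg₁def] at hg₁e
  have hg₁U : ∀ x ∈ U, av g₁ x ∈ U := fun x hx => by
    rw [hg₁def, av_mul]; exact TU_maps ht₁ (hgU x hx)
  have hg₁fix : ∀ x, (∀ u ∈ U, Cfsg.hermForm n F q x u = 0) → av g₁ x = x := fun x hx => by
    rw [hg₁def, av_mul, hgfix x hx, TU_fix ht₁ hx]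
  -- Step 2
  have hσl : frobQ hF l ≠ 0 := by rwa [Ne, map_eq_zero]
  obtain ⟨m, hmdef⟩ : ∃ m, m = (frobQ hF l)⁻¹ := ⟨_, rfl⟩
  have hm0 : m ≠ 0 := by rw [hmdef]; exact inv_ne_zero hσl
  have hs2 : ∃ t₂ ∈ TU q U, av t₂ e = e ∧ av (t₂ * g₁) e' = m • e' := by
    obtain ⟨e₁, he₁def⟩ : ∃ e₁, e₁ = av g₁ e' := ⟨_, rfl⟩
    have he₁U : e₁ ∈ U := by rw [he₁def]; exact hg₁U e' he'U
    have he₁e₁ : Cfsg.hermForm n F q e₁ e₁ = 0 := by rw [he₁def, av_iso, he'e']
    have he₁e : Cfsg.hermForm n F q e₁ e = m := by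
      have h5 := av_iso g₁ e' e
      rw [← he₁def, hg₁e, u_smul_right hf, h1'] at h5
      rw [hmdef]
      exact eq_inv_of_mul_eq_one_right h5
    obtain ⟨x, hxdef⟩ : ∃ x, x = Cfsg.hermForm n F q e₁ e' := ⟨_, rfl⟩
    have he₁dec : e₁ = x • e + m • e' := by rw [hxdef, ← he₁e]; exact dec e₁ he₁U
    have hiso : x * frobQ hF m + m * frobQ hF x = 0 := by
      have h5 := he₁e₁
      rw [he₁dec, u_comb hf, hee, he'e', h1, h1'] at h5
      linear_combination h5
    by_cases hx0 : x = 0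
    · refine ⟨1, one_mem _, av_one e, ?_⟩
      rw [one_mul, ← he₁def, he₁dec, hx0, zero_smul, zero_add]
    · have hδ : Cfsg.hermForm n F q (m • e') e₁ - Cfsg.hermForm n F q e₁ e₁ = m * frobQ hF x := by
        rw [he₁e₁, sub_zero, hf.smul_left, hf.herm e' e₁, ← hxdef]
      obtain ⟨t₂, ht₂, h2a, h2z⟩ := step hF he₁U (U.smul_mem m he'U)
        (by rw [he₁e₁, hf.smul_left, u_smul_right hf, he'e', mul_zero, mul_zero])
        (by rw [hδ, map_mul, hf.involutive]; linear_combination hiso)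
        (by rw [hδ]; exact mul_ne_zero hm0 (by rwa [Ne, map_eq_zero]))
      refine ⟨t₂, ht₂, h2z e ?_, by rw [av_mul, ← he₁def, h2a]⟩
      have h5 : m • e' - e₁ = (-x) • e := by rw [he₁dec]; module
      rw [h5, u_smul_right hf, hee, mul_zero]
  obtain ⟨t₂, ht₂, ht₂e, hg₂e'⟩ := hs2
  obtain ⟨g₂, hg₂def⟩ : ∃ g₂, g₂ = t₂ * g₁ := ⟨_, rfl⟩
  rw [← hg₂def] at hg₂e'
  have hg₂e : av g₂ e = l • e := by rw [hg₂def, av_mul, hg₁e, av_smul, ht₂e]
  have hg₂fix : ∀ x, (∀ u ∈ U, Cfsg.hermForm n F q x u = 0) → av g₂ x = x := fun x hx => by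
    rw [hg₂def, av_mul, hg₁fix x hx, TU_fix ht₂ hx]
  -- Step 3: the determinant
  have hperp : ∀ x, ∀ u ∈ U, Cfsg.hermForm n F q
      (x - Cfsg.hermForm n F q x e' • e - Cfsg.hermForm n F q x e • e') u = 0 := by
    intro x u hu
    have h5 : Cfsg.hermForm n F q
        (x - Cfsg.hermForm n F q x e' • e - Cfsg.hermForm n F q x e • e') e = 0 := by
      rw [u_sub_left hf, u_sub_left hf, hf.smul_left, hf.smul_left, hee, h1']; ring
    have h6 : Cfsg.hermForm n F q
        (x - Cfsg.hermForm n F q x e' • e - Cfsg.hermForm n F q x e • e') e' = 0 := by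
      rw [u_sub_left hf, u_sub_left hf, hf.smul_left, hf.smul_left, h1, he'e']; ring
    rw [dec u hu, u_add_right hf, u_smul_right hf, u_smul_right hf, h5, h6]; ring
  have hg₂x : ∀ x, av g₂ x = x + ((l - 1) * Cfsg.hermForm n F q x e') • e
      + ((m - 1) * Cfsg.hermForm n F q x e) • e' := by
    intro x
    have h7 := hg₂fix _ (hperp x)
    rw [av_sub, av_sub, av_smul, av_smul, hg₂e, hg₂e'] at h7
    have h8 : av g₂ x = (x - Cfsg.hermForm n F q x e' • e - Cfsg.hermForm n F q x e • e')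
        + Cfsg.hermForm n F q x e' • l • e + Cfsg.hermForm n F q x e • m • e' := by
      rw [← h7]; abel
    rw [h8]; module
  have hdet : l * m = 1 := by
    have hM : ((g₂ : Matrix.SpecialLinearGroup (Fin n) F) : Matrix (Fin n) (Fin n) F)
        = (1 + Matrix.vecMulVec ((l - 1) • e) (fun j => e' j ^ q))
          * (1 + Matrix.vecMulVec ((m - 1) • e') (fun j => e j ^ q)) := by
      apply mat_eq_of_mulVec
      intro x
      rw [← Matrix.mulVec_mulVec, rk1_mulVec, rk1_mulVec, hf.add_left, hf.smul_left, he'e',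
        mul_zero, add_zero]
      have h9 := hg₂x x
      unfold av at h9
      rw [h9]; abel
    have h8 := (g₂ : Matrix.SpecialLinearGroup (Fin n) F).2
    rw [hM, Matrix.det_mul, det_rank_one, det_rank_one, pow_dot, pow_dot, hf.smul_left,
      hf.smul_left, h1, h1'] at h8
    linear_combination h8
  have hm : m = l⁻¹ := eq_inv_of_mul_eq_one_right hdet
  have hσl' : frobQ hF l = l := by
    have h5 : (frobQ hF l)⁻¹ = l⁻¹ := by rw [← hmdef, hm]
    exact inv_injective h5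
  -- Step 4
  obtain ⟨w₁, hw₁, hw₁e, hw₁e'⟩ := w_spec hF heU he'U hee he'e' h1 hκ0 hκ
  obtain ⟨w₂, hw₂, hw₂e, hw₂e'⟩ := w_spec hF heU he'U hee he'e' h1 (mul_ne_zero hl0 hκ0)
    (by rw [map_mul, hσl', hκ]; ring)
  have key : ∀ (p : Fin n → F) (α β : F), (∀ u ∈ U, Cfsg.hermForm n F q p u = 0) →
      av (g₂ * w₁) (p + α • e + β • e') = av w₂ (p + α • e + β • e') := by
    intro p α β hp
    have hw₁p := TU_fix hw₁ hp
    have hw₂p := TU_fix hw₂ hp
    have hg₂p := hg₂fix p hp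
    simp only [av_mul, av_add, av_smul, hw₁e, hw₁e', hw₁p, hg₂e, hg₂e', hg₂p, hw₂e, hw₂e', hw₂p,
      hm]
    module
  have hfin : g₂ * w₁ = w₂ := by
    apply av_ext
    intro x
    have h5 := key _ (Cfsg.hermForm n F q x e') (Cfsg.hermForm n F q x e) (hperp x)
    have h6 : x - Cfsg.hermForm n F q x e' • e - Cfsg.hermForm n F q x e • e'
        + Cfsg.hermForm n F q x e' • e + Cfsg.hermForm n F q x e • e' = x := by abel
    rwa [h6] at h5
  have hg₂T : g₂ ∈ TU q U := by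
    rw [eq_mul_inv_of_mul_eq hfin]
    exact mul_mem hw₂ (inv_mem hw₁)
  have hgeq : g = t₁⁻¹ * (t₂⁻¹ * g₂) := by rw [hg₂def, hg₁def]; group
  rw [hgeq]
  exact mul_mem (inv_mem ht₁) (mul_mem (inv_mem ht₂) hg₂T)

end Grp4

section Grp5
variable {F : Type*} [Field F] [Fintype F] {q n : ℕ}

/-- the induction step through a vector of norm one -/
lemma nstep (hF : Fintype.card F = q ^ 2) {U : Submodule F (Fin n → F)}
    (hU : ND (Cfsg.hermForm n F q) U) (hd : 3 ≤ Module.finrank F U)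
    (hq : 3 ≤ q ∨ 4 ≤ Module.finrank F U)
    (ih : ∀ U' : Submodule F (Fin n → F), ND (Cfsg.hermForm n F q) U' →
      Module.finrank F U' + 1 = Module.finrank F U → PU q U') : PU q U := by
  have hf := herm_unitary (n := n) hF
  intro g hgU hgfix
  obtain ⟨a, haU, haa⟩ := exists_norm hf hU (by omega) 1 (map_one _)
  have hbb : Cfsg.hermForm n F q (av g a) (av g a) = 1 := by rw [av_iso, haa]
  obtain ⟨t, ht, hta⟩ := T1 hF hU hd hq (hgU a haU) haU hbb haa
  obtain ⟨g', hg'def⟩ : ∃ g', g' = t * g := ⟨_, rfl⟩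
  have hg'a : av g' a = a := by rw [hg'def, av_mul, hta]
  have hU' := ND_noniso hf hU haU (by rw [haa]; exact one_ne_zero)
  have hd1 := finrank_inf_pp hf U a
  have hlt : U ⊓ pp hf a < U := by
    refine lt_of_le_of_ne inf_le_left (fun h => ?_)
    have h5 : a ∈ U ⊓ pp hf a := by rw [h]; exact haU
    have h6 := (mem_pp hf).mp (Submodule.mem_inf.mp h5).2
    rw [haa] at h6
    exact one_ne_zero h6
  have hd2 := Submodule.finrank_lt_finrank_of_lt hlt
  have hg'U : ∀ x ∈ U ⊓ pp hf a, av g' x ∈ U ⊓ pp hf a := by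
    intro x hx
    obtain ⟨hxU, hxa⟩ := Submodule.mem_inf.mp hx
    rw [mem_pp] at hxa
    refine Submodule.mem_inf.mpr ⟨?_, ?_⟩
    · rw [hg'def, av_mul]; exact TU_maps ht (hgU x hxU)
    · rw [mem_pp]
      have h5 := av_iso g' x a
      rw [hg'a, hxa] at h5
      exact h5
  have hg'fix : ∀ x, (∀ u ∈ U ⊓ pp hf a, Cfsg.hermForm n F q x u = 0) → av g' x = x := by
    intro x hx
    obtain ⟨x', hx'def⟩ : ∃ x', x' = x - Cfsg.hermForm n F q x a • a := ⟨_, rfl⟩
    have hx'a : Cfsg.hermForm n F q x' a = 0 := by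
      rw [hx'def, u_sub_left hf, hf.smul_left, haa]; ring
    have hx' : ∀ u ∈ U, Cfsg.hermForm n F q x' u = 0 := by
      intro u hu
      obtain ⟨u', hu'def⟩ : ∃ u', u' = u - Cfsg.hermForm n F q u a • a := ⟨_, rfl⟩
      have hu'a : Cfsg.hermForm n F q u' a = 0 := by
        rw [hu'def, u_sub_left hf, hf.smul_left, haa]; ring
      have hu'U : u' ∈ U ⊓ pp hf a :=
        Submodule.mem_inf.mpr ⟨by rw [hu'def]; exact U.sub_mem hu (U.smul_mem _ haU),
          (mem_pp hf).mpr hu'a⟩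
      have hudec : u = u' + Cfsg.hermForm n F q u a • a := by rw [hu'def]; abel
      have h5 : Cfsg.hermForm n F q x' u' = 0 := by
        rw [hx'def, u_sub_left hf, hf.smul_left, hx u' hu'U, u_symm_zero hf hu'a]; ring
      rw [hudec, u_add_right hf, u_smul_right hf, h5, hx'a]; ring
    have h6 : av g' x' = x' := by
      rw [hg'def, av_mul, hgfix x' hx', TU_fix ht hx']
    have hxdec : x = x' + Cfsg.hermForm n F q x a • a := by rw [hx'def]; abel
    calc av g' x = av g' (x' + Cfsg.hermForm n F q x a • a) := by rw [← hxdec]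
      _ = x' + Cfsg.hermForm n F q x a • a := by rw [av_add, av_smul, h6, hg'a]
      _ = x := hxdec.symm
  have h7 := ih (U ⊓ pp hf a) hU' (by omega) g' hg'U hg'fix
  have h8 : g = t⁻¹ * g' := by rw [hg'def]; group
  rw [h8]
  exact mul_mem (inv_mem ht) (TU_mono inf_le_left h7)

/-- the induction step through a hyperbolic pair -/
lemma hstep (hF : Fintype.card F = q ^ 2) {U : Submodule F (Fin n → F)}
    (hU : ND (Cfsg.hermForm n F q) U) (hd : 4 ≤ Module.finrank F U)
    (ih : ∀ U' : Submodule F (Fin n → F), ND (Cfsg.hermForm n F q) U' →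
      Module.finrank F U' + 2 = Module.finrank F U → PU q U') : PU q U := by
  have hf := herm_unitary (n := n) hF
  intro g hgU hgfix
  obtain ⟨e, heU, e', he'U, hee, he'e', h1⟩ := exists_hyp hf hU (by omega)
  have h1' : Cfsg.hermForm n F q e' e = 1 := by rw [hf.herm, h1, map_one]
  have ha0 : av g e ≠ 0 := by
    intro h0
    have h5 := av_iso g e' e
    rw [h0, u_zero_right hf, h1'] at h5
    exact zero_ne_one h5
  have he0 : e ≠ 0 := by
    intro h0
    rw [h0, u_zero_left hf] at h1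
    exact zero_ne_one h1
  obtain ⟨t₁, ht₁, ht₁a⟩ := T0 hF hU (by omega) (hgU e heU) heU ha0 he0
    (by rw [av_iso, hee]) hee
  obtain ⟨g₁, hg₁def⟩ : ∃ g₁, g₁ = t₁ * g := ⟨_, rfl⟩
  have hg₁e : av g₁ e = e := by rw [hg₁def, av_mul, ht₁a]
  have hg₁U : ∀ x ∈ U, av g₁ x ∈ U := fun x hx => by
    rw [hg₁def, av_mul]; exact TU_maps ht₁ (hgU x hx)
  have hg₁fix : ∀ x, (∀ u ∈ U, Cfsg.hermForm n F q x u = 0) → av g₁ x = x := fun x hx => by
    rw [hg₁def, av_mul, hgfix x hx, TU_fix ht₁ hx]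
  have he₁e : Cfsg.hermForm n F q (av g₁ e') e = 1 := by
    have h5 := av_iso g₁ e' e
    rw [hg₁e, h1'] at h5
    exact h5
  obtain ⟨t₂, ht₂, ht₂e, ht₂e'⟩ := partners hF hU hd heU (hg₁U e' he'U) he'U hee
    (by rw [av_iso, he'e']) he'e' he₁e h1'
  obtain ⟨g₂, hg₂def⟩ : ∃ g₂, g₂ = t₂ * g₁ := ⟨_, rfl⟩
  have hg₂e : av g₂ e = e := by rw [hg₂def, av_mul, hg₁e, ht₂e]
  have hg₂e' : av g₂ e' = e' := by rw [hg₂def, av_mul, ht₂e']
  have hg₂U : ∀ x ∈ U, av g₂ x ∈ U := fun x hx => by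
    rw [hg₂def, av_mul]; exact TU_maps ht₂ (hg₁U x hx)
  have hg₂fix : ∀ x, (∀ u ∈ U, Cfsg.hermForm n F q x u = 0) → av g₂ x = x := fun x hx => by
    rw [hg₂def, av_mul, hg₁fix x hx, TU_fix ht₂ hx]
  have hU' := ND_hyp hf hU heU he'U hee he'e' h1
  have hd1 := finrank_inf_pp hf U e
  have hd2 := finrank_inf_pp hf (U ⊓ pp hf e) e'
  have hlt1 : U ⊓ pp hf e < U := by
    refine lt_of_le_of_ne inf_le_left (fun h => ?_)
    have h5 : e' ∈ U ⊓ pp hf e := by rw [h]; exact he'U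
    have h6 := (mem_pp hf).mp (Submodule.mem_inf.mp h5).2
    rw [h1'] at h6
    exact one_ne_zero h6
  have hlt2 : U ⊓ pp hf e ⊓ pp hf e' < U ⊓ pp hf e := by
    refine lt_of_le_of_ne inf_le_left (fun h => ?_)
    have h5 : e ∈ U ⊓ pp hf e ⊓ pp hf e' := by
      rw [h]; exact Submodule.mem_inf.mpr ⟨heU, (mem_pp hf).mpr hee⟩
    have h6 := (mem_pp hf).mp (Submodule.mem_inf.mp h5).2
    rw [h1] at h6
    exact one_ne_zero h6
  have hd3 := Submodule.finrank_lt_finrank_of_lt hlt1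
  have hd4 := Submodule.finrank_lt_finrank_of_lt hlt2
  have hg₂U' : ∀ x ∈ U ⊓ pp hf e ⊓ pp hf e', av g₂ x ∈ U ⊓ pp hf e ⊓ pp hf e' := by
    intro x hx
    obtain ⟨hx1, hxe'⟩ := Submodule.mem_inf.mp hx
    obtain ⟨hxU, hxe⟩ := Submodule.mem_inf.mp hx1
    rw [mem_pp] at hxe hxe'
    refine Submodule.mem_inf.mpr ⟨Submodule.mem_inf.mpr ⟨hg₂U x hxU, ?_⟩, ?_⟩
    · rw [mem_pp]
      have h5 := av_iso g₂ x e
      rw [hg₂e, hxe] at h5
      exact h5
    · rw [mem_pp]
      have h5 := av_iso g₂ x e'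
      rw [hg₂e', hxe'] at h5
      exact h5
  have hg₂fix' : ∀ x, (∀ u ∈ U ⊓ pp hf e ⊓ pp hf e', Cfsg.hermForm n F q x u = 0) →
      av g₂ x = x := by
    intro x hx
    obtain ⟨x', hx'def⟩ : ∃ x', x' = x - Cfsg.hermForm n F q x e' • e
        - Cfsg.hermForm n F q x e • e' := ⟨_, rfl⟩
    have hx'e : Cfsg.hermForm n F q x' e = 0 := by
      rw [hx'def, u_sub_left hf, u_sub_left hf, hf.smul_left, hf.smul_left, hee, h1']; ring
    have hx'e' : Cfsg.hermForm n F q x' e' = 0 := by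
      rw [hx'def, u_sub_left hf, u_sub_left hf, hf.smul_left, hf.smul_left, h1, he'e']; ring
    have hx' : ∀ u ∈ U, Cfsg.hermForm n F q x' u = 0 := by
      intro u hu
      obtain ⟨u', hu'def⟩ : ∃ u', u' = u - Cfsg.hermForm n F q u e' • e
          - Cfsg.hermForm n F q u e • e' := ⟨_, rfl⟩
      have hu'e : Cfsg.hermForm n F q u' e = 0 := by
        rw [hu'def, u_sub_left hf, u_sub_left hf, hf.smul_left, hf.smul_left, hee, h1']; ring
      have hu'e' : Cfsg.hermForm n F q u' e' = 0 := by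
        rw [hu'def, u_sub_left hf, u_sub_left hf, hf.smul_left, hf.smul_left, h1, he'e']; ring
      have hu'U : u' ∈ U ⊓ pp hf e ⊓ pp hf e' :=
        Submodule.mem_inf.mpr ⟨Submodule.mem_inf.mpr
          ⟨by rw [hu'def]; exact U.sub_mem (U.sub_mem hu (U.smul_mem _ heU)) (U.smul_mem _ he'U),
            (mem_pp hf).mpr hu'e⟩, (mem_pp hf).mpr hu'e'⟩
      have hudec : u = u' + Cfsg.hermForm n F q u e' • e + Cfsg.hermForm n F q u e • e' := by
        rw [hu'def]; abel
      have h5 : Cfsg.hermForm n F q x' u' = 0 := by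
        rw [hx'def, u_sub_left hf, u_sub_left hf, hf.smul_left, hf.smul_left, hx u' hu'U,
          u_symm_zero hf hu'e, u_symm_zero hf hu'e']; ring
      rw [hudec, u_add_right hf, u_add_right hf, u_smul_right hf, u_smul_right hf, h5, hx'e,
        hx'e']; ring
    have h6 : av g₂ x' = x' := hg₂fix x' hx'
    have hxdec : x = x' + Cfsg.hermForm n F q x e' • e + Cfsg.hermForm n F q x e • e' := by
      rw [hx'def]; abel
    calc av g₂ x = av g₂ (x' + Cfsg.hermForm n F q x e' • e + Cfsg.hermForm n F q x e • e') := by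
          rw [← hxdec]
      _ = x' + Cfsg.hermForm n F q x e' • e + Cfsg.hermForm n F q x e • e' := by
          rw [av_add, av_add, av_smul, av_smul, h6, hg₂e, hg₂e']
      _ = x := hxdec.symm
  have h7 := ih (U ⊓ pp hf e ⊓ pp hf e') hU' (by omega) g₂ hg₂U' hg₂fix'
  have h8 : g = t₁⁻¹ * (t₂⁻¹ * g₂) := by rw [hg₂def, hg₁def]; group
  rw [h8]
  exact mul_mem (inv_mem ht₁) (mul_mem (inv_mem ht₂)
    (TU_mono (le_trans inf_le_left inf_le_left) h7))

/-- the main induction -/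
theorem PU_of_ND (hF : Fintype.card F = q ^ 2) : ∀ m : ℕ, ∀ U : Submodule F (Fin n → F),
    ND (Cfsg.hermForm n F q) U → Module.finrank F U = m → 2 ≤ m → ¬ (m = 3 ∧ q = 2) →
    PU q U := by
  classical
  have hq2 := herm_two_le hF
  intro m
  induction m using Nat.strong_induction_on with
  | _ m ih =>
    intro U hU hm h2 h32
    by_cases hm2 : m = 2
    · exact base2 hF hU (by omega)
    by_cases h42 : m = 4 ∧ q = 2
    · apply hstep hF hU (by omega)
      intro U' hU' hd'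
      exact ih 2 (by omega) U' hU' (by omega) le_rfl (by omega)
    · apply nstep hF hU (by omega) (by omega)
      intro U' hU' hd'
      exact ih (m - 1) (by omega) U' hU' (by omega) (by omega) (by omega)

/-- `SU_n(q)` is generated by the unitary transvections, `n ≥ 3`, `(n, q) ≠ (3, 2)` -/
theorem closure_transvections_eq_top (hF : Fintype.card F = q ^ 2) (hn : 3 ≤ n)
    (h32 : ¬ (n = 3 ∧ q = 2)) :
    Subgroup.closure {A : ↥(Cfsg.SU n F q) | ∃ (v : Fin n → F) (c : F),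
      Cfsg.hermForm n F q v v = 0 ∧
      ((A : Matrix.SpecialLinearGroup (Fin n) F) : Matrix (Fin n) (Fin n) F) =
        Cfsg.unitaryTransvection n q v c} = ⊤ := by
  have hf := herm_unitary (n := n) hF
  rw [eq_top_iff]
  intro g _
  have htop : Module.finrank F (⊤ : Submodule F (Fin n → F)) = n := by
    rw [finrank_top, Module.finrank_fin_fun]
  have h1 := PU_of_ND hF n ⊤ (ND_top hf) htop (by omega) h32 g (fun x _ => Submodule.mem_top)
    (fun x hx => by
      have h0 : x = 0 := u_eq_zero_of_forall_right hf (fun y => hx y Submodule.mem_top)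
      rw [h0, av_zero])
  refine Subgroup.closure_mono ?_ h1
  rintro A ⟨v, -, c, h0, hA⟩
  exact ⟨v, c, h0, hA⟩

end Grp5

end Cfsg.Agent.Lib.Helper5.SUGen
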