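import Mathlib
import Cfsg.Agent.Lib.Helper5.SUGen
import Cfsg.Agent.Lib.Helper5.SpMax

/-!
Framework for maximality proofs inside `GU_n(q) ⊓ SL_n` (as a subgroup of `GL`): the embedding `emb` of
`SU n F q` into `GL`, the set `Sset hF M` of centres of unitary transvection groups contained in a
subgroup `M` (closed under `M ⊓ GU`, scaling and its own transvections), `le_of_forall_mem_Sset`
(`SU` is generated by transvections), orthogonal complements `uperp`, orthogonal decomposition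
`exists_decomp` for a non-degenerate subspace, the radical lemma `exists_rad`.
-/

set_option autoImplicit false
set_option linter.unusedSectionVars false
set_option linter.unusedVariables false
set_option linter.unusedSimpArgs false

namespace Cfsg.Agent.Lib.Helper5.SUMax
open Cfsg Matrix Cfsg.Agent.Lib.Helper14 Cfsg.Agent.Lib.Helper5.SpMax
  Cfsg.Agent.Lib.Helper5.UForm Cfsg.Agent.Lib.Helper5.UEichler Cfsg.Agent.Lib.Helper5.HermBridge
  Cfsg.Agent.Lib.Helper5.SUGen

section Abs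
variable {F : Type*} [Field F] {n : ℕ} {σ : F ≃+* F}
  {f : (Fin n → F) → (Fin n → F) → F} (hf : Cfsg.Geo.IsUnitaryForm σ f)
include hf

/-- the orthogonal complement -/
def uperp (W : Submodule F (Fin n → F)) : Submodule F (Fin n → F) where
  carrier := {x | ∀ w ∈ W, f x w = 0}
  add_mem' := by
    intro a b ha hb w hw
    rw [hf.add_left, ha w hw, hb w hw, add_zero]
  zero_mem' := by
    intro w _
    exact u_zero_left hf w
  smul_mem' := by
    intro c a ha w hw
    rw [hf.smul_left, ha w hw, mul_zero]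

lemma mem_uperp {W : Submodule F (Fin n → F)} {x : Fin n → F} :
    x ∈ uperp hf W ↔ ∀ w ∈ W, f x w = 0 := Iff.rfl

lemma uperp_symm {W : Submodule F (Fin n → F)} {x : Fin n → F} (hx : x ∈ uperp hf W)
    {w : Fin n → F} (hw : w ∈ W) : f w x = 0 := u_symm_zero hf (hx w hw)

lemma uperp_anti {W W' : Submodule F (Fin n → F)} (h : W ≤ W') : uperp hf W' ≤ uperp hf W :=
  fun x hx w hw => hx w (h hw)

/-- orthogonal decomposition with respect to a non-degenerate subspace -/
lemma exists_decomp [Fintype F] {W : Submodule F (Fin n → F)} (hW : ND f W) (z : Fin n → F) :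
    ∃ w ∈ W, z - w ∈ uperp hf W := by
  classical
  let e := (Module.finBasis F W).toDualEquiv
  let τ : W → W := fun w => e.symm ((uL hf (w : Fin n → F)).domRestrict W)
  have hinj : Function.Injective τ := by
    intro b b' h
    have h1 : (uL hf (b : Fin n → F)).domRestrict W = (uL hf (b' : Fin n → F)).domRestrict W :=
      e.symm.injective h
    by_contra hne
    have hne' : ((b - b' : W) : Fin n → F) ≠ 0 := fun h0 => hne (sub_eq_zero.mp (Subtype.ext h0))
    obtain ⟨x, hxW, hx⟩ := hW _ (b - b').2 hne'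
    apply hx
    have h2 := LinearMap.congr_fun h1 ⟨x, hxW⟩
    rw [LinearMap.domRestrict_apply, LinearMap.domRestrict_apply, uL_apply, uL_apply] at h2
    rw [Submodule.coe_sub, u_sub_right hf, h2, sub_self]
  have hsurj := Finite.injective_iff_surjective.mp hinj
  obtain ⟨w, hw⟩ := hsurj (e.symm ((uL hf z).domRestrict W))
  refine ⟨w, w.2, fun x hx => ?_⟩
  have h1 : (uL hf (w : Fin n → F)).domRestrict W = (uL hf z).domRestrict W :=
    e.symm.injective hw
  have h2 := LinearMap.congr_fun h1 ⟨x, hx⟩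
  rw [LinearMap.domRestrict_apply, LinearMap.domRestrict_apply, uL_apply, uL_apply] at h2
  apply u_symm_zero hf
  rw [u_sub_right hf, h2, sub_self]

lemma ND_uperp [Fintype F] {W : Submodule F (Fin n → F)} (hW : ND f W) : ND f (uperp hf W) := by
  intro u hu hu0
  obtain ⟨z, hz⟩ := (hf.nondegenerate u hu0).1
  obtain ⟨w, hwW, hzw⟩ := exists_decomp hf hW z
  refine ⟨z - w, hzw, ?_⟩
  rw [u_sub_left hf, uperp_symm hf hu hwW, sub_zero]
  exact hz

lemma inf_uperp {W : Submodule F (Fin n → F)} (hW : ND f W) {x : Fin n → F} (hx : x ∈ W)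
    (hx' : x ∈ uperp hf W) : x = 0 := by
  by_contra h
  obtain ⟨y, hyW, hy⟩ := hW x hx h
  exact hy (uperp_symm hf hx' hyW)

lemma uperp_uperp [Fintype F] {W : Submodule F (Fin n → F)} (hW : ND f W) :
    uperp hf (uperp hf W) = W := by
  apply le_antisymm
  · intro x hx
    obtain ⟨w, hwW, hxw⟩ := exists_decomp hf hW x
    have h1 : x - w ∈ uperp hf (uperp hf W) :=
      Submodule.sub_mem _ hx (fun p hp => uperp_symm hf hp hwW)
    have h2 := inf_uperp hf (ND_uperp hf hW) hxw h1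
    rw [sub_eq_zero.mp h2]
    exact hwW
  · intro x hx p hp
    exact uperp_symm hf hp hx

/-- the radical of the orthogonal complement of a totally isotropic subspace `W` is `W` -/
lemma exists_rad : ∀ m : ℕ, ∀ (U W : Submodule F (Fin n → F)) (s : Fin n → F), ND f U → W ≤ U →
    (∀ w ∈ W, ∀ w' ∈ W, f w w' = 0) → Module.finrank F W = m → s ∈ U → s ∈ uperp hf W → s ∉ W →
    ∃ z ∈ U, z ∈ uperp hf W ∧ f z s ≠ 0 := by
  intro m
  induction m using Nat.strong_induction_on with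
  | _ m ih =>
    intro U W s hU hWU hW hm hsU hsW hs
    by_cases hbot : W = ⊥
    · have hs0 : s ≠ 0 := by
        rintro rfl
        exact hs W.zero_mem
      obtain ⟨z, hzU, hz⟩ := hU s hsU hs0
      refine ⟨z, hzU, ?_, hz⟩
      intro w hw
      rw [hbot, Submodule.mem_bot] at hw
      rw [hw, u_zero_right hf]
    · obtain ⟨w₁, hw₁W, hw₁0⟩ := (Submodule.ne_bot_iff W).mp hbot
      have hw₁w₁ : f w₁ w₁ = 0 := hW w₁ hw₁W w₁ hw₁W
      obtain ⟨w₁', hw₁'U, hw₁'w₁', h11⟩ := exists_partner hf hU (hWU hw₁W) hw₁0 hw₁w₁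
      have h11' : f w₁' w₁ = 1 := by rw [hf.herm, h11, map_one]
      have hU₁ := ND_hyp hf hU (hWU hw₁W) hw₁'U hw₁w₁ hw₁'w₁' h11
      obtain ⟨W₁, hW₁def⟩ : ∃ W₁, W₁ = W ⊓ pp hf w₁' := ⟨_, rfl⟩
      have hW₁W : W₁ ≤ W := by rw [hW₁def]; exact inf_le_left
      have hW₁U : W₁ ≤ U ⊓ pp hf w₁ ⊓ pp hf w₁' := by
        intro x hx
        rw [hW₁def] at hx
        obtain ⟨hxW, hxw⟩ := Submodule.mem_inf.mp hx
        refine Submodule.mem_inf.mpr ⟨Submodule.mem_inf.mpr ⟨hWU hxW, ?_⟩, hxw⟩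
        rw [mem_pp]
        exact hW x hxW w₁ hw₁W
      have hlt : Module.finrank F W₁ < Module.finrank F W := by
        apply Submodule.finrank_lt_finrank_of_lt
        refine lt_of_le_of_ne hW₁W (fun h => ?_)
        have : w₁ ∈ W₁ := by rw [h]; exact hw₁W
        rw [hW₁def] at this
        have h2 := (Submodule.mem_inf.mp this).2
        rw [mem_pp, h11] at h2
        exact one_ne_zero h2
      obtain ⟨s₁, hs₁def⟩ : ∃ s₁, s₁ = s - f s w₁' • w₁ := ⟨_, rfl⟩
      have hs₁U : s₁ ∈ U ⊓ pp hf w₁ ⊓ pp hf w₁' := by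
        refine Submodule.mem_inf.mpr ⟨Submodule.mem_inf.mpr
          ⟨by rw [hs₁def]; exact U.sub_mem hsU (U.smul_mem _ (hWU hw₁W)), ?_⟩, ?_⟩
        · rw [mem_pp, hs₁def, u_sub_left hf, hf.smul_left, hw₁w₁, hsW w₁ hw₁W]
          ring
        · rw [mem_pp, hs₁def, u_sub_left hf, hf.smul_left, h11]
          ring
      have hs₁W : s₁ ∈ uperp hf W₁ := by
        intro w hw
        rw [hs₁def, u_sub_left hf, hf.smul_left, hsW w (hW₁W hw), hW w₁ hw₁W w (hW₁W hw)]
        ring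
      have hs₁ : s₁ ∉ W₁ := by
        intro h
        apply hs
        have h2 : s = s₁ + f s w₁' • w₁ := by rw [hs₁def]; abel
        rw [h2]
        exact W.add_mem (hW₁W h) (W.smul_mem _ hw₁W)
      obtain ⟨z, hzU₁, hzW₁, hz⟩ := ih _ (by rw [← hm]; exact hlt) _ W₁ s₁ hU₁ hW₁U
        (fun w hw w' hw' => hW w (hW₁W hw) w' (hW₁W hw')) rfl hs₁U hs₁W hs₁
      obtain ⟨hz1, hzw₁'⟩ := Submodule.mem_inf.mp hzU₁
      obtain ⟨hzU, hzw₁⟩ := Submodule.mem_inf.mp hz1
      rw [mem_pp] at hzw₁ hzw₁'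
      refine ⟨z, hzU, ?_, ?_⟩
      · intro w hw
        have h3 : w - f w w₁' • w₁ ∈ W₁ := by
          rw [hW₁def]
          refine Submodule.mem_inf.mpr ⟨W.sub_mem hw (W.smul_mem _ hw₁W), ?_⟩
          rw [mem_pp, u_sub_left hf, hf.smul_left, h11]
          ring
        have h4 := hzW₁ _ h3
        rw [u_sub_right hf, u_smul_right hf, hzw₁, mul_zero, sub_zero] at h4
        exact h4
      · have h5 : f z s = f z s₁ := by
          rw [hs₁def, u_sub_right hf, u_smul_right hf, hzw₁, mul_zero, sub_zero]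
        rw [h5]
        exact hz

end Abs

section Grp
variable {F : Type*} [Field F] [Fintype F] {q n : ℕ}

omit [Fintype F] in
lemma mem_GU {g : GL (Fin n) F} : g ∈ Cfsg.GU n F q ↔
    ∀ x y, Cfsg.hermForm n F q ((g : Matrix (Fin n) (Fin n) F) *ᵥ x)
      ((g : Matrix (Fin n) (Fin n) F) *ᵥ y) = Cfsg.hermForm n F q x y := Iff.rfl

/-- the embedding of `SU` into `GL` -/
def emb (n : ℕ) (F : Type*) [Field F] (q : ℕ) : ↥(Cfsg.SU n F q) →* GL (Fin n) F :=
  Matrix.SpecialLinearGroup.toGL.comp (Cfsg.SU n F q).subtype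

omit [Fintype F] in
lemma emb_mulVec (A : ↥(Cfsg.SU n F q)) (x : Fin n → F) :
    ((emb n F q A : GL (Fin n) F) : Matrix (Fin n) (Fin n) F) *ᵥ x = av A x := rfl

omit [Fintype F] in
lemma emb_mem (A : ↥(Cfsg.SU n F q)) :
    emb n F q A ∈ Cfsg.GU n F q ⊓ Cfsg.Geo.specialLinear (Fin n) F := by
  refine ⟨fun x y => av_iso A x y, ?_⟩
  change Matrix.GeneralLinearGroup.det (emb n F q A) = 1
  apply Units.ext
  change ((A : Matrix.SpecialLinearGroup (Fin n) F) : Matrix (Fin n) (Fin n) F).det = 1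
  exact (A : Matrix.SpecialLinearGroup (Fin n) F).2

omit [Fintype F] in
lemma exists_emb {g : GL (Fin n) F}
    (hg : g ∈ Cfsg.GU n F q ⊓ Cfsg.Geo.specialLinear (Fin n) F) :
    ∃ A : ↥(Cfsg.SU n F q), emb n F q A = g := by
  have hdet : (g : Matrix (Fin n) (Fin n) F).det = 1 := by
    have h1 := congrArg Units.val (MonoidHom.mem_ker.mp hg.2)
    simpa using h1
  refine ⟨⟨⟨(g : Matrix (Fin n) (Fin n) F), hdet⟩, hg.1⟩, ?_⟩
  apply Units.ext
  rfl

/-- the centres of the unitary transvection groups contained in `M` -/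
def Sset (hF : Fintype.card F = q ^ 2) (M : Subgroup (GL (Fin n) F)) : Set (Fin n → F) :=
  {s | ∀ c : F, frobQ hF c = -c → ∀ g : GL (Fin n) F,
    (∀ x, (g : Matrix (Fin n) (Fin n) F) *ᵥ x = x + (c * Cfsg.hermForm n F q x s) • s) → g ∈ M}

/-- unitary transvections as elements of `GL` -/
lemma exists_tvg (hF : Fintype.card F = q ^ 2) {v : Fin n → F}
    (hv : Cfsg.hermForm n F q v v = 0) {c : F} (hc : frobQ hF c = -c) :
    ∃ g : GL (Fin n) F, g ∈ Cfsg.GU n F q ⊓ Cfsg.Geo.specialLinear (Fin n) F ∧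
      ∀ x, (g : Matrix (Fin n) (Fin n) F) *ᵥ x = x + (c * Cfsg.hermForm n F q x v) • v := by
  obtain ⟨A, hA⟩ := exists_tv hF hv hc
  refine ⟨emb n F q A, emb_mem A, fun x => ?_⟩
  rw [emb_mulVec]
  unfold av
  rw [hA, ut_mulVec]

lemma tv_mem_G (hF : Fintype.card F = q ^ 2) {s : Fin n → F}
    (hs : Cfsg.hermForm n F q s s = 0) {c : F} (hc : frobQ hF c = -c) {g : GL (Fin n) F}
    (hg : ∀ x, (g : Matrix (Fin n) (Fin n) F) *ᵥ x = x + (c * Cfsg.hermForm n F q x s) • s) :
    g ∈ Cfsg.GU n F q ⊓ Cfsg.Geo.specialLinear (Fin n) F := by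
  obtain ⟨g', hg'G, hg'⟩ := exists_tvg hF hs hc
  have : g = g' := Units.ext (mat_eq_of_mulVec (fun x => by rw [hg, hg']))
  rw [this]
  exact hg'G

omit [Fintype F] in
lemma tv_mem_stab_of_mem {W : Submodule F (Fin n → F)} {s : Fin n → F} (hs : s ∈ W) {c : F}
    {g : GL (Fin n) F}
    (hg : ∀ x, (g : Matrix (Fin n) (Fin n) F) *ᵥ x = x + (c * Cfsg.hermForm n F q x s) • s) :
    g ∈ Cfsg.Geo.subspaceStabilizer W :=
  mem_stab_of_maps_le (fun w hw => by rw [hg]; exact W.add_mem hw (W.smul_mem _ hs))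

omit [Fintype F] in
lemma tv_mem_stab_of_perp {W : Submodule F (Fin n → F)} {s : Fin n → F}
    (hs : ∀ w ∈ W, Cfsg.hermForm n F q w s = 0) {c : F} {g : GL (Fin n) F}
    (hg : ∀ x, (g : Matrix (Fin n) (Fin n) F) *ᵥ x = x + (c * Cfsg.hermForm n F q x s) • s) :
    g ∈ Cfsg.Geo.subspaceStabilizer W :=
  mem_stab_of_fix (fun w hw => by rw [hg, hs w hw, mul_zero, zero_smul, add_zero])

lemma mem_Sset_of_mem (hF : Fintype.card F = q ^ 2) {M : Subgroup (GL (Fin n) F)}
    {W : Submodule F (Fin n → F)}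
    (hHM : Cfsg.Geo.subspaceStabilizer W ⊓
      (Cfsg.GU n F q ⊓ Cfsg.Geo.specialLinear (Fin n) F) ≤ M) {s : Fin n → F} (hs : s ∈ W)
    (hss : Cfsg.hermForm n F q s s = 0) : s ∈ Sset hF M :=
  fun c hc g hg => hHM ⟨tv_mem_stab_of_mem hs hg, tv_mem_G hF hss hc hg⟩

lemma mem_Sset_of_perp (hF : Fintype.card F = q ^ 2) {M : Subgroup (GL (Fin n) F)}
    {W : Submodule F (Fin n → F)}
    (hHM : Cfsg.Geo.subspaceStabilizer W ⊓
      (Cfsg.GU n F q ⊓ Cfsg.Geo.specialLinear (Fin n) F) ≤ M) {s : Fin n → F}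
    (hs : ∀ w ∈ W, Cfsg.hermForm n F q w s = 0)
    (hss : Cfsg.hermForm n F q s s = 0) : s ∈ Sset hF M :=
  fun c hc g hg => hHM ⟨tv_mem_stab_of_perp hs hg, tv_mem_G hF hss hc hg⟩

lemma Sset_mulVec_mem (hF : Fintype.card F = q ^ 2) {M : Subgroup (GL (Fin n) F)}
    {g : GL (Fin n) F} (hgM : g ∈ M) (hgU : g ∈ Cfsg.GU n F q) {s : Fin n → F}
    (hs : s ∈ Sset hF M) : (g : Matrix (Fin n) (Fin n) F) *ᵥ s ∈ Sset hF M := by
  intro c hc t ht
  have h1 : g⁻¹ * t * g ∈ M := hs c hc _ (fun x => by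
    rw [Units.val_mul, Units.val_mul, ← Matrix.mulVec_mulVec, ← Matrix.mulVec_mulVec, ht,
      Matrix.mulVec_add, Matrix.mulVec_smul, inv_mul_mulVec, inv_mul_mulVec, mem_GU.mp hgU])
  have h2 : t = g * (g⁻¹ * t * g) * g⁻¹ := by group
  rw [h2]
  exact M.mul_mem (M.mul_mem hgM h1) (M.inv_mem hgM)

lemma Sset_smul (hF : Fintype.card F = q ^ 2) {M : Subgroup (GL (Fin n) F)} {s : Fin n → F}
    (hs : s ∈ Sset hF M) (l : F) : l • s ∈ Sset hF M := by
  have hf := herm_unitary (n := n) hF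
  intro c hc t ht
  apply hs (c * (l * frobQ hF l)) (by rw [map_mul, map_mul, hc, hf.involutive]; ring) t
  intro x
  rw [ht, u_smul_right hf, smul_smul]
  congr 2
  ring

lemma Sset_tv (hF : Fintype.card F = q ^ 2) {M : Subgroup (GL (Fin n) F)} {a b : Fin n → F}
    (ha : a ∈ Sset hF M) (hb : b ∈ Sset hF M) (hbb : Cfsg.hermForm n F q b b = 0) {c : F}
    (hc : frobQ hF c = -c) : a + (c * Cfsg.hermForm n F q a b) • b ∈ Sset hF M := by
  obtain ⟨g, hgG, hg⟩ := exists_tvg hF hbb hc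
  have hgM := hb c hc g hg
  have := Sset_mulVec_mem hF hgM hgG.1 ha
  rwa [hg] at this

/-- the image in `GL` of a transvection of `SU` with centre in `Sset M` lies in `M` -/
lemma emb_tv_mem (hF : Fintype.card F = q ^ 2) {M : Subgroup (GL (Fin n) F)} {v : Fin n → F}
    (hv : v ∈ Sset hF M) (hvv : Cfsg.hermForm n F q v v = 0) {c : F} {A : ↥(Cfsg.SU n F q)}
    (hA : ((A : Matrix.SpecialLinearGroup (Fin n) F) : Matrix (Fin n) (Fin n) F) =
      Cfsg.unitaryTransvection n q v c) : emb n F q A ∈ M := by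
  have hf := herm_unitary (n := n) hF
  have hAx : ∀ x, av A x = x + (c * Cfsg.hermForm n F q x v) • v := by
    intro x; unfold av; rw [hA, ut_mulVec]
  by_cases hdeg : v = 0 ∨ c = 0
  · have hA1 : A = 1 := by
      apply av_ext
      intro x
      rw [hAx, av_one]
      rcases hdeg with h | h
      · rw [h, smul_zero, add_zero]
      · rw [h, zero_mul, zero_smul, add_zero]
    rw [hA1, map_one]
    exact M.one_mem
  push Not at hdeg
  obtain ⟨hv0, hc0⟩ := hdeg
  have hskew : frobQ hF c = -c := by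
    obtain ⟨x, hx⟩ := (hf.nondegenerate v hv0).1
    have h1 := av_iso A x x
    rw [hAx, u_expand hf, hvv, mul_zero, add_zero, hf.herm v x, map_mul] at h1
    have h2 : (frobQ hF c + c) * (Cfsg.hermForm n F q x v *
        frobQ hF (Cfsg.hermForm n F q x v)) = 0 := by linear_combination h1
    rcases mul_eq_zero.mp h2 with h | h
    · linear_combination h
    · exfalso
      rcases mul_eq_zero.mp h with h' | h'
      · exact hx h'
      · exact hx ((map_eq_zero (frobQ hF)).mp h')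
  exact hv c hskew _ (fun x => by rw [emb_mulVec, hAx])

theorem le_of_forall_mem_Sset (hF : Fintype.card F = q ^ 2) (hn : 3 ≤ n)
    (h32 : ¬ (n = 3 ∧ q = 2)) (M : Subgroup (GL (Fin n) F))
    (hM : ∀ v, Cfsg.hermForm n F q v v = 0 → v ∈ Sset hF M) :
    Cfsg.GU n F q ⊓ Cfsg.Geo.specialLinear (Fin n) F ≤ M := by
  intro g hg
  obtain ⟨A, rfl⟩ := exists_emb hg
  have hA : A ∈ (⊤ : Subgroup ↥(Cfsg.SU n F q)) := trivial
  rw [← closure_transvections_eq_top hF hn h32] at hA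
  have hle : Subgroup.closure {A : ↥(Cfsg.SU n F q) | ∃ (v : Fin n → F) (c : F),
      Cfsg.hermForm n F q v v = 0 ∧
      ((A : Matrix.SpecialLinearGroup (Fin n) F) : Matrix (Fin n) (Fin n) F) =
        Cfsg.unitaryTransvection n q v c} ≤ M.comap (emb n F q) := by
    rw [Subgroup.closure_le]
    rintro B ⟨v, c, hvv, hB⟩
    exact emb_tv_mem hF (hM v hvv) hvv hB
  exact hle hA

lemma emb_TU_mem (hF : Fintype.card F = q ^ 2) {M : Subgroup (GL (Fin n) F)}
    {U : Submodule F (Fin n → F)}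
    (hU : ∀ u ∈ U, Cfsg.hermForm n F q u u = 0 → u ∈ Sset hF M) {t : ↥(Cfsg.SU n F q)}
    (ht : t ∈ TU q U) : emb n F q t ∈ M := by
  have hle : TU q U ≤ M.comap (emb n F q) := by
    unfold TU
    rw [Subgroup.closure_le]
    rintro B ⟨v, hv, c, hvv, hB⟩
    exact emb_tv_mem hF (hU v hv hvv) hvv hB
  exact hle ht

lemma Sset_of_TU (hF : Fintype.card F = q ^ 2) {M : Subgroup (GL (Fin n) F)}
    {U : Submodule F (Fin n → F)}
    (hU : ∀ u ∈ U, Cfsg.hermForm n F q u u = 0 → u ∈ Sset hF M) {t : ↥(Cfsg.SU n F q)}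
    (ht : t ∈ TU q U) {s : Fin n → F} (hs : s ∈ Sset hF M) : av t s ∈ Sset hF M := by
  have := Sset_mulVec_mem hF (emb_TU_mem hF hU ht) (emb_mem t).1 hs
  rwa [emb_mulVec] at this

/-- transitivity of `TU U` on the vectors of a fixed non-zero norm -/
lemma Tr (hF : Fintype.card F = q ^ 2) {U : Submodule F (Fin n → F)}
    (hU : ND (Cfsg.hermForm n F q) U) (hd : 4 ≤ Module.finrank F U) {a b : Fin n → F}
    (ha : a ∈ U) (hb : b ∈ U) (hab : Cfsg.hermForm n F q a a = Cfsg.hermForm n F q b b)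
    (h0 : Cfsg.hermForm n F q a a ≠ 0) : Rel q U a b := by
  have hf := herm_unitary (n := n) hF
  obtain ⟨l, hl⟩ := norm_surj hf.involutive hf.ne_refl (Cfsg.hermForm n F q a a) h0
    (u_self_fixed hf a)
  have hl0 : l ≠ 0 := by
    rintro rfl
    rw [zero_mul] at hl
    exact h0 hl.symm
  have hl0' : frobQ hF l ≠ 0 := by rwa [Ne, map_eq_zero]
  have hn1 : ∀ x : Fin n → F, Cfsg.hermForm n F q x x = Cfsg.hermForm n F q a a →
      Cfsg.hermForm n F q (l⁻¹ • x) (l⁻¹ • x) = 1 := by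
    intro x hx
    rw [hf.smul_left, u_smul_right hf, map_inv₀, hx, ← hl]
    field_simp
  obtain ⟨t, ht, hta⟩ := T1 hF hU (by omega) (Or.inr hd) (U.smul_mem l⁻¹ ha) (U.smul_mem l⁻¹ hb)
    (hn1 a rfl) (hn1 b hab.symm)
  refine ⟨t, ht, ?_⟩
  rw [av_smul] at hta
  have h2 := congrArg (fun x => l • x) hta
  simpa [smul_smul, mul_inv_cancel₀ hl0] using h2

end Grp

end Cfsg.Agent.Lib.Helper5.SUMax
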