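import Cfsg.Agent.Lib.Helper5.NDMax

set_option autoImplicit false
set_option linter.unusedSectionVars false
set_option linter.unusedVariables false
set_option linter.unusedSimpArgs false

namespace Cfsg.Agent.Lib.Helper5.NDMax

open Module QuadraticMap Matrix Cfsg.Agent.Lib.Helper25.CD Cfsg.Agent.Lib.Helper25.Spin
  Cfsg.Agent.Lib.Helper25.Fam Cfsg.Agent.Lib.Helper25.Siegel
  Cfsg.Agent.Lib.Helper25.PS Cfsg.Agent.Lib.Helper25.OGeom Cfsg.Agent.Lib.Helper15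
  Cfsg.Agent.Lib.Helper5.TSMax Cfsg.Agent.Lib.Helper5.NSMax Cfsg.Agent.Lib.Helper5.PairMax

section glue

variable {ι : Type} [Fintype ι] [DecidableEq ι] {F : Type*} [Field F] [Fintype F]
  (Q : QuadraticForm F (ι → F))

theorem ndOn_of_isNondegenerateOn {W : Submodule F (ι → F)}
    (h : Cfsg.Geo.IsNondegenerateOn (polar ⇑Q) W) : NdOn Q W := by
  intro w hw hall
  by_contra hw0
  obtain ⟨-, x, hx, hne⟩ := h w hw hw0
  exact hne (hall x hx)

theorem isNondegenerateOn_of_ndOn {W : Submodule F (ι → F)} (h : NdOn Q W) :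
    Cfsg.Geo.IsNondegenerateOn (polar ⇑Q) W := by
  intro w hw hw0
  have h1 : ∃ x ∈ W, polar Q w x ≠ 0 := by
    by_contra hcon
    push Not at hcon
    exact hw0 (h w hw hcon)
  obtain ⟨x, hx, hne⟩ := h1
  exact ⟨⟨x, hx, by rw [polar_comm]; exact hne⟩, ⟨x, hx, hne⟩⟩

theorem perp_orth (W : Submodule F (ι → F)) :
    ∀ x ∈ W, ∀ y ∈ Cfsg.Agent.Lib.Helper25.MaxTS.perp Q W, polar Q x y = 0 :=
  fun x hx y hy => Cfsg.Agent.Lib.Helper25.MaxTS.mem_perp.1 hy x hx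

theorem perp_disj {W : Submodule F (ι → F)} (hW : NdOn Q W) :
    W ⊓ Cfsg.Agent.Lib.Helper25.MaxTS.perp Q W = ⊥ := by
  rw [eq_bot_iff]
  rintro x ⟨hxW, hxp⟩
  rw [Submodule.mem_bot]
  apply hW x hxW
  intro w' hw'
  rw [polar_comm]
  exact Cfsg.Agent.Lib.Helper25.MaxTS.mem_perp.1 hxp w' hw'

theorem perp_sup (hQ : (polarBilin Q).Nondegenerate) {W : Submodule F (ι → F)} (hW : NdOn Q W) :
    W ⊔ Cfsg.Agent.Lib.Helper25.MaxTS.perp Q W = ⊤ := by
  apply Submodule.eq_top_of_finrank_eq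
  have h1 := Submodule.finrank_sup_add_finrank_inf_eq W (Cfsg.Agent.Lib.Helper25.MaxTS.perp Q W)
  rw [perp_disj Q hW, finrank_bot, add_zero, Cfsg.Agent.Lib.Helper25.MaxTS.finrank_perp hQ W] at h1
  have h2 : finrank F W ≤ finrank F (ι → F) := Submodule.finrank_le W
  omega

theorem ndOn_perp (hQ : (polarBilin Q).Nondegenerate) {W : Submodule F (ι → F)}
    (hW : NdOn Q W) : NdOn Q (Cfsg.Agent.Lib.Helper25.MaxTS.perp Q W) := by
  intro x hx hall
  have h1 : x ∈ Cfsg.Agent.Lib.Helper25.MaxTS.perp Q (Cfsg.Agent.Lib.Helper25.MaxTS.perp Q W) :=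
    Cfsg.Agent.Lib.Helper25.MaxTS.mem_perp.2 (fun u hu => by rw [polar_comm]; exact hall u hu)
  rw [Cfsg.Agent.Lib.Helper25.MaxTS.perp_perp hQ] at h1
  have h2 : x ∈ W ⊓ Cfsg.Agent.Lib.Helper25.MaxTS.perp Q W := ⟨h1, hx⟩
  rw [perp_disj Q hW, Submodule.mem_bot] at h2
  exact h2

theorem stabSub_perp_le (W : Submodule F (ι → F)) :
    stabSub Q W ≤ stabSub Q (Cfsg.Agent.Lib.Helper25.MaxTS.perp Q W) := by
  intro g hg
  apply mem_stabSub_of_le
  intro y hy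
  rw [Cfsg.Agent.Lib.Helper25.MaxTS.mem_perp]
  intro u hu
  have h1 := (mem_stabSub Q).1 hg
  rw [← h1] at hu
  obtain ⟨u0, hu0, rfl⟩ := hu
  show polar Q (toOG Q g u0) (toOG Q g y) = 0
  rw [polar_toOG]
  exact Cfsg.Agent.Lib.Helper25.MaxTS.mem_perp.1 hy u0 hu0

theorem stabSub_perp (hQ : (polarBilin Q).Nondegenerate) (W : Submodule F (ι → F)) :
    stabSub Q (Cfsg.Agent.Lib.Helper25.MaxTS.perp Q W) = stabSub Q W := by
  apply le_antisymm
  · have h := stabSub_perp_le Q (Cfsg.Agent.Lib.Helper25.MaxTS.perp Q W)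
    rwa [Cfsg.Agent.Lib.Helper25.MaxTS.perp_perp hQ] at h
  · exact stabSub_perp_le Q W

theorem stab_inf_eq (W : Submodule F (ι → F)) :
    Cfsg.Geo.subspaceStabilizer W ⊓ Cfsg.Geo.omegaGL ⇑Q =
      (stabSub Q W ⊓ Cfsg.Omega F ⇑Q).map (Cfsg.isometryGroup F ⇑Q).subtype := by
  ext x
  constructor
  · rintro ⟨hx1, g, hg, rfl⟩
    exact ⟨g, ⟨hx1, hg⟩, rfl⟩
  · rintro ⟨g, ⟨hg1, hg2⟩, rfl⟩
    exact ⟨hg1, g, hg2, rfl⟩

theorem stab_perp_inf_eq (hQ : (polarBilin Q).Nondegenerate) (W : Submodule F (ι → F)) :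
    Cfsg.Geo.subspaceStabilizer (Cfsg.Agent.Lib.Helper25.MaxTS.perp Q W) ⊓ Cfsg.Geo.omegaGL ⇑Q =
      Cfsg.Geo.subspaceStabilizer W ⊓ Cfsg.Geo.omegaGL ⇑Q := by
  rw [stab_inf_eq, stab_inf_eq, stabSub_perp Q hQ]

theorem not_map_into_of_finrank_lt {W W' : Submodule F (ι → F)}
    (hlt : finrank F W' < finrank F W) (g : ↥(Cfsg.isometryGroup F ⇑Q)) :
    ¬ ∀ x ∈ W, toOG Q g x ∈ W' := by
  intro h
  have h1 : W.map ((toOG Q g : (ι → F) ≃ₗ[F] (ι → F)) : (ι → F) →ₗ[F] (ι → F)) ≤ W' := by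
    rintro _ ⟨x, hx, rfl⟩
    exact h x hx
  have h2 := Submodule.finrank_mono h1
  rw [finrank_map_equiv] at h2
  omega

theorem plus_of_sing {U : Submodule F (ι → F)} (hU2 : finrank F U = 2) {e : ι → F} (heU : e ∈ U)
    (he0 : e ≠ 0) (hQe : Q e = 0) : Cfsg.Geo.IsPlusTypeOn ⇑Q U := by
  refine ⟨Submodule.span F {e}, Submodule.span_le.2 (Set.singleton_subset_iff.2 heU), ?_, ?_⟩
  · intro w hw
    obtain ⟨c, rfl⟩ := Submodule.mem_span_singleton.1 hw
    rw [QuadraticMap.map_smul, hQe, smul_zero]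
  · rw [finrank_span_singleton he0, hU2]

/-- Maximality of the stabiliser of a nondegenerate subspace whose dimension differs from that of
its orthogonal complement. -/
theorem isMaximalIn_nd' (hQ : (polarBilin Q).Nondegenerate) (hcard : 13 ≤ Fintype.card ι)
    {W : Submodule F (ι → F)} (hW : NdOn Q W) (hW0 : W ≠ ⊥) (hW1 : W ≠ ⊤)
    (hdim : 2 * finrank F W ≠ Fintype.card ι)
    (hexc : ∀ U : Submodule F (ι → F), (U = W ∨ U = Cfsg.Agent.Lib.Helper25.MaxTS.perp Q W) →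
      ¬ (Fintype.card F ≤ 3 ∧ finrank F U = 2 ∧ ∃ e ∈ U, e ≠ 0 ∧ Q e = 0)) :
    Cfsg.Geo.IsMaximalIn (Cfsg.Geo.omegaGL ⇑Q)
      (Cfsg.Geo.subspaceStabilizer W ⊓ Cfsg.Geo.omegaGL ⇑Q) := by
  have hfr := Cfsg.Agent.Lib.Helper25.MaxTS.finrank_perp hQ W
  rw [Module.finrank_fintype_fun_eq_card] at hfr
  have hle : finrank F W ≤ Fintype.card ι := by
    have h := Submodule.finrank_le W
    rwa [Module.finrank_fintype_fun_eq_card] at h
  have hWlt : finrank F W < Fintype.card ι := by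
    by_contra h
    apply hW1
    apply Submodule.eq_top_of_finrank_eq
    rw [Module.finrank_fintype_fun_eq_card]
    omega
  have hWpos : 0 < finrank F W := by
    rw [Nat.pos_iff_ne_zero]
    intro h
    exact hW0 (Submodule.finrank_eq_zero.1 h)
  rcases Nat.lt_or_ge (finrank F (Cfsg.Agent.Lib.Helper25.MaxTS.perp Q W)) (finrank F W) with
    hlt | hge
  · exact isMaximalIn_nd Q hQ (by omega) (perp_orth Q W) (perp_disj Q hW) (perp_sup Q hQ hW)
      (by omega) (by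
        intro h
        rw [h, finrank_bot] at hfr
        omega) (hexc _ (Or.inr rfl)) (fun g _ => not_map_into_of_finrank_lt Q hlt g)
  · have hlt : finrank F W < finrank F (Cfsg.Agent.Lib.Helper25.MaxTS.perp Q W) := by omega
    have h := isMaximalIn_nd Q hQ (by omega) (W := Cfsg.Agent.Lib.Helper25.MaxTS.perp Q W)
      (W' := W) (fun x hx y hy => by rw [polar_comm]; exact perp_orth Q W y hy x hx)
      (by rw [inf_comm]; exact perp_disj Q hW) (by rw [sup_comm]; exact perp_sup Q hQ hW)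
      (by omega) hW0 (hexc _ (Or.inl rfl)) (fun g _ => not_map_into_of_finrank_lt Q hlt g)
    rwa [stab_perp_inf_eq Q hQ] at h

end glue

end Cfsg.Agent.Lib.Helper5.NDMax
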