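/-
S4648 leaf INEQ (`charDegree_le_mul`): rank subadditivity in an irreducible representation.
(helper5; statement frozen in `notes/S4648_leaves.lean`.)
-/
import Mathlib
import Cfsg.Prelude.Def_BlockRank
import Cfsg.Prelude.Def_BrauerPairs
import Cfsg.Agent.Lib.Helper27.SymAlgDefs
import Cfsg.Agent.Lib.Helper27.BlkAlgDefs2
import Cfsg.Agent.Lib.Helper18.BlkAlgB2
import Cfsg.Agent.Lib.Helper18.BlkAlgB3
import Cfsg.Agent.Lib.Helper19.BlkAlgB1
import Cfsg.Agent.Lib.Helper24.BlkAlgB5a
import Cfsg.Agent.Lib.Helper23.RelCentA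

set_option autoImplicit false

namespace Cfsg.Agent.Lib.Helper5.K4INEQ

open Cfsg Cfsg.Agent.Lib.Helper6 Cfsg.Agent.Lib.Helper24
open Cfsg.Agent.Lib.Helper27.SymAlg Cfsg.Agent.Lib.Helper27.BlkAlg
open Cfsg.Agent.Lib.Helper24.BlkAlgB5a (gmat)

universe u

section linalg

variable {V : Type*} [AddCommGroup V] [Module ℂ V] [FiniteDimensional ℂ V]

/-- the rank of an endomorphism, as a natural number -/
noncomputable def rk (f : Module.End ℂ V) : ℕ := Module.finrank ℂ (LinearMap.range f)

theorem rk_mul_le_left (f g : Module.End ℂ V) : rk (f * g) ≤ rk f := by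
  unfold rk
  apply Submodule.finrank_mono
  rw [Module.End.mul_eq_comp]
  exact LinearMap.range_comp_le_range g f

theorem rk_mul_le_right (f g : Module.End ℂ V) : rk (f * g) ≤ rk g := by
  unfold rk
  rw [Module.End.mul_eq_comp, LinearMap.range_comp]
  exact Submodule.finrank_map_le f _

theorem rk_add_le (f g : Module.End ℂ V) : rk (f + g) ≤ rk f + rk g := by
  unfold rk
  exact (Submodule.finrank_mono (LinearMap.range_add_le f g)).trans
    (Submodule.finrank_add_le_finrank_add_finrank _ _)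

theorem rk_zero : rk (0 : Module.End ℂ V) = 0 := by
  unfold rk
  rw [LinearMap.range_zero]
  exact finrank_bot ℂ V

theorem rk_sum_le {ι : Type*} (s : Finset ι) (f : ι → Module.End ℂ V) :
    rk (∑ i ∈ s, f i) ≤ ∑ i ∈ s, rk (f i) := by
  classical
  induction s using Finset.induction_on with
  | empty => simp [rk_zero]
  | insert i s hi ih =>
    rw [Finset.sum_insert hi, Finset.sum_insert hi]
    exact (rk_add_le _ _).trans (Nat.add_le_add_left ih _)

theorem rk_one : rk (1 : Module.End ℂ V) = Module.finrank ℂ V := by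
  unfold rk
  rw [Module.End.one_eq_id, LinearMap.range_id]
  exact finrank_top ℂ V

theorem trace_eq_rk_of_idem (f : Module.End ℂ V) (hf : IsIdempotentElem f) :
    LinearMap.trace ℂ V f = (rk f : ℂ) :=
  (LinearMap.IsIdempotentElem.isProj_range _ hf).trace

theorem eq_zero_of_idem_of_trace_eq_zero (f : Module.End ℂ V) (hf : IsIdempotentElem f)
    (h0 : LinearMap.trace ℂ V f = 0) : f = 0 := by
  rw [trace_eq_rk_of_idem f hf] at h0
  have h1 : rk f = 0 := by exact_mod_cast h0
  unfold rk at h1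
  rw [Submodule.finrank_eq_zero] at h1
  exact LinearMap.range_eq_bot.mp h1

end linalg

section lift

variable {G : Type u} [Group G] [Fintype G]

theorem coeffSum_add {V : Type*} [AddCommGroup V] [Module ℂ V] (ρ : Representation ℂ G V) (f g : G → ℂ) :
    coeffSum ρ (f + g) = coeffSum ρ f + coeffSum ρ g := by
  unfold coeffSum
  rw [← Finset.sum_add_distrib]
  apply Finset.sum_congr rfl
  intro x _
  rw [Pi.add_apply, add_smul]

theorem coeffSum_sum {V : Type*} [AddCommGroup V] [Module ℂ V] (ρ : Representation ℂ G V) {ι : Type*}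
    (s : Finset ι) (f : ι → G → ℂ) :
    coeffSum ρ (∑ i ∈ s, f i) = ∑ i ∈ s, coeffSum ρ (f i) := by
  unfold coeffSum
  rw [Finset.sum_comm]
  apply Finset.sum_congr rfl
  intro x _
  rw [Finset.sum_apply, Finset.sum_smul]

theorem coeffSum_classInd_one {V : Type*} [AddCommGroup V] [Module ℂ V] (ρ : Representation ℂ G V) :
    coeffSum ρ (classInd (1 : G)) = 1 := by
  classical
  unfold coeffSum
  rw [BlkAlgB5a.classInd_one_eq]
  rw [Finset.sum_eq_single (1 : G)]
  · simp
  · intro b _ hb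
    simp [hb]
  · intro h
    exact absurd (Finset.mem_univ _) h

/-- (INEQ) rank subadditivity in an irreducible representation -/
theorem charDegree_le_mul (χ : IrrCharacter G) {n : ℕ} (a z t : G → ℂ) (x y : Fin n → G → ℂ)
    (ha : conv a a = a) (hz : conv z z = z) (hzχ : ∑ g, z g * (χ : G → ℂ) g = 0)
    (ht : conv (∑ i, conv (conv (x i) a) (y i) + z) t = classInd (1 : G)) :
    ∃ r : ℕ, (r : ℂ) = ∑ g, a g * (χ : G → ℂ) g ∧ charDegree (χ : G → ℂ) ≤ n * r := by
  classical
  obtain ⟨d, ρ, _, hρ⟩ := χ.2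
  have hA : IsIdempotentElem (coeffSum ρ a) := by
    show coeffSum ρ a * coeffSum ρ a = coeffSum ρ a
    rw [← Cfsg.Agent.Lib.Helper23.RelCent.coeffSum_conv, ha]
  have hZ : IsIdempotentElem (coeffSum ρ z) := by
    show coeffSum ρ z * coeffSum ρ z = coeffSum ρ z
    rw [← Cfsg.Agent.Lib.Helper23.RelCent.coeffSum_conv, hz]
  have htrA : LinearMap.trace ℂ _ (coeffSum ρ a) = ∑ g, a g * (χ : G → ℂ) g := by
    rw [trace_coeffSum, hρ]
  have hZ0 : coeffSum ρ z = 0 := by
    apply eq_zero_of_idem_of_trace_eq_zero _ hZ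
    rw [trace_coeffSum, hρ, hzχ]
  have hprod : (∑ i, coeffSum ρ (x i) * coeffSum ρ a * coeffSum ρ (y i)) * coeffSum ρ t = 1 := by
    have h1 := congrArg (coeffSum ρ) ht
    rw [Cfsg.Agent.Lib.Helper23.RelCent.coeffSum_conv, coeffSum_add, coeffSum_sum, hZ0, add_zero,
      coeffSum_classInd_one] at h1
    rw [← h1]
    congr 1
    apply Finset.sum_congr rfl
    intro i _
    rw [Cfsg.Agent.Lib.Helper23.RelCent.coeffSum_conv, Cfsg.Agent.Lib.Helper23.RelCent.coeffSum_conv]
  refine ⟨rk (coeffSum ρ a), by rw [← trace_eq_rk_of_idem _ hA, htrA], ?_⟩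
  have hdeg : charDegree (χ : G → ℂ) = d := by
    unfold charDegree
    rw [← hρ, Representation.char_one]
    simp
  rw [hdeg]
  calc d = Module.finrank ℂ (Fin d → ℂ) := by simp
    _ = rk (1 : Module.End ℂ (Fin d → ℂ)) := rk_one.symm
    _ = rk ((∑ i, coeffSum ρ (x i) * coeffSum ρ a * coeffSum ρ (y i)) * coeffSum ρ t) := by rw [hprod]
    _ ≤ rk (∑ i, coeffSum ρ (x i) * coeffSum ρ a * coeffSum ρ (y i)) := rk_mul_le_left _ _
    _ ≤ ∑ i : Fin n, rk (coeffSum ρ (x i) * coeffSum ρ a * coeffSum ρ (y i)) := rk_sum_le _ _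
    _ ≤ ∑ _i : Fin n, rk (coeffSum ρ a) := by
        apply Finset.sum_le_sum
        intro i _
        exact (rk_mul_le_left _ _).trans (rk_mul_le_right _ _)
    _ = n * rk (coeffSum ρ a) := by simp

end lift

end Cfsg.Agent.Lib.Helper5.K4INEQ
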