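import Mathlib
import Cfsg.Agent.Lib.Helper9.SubfieldA
import Cfsg.Agent.Lib.Helper5.SUMax

/-!
Rational structures for a subfield `F₀` of index two in `F` (`|F| = q²`): the fixed field of
`x ↦ x^q`, decomposition `F = F₀ ⊕ ω F₀`, rational vectors for a change of basis `P`, and matrix
criteria for membership in `Cfsg.Geo.subfieldSubgroup F₀ P`.
-/

set_option autoImplicit false
set_option linter.unusedSectionVars false
set_option linter.unusedVariables false
set_option linter.unusedSimpArgs false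

namespace Cfsg.Agent.Lib.Helper5.USub
open Cfsg Matrix Cfsg.Agent.Lib.Helper14 Cfsg.Agent.Lib.Helper5.SpMax
  Cfsg.Agent.Lib.Helper5.UForm Cfsg.Agent.Lib.Helper5.HermBridge
  Cfsg.Agent.Lib.Helper5.SUGen Cfsg.Agent.Lib.Helper5.SUMax

section Fld
variable {F : Type*} [Field F] [Fintype F] {q : ℕ}

lemma card_sub (hF : Fintype.card F = q ^ 2) (F₀ : Subfield F)
    (hcard : Fintype.card F = Nat.card F₀ ^ 2) : Nat.card F₀ = q := by
  have h : Nat.card F₀ ^ 2 = q ^ 2 := by rw [← hcard, hF]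
  exact Nat.pow_left_injective (by norm_num : (2 : ℕ) ≠ 0) h

lemma pow_of_mem (F₀ : Subfield F) (hq : Nat.card F₀ = q) {x : F} (hx : x ∈ F₀) : x ^ q = x := by
  classical
  letI : Fintype F₀ := Fintype.ofFinite F₀
  have h := FiniteField.pow_card (⟨x, hx⟩ : F₀)
  rw [← Nat.card_eq_fintype_card, hq] at h
  have h2 := congrArg (fun y : F₀ => (y : F)) h
  simpa using h2

lemma mem_of_pow (hF : Fintype.card F = q ^ 2) (F₀ : Subfield F) (hq : Nat.card F₀ = q) {x : F}
    (hx : x ^ q = x) : x ∈ F₀ := by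
  classical
  have hq2 := herm_two_le hF
  by_contra hxn
  letI : Fintype F₀ := Fintype.ofFinite F₀
  have hp0 : (Polynomial.X ^ q - Polynomial.X : Polynomial F) ≠ 0 :=
    FiniteField.X_pow_card_sub_X_ne_zero F (by omega)
  have hdeg : (Polynomial.X ^ q - Polynomial.X : Polynomial F).natDegree = q :=
    FiniteField.X_pow_card_sub_X_natDegree_eq F (by omega)
  have hroot : ∀ y : F, y ^ q = y →
      y ∈ (Polynomial.X ^ q - Polynomial.X : Polynomial F).roots.toFinset := by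
    intro y hy
    rw [Multiset.mem_toFinset, Polynomial.mem_roots hp0, Polynomial.IsRoot.def,
      Polynomial.eval_sub, Polynomial.eval_pow, Polynomial.eval_X, hy, sub_self]
  have hS : insert x (Finset.univ.image (fun y : F₀ => (y : F))) ⊆
      (Polynomial.X ^ q - Polynomial.X : Polynomial F).roots.toFinset := by
    intro y hy
    rcases Finset.mem_insert.mp hy with hyx | hy
    · rw [hyx]; exact hroot _ hx
    · obtain ⟨z, -, rfl⟩ := Finset.mem_image.mp hy
      exact hroot _ (pow_of_mem F₀ hq z.2)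
  have h1 : (insert x (Finset.univ.image (fun y : F₀ => (y : F)))).card = q + 1 := by
    rw [Finset.card_insert_of_notMem, Finset.card_image_of_injective _ Subtype.val_injective,
      Finset.card_univ, ← Nat.card_eq_fintype_card, hq]
    intro hmem
    obtain ⟨z, -, hz⟩ := Finset.mem_image.mp hmem
    exact hxn (hz ▸ z.2)
  have h2 : (Polynomial.X ^ q - Polynomial.X : Polynomial F).roots.toFinset.card ≤ q :=
    (Multiset.toFinset_card_le _).trans ((Polynomial.card_roots' _).trans_eq hdeg)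
  have h3 := Finset.card_le_card hS
  omega

lemma mem_iff (hF : Fintype.card F = q ^ 2) (F₀ : Subfield F) (hq : Nat.card F₀ = q) (x : F) :
    x ∈ F₀ ↔ frobQ hF x = x := by
  rw [frobQ_apply]
  exact ⟨pow_of_mem F₀ hq, mem_of_pow hF F₀ hq⟩

lemma exists_moved' (hF : Fintype.card F = q ^ 2) : ∃ ω : F, frobQ hF ω ≠ ω := by
  by_contra hcon
  push Not at hcon
  exact (herm_unitary (n := 1) hF).ne_refl (RingEquiv.ext hcon)

lemma decomp_field (hF : Fintype.card F = q ^ 2) (F₀ : Subfield F) (hq : Nat.card F₀ = q) {ω : F}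
    (hω : frobQ hF ω ≠ ω) (a : F) : ∃ α β : F, α ∈ F₀ ∧ β ∈ F₀ ∧ a = α + ω * β := by
  have hinv : ∀ x, frobQ hF (frobQ hF x) = x := fun x => pow_q_pow_q hF x
  have hd : ω - frobQ hF ω ≠ 0 := sub_ne_zero.mpr (Ne.symm hω)
  obtain ⟨β, hβ⟩ : ∃ β, β = (a - frobQ hF a) / (ω - frobQ hF ω) := ⟨_, rfl⟩
  have hβ' : β * (ω - frobQ hF ω) = a - frobQ hF a := by
    rw [hβ, div_mul_cancel₀ _ hd]
  have hβfix : frobQ hF β = β := by
    have h1 := congrArg (frobQ hF) hβ'
    rw [map_mul, map_sub, map_sub, hinv, hinv] at h1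
    have h2 : (frobQ hF β - β) * (ω - frobQ hF ω) = 0 := by linear_combination -h1 - hβ'
    rcases mul_eq_zero.mp h2 with h | h
    · exact sub_eq_zero.mp h
    · exact absurd h hd
  refine ⟨a - ω * β, β, ?_, ?_, by ring⟩
  · rw [mem_iff hF F₀ hq, map_sub, map_mul, hβfix]
    linear_combination hβ'
  · rw [mem_iff hF F₀ hq]; exact hβfix

end Fld

section Rat
variable {F : Type*} [Field F] {n : ℕ} (F₀ : Subfield F) (P : GL (Fin n) F)

/-- the vectors `P u` with `u` having entries in `F₀` -/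
def IsRat (x : Fin n → F) : Prop :=
  ∀ i, (((P⁻¹ : GL (Fin n) F) : Matrix (Fin n) (Fin n) F) *ᵥ x) i ∈ F₀

variable {F₀ P}

lemma isRat_zero : IsRat F₀ P 0 := by
  intro i
  rw [Matrix.mulVec_zero]
  exact F₀.zero_mem

lemma isRat_add {x y : Fin n → F} (hx : IsRat F₀ P x) (hy : IsRat F₀ P y) :
    IsRat F₀ P (x + y) := by
  intro i
  rw [Matrix.mulVec_add]
  exact F₀.add_mem (hx i) (hy i)

lemma isRat_neg {x : Fin n → F} (hx : IsRat F₀ P x) : IsRat F₀ P (-x) := by
  intro i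
  rw [Matrix.mulVec_neg]
  exact F₀.neg_mem (hx i)

lemma isRat_sub {x y : Fin n → F} (hx : IsRat F₀ P x) (hy : IsRat F₀ P y) :
    IsRat F₀ P (x - y) := by
  rw [sub_eq_add_neg]
  exact isRat_add hx (isRat_neg hy)

lemma isRat_smul {c : F} (hc : c ∈ F₀) {x : Fin n → F} (hx : IsRat F₀ P x) :
    IsRat F₀ P (c • x) := by
  intro i
  rw [Matrix.mulVec_smul]
  exact F₀.mul_mem hc (hx i)

lemma isRat_mulVec {u : Fin n → F} (hu : ∀ i, u i ∈ F₀) :
    IsRat F₀ P ((P : Matrix (Fin n) (Fin n) F) *ᵥ u) := by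
  intro i
  rw [inv_mul_mulVec]
  exact hu i

lemma isRat_single (j : Fin n) :
    IsRat F₀ P ((P : Matrix (Fin n) (Fin n) F) *ᵥ (Pi.single j 1 : Fin n → F)) := by
  apply isRat_mulVec
  intro i
  by_cases h : i = j
  · subst h; rw [Pi.single_eq_same]; exact F₀.one_mem
  · rw [Pi.single_eq_of_ne h]; exact F₀.zero_mem

lemma mem_subfield_conj (g : GL (Fin n) F) :
    g ∈ Cfsg.Geo.subfieldSubgroup F₀ P ↔
      P⁻¹ * g * P ∈ Cfsg.Geo.subfieldSubgroup F₀ (1 : GL (Fin n) F) := by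
  unfold Cfsg.Geo.subfieldSubgroup
  have h1 : (MulAut.conj (1 : GL (Fin n) F)).toMonoidHom = MonoidHom.id _ := by
    ext g
    simp
  rw [h1, Subgroup.map_id, Subgroup.mem_map]
  constructor
  · rintro ⟨y, hy, rfl⟩
    have : P⁻¹ * ((MulAut.conj P).toMonoidHom y) * P = y := by
      change P⁻¹ * (P * y * P⁻¹) * P = y
      group
    rw [this]
    exact hy
  · intro h
    refine ⟨_, h, ?_⟩
    change P * (P⁻¹ * g * P) * P⁻¹ = g
    group

lemma mem_subfield_of_entries (g : GL (Fin n) F) (μ : F) (hμ : μ ≠ 0)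
    (hent : ∀ i j, ∃ a ∈ F₀,
      ((P⁻¹ * g * P : GL (Fin n) F) : Matrix (Fin n) (Fin n) F) i j = μ * a) :
    g ∈ Cfsg.Geo.subfieldSubgroup F₀ P := by
  rw [mem_subfield_conj, Cfsg.Agent.Lib.Helper9.SubfieldA.mem_subfield_iff]
  choose A₀ hA₀mem hA₀ using hent
  obtain ⟨A₀', hA₀'⟩ : ∃ A₀' : Matrix (Fin n) (Fin n) F₀, A₀' = fun i j => ⟨A₀ i j, hA₀mem i j⟩ :=
    ⟨_, rfl⟩
  have hmap : ((P⁻¹ * g * P : GL (Fin n) F) : Matrix (Fin n) (Fin n) F) =
      μ • A₀'.map (F₀.subtype : F₀ →+* F) := by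
    ext i j
    rw [hA₀ i j, Matrix.smul_apply, Matrix.map_apply, hA₀', smul_eq_mul]
    rfl
  have hdet0 : ((P⁻¹ * g * P : GL (Fin n) F) : Matrix (Fin n) (Fin n) F).det ≠ 0 := by
    apply Matrix.det_ne_zero_of_right_inverse
      (B := (((P⁻¹ * g * P)⁻¹ : GL (Fin n) F) : Matrix (Fin n) (Fin n) F))
    rw [← Units.val_mul, mul_inv_cancel, Units.val_one]
  have hdet : A₀'.det ≠ 0 := by
    intro h0
    apply hdet0
    rw [hmap, Matrix.det_smul]
    have : (A₀'.map (F₀.subtype : F₀ →+* F)).det = (F₀.subtype : F₀ →+* F) A₀'.det := by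
      rw [RingHom.map_det]
      rfl
    rw [this, h0, map_zero, mul_zero]
  refine ⟨Matrix.GeneralLinearGroup.mkOfDetNeZero A₀' hdet, Units.mk0 μ hμ, ?_⟩
  rw [hmap]
  rfl

lemma rat_of_mem_subfield (g : GL (Fin n) F) (hg : g ∈ Cfsg.Geo.subfieldSubgroup F₀ P) :
    ∃ μ : F, μ ≠ 0 ∧ ∀ x, IsRat F₀ P x →
      ∃ r, IsRat F₀ P r ∧ (g : Matrix (Fin n) (Fin n) F) *ᵥ x = μ • r := by
  rw [mem_subfield_conj, Cfsg.Agent.Lib.Helper9.SubfieldA.mem_subfield_iff] at hg
  obtain ⟨a, c, hac⟩ := hg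
  refine ⟨(c : F), c.ne_zero, fun x hx => ?_⟩
  refine ⟨(P : Matrix (Fin n) (Fin n) F) *ᵥ
    (((a : Matrix (Fin n) (Fin n) F₀).map (F₀.subtype : F₀ →+* F)) *ᵥ
      (((P⁻¹ : GL (Fin n) F) : Matrix (Fin n) (Fin n) F) *ᵥ x)), ?_, ?_⟩
  · apply isRat_mulVec
    intro i
    rw [Matrix.mulVec, dotProduct]
    apply F₀.sum_mem
    intro j _
    apply F₀.mul_mem
    · rw [Matrix.map_apply]
      exact ((a : Matrix (Fin n) (Fin n) F₀) i j).2
    · exact hx j
  · have h1 : (g : Matrix (Fin n) (Fin n) F) *ᵥ x = (P : Matrix (Fin n) (Fin n) F) *ᵥ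
        (((P⁻¹ * g * P : GL (Fin n) F) : Matrix (Fin n) (Fin n) F) *ᵥ
          (((P⁻¹ : GL (Fin n) F) : Matrix (Fin n) (Fin n) F) *ᵥ x)) := by
      rw [Units.val_mul, Units.val_mul, ← Matrix.mulVec_mulVec, ← Matrix.mulVec_mulVec,
        mul_inv_mulVec, mul_inv_mulVec]
    rw [h1, hac, Matrix.smul_mulVec, Matrix.mulVec_smul]

/-- a vector identity giving rationality of a ratio -/
lemma ratio_mem (wj wl w' : Fin n → F) (hj : ∀ i, wj i ∈ F₀) (hl : ∀ i, wl i ∈ F₀)
    (h' : ∀ i, w' i ∈ F₀) (hind : ∀ s t : F, s • wj + t • wl = 0 → s = 0 ∧ t = 0) (α β : F)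
    (h : α • wj + wl = β • w') : α ∈ F₀ := by
  have hw'0 : ∃ a₀, w' a₀ ≠ 0 := by
    by_contra hcon
    push Not at hcon
    have hw' : w' = 0 := funext hcon
    rw [hw', smul_zero] at h
    have := (hind α 1 (by rw [one_smul]; exact h)).2
    exact one_ne_zero this
  obtain ⟨a₀, ha₀⟩ := hw'0
  have hc : ∀ b, α * wj b + wl b = β * w' b := fun b => by
    have := congrFun h b
    simpa using this
  have hrel : ∀ b, α * (wj b * w' a₀ - wj a₀ * w' b) = wl a₀ * w' b - wl b * w' a₀ := by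
    intro b
    linear_combination w' a₀ * hc b - w' b * hc a₀
  by_cases hm : ∃ b, wj b * w' a₀ - wj a₀ * w' b ≠ 0
  · obtain ⟨b, hb⟩ := hm
    have hα : α = (wl a₀ * w' b - wl b * w' a₀) / (wj b * w' a₀ - wj a₀ * w' b) := by
      rw [eq_div_iff hb]; exact hrel b
    rw [hα]
    exact F₀.div_mem (F₀.sub_mem (F₀.mul_mem (hl _) (h' _)) (F₀.mul_mem (hl _) (h' _)))
      (F₀.sub_mem (F₀.mul_mem (hj _) (h' _)) (F₀.mul_mem (hj _) (h' _)))
  · exfalso
    push Not at hm
    have hl0 : ∀ b, wl a₀ * w' b - wl b * w' a₀ = 0 := by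
      intro b
      rw [← hrel b, hm b, mul_zero]
    have h1 : (wl a₀) • wj + (-(wj a₀)) • wl = 0 := by
      funext b
      simp only [Pi.add_apply, Pi.smul_apply, smul_eq_mul, Pi.zero_apply]
      have e1 := hm b
      have e2 := hl0 b
      have : w' a₀ * (wl a₀ * wj b + -(wj a₀) * wl b) = 0 := by
        linear_combination wl a₀ * e1 + wj a₀ * e2
      rcases mul_eq_zero.mp this with h0 | h0
      · exact absurd h0 ha₀
      · exact h0
    obtain ⟨e1, e2⟩ := hind _ _ h1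
    have hwj0 : wj = 0 := by
      funext b
      have := hm b
      rw [neg_eq_zero] at e2
      rw [e2, zero_mul, sub_zero] at this
      rcases mul_eq_zero.mp this with h0 | h0
      · exact h0
      · exact absurd h0 ha₀
    have := (hind 1 0 (by rw [hwj0, smul_zero, zero_smul, add_zero])).1
    exact one_ne_zero this

lemma mem_subfield_of_maps (hn : 0 < n) (g : GL (Fin n) F)
    (hmap : ∀ x, IsRat F₀ P x → ∃ (κ : F) (r : Fin n → F), IsRat F₀ P r ∧
      (g : Matrix (Fin n) (Fin n) F) *ᵥ x = κ • r) :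
    g ∈ Cfsg.Geo.subfieldSubgroup F₀ P := by
  obtain ⟨A, hA⟩ : ∃ A : GL (Fin n) F, A = P⁻¹ * g * P := ⟨_, rfl⟩
  -- action of A on rational coordinate vectors
  have hAu : ∀ u : Fin n → F, (∀ i, u i ∈ F₀) → ∃ (κ : F) (w : Fin n → F), (∀ i, w i ∈ F₀) ∧
      (A : Matrix (Fin n) (Fin n) F) *ᵥ u = κ • w := by
    intro u hu
    obtain ⟨κ, r, hr, hgr⟩ := hmap _ (isRat_mulVec (F₀ := F₀) (P := P) hu)
    refine ⟨κ, ((P⁻¹ : GL (Fin n) F) : Matrix (Fin n) (Fin n) F) *ᵥ r, hr, ?_⟩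
    rw [hA, Units.val_mul, Units.val_mul, ← Matrix.mulVec_mulVec, ← Matrix.mulVec_mulVec, hgr,
      Matrix.mulVec_smul]
  have hinj : ∀ u : Fin n → F, (A : Matrix (Fin n) (Fin n) F) *ᵥ u = 0 → u = 0 := by
    intro u hu
    have := inv_mul_mulVec A u
    rw [hu, Matrix.mulVec_zero] at this
    exact this.symm
  have hsingle_mem : ∀ j i : Fin n, (Pi.single j 1 : Fin n → F) i ∈ F₀ := by
    intro j i
    by_cases h : i = j
    · subst h; rw [Pi.single_eq_same]; exact F₀.one_mem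
    · rw [Pi.single_eq_of_ne h]; exact F₀.zero_mem
  have hcol : ∀ j, ∃ (κ : F) (w : Fin n → F), (∀ i, w i ∈ F₀) ∧
      (A : Matrix (Fin n) (Fin n) F) *ᵥ (Pi.single j 1 : Fin n → F) = κ • w :=
    fun j => hAu _ (hsingle_mem j)
  choose κ w hw hκw using hcol
  have hκ0 : ∀ j, κ j ≠ 0 := by
    intro j h0
    have := hinj _ (by rw [hκw j, h0, zero_smul])
    have h1 := congrFun this j
    rw [Pi.single_eq_same] at h1
    exact one_ne_zero h1
  obtain ⟨l, hl⟩ : ∃ l : Fin n, l = ⟨0, hn⟩ := ⟨_, rfl⟩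
  have hratio : ∀ j, κ j / κ l ∈ F₀ := by
    intro j
    by_cases hjl : j = l
    · rw [hjl, div_self (hκ0 l)]; exact F₀.one_mem
    obtain ⟨κ', w', hw', hκ'⟩ := hAu (Pi.single j 1 + Pi.single l 1)
      (fun i => F₀.add_mem (hsingle_mem j i) (hsingle_mem l i))
    rw [Matrix.mulVec_add, hκw j, hκw l] at hκ'
    apply ratio_mem (w j) (w l) w' (hw j) (hw l) hw' ?_ (κ j / κ l) (κ' / κ l)
    · have : κ l • ((κ j / κ l) • w j + w l) = κ l • ((κ' / κ l) • w') := by
        rw [smul_add, smul_smul, smul_smul, mul_div_cancel₀ _ (hκ0 l),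
          mul_div_cancel₀ _ (hκ0 l)]
        exact hκ'
      exact smul_right_injective _ (hκ0 l) this
    · intro s t hst
      have h2 : (A : Matrix (Fin n) (Fin n) F) *ᵥ
          ((s / κ j) • (Pi.single j 1 : Fin n → F) + (t / κ l) • Pi.single l 1) = 0 := by
        rw [Matrix.mulVec_add, Matrix.mulVec_smul, Matrix.mulVec_smul, hκw j, hκw l, smul_smul,
          smul_smul, div_mul_cancel₀ _ (hκ0 j), div_mul_cancel₀ _ (hκ0 l)]
        exact hst
      have h3 := hinj _ h2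
      have e1 := congrFun h3 j
      have e2 := congrFun h3 l
      simp only [Pi.add_apply, Pi.smul_apply, Pi.single_eq_same, Pi.single_eq_of_ne hjl,
        Pi.single_eq_of_ne (Ne.symm hjl), smul_eq_mul, mul_one, mul_zero, add_zero, zero_add,
        Pi.zero_apply] at e1 e2
      refine ⟨?_, ?_⟩
      · rcases div_eq_zero_iff.mp e1 with h0 | h0
        · exact h0
        · exact absurd h0 (hκ0 j)
      · rcases div_eq_zero_iff.mp e2 with h0 | h0
        · exact h0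
        · exact absurd h0 (hκ0 l)
  apply mem_subfield_of_entries g (κ l) (hκ0 l)
  intro i j
  refine ⟨(κ j / κ l) * w j i, F₀.mul_mem (hratio j) (hw j i), ?_⟩
  have h1 : ((P⁻¹ * g * P : GL (Fin n) F) : Matrix (Fin n) (Fin n) F) i j =
      ((A : Matrix (Fin n) (Fin n) F) *ᵥ (Pi.single j 1 : Fin n → F)) i := by
    rw [← hA]
    simp [Matrix.mulVec, dotProduct, Pi.single_apply]
  rw [h1, hκw j, Pi.smul_apply, smul_eq_mul, ← mul_assoc, mul_div_cancel₀ _ (hκ0 l)]

end Rat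

end Cfsg.Agent.Lib.Helper5.USub
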