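import Mathlib
import Cfsg.Agent.Lib.Helper5.USubA
import Cfsg.Agent.Lib.Helper5.TMCalc

/-!
Subfield subgroups of `SL_n(F)`: coordinate functionals and basis vectors for a change of basis `P`,
rational transvections, the algebra of coefficients of the elementary transvections of an overgroup,
and change of the rational basis.
-/

set_option autoImplicit false
set_option linter.unusedSectionVars false
set_option linter.unusedVariables false
set_option linter.unusedSimpArgs false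

namespace Cfsg.Agent.Lib.Helper5.LSub
open Cfsg Matrix Cfsg.Agent.Lib.Helper5.SpMax Cfsg.Agent.Lib.Helper5.TMCalc
  Cfsg.Agent.Lib.Helper5.USub

section Basic
variable {F : Type*} [Field F] {n : ℕ}

/-- coordinate functional with respect to the basis given by the columns of `P` -/
def cf (P : GL (Fin n) F) (j : Fin n) : (Fin n → F) →ₗ[F] F :=
  LinearMap.proj j ∘ₗ Matrix.toLin' ((P⁻¹ : GL (Fin n) F) : Matrix (Fin n) (Fin n) F)

/-- basis vector: the `i`-th column of `P` -/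
def ev (P : GL (Fin n) F) (i : Fin n) : Fin n → F :=
  (P : Matrix (Fin n) (Fin n) F) *ᵥ (Pi.single i 1 : Fin n → F)

lemma cf_apply (P : GL (Fin n) F) (j : Fin n) (x : Fin n → F) :
    cf P j x = (((P⁻¹ : GL (Fin n) F) : Matrix (Fin n) (Fin n) F) *ᵥ x) j := by
  rw [cf, LinearMap.comp_apply, Matrix.toLin'_apply, LinearMap.proj_apply]

lemma cf_ev (P : GL (Fin n) F) (j i : Fin n) : cf P j (ev P i) = if j = i then 1 else 0 := by
  rw [cf_apply, ev, inv_mul_mulVec, Pi.single_apply]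

lemma cf_ev_same (P : GL (Fin n) F) (i : Fin n) : cf P i (ev P i) = 1 := by
  rw [cf_ev, if_pos rfl]

lemma cf_ev_ne (P : GL (Fin n) F) {j i : Fin n} (h : j ≠ i) : cf P j (ev P i) = 0 := by
  rw [cf_ev, if_neg h]

lemma ev_ne_zero (P : GL (Fin n) F) (i : Fin n) : ev P i ≠ 0 := by
  intro h
  have h3 := cf_ev_same P i
  rw [h, map_zero] at h3
  exact zero_ne_one h3

lemma decomp (P : GL (Fin n) F) (x : Fin n → F) : x = ∑ j, cf P j x • ev P j := by
  have h : ((P⁻¹ : GL (Fin n) F) : Matrix (Fin n) (Fin n) F) *ᵥ x =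
      ∑ j, cf P j x • (Pi.single j (1 : F) : Fin n → F) := by
    ext l
    simp [cf_apply, Finset.sum_apply, Pi.single_apply]
  have h2 := mul_inv_mulVec P x
  rw [h, ← Matrix.toLin'_apply, map_sum] at h2
  refine h2.symm.trans ?_
  apply Finset.sum_congr rfl
  intro j _
  rw [map_smul, Matrix.toLin'_apply]
  rfl

/-- a linear map is determined by the basis -/
lemma lin_decomp {V : Type*} [AddCommGroup V] [Module F V] (P : GL (Fin n) F)
    (Λ : (Fin n → F) →ₗ[F] V) (v : Fin n → F) : Λ v = ∑ m, cf P m v • Λ (ev P m) := by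
  have e : Λ v = Λ (∑ m, cf P m v • ev P m) := by rw [← decomp P v]
  rw [e, map_sum]
  simp only [map_smul]

lemma fun_eq_of_basis (P : GL (Fin n) F) (s : (Fin n → F) →ₗ[F] F) (v : Fin n → F) :
    s v = ∑ l, cf P l v * s (ev P l) := by
  rw [lin_decomp P s v]
  simp only [smul_eq_mul]

lemma lin_apply (φ : (Fin n → F) →ₗ[F] F) (v : Fin n → F) :
    φ v = ∑ c, v c * φ (Pi.single c 1) := by
  have hx : v = ∑ i, v i • (Pi.single i (1 : F) : Fin n → F) := by
    ext j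
    simp [Finset.sum_apply, Pi.single_apply]
  have e : φ v = φ (∑ i, v i • (Pi.single i (1 : F) : Fin n → F)) := by rw [← hx]
  rw [e, map_sum]
  simp only [map_smul, smul_eq_mul]

lemma comp_inv_ne_zero (g : GL (Fin n) F) {s : (Fin n → F) →ₗ[F] F} (hs : s ≠ 0) :
    s ∘ₗ Matrix.toLin' ((g⁻¹ : GL (Fin n) F) : Matrix (Fin n) (Fin n) F) ≠ 0 := by
  intro h0
  apply hs
  apply LinearMap.ext
  intro v
  have := congrArg (fun t : (Fin n → F) →ₗ[F] F => t ((g : Matrix (Fin n) (Fin n) F) *ᵥ v)) h0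
  simpa [LinearMap.comp_apply, Matrix.toLin'_apply, inv_mul_mulVec] using this

lemma exists_notMem (S : Finset (Fin n)) (h : S.card < n) : ∃ c : Fin n, c ∉ S := by
  by_contra hcon
  push Not at hcon
  have hsub : (Finset.univ : Finset (Fin n)) ⊆ S := fun c _ => hcon c
  have h2 := Finset.card_le_card hsub
  rw [Finset.card_univ, Fintype.card_fin] at h2
  omega

lemma exists_ne1 (hn : 2 ≤ n) (a : Fin n) : ∃ c : Fin n, c ≠ a := by
  classical
  obtain ⟨c, hc⟩ := exists_notMem ({a} : Finset (Fin n)) (by rw [Finset.card_singleton]; omega)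
  exact ⟨c, fun h => hc (by rw [h]; simp)⟩

lemma exists_ne2 (hn : 3 ≤ n) (a b : Fin n) : ∃ c : Fin n, c ≠ a ∧ c ≠ b := by
  classical
  obtain ⟨c, hc⟩ := exists_notMem ({a, b} : Finset (Fin n))
    (lt_of_le_of_lt Finset.card_le_two (by omega))
  refine ⟨c, ?_, ?_⟩
  · intro h; apply hc; rw [h]; simp
  · intro h; apply hc; rw [h]; simp

variable (F₀ : Subfield F)

/-- rational functionals -/
def IsRatF (P : GL (Fin n) F) (s : (Fin n → F) →ₗ[F] F) : Prop :=
  ∀ x, IsRat F₀ P x → s x ∈ F₀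

variable {F₀}

lemma isRat_cf {P : GL (Fin n) F} {x : Fin n → F} (hx : IsRat F₀ P x) (l : Fin n) :
    cf P l x ∈ F₀ := by
  rw [cf_apply]
  exact hx l

lemma isRat_of_cf {P : GL (Fin n) F} {x : Fin n → F} (hx : ∀ l, cf P l x ∈ F₀) :
    IsRat F₀ P x := by
  intro l
  rw [← cf_apply]
  exact hx l

lemma isRat_ev (P : GL (Fin n) F) (i : Fin n) : IsRat F₀ P (ev P i) := isRat_single i

lemma isRat_sum {ι : Type*} {P : GL (Fin n) F} (S : Finset ι) (f : ι → (Fin n → F))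
    (h : ∀ i ∈ S, IsRat F₀ P (f i)) : IsRat F₀ P (∑ i ∈ S, f i) := by
  classical
  induction S using Finset.induction_on with
  | empty => simpa using (isRat_zero : IsRat F₀ P 0)
  | insert a S ha ih =>
    rw [Finset.sum_insert ha]
    exact isRat_add (h a (Finset.mem_insert_self _ _))
      (ih fun i hi => h i (Finset.mem_insert_of_mem hi))

lemma isRatF_of_basis {P : GL (Fin n) F} {s : (Fin n → F) →ₗ[F] F}
    (h : ∀ j, s (ev P j) ∈ F₀) : IsRatF F₀ P s := by
  intro x hx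
  rw [fun_eq_of_basis P s x]
  apply F₀.sum_mem
  intro j _
  exact F₀.mul_mem (isRat_cf hx j) (h j)

lemma isRatF_cf (P : GL (Fin n) F) (j : Fin n) : IsRatF F₀ P (cf P j) :=
  fun x hx => isRat_cf hx j

lemma isRatF_smul {P : GL (Fin n) F} {c : F} (hc : c ∈ F₀) {s : (Fin n → F) →ₗ[F] F}
    (hs : IsRatF F₀ P s) : IsRatF F₀ P (c • s) := by
  intro x hx
  rw [LinearMap.smul_apply, smul_eq_mul]
  exact F₀.mul_mem hc (hs x hx)

lemma isRatF_add {P : GL (Fin n) F} {s s' : (Fin n → F) →ₗ[F] F}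
    (hs : IsRatF F₀ P s) (hs' : IsRatF F₀ P s') : IsRatF F₀ P (s + s') := by
  intro x hx
  rw [LinearMap.add_apply]
  exact F₀.add_mem (hs x hx) (hs' x hx)

lemma isRatF_sub {P : GL (Fin n) F} {s s' : (Fin n → F) →ₗ[F] F}
    (hs : IsRatF F₀ P s) (hs' : IsRatF F₀ P s') : IsRatF F₀ P (s - s') := by
  intro x hx
  rw [LinearMap.sub_apply]
  exact F₀.sub_mem (hs x hx) (hs' x hx)

/-- rational transvections lie in the subfield group -/
lemma rat_TM (hn : 0 < n) {P : GL (Fin n) F} {s : (Fin n → F) →ₗ[F] F} {a : Fin n → F}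
    (hs : IsRatF F₀ P s) (ha : IsRat F₀ P a) (h0 : s a = 0) :
    TM (Cfsg.Geo.subfieldSubgroup F₀ P ⊓ Cfsg.Geo.specialLinear (Fin n) F) s a := by
  obtain ⟨g, hgS, hgv⟩ := exists_rank_one s a h0
  refine ⟨h0, g, Subgroup.mem_inf.mpr ⟨?_, hgS⟩, hgv⟩
  apply mem_subfield_of_maps hn g
  intro x hx
  refine ⟨1, x + s x • a, isRat_add hx (isRat_smul (hs x hx) ha), ?_⟩
  rw [hgv, one_smul]

lemma elem_TM (hn : 0 < n) (P : GL (Fin n) F) {i j : Fin n} (hij : i ≠ j) {c : F} (hc : c ∈ F₀) :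
    TM (Cfsg.Geo.subfieldSubgroup F₀ P ⊓ Cfsg.Geo.specialLinear (Fin n) F)
      (c • cf P j) (ev P i) :=
  rat_TM hn (isRatF_smul hc (isRatF_cf P j)) (isRat_ev P i)
    (by rw [LinearMap.smul_apply, cf_ev_ne P (Ne.symm hij), smul_zero])

end Basic

section Alg
variable {F : Type*} [Field F] {n : ℕ} (F₀ : Subfield F) (P : GL (Fin n) F)
  (M : Subgroup (GL (Fin n) F))

/-- coefficients of the elementary transvections of `M` -/
def Cset : Set F := {c | ∀ i j : Fin n, i ≠ j → TM M (c • cf P j) (ev P i)}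

lemma elem_one (hn0 : 0 < n)
    (hHM : Cfsg.Geo.subfieldSubgroup F₀ P ⊓ Cfsg.Geo.specialLinear (Fin n) F ≤ M)
    {i j : Fin n} (hij : i ≠ j) : TM M (cf P j) (ev P i) := by
  have := TM_mono hHM (elem_TM (F₀ := F₀) hn0 P hij F₀.one_mem)
  rwa [one_smul] at this

lemma col_move (hn0 : 0 < n)
    (hHM : Cfsg.Geo.subfieldSubgroup F₀ P ⊓ Cfsg.Geo.specialLinear (Fin n) F ≤ M)
    {i j j' : Fin n} (hij : i ≠ j) (hij' : i ≠ j') {c : F}
    (h : TM M (c • cf P j) (ev P i)) : TM M (c • cf P j') (ev P i) := by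
  by_cases hjj : j' = j
  · rw [hjj]; exact h
  have h' : TM M (cf P j') (ev P j) := elem_one F₀ P M hn0 hHM (Ne.symm hjj)
  have hc := TM_comm h h' (cf_ev_ne P (Ne.symm hij'))
  refine TM_of_eq ?_ hc
  intro v
  simp only [LinearMap.smul_apply, cf_ev_same, smul_eq_mul, mul_one]

lemma row_move (hn0 : 0 < n)
    (hHM : Cfsg.Geo.subfieldSubgroup F₀ P ⊓ Cfsg.Geo.specialLinear (Fin n) F ≤ M)
    {i i' j : Fin n} (hij : i ≠ j) (hij' : i' ≠ j) {c : F}
    (h : TM M (c • cf P j) (ev P i)) : TM M (c • cf P j) (ev P i') := by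
  by_cases hii : i' = i
  · rw [hii]; exact h
  have h' : TM M (cf P i) (ev P i') := elem_one F₀ P M hn0 hHM hii
  have hc := TM_comm h' h
    (by rw [LinearMap.smul_apply, cf_ev_ne P (Ne.symm hij'), smul_zero])
  refine TM_of_eq ?_ hc
  intro v
  simp only [LinearMap.smul_apply, cf_ev_same, smul_eq_mul, one_mul]

lemma spread (hn : 3 ≤ n)
    (hHM : Cfsg.Geo.subfieldSubgroup F₀ P ⊓ Cfsg.Geo.specialLinear (Fin n) F ≤ M)
    {i j : Fin n} (hij : i ≠ j) {c : F} (h : TM M (c • cf P j) (ev P i)) : c ∈ Cset P M := by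
  intro k l hkl
  obtain ⟨l', hl'i, hl'k⟩ := exists_ne2 hn i k
  have h1 := col_move F₀ P M (by omega) hHM hij (Ne.symm hl'i) h
  have h2 := row_move F₀ P M (by omega) hHM (Ne.symm hl'i) (Ne.symm hl'k) h1
  exact col_move F₀ P M (by omega) hHM (Ne.symm hl'k) hkl h2

/-- the coefficients form a subalgebra over `F₀` -/
def Calg (hn : 3 ≤ n)
    (hHM : Cfsg.Geo.subfieldSubgroup F₀ P ⊓ Cfsg.Geo.specialLinear (Fin n) F ≤ M) :
    Subalgebra F₀ F where
  carrier := Cset P M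
  mul_mem' := by
    intro c d hc hd i k hik
    obtain ⟨j, hji, hjk⟩ := exists_ne2 hn i k
    have h1 := hc i j (Ne.symm hji)
    have h2 := hd j k hjk
    have hcm := TM_comm h1 h2
      (by rw [LinearMap.smul_apply, cf_ev_ne P (Ne.symm hik), smul_zero])
    refine TM_of_eq ?_ hcm
    intro v
    simp only [LinearMap.smul_apply, cf_ev_same, smul_eq_mul, mul_one]
    ring
  one_mem' := by
    intro i j hij
    exact TM_mono hHM (elem_TM (F₀ := F₀) (by omega) P hij F₀.one_mem)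
  add_mem' := by
    intro c d hc hd i j hij
    refine TM_of_eq ?_ (TM_add (hc i j hij) (hd i j hij))
    intro v
    simp only [LinearMap.add_apply, LinearMap.smul_apply, smul_eq_mul]
    ring
  zero_mem' := by
    intro i j hij
    rw [zero_smul]
    exact TM_zero_fun M _
  algebraMap_mem' := by
    intro c i j hij
    exact TM_mono hHM (elem_TM (F₀ := F₀) (by omega) P hij c.2)

lemma sl_le_of_top (hn : 2 ≤ n) (hall : ∀ c : F, c ∈ Cset P M) :
    Cfsg.Geo.specialLinear (Fin n) F ≤ M := by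
  intro x hx
  have hdet : (x : Matrix (Fin n) (Fin n) F).det = 1 := by
    have h1 := congrArg Units.val (MonoidHom.mem_ker.mp hx)
    simpa using h1
  have hnt : Nontrivial (Fin n) := Fin.nontrivial_iff_two_le.mpr (by omega)
  obtain ⟨Pm, hPm⟩ : ∃ Pm : Matrix (Fin n) (Fin n) F, Pm = (P : Matrix (Fin n) (Fin n) F) :=
    ⟨_, rfl⟩
  obtain ⟨Pi, hPi⟩ : ∃ Pi : Matrix (Fin n) (Fin n) F,
      Pi = ((P⁻¹ : GL (Fin n) F) : Matrix (Fin n) (Fin n) F) := ⟨_, rfl⟩
  have hPP : Pi * Pm = 1 := by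
    rw [hPi, hPm, ← Units.val_mul, inv_mul_cancel, Units.val_one]
  have hPP' : Pm * Pi = 1 := by
    rw [hPi, hPm, ← Units.val_mul, mul_inv_cancel, Units.val_one]
  have key : ∀ A : Matrix.SpecialLinearGroup (Fin n) F,
      ∃ y ∈ M, (y : Matrix (Fin n) (Fin n) F) = Pm * (A : Matrix (Fin n) (Fin n) F) * Pi := by
    intro A
    refine Cfsg.Agent.Lib.Helper2.sl_transvection_induction
      (fun A => ∃ y ∈ M, (y : Matrix (Fin n) (Fin n) F) =
        Pm * (A : Matrix (Fin n) (Fin n) F) * Pi) ?_ ?_ A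
    · intro i j hij c
      obtain ⟨-, t, htM, htv⟩ := hall c i j hij
      refine ⟨t, htM, ?_⟩
      apply mat_eq_of_mulVec
      intro v
      rw [htv, ← Matrix.mulVec_mulVec, ← Matrix.mulVec_mulVec]
      change _ = Pm *ᵥ (Matrix.transvection i j c *ᵥ (Pi *ᵥ v))
      rw [transvection_mulVec, Matrix.mulVec_add, Matrix.mulVec_smul, LinearMap.smul_apply,
        cf_apply, smul_eq_mul, hPm, hPi, mul_inv_mulVec]
      rfl
    · rintro A B ⟨y, hy, hyA⟩ ⟨z, hz, hzB⟩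
      refine ⟨y * z, M.mul_mem hy hz, ?_⟩
      rw [Units.val_mul, hyA, hzB, Matrix.SpecialLinearGroup.coe_mul]
      calc Pm * (A : Matrix (Fin n) (Fin n) F) * Pi * (Pm * (B : Matrix (Fin n) (Fin n) F) * Pi)
          = Pm * (A : Matrix (Fin n) (Fin n) F) * (Pi * Pm) *
              (B : Matrix (Fin n) (Fin n) F) * Pi := by simp only [Matrix.mul_assoc]
        _ = Pm * ((A : Matrix (Fin n) (Fin n) F) * (B : Matrix (Fin n) (Fin n) F)) * Pi := by
            rw [hPP, Matrix.mul_one, Matrix.mul_assoc Pm]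
  have hdet' : (Pi * (x : Matrix (Fin n) (Fin n) F) * Pm).det = 1 := by
    rw [Matrix.det_mul, Matrix.det_mul, hdet, mul_one, ← Matrix.det_mul, hPP, Matrix.det_one]
  obtain ⟨y, hy, hyx⟩ := key ⟨_, hdet'⟩
  have hyx' : y = x := by
    apply Units.ext
    rw [hyx]
    change Pm * (Pi * (x : Matrix (Fin n) (Fin n) F) * Pm) * Pi = _
    calc Pm * (Pi * (x : Matrix (Fin n) (Fin n) F) * Pm) * Pi
        = (Pm * Pi) * (x : Matrix (Fin n) (Fin n) F) * (Pm * Pi) := by
          simp only [Matrix.mul_assoc]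
      _ = (x : Matrix (Fin n) (Fin n) F) := by rw [hPP', Matrix.one_mul, Matrix.mul_one]
  rwa [← hyx']

/-- if `M` is not all of `SL_n(F)`, the coefficients of its elementary transvections lie in `F₀` -/
lemma nr (hn : 3 ≤ n) (hp : (Module.finrank F₀ F).Prime)
    (hHM : Cfsg.Geo.subfieldSubgroup F₀ P ⊓ Cfsg.Geo.specialLinear (Fin n) F ≤ M)
    (hM : ¬ Cfsg.Geo.specialLinear (Fin n) F ≤ M) {i j : Fin n} (hij : i ≠ j) {c : F}
    (h : TM M (c • cf P j) (ev P i)) : c ∈ F₀ := by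
  have := Subalgebra.isSimpleOrder_of_finrank_prime F₀ F hp
  have hc : c ∈ Calg F₀ P M hn hHM := spread F₀ P M hn hHM hij h
  rcases eq_bot_or_eq_top (Calg F₀ P M hn hHM) with hbot | htop
  · rw [hbot, Algebra.mem_bot] at hc
    obtain ⟨c₀, rfl⟩ := hc
    exact c₀.2
  · exfalso
    apply hM
    apply sl_le_of_top P M (by omega)
    intro d
    have hd : d ∈ Calg F₀ P M hn hHM := by rw [htop]; exact Algebra.mem_top
    exact hd

end Alg

section Change
variable {F : Type*} [Field F] {n : ℕ}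

lemma rank_one_gl (w r : Fin n → F) (h : 1 + r ⬝ᵥ w ≠ 0) :
    ∃ B : GL (Fin n) F, ∀ v, (B : Matrix (Fin n) (Fin n) F) *ᵥ v = v + (r ⬝ᵥ v) • w := by
  set M : Matrix (Fin n) (Fin n) F := 1 + Matrix.vecMulVec w r with hM
  have hdet : M.det = 1 + r ⬝ᵥ w := by
    have h1 : M = 1 + Matrix.replicateCol Unit w * Matrix.replicateRow Unit r := by
      rw [hM]; congr 1
      ext i j; simp [Matrix.vecMulVec_apply, Matrix.mul_apply]
    rw [h1, Matrix.det_one_add_replicateCol_mul_replicateRow]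
  refine ⟨Matrix.GeneralLinearGroup.mkOfDetNeZero M (by rw [hdet]; exact h), fun v => ?_⟩
  change M *ᵥ v = _
  rw [hM, Matrix.add_mulVec, Matrix.one_mulVec, Matrix.vecMulVec_mulVec]
  congr 1
  ext i
  simp [mul_comm]

variable [Fintype F] (F₀ : Subfield F)

lemma inv_preserves (B : GL (Fin n) F)
    (hB : ∀ v : Fin n → F, (∀ l, v l ∈ F₀) → ∀ l, ((B : Matrix (Fin n) (Fin n) F) *ᵥ v) l ∈ F₀)
    (v : Fin n → F) (hv : ∀ l, v l ∈ F₀) :
    ∀ l, (((B⁻¹ : GL (Fin n) F) : Matrix (Fin n) (Fin n) F) *ᵥ v) l ∈ F₀ := by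
  classical
  let f : {v : Fin n → F // ∀ l, v l ∈ F₀} → {v : Fin n → F // ∀ l, v l ∈ F₀} :=
    fun v => ⟨(B : Matrix (Fin n) (Fin n) F) *ᵥ v.1, hB v.1 v.2⟩
  have hinj : Function.Injective f := by
    intro a b hab
    apply Subtype.ext
    exact mulVec_inj B (congrArg Subtype.val hab)
  have hsurj := Finite.surjective_of_injective hinj
  obtain ⟨w, hw⟩ := hsurj ⟨v, hv⟩
  have hw' : (B : Matrix (Fin n) (Fin n) F) *ᵥ w.1 = v := congrArg Subtype.val hw
  rw [← hw', inv_mul_mulVec]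
  exact w.2

lemma isRat_mul_iff (P B : GL (Fin n) F)
    (hB : ∀ v : Fin n → F, (∀ l, v l ∈ F₀) → ∀ l, ((B : Matrix (Fin n) (Fin n) F) *ᵥ v) l ∈ F₀)
    (x : Fin n → F) : IsRat F₀ (P * B) x ↔ IsRat F₀ P x := by
  unfold IsRat
  have e : (((P * B)⁻¹ : GL (Fin n) F) : Matrix (Fin n) (Fin n) F) *ᵥ x =
      ((B⁻¹ : GL (Fin n) F) : Matrix (Fin n) (Fin n) F) *ᵥ
        (((P⁻¹ : GL (Fin n) F) : Matrix (Fin n) (Fin n) F) *ᵥ x) := by
    rw [_root_.mul_inv_rev, Units.val_mul, Matrix.mulVec_mulVec]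
  rw [e]
  constructor
  · intro h
    have := hB _ h
    rwa [mul_inv_mulVec] at this
  · intro h
    exact inv_preserves F₀ B hB _ h

lemma single_mem (i₀ l : Fin n) : (Pi.single i₀ (1 : F) : Fin n → F) l ∈ F₀ := by
  rw [Pi.single_apply]
  split_ifs
  · exact F₀.one_mem
  · exact F₀.zero_mem

lemma exists_adapt_vec (P : GL (Fin n) F) {a : Fin n → F} (ha : IsRat F₀ P a) (ha0 : a ≠ 0) :
    ∃ (P' : GL (Fin n) F) (i₀ : Fin n), (∀ x, IsRat F₀ P' x ↔ IsRat F₀ P x) ∧ ev P' i₀ = a := by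
  obtain ⟨u, hu⟩ : ∃ u : Fin n → F,
      u = ((P⁻¹ : GL (Fin n) F) : Matrix (Fin n) (Fin n) F) *ᵥ a := ⟨_, rfl⟩
  have huF : ∀ l, u l ∈ F₀ := fun l => by rw [hu]; exact ha l
  have hPu : (P : Matrix (Fin n) (Fin n) F) *ᵥ u = a := by rw [hu, mul_inv_mulVec]
  have hu0 : u ≠ 0 := by
    intro h
    apply ha0
    rw [← hPu, h, Matrix.mulVec_zero]
  obtain ⟨i₀, hi₀⟩ : ∃ i₀, u i₀ ≠ 0 := by
    by_contra hcon
    push Not at hcon
    exact hu0 (funext hcon)
  obtain ⟨B, hBv⟩ := rank_one_gl (u - Pi.single i₀ 1) (Pi.single i₀ 1) (by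
    rw [single_dotProduct, one_mul, Pi.sub_apply, Pi.single_eq_same]
    intro h
    apply hi₀
    linear_combination h)
  have hB : ∀ v : Fin n → F, (∀ l, v l ∈ F₀) →
      ∀ l, ((B : Matrix (Fin n) (Fin n) F) *ᵥ v) l ∈ F₀ := by
    intro v hv l
    rw [hBv]
    simp only [Pi.add_apply, Pi.smul_apply, Pi.sub_apply, smul_eq_mul]
    apply F₀.add_mem (hv l)
    apply F₀.mul_mem
    · rw [single_dotProduct, one_mul]; exact hv i₀
    · exact F₀.sub_mem (huF l) (single_mem F₀ i₀ l)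
  refine ⟨P * B, i₀, fun x => isRat_mul_iff F₀ P B hB x, ?_⟩
  unfold ev
  rw [Units.val_mul, ← Matrix.mulVec_mulVec, hBv]
  have e : (Pi.single i₀ 1 : Fin n → F) +
      ((Pi.single i₀ 1 : Fin n → F) ⬝ᵥ (Pi.single i₀ 1 : Fin n → F)) •
        (u - Pi.single i₀ 1) = u := by
    rw [single_dotProduct, one_mul, Pi.single_eq_same, one_smul]
    abel
  rw [e, hPu]

lemma exists_adapt_fun (P : GL (Fin n) F) {s : (Fin n → F) →ₗ[F] F} (hs : IsRatF F₀ P s)
    (hs0 : s ≠ 0) :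
    ∃ (P' : GL (Fin n) F) (i₀ : Fin n), (∀ x, IsRat F₀ P' x ↔ IsRat F₀ P x) ∧ cf P' i₀ = s := by
  obtain ⟨c, hc⟩ : ∃ c : Fin n → F, c = fun l => s (ev P l) := ⟨_, rfl⟩
  have hcF : ∀ l, c l ∈ F₀ := fun l => by rw [hc]; exact hs _ (isRat_ev P l)
  have hsx : ∀ x, s x = c ⬝ᵥ (((P⁻¹ : GL (Fin n) F) : Matrix (Fin n) (Fin n) F) *ᵥ x) := by
    intro x
    rw [fun_eq_of_basis P s x, dotProduct]
    apply Finset.sum_congr rfl
    intro l _
    rw [cf_apply, hc, mul_comm]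
  obtain ⟨i₀, hi₀⟩ : ∃ i₀, c i₀ ≠ 0 := by
    by_contra hcon
    push Not at hcon
    apply hs0
    apply LinearMap.ext
    intro x
    rw [hsx, LinearMap.zero_apply, dotProduct]
    apply Finset.sum_eq_zero
    intro l _
    rw [hcon l, zero_mul]
  obtain ⟨B, hBv⟩ := rank_one_gl (Pi.single i₀ 1) (c - Pi.single i₀ 1) (by
    rw [dotProduct_single, mul_one, Pi.sub_apply, Pi.single_eq_same]
    intro h
    apply hi₀
    linear_combination h)
  have hB : ∀ v : Fin n → F, (∀ l, v l ∈ F₀) →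
      ∀ l, ((B : Matrix (Fin n) (Fin n) F) *ᵥ v) l ∈ F₀ := by
    intro v hv l
    rw [hBv]
    simp only [Pi.add_apply, Pi.smul_apply, smul_eq_mul]
    apply F₀.add_mem (hv l)
    apply F₀.mul_mem _ (single_mem F₀ i₀ l)
    rw [dotProduct]
    apply F₀.sum_mem
    intro m _
    apply F₀.mul_mem _ (hv m)
    rw [Pi.sub_apply]
    exact F₀.sub_mem (hcF m) (single_mem F₀ i₀ m)
  refine ⟨P * B⁻¹, i₀, fun x => isRat_mul_iff F₀ P B⁻¹ (inv_preserves F₀ B hB) x, ?_⟩
  apply LinearMap.ext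
  intro x
  rw [cf_apply, _root_.mul_inv_rev, inv_inv, Units.val_mul, ← Matrix.mulVec_mulVec, hBv, hsx]
  simp only [Pi.add_apply, Pi.smul_apply, Pi.single_eq_same, smul_eq_mul, mul_one,
    sub_dotProduct, single_dotProduct, one_mul]
  ring

lemma subfield_eq_of_rat (hn : 0 < n) {P P' : GL (Fin n) F}
    (h : ∀ x, IsRat F₀ P' x ↔ IsRat F₀ P x) :
    Cfsg.Geo.subfieldSubgroup F₀ P' = Cfsg.Geo.subfieldSubgroup F₀ P := by
  ext g
  constructor
  · intro hg
    obtain ⟨μ, hμ, hmap⟩ := rat_of_mem_subfield g hg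
    apply mem_subfield_of_maps hn g
    intro x hx
    obtain ⟨r, hr, e⟩ := hmap x ((h x).mpr hx)
    exact ⟨μ, r, (h r).mp hr, e⟩
  · intro hg
    obtain ⟨μ, hμ, hmap⟩ := rat_of_mem_subfield g hg
    apply mem_subfield_of_maps hn g
    intro x hx
    obtain ⟨r, hr, e⟩ := hmap x ((h x).mp hx)
    exact ⟨μ, r, (h r).mpr hr, e⟩

end Change

end Cfsg.Agent.Lib.Helper5.LSub
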