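import Mathlib
import Cfsg.Agent.Lib.Helper5.LSubA

/-!
Subfield subgroups of `SL_n(F)`: a proper overgroup `M` of the subfield group that does not contain
`SL_n(F)` has only rational transvections at rational centres or axes, and an element of `M` mapping
one rational point to a rational point lies in the subfield group.  The case `[F : F₀] < n`.
-/

set_option autoImplicit false
set_option linter.unusedSectionVars false
set_option linter.unusedVariables false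
set_option linter.unusedSimpArgs false

namespace Cfsg.Agent.Lib.Helper5.LSub
open Cfsg Matrix Cfsg.Agent.Lib.Helper5.SpMax Cfsg.Agent.Lib.Helper5.TMCalc
  Cfsg.Agent.Lib.Helper5.USub

variable {F : Type*} [Field F] [Fintype F] {n : ℕ} (F₀ : Subfield F) (P : GL (Fin n) F)
  (M : Subgroup (GL (Fin n) F))

/-- the standing hypotheses on an overgroup `M` -/
def Ctx : Prop :=
  Cfsg.Geo.subfieldSubgroup F₀ P ⊓ Cfsg.Geo.specialLinear (Fin n) F ≤ M ∧
    ¬ Cfsg.Geo.specialLinear (Fin n) F ≤ M ∧ (Module.finrank F₀ F).Prime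

variable {F₀ P M}

lemma Ctx.change (hn : 0 < n) {P' : GL (Fin n) F} (h : Ctx F₀ P M)
    (hP : ∀ x, IsRat F₀ P' x ↔ IsRat F₀ P x) : Ctx F₀ P' M := by
  obtain ⟨h1, h2, h3⟩ := h
  refine ⟨?_, h2, h3⟩
  rw [subfield_eq_of_rat F₀ hn hP]
  exact h1

lemma Ctx.nr (hn : 3 ≤ n) (h : Ctx F₀ P M) {i j : Fin n} (hij : i ≠ j) {c : F}
    (hT : TM M (c • cf P j) (ev P i)) : c ∈ F₀ :=
  Cfsg.Agent.Lib.Helper5.LSub.nr F₀ P M hn h.2.2 h.1 h.2.1 hij hT

lemma Ctx.elem (hn0 : 0 < n) (h : Ctx F₀ P M) {i j : Fin n} (hij : i ≠ j) :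
    TM M (cf P j) (ev P i) := elem_one F₀ P M hn0 h.1 hij

lemma Ctx.rat (hn0 : 0 < n) (h : Ctx F₀ P M) {s : (Fin n → F) →ₗ[F] F} {a : Fin n → F}
    (hs : IsRatF F₀ P s) (ha : IsRat F₀ P a) (h0 : s a = 0) : TM M s a :=
  TM_mono h.1 (rat_TM hn0 hs ha h0)

lemma A_basis (hn : 3 ≤ n) (h : Ctx F₀ P M) {s : (Fin n → F) →ₗ[F] F} {i : Fin n}
    (hT : TM M s (ev P i)) (j : Fin n) : s (ev P j) ∈ F₀ := by
  by_cases hji : j = i
  · rw [hji, hT.1]; exact F₀.zero_mem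
  obtain ⟨k, hki, hkj⟩ := exists_ne2 hn i j
  have h' : TM M (cf P k) (ev P j) := h.elem (by omega) (Ne.symm hkj)
  have hc := TM_comm hT h' (cf_ev_ne P hki)
  exact h.nr hn (Ne.symm hki) hc

lemma Astar_basis (hn : 3 ≤ n) (h : Ctx F₀ P M) {j : Fin n} {y : Fin n → F}
    (hT : TM M (cf P j) y) : IsRat F₀ P y := by
  apply isRat_of_cf
  intro k
  by_cases hkj : k = j
  · rw [hkj, hT.1]; exact F₀.zero_mem
  obtain ⟨i, hij, hik⟩ := exists_ne2 hn j k
  have h' : TM M (cf P k) (ev P i) := h.elem (by omega) hik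
  have hc := TM_comm h' hT (cf_ev_ne P (Ne.symm hij))
  exact h.nr hn hij hc

lemma C_basis (hn : 3 ≤ n) (h : Ctx F₀ P M) {s' : (Fin n → F) →ₗ[F] F} {y : Fin n → F}
    {i₀ : Fin n} (hT : TM M s' y) (hs' : s' ≠ 0) (hy : cf P i₀ y = 0) :
    ∃ c : F, c ≠ 0 ∧ IsRat F₀ P (c • y) := by
  by_cases hex : ∃ l, l ≠ i₀ ∧ s' (ev P l) ≠ 0
  · obtain ⟨l, hl, hsl⟩ := hex
    have h' : TM M (cf P i₀) (ev P l) := h.elem (by omega) hl
    have hc := TM_comm hT h' hy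
    exact ⟨_, hsl, Astar_basis hn h (TM_smul_center hc)⟩
  · push Not at hex
    have hs'eq : ∀ v, s' v = (s' (ev P i₀) • cf P i₀) v := by
      intro v
      rw [fun_eq_of_basis P s' v, LinearMap.smul_apply, smul_eq_mul, Finset.sum_eq_single i₀]
      · ring
      · intro l _ hl
        rw [hex l hl, mul_zero]
      · intro hni
        exact absurd (Finset.mem_univ _) hni
    have hc0 : s' (ev P i₀) ≠ 0 := by
      intro h0
      apply hs'
      apply LinearMap.ext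
      intro v
      rw [hs'eq v, h0, zero_smul]
    exact ⟨_, hc0, Astar_basis hn h (TM_smul_center (TM_of_eq hs'eq hT))⟩

lemma A_gen (hn : 3 ≤ n) (h : Ctx F₀ P M) {a : Fin n → F} (ha : IsRat F₀ P a) (ha0 : a ≠ 0)
    {s : (Fin n → F) →ₗ[F] F} (hT : TM M s a) : IsRatF F₀ P s := by
  obtain ⟨P', i₀, hP', he⟩ := exists_adapt_vec F₀ P ha ha0
  have h' := h.change (by omega) hP'
  rw [← he] at hT
  have hb := A_basis hn h' hT
  intro x hx
  exact isRatF_of_basis hb x ((hP' x).mpr hx)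

lemma Astar_gen (hn : 3 ≤ n) (h : Ctx F₀ P M) {s : (Fin n → F) →ₗ[F] F}
    (hs : IsRatF F₀ P s) (hs0 : s ≠ 0) {y : Fin n → F} (hT : TM M s y) : IsRat F₀ P y := by
  obtain ⟨P', i₀, hP', he⟩ := exists_adapt_fun F₀ P hs hs0
  rw [← he] at hT
  exact (hP' y).mp (Astar_basis hn (h.change (by omega) hP') hT)

lemma C_gen (hn : 3 ≤ n) (h : Ctx F₀ P M) {s' : (Fin n → F) →ₗ[F] F} {y : Fin n → F}
    (hT : TM M s' y) (hs' : s' ≠ 0) {s₁ : (Fin n → F) →ₗ[F] F} (hs₁ : IsRatF F₀ P s₁)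
    (hs₁0 : s₁ ≠ 0) (hy : s₁ y = 0) : ∃ c : F, c ≠ 0 ∧ IsRat F₀ P (c • y) := by
  obtain ⟨P', i₀, hP', he⟩ := exists_adapt_fun F₀ P hs₁ hs₁0
  rw [← he] at hy
  obtain ⟨c, hc, hr⟩ := C_basis hn (h.change (by omega) hP') hT hs' hy
  exact ⟨c, hc, (hP' _).mp hr⟩

lemma exists_ratF_kill (hn : 2 ≤ n) {a : Fin n → F} (ha : IsRat F₀ P a) :
    ∃ s : (Fin n → F) →ₗ[F] F, IsRatF F₀ P s ∧ s ≠ 0 ∧ s a = 0 := by
  by_cases ha0 : a = 0
  · refine ⟨cf P ⟨0, by omega⟩, isRatF_cf P _, ?_, by rw [ha0, map_zero]⟩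
    intro h0
    have h1 := cf_ev_same P (⟨0, by omega⟩ : Fin n)
    rw [h0, LinearMap.zero_apply] at h1
    exact zero_ne_one h1
  · obtain ⟨P', i₀, hP', he⟩ := exists_adapt_vec F₀ P ha ha0
    obtain ⟨l, hl⟩ := exists_ne1 hn i₀
    refine ⟨cf P' l, ?_, ?_, ?_⟩
    · intro x hx
      exact isRatF_cf P' l x ((hP' x).mpr hx)
    · intro h0
      have h1 := cf_ev_same P' l
      rw [h0, LinearMap.zero_apply] at h1
      exact zero_ne_one h1
    · rw [← he, cf_ev_ne P' hl]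

lemma L5_basis (hn : 3 ≤ n) (h : Ctx F₀ P M) {g : GL (Fin n) F} (hg : g ∈ M) {i₀ : Fin n} {c : F}
    (hc : c ≠ 0)
    (hy : IsRat F₀ P (c • ((g : Matrix (Fin n) (Fin n) F) *ᵥ ev P i₀))) :
    g ∈ Cfsg.Geo.subfieldSubgroup F₀ P := by
  obtain ⟨y₀, hy₀⟩ : ∃ y₀ : Fin n → F,
      y₀ = c • ((g : Matrix (Fin n) (Fin n) F) *ᵥ ev P i₀) := ⟨_, rfl⟩
  rw [← hy₀] at hy
  have hge : (g : Matrix (Fin n) (Fin n) F) *ᵥ ev P i₀ = c⁻¹ • y₀ := by
    rw [hy₀, smul_smul, inv_mul_cancel₀ hc, one_smul]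
  have hy₀0 : y₀ ≠ 0 := by
    intro h0
    have h1 : (g : Matrix (Fin n) (Fin n) F) *ᵥ ev P i₀ = 0 := by rw [hge, h0, smul_zero]
    have h2 := inv_mul_mulVec g (ev P i₀)
    rw [h1, Matrix.mulVec_zero] at h2
    exact ev_ne_zero P i₀ h2.symm
  have hA : ∀ l, l ≠ i₀ → IsRatF F₀ P
      (c⁻¹ • (cf P l ∘ₗ Matrix.toLin' ((g⁻¹ : GL (Fin n) F) : Matrix (Fin n) (Fin n) F))) := by
    intro l hl
    have h1 : TM M (cf P l) (ev P i₀) := h.elem (by omega) (Ne.symm hl)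
    have h2 := TM_conj hg h1
    rw [hge] at h2
    exact A_gen hn h hy hy₀0 (TM_center_smul h2)
  apply mem_subfield_of_maps (by omega) g
  intro x hx
  by_cases hall : ∀ l, l ≠ i₀ → cf P l x = 0
  · refine ⟨cf P i₀ x * c⁻¹, y₀, hy, ?_⟩
    have hx' : x = cf P i₀ x • ev P i₀ := by
      refine (decomp P x).trans ?_
      rw [Finset.sum_eq_single i₀]
      · intro l _ hl
        rw [hall l hl, zero_smul]
      · intro hni
        exact absurd (Finset.mem_univ _) hni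
    calc (g : Matrix (Fin n) (Fin n) F) *ᵥ x
        = (g : Matrix (Fin n) (Fin n) F) *ᵥ (cf P i₀ x • ev P i₀) := by rw [← hx']
      _ = (cf P i₀ x * c⁻¹) • y₀ := by rw [Matrix.mulVec_smul, hge, smul_smul]
  · push Not at hall
    obtain ⟨l, hl, hul⟩ := hall
    obtain ⟨l', hl'i, hl'l⟩ := exists_ne2 hn i₀ l
    obtain ⟨s₀, hs₀⟩ : ∃ s₀ : (Fin n → F) →ₗ[F] F,
        s₀ = cf P l' x • cf P l - cf P l x • cf P l' := ⟨_, rfl⟩
    have hs₀R : IsRatF F₀ P s₀ := by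
      rw [hs₀]
      exact isRatF_sub (isRatF_smul (isRat_cf hx l') (isRatF_cf P l))
        (isRatF_smul (isRat_cf hx l) (isRatF_cf P l'))
    have hs₀x : s₀ x = 0 := by
      rw [hs₀, LinearMap.sub_apply, LinearMap.smul_apply, LinearMap.smul_apply, smul_eq_mul,
        smul_eq_mul]
      ring
    have hs₀l' : s₀ (ev P l') = - cf P l x := by
      rw [hs₀, LinearMap.sub_apply, LinearMap.smul_apply, LinearMap.smul_apply, smul_eq_mul,
        smul_eq_mul, cf_ev_same, cf_ev_ne P (Ne.symm hl'l)]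
      ring
    have hs₀0 : s₀ ≠ 0 := by
      intro h0
      rw [h0, LinearMap.zero_apply] at hs₀l'
      exact hul (neg_eq_zero.mp hs₀l'.symm)
    have hT0 : TM M s₀ x := h.rat (by omega) hs₀R hx hs₀x
    have hT1 := TM_conj hg hT0
    have hs' := comp_inv_ne_zero g hs₀0
    obtain ⟨s₁, hs₁⟩ : ∃ s₁ : (Fin n → F) →ₗ[F] F, s₁ = c⁻¹ •
        (s₀ ∘ₗ Matrix.toLin' ((g⁻¹ : GL (Fin n) F) : Matrix (Fin n) (Fin n) F)) := ⟨_, rfl⟩
    have hs₁R : IsRatF F₀ P s₁ := by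
      intro z hz
      have e : s₁ z = cf P l' x *
          (c⁻¹ • (cf P l ∘ₗ Matrix.toLin' ((g⁻¹ : GL (Fin n) F) : Matrix (Fin n) (Fin n) F))) z -
          cf P l x *
          (c⁻¹ • (cf P l' ∘ₗ Matrix.toLin' ((g⁻¹ : GL (Fin n) F) : Matrix (Fin n) (Fin n) F))) z
          := by
        rw [hs₁, hs₀]
        simp only [LinearMap.smul_apply, LinearMap.comp_apply, LinearMap.sub_apply, smul_eq_mul]
        ring
      rw [e]
      exact F₀.sub_mem (F₀.mul_mem (isRat_cf hx l') (hA l hl z hz))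
        (F₀.mul_mem (isRat_cf hx l) (hA l' hl'i z hz))
    have hs₁0 : s₁ ≠ 0 := by
      rw [hs₁]
      exact smul_ne_zero (inv_ne_zero hc) hs'
    have hs₁y : s₁ ((g : Matrix (Fin n) (Fin n) F) *ᵥ x) = 0 := by
      rw [hs₁, LinearMap.smul_apply, LinearMap.comp_apply, Matrix.toLin'_apply, inv_mul_mulVec,
        hs₀x, smul_zero]
    obtain ⟨c', hc', hr⟩ := C_gen hn h hT1 hs' hs₁R hs₁0 hs₁y
    refine ⟨c'⁻¹, c' • ((g : Matrix (Fin n) (Fin n) F) *ᵥ x), hr, ?_⟩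
    rw [smul_smul, inv_mul_cancel₀ hc', one_smul]

lemma L5_gen (hn : 3 ≤ n) (h : Ctx F₀ P M) {g : GL (Fin n) F} (hg : g ∈ M) {a : Fin n → F}
    (ha : IsRat F₀ P a) (ha0 : a ≠ 0) {c : F} (hc : c ≠ 0)
    (hy : IsRat F₀ P (c • ((g : Matrix (Fin n) (Fin n) F) *ᵥ a))) :
    g ∈ Cfsg.Geo.subfieldSubgroup F₀ P := by
  obtain ⟨P', i₀, hP', he⟩ := exists_adapt_vec F₀ P ha ha0
  rw [← subfield_eq_of_rat F₀ (by omega) hP']
  apply L5_basis hn (h.change (by omega) hP') hg hc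
  rw [he]
  exact (hP' _).mpr hy

/-- the case `[F : F₀] < n`: every vector lies in a rational hyperplane -/
lemma easy_case (hn : 3 ≤ n) (h : Ctx F₀ P M) (hr : Module.finrank F₀ F < n) {g : GL (Fin n) F}
    (hg : g ∈ M) : g ∈ Cfsg.Geo.subfieldSubgroup F₀ P := by
  have hfd : FiniteDimensional F₀ F := FiniteDimensional.of_finrank_pos h.2.2.pos
  apply mem_subfield_of_maps (by omega) g
  intro x hx
  by_cases hx0 : x = 0
  · exact ⟨0, 0, isRat_zero, by rw [hx0, Matrix.mulVec_zero, smul_zero]⟩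
  obtain ⟨y, hy⟩ : ∃ y : Fin n → F, y = (g : Matrix (Fin n) (Fin n) F) *ᵥ x := ⟨_, rfl⟩
  let L : (Fin n → F₀) →ₗ[F₀] F :=
    { toFun := fun c => ∑ l, (c l : F) * cf P l y
      map_add' := by
        intro c d
        rw [← Finset.sum_add_distrib]
        apply Finset.sum_congr rfl
        intro l _
        rw [Pi.add_apply, Subfield.coe_add]
        ring
      map_smul' := by
        intro a c
        rw [RingHom.id_apply, Finset.smul_sum]
        apply Finset.sum_congr rfl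
        intro l _
        rw [Pi.smul_apply, smul_eq_mul, Subfield.coe_mul, Algebra.smul_def, mul_assoc]
        rfl }
  have hker : LinearMap.ker L ≠ ⊥ :=
    LinearMap.ker_ne_bot_of_finrank_lt (by rw [Module.finrank_fin_fun]; exact hr)
  obtain ⟨c, hcL, hc0⟩ := Submodule.exists_mem_ne_zero_of_ne_bot hker
  rw [LinearMap.mem_ker] at hcL
  have hcL' : ∑ l, (c l : F) * cf P l y = 0 := hcL
  obtain ⟨s₁, hs₁⟩ : ∃ s₁ : (Fin n → F) →ₗ[F] F, s₁ = ∑ l, (c l : F) • cf P l := ⟨_, rfl⟩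
  have hs₁v : ∀ v, s₁ v = ∑ l, (c l : F) * cf P l v := by
    intro v
    rw [hs₁, LinearMap.sum_apply]
    apply Finset.sum_congr rfl
    intro l _
    rw [LinearMap.smul_apply, smul_eq_mul]
  have hs₁e : ∀ j, s₁ (ev P j) = (c j : F) := by
    intro j
    rw [hs₁v, Finset.sum_eq_single j]
    · rw [cf_ev_same, mul_one]
    · intro l _ hl
      rw [cf_ev_ne P hl, mul_zero]
    · intro hni
      exact absurd (Finset.mem_univ _) hni
  have hs₁R : IsRatF F₀ P s₁ := isRatF_of_basis (fun j => by rw [hs₁e]; exact (c j).2)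
  have hs₁0 : s₁ ≠ 0 := by
    intro h0
    apply hc0
    funext j
    have := hs₁e j
    rw [h0, LinearMap.zero_apply] at this
    exact Subtype.ext this.symm
  have hs₁y : s₁ y = 0 := by rw [hs₁v]; exact hcL'
  obtain ⟨s₀, hs₀R, hs₀0, hs₀x⟩ := exists_ratF_kill (F₀ := F₀) (P := P) (by omega) hx
  have hT1 := TM_conj hg (h.rat (by omega) hs₀R hx hs₀x)
  rw [← hy] at hT1
  obtain ⟨c', hc', hrr⟩ := C_gen hn h hT1 (comp_inv_ne_zero g hs₀0) hs₁R hs₁0 hs₁y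
  exact ⟨c'⁻¹, c' • y, hrr, by rw [smul_smul, inv_mul_cancel₀ hc', one_smul, hy]⟩

end Cfsg.Agent.Lib.Helper5.LSub
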