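import Mathlib
import Cfsg.Agent.Lib.Helper5.LSubB

/-!
Subfield subgroups of `SL_n(F)`: rational involutions, the dihedral trick (two non-conjugate
involutions commute with a common involution of the group they generate), and the case
`[F : F₀] ≥ 3` of the maximality of the subfield group.
-/

set_option autoImplicit false
set_option linter.unusedSectionVars false
set_option linter.unusedVariables false
set_option linter.unusedSimpArgs false

namespace Cfsg.Agent.Lib.Helper5.LSub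
open Cfsg Matrix Cfsg.Agent.Lib.Helper5.SpMax Cfsg.Agent.Lib.Helper5.TMCalc
  Cfsg.Agent.Lib.Helper5.USub

section RankK
variable {F : Type*} [Field F] {n : ℕ}

lemma exists_rank_k {k : ℕ} (b : Fin k → (Fin n → F)) (φ : Fin k → ((Fin n → F) →ₗ[F] F))
    (hdet : (1 + Matrix.of (fun l m => φ l (b m)) : Matrix (Fin k) (Fin k) F).det = 1) :
    ∃ g : GL (Fin n) F, g ∈ Cfsg.Geo.specialLinear (Fin n) F ∧
      ∀ v, (g : Matrix (Fin n) (Fin n) F) *ᵥ v = v + ∑ l, φ l v • b l := by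
  obtain ⟨A, hA⟩ : ∃ A : Matrix (Fin n) (Fin k) F, A = Matrix.of (fun r l => b l r) := ⟨_, rfl⟩
  obtain ⟨B, hB⟩ : ∃ B : Matrix (Fin k) (Fin n) F,
      B = Matrix.of (fun l c => φ l (Pi.single c 1)) := ⟨_, rfl⟩
  have hBv : ∀ v, B *ᵥ v = fun l => φ l v := by
    intro v
    funext l
    rw [lin_apply (φ l) v]
    change ∑ c, B l c * v c = _
    apply Finset.sum_congr rfl
    intro c _
    rw [hB, Matrix.of_apply, mul_comm]
  have hAw : ∀ w : Fin k → F, A *ᵥ w = ∑ l, w l • b l := by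
    intro w
    funext r
    rw [Finset.sum_apply]
    change ∑ l, A r l * w l = _
    apply Finset.sum_congr rfl
    intro l _
    rw [hA, Matrix.of_apply, Pi.smul_apply, smul_eq_mul, mul_comm]
  have hBA : B * A = Matrix.of (fun l m => φ l (b m)) := by
    ext l m
    rw [Matrix.mul_apply, Matrix.of_apply, lin_apply (φ l) (b m)]
    apply Finset.sum_congr rfl
    intro c _
    rw [hA, hB, Matrix.of_apply, Matrix.of_apply, mul_comm]
  obtain ⟨Mat, hMat⟩ : ∃ Mat : Matrix (Fin n) (Fin n) F, Mat = 1 + A * B := ⟨_, rfl⟩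
  have hdetM : Mat.det = 1 := by rw [hMat, Matrix.det_one_add_mul_comm, hBA, hdet]
  have hMv : ∀ v, Mat *ᵥ v = v + ∑ l, φ l v • b l := by
    intro v
    rw [hMat, Matrix.add_mulVec, Matrix.one_mulVec, ← Matrix.mulVec_mulVec, hBv, hAw]
  refine ⟨Matrix.GeneralLinearGroup.mkOfDetNeZero Mat (by rw [hdetM]; exact one_ne_zero), ?_, hMv⟩
  change _ ∈ (Matrix.GeneralLinearGroup.det : GL (Fin n) F →* Fˣ).ker
  rw [MonoidHom.mem_ker]
  apply Units.ext
  simp [hdetM]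

variable {k : ℕ}

/-- first index of the `l`-th pair -/
def i1 (hk : 2 * k ≤ n) (l : Fin k) : Fin n := ⟨l.1, by have := l.2; omega⟩

/-- second index of the `l`-th pair -/
def i2 (hk : 2 * k ≤ n) (l : Fin k) : Fin n := ⟨l.1 + k, by have := l.2; omega⟩

lemma i1_ne_i2 (hk : 2 * k ≤ n) (l m : Fin k) : i1 hk l ≠ i2 hk m := by
  intro h
  have h1 := congrArg Fin.val h
  simp only [i1, i2] at h1
  have := l.2
  omega

lemma i1_inj (hk : 2 * k ≤ n) {l m : Fin k} (h : i1 hk l = i1 hk m) : l = m := by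
  apply Fin.ext
  have h1 := congrArg Fin.val h
  simpa only [i1] using h1

lemma i2_inj (hk : 2 * k ≤ n) {l m : Fin k} (h : i2 hk l = i2 hk m) : l = m := by
  apply Fin.ext
  have h1 := congrArg Fin.val h
  simp only [i2] at h1
  omega

/-- centre vectors of the involution -/
def bK (P : GL (Fin n) F) (hk : 2 * k ≤ n) (l : Fin k) : Fin n → F :=
  -(ev P (i1 hk l) + ev P (i2 hk l))

/-- functionals of the involution -/
def φK (P : GL (Fin n) F) (hk : 2 * k ≤ n) (l : Fin k) : (Fin n → F) →ₗ[F] F :=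
  cf P (i1 hk l) + cf P (i2 hk l)

lemma φK_apply (P : GL (Fin n) F) (hk : 2 * k ≤ n) (l : Fin k) (v : Fin n → F) :
    φK P hk l v = cf P (i1 hk l) v + cf P (i2 hk l) v := rfl

lemma gramK (P : GL (Fin n) F) (hk : 2 * k ≤ n) (l m : Fin k) :
    φK P hk l (bK P hk m) = if l = m then -2 else 0 := by
  rw [φK_apply, bK, map_neg, map_neg, map_add, map_add,
    cf_ev_ne P (i1_ne_i2 hk l m), cf_ev_ne P (Ne.symm (i1_ne_i2 hk m l))]
  by_cases hlm : l = m
  · rw [hlm, cf_ev_same, cf_ev_same, if_pos rfl]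
    ring
  · rw [cf_ev_ne P (fun h => hlm (i1_inj hk h)), cf_ev_ne P (fun h => hlm (i2_inj hk h)),
      if_neg hlm]
    ring

lemma cf_i1_bK (P : GL (Fin n) F) (hk : 2 * k ≤ n) (l m : Fin k) :
    cf P (i1 hk m) (bK P hk l) = if l = m then -1 else 0 := by
  rw [bK, map_neg, map_add, cf_ev_ne P (i1_ne_i2 hk m l)]
  by_cases hlm : l = m
  · rw [hlm, cf_ev_same, if_pos rfl]
    ring
  · rw [cf_ev_ne P (fun h => hlm (i1_inj hk h).symm), if_neg hlm]
    ring

lemma φK_ev_i1 (P : GL (Fin n) F) (hk : 2 * k ≤ n) (l m : Fin k) :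
    φK P hk l (ev P (i1 hk m)) = if l = m then 1 else 0 := by
  rw [φK_apply, cf_ev_ne P (Ne.symm (i1_ne_i2 hk m l))]
  by_cases hlm : l = m
  · rw [hlm, cf_ev_same, if_pos rfl]
    ring
  · rw [cf_ev_ne P (fun h => hlm (i1_inj hk h)), if_neg hlm]
    ring

lemma cf_bK_far (P : GL (Fin n) F) (hk : 2 * k ≤ n) (j : Fin n) (hj : 2 * k ≤ j.1) (l : Fin k) :
    cf P j (bK P hk l) = 0 := by
  have h1 : j ≠ i1 hk l := by
    intro h
    have h1 := congrArg Fin.val h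
    simp only [i1] at h1
    have := l.2
    omega
  have h2 : j ≠ i2 hk l := by
    intro h
    have h1 := congrArg Fin.val h
    simp only [i2] at h1
    have := l.2
    omega
  rw [bK, map_neg, map_add, cf_ev_ne P h1, cf_ev_ne P h2]
  ring

lemma bK_rat (F₀ : Subfield F) (P : GL (Fin n) F) (hk : 2 * k ≤ n) (l : Fin k) :
    IsRat F₀ P (bK P hk l) :=
  isRat_neg (isRat_add (isRat_ev P _) (isRat_ev P _))

lemma bK_ne_zero (P : GL (Fin n) F) (hk : 2 * k ≤ n) (l : Fin k) : bK P hk l ≠ 0 := by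
  intro h
  have h1 := cf_i1_bK P hk l l
  rw [h, map_zero, if_pos rfl] at h1
  exact one_ne_zero (by linear_combination h1)

lemma inv_exists (F₀ : Subfield F) (hn0 : 0 < n) (P : GL (Fin n) F) (hk : 2 * k ≤ n)
    (hev : Even k) :
    ∃ t : GL (Fin n) F,
      t ∈ Cfsg.Geo.subfieldSubgroup F₀ P ⊓ Cfsg.Geo.specialLinear (Fin n) F ∧
      ∀ v, (t : Matrix (Fin n) (Fin n) F) *ᵥ v = v + ∑ l, φK P hk l v • bK P hk l := by
  have hmat : (1 + Matrix.of (fun l m => φK P hk l (bK P hk m)) : Matrix (Fin k) (Fin k) F) =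
      (-1 : F) • (1 : Matrix (Fin k) (Fin k) F) := by
    ext l m
    rw [Matrix.add_apply, Matrix.of_apply, gramK, Matrix.smul_apply, Matrix.one_apply,
      smul_eq_mul]
    split_ifs <;> ring
  obtain ⟨t, htS, htv⟩ := exists_rank_k (bK P hk) (φK P hk) (by
    rw [hmat, Matrix.det_smul, Matrix.det_one, Fintype.card_fin, mul_one, hev.neg_one_pow])
  refine ⟨t, Subgroup.mem_inf.mpr ⟨?_, htS⟩, htv⟩
  apply mem_subfield_of_maps hn0 t
  intro x hx
  refine ⟨1, _, ?_, by rw [htv, one_smul]⟩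
  apply isRat_add hx
  apply isRat_sum
  intro l _
  apply isRat_smul
  · exact isRatF_add (isRatF_cf P _) (isRatF_cf P _) x hx
  · exact bK_rat F₀ P hk l

section InvProps
variable (P : GL (Fin n) F) (hk : 2 * k ≤ n) {t : GL (Fin n) F}
  (htv : ∀ v, (t : Matrix (Fin n) (Fin n) F) *ᵥ v = v + ∑ l, φK P hk l v • bK P hk l)
include htv

lemma inv_φ (v : Fin n → F) (l : Fin k) :
    φK P hk l ((t : Matrix (Fin n) (Fin n) F) *ᵥ v) = - φK P hk l v := by
  rw [htv, map_add, map_sum]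
  have e : ∑ m, φK P hk l (φK P hk m v • bK P hk m) = -2 * φK P hk l v := by
    rw [Finset.sum_eq_single l]
    · rw [map_smul, gramK, if_pos rfl, smul_eq_mul]
      ring
    · intro m _ hm
      rw [map_smul, gramK, if_neg (Ne.symm hm), smul_zero]
    · intro hni
      exact absurd (Finset.mem_univ _) hni
  rw [e]
  ring

lemma inv_sq : t * t = 1 := by
  apply Units.ext
  apply mat_eq_of_mulVec
  intro v
  rw [Units.val_mul, ← Matrix.mulVec_mulVec, Units.val_one, Matrix.one_mulVec,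
    htv ((t : Matrix (Fin n) (Fin n) F) *ᵥ v)]
  simp only [inv_φ P hk htv]
  rw [htv v, add_assoc, ← Finset.sum_add_distrib]
  have e : ∑ l, (φK P hk l v • bK P hk l + -φK P hk l v • bK P hk l) = 0 := by
    apply Finset.sum_eq_zero
    intro l _
    rw [neg_smul, add_neg_cancel]
  rw [e, add_zero]

lemma inv_fix_of {v : Fin n → F} (h : ∀ l, φK P hk l v = 0) :
    (t : Matrix (Fin n) (Fin n) F) *ᵥ v = v := by
  rw [htv]
  have e : ∑ l, φK P hk l v • bK P hk l = 0 := by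
    apply Finset.sum_eq_zero
    intro l _
    rw [h l, zero_smul]
  rw [e, add_zero]

lemma inv_fix_imp {v : Fin n → F} (h : (t : Matrix (Fin n) (Fin n) F) *ᵥ v = v) (m : Fin k) :
    φK P hk m v = 0 := by
  rw [htv] at h
  have h1 : ∑ l, φK P hk l v • bK P hk l = 0 := by
    have := congrArg (fun w => w - v) h
    simpa using this
  have h2 := congrArg (cf P (i1 hk m)) h1
  rw [map_sum, map_zero, Finset.sum_eq_single m] at h2
  · rw [map_smul, cf_i1_bK, if_pos rfl, smul_eq_mul] at h2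
    linear_combination -h2
  · intro l _ hl
    rw [map_smul, cf_i1_bK, if_neg hl, smul_zero]
  · intro hni
    exact absurd (Finset.mem_univ _) hni

lemma inv_hyper (j : Fin n) (hj : 2 * k ≤ j.1) (v : Fin n → F) :
    cf P j ((t : Matrix (Fin n) (Fin n) F) *ᵥ v - v) = 0 := by
  rw [htv, add_sub_cancel_left, map_sum]
  apply Finset.sum_eq_zero
  intro l _
  rw [map_smul, cf_bK_far P hk j hj, smul_zero]

lemma inv_img (hk0 : 0 < k) :
    (t : Matrix (Fin n) (Fin n) F) *ᵥ ev P (i1 hk ⟨0, hk0⟩) - ev P (i1 hk ⟨0, hk0⟩) =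
      bK P hk ⟨0, hk0⟩ := by
  rw [htv, add_sub_cancel_left, Finset.sum_eq_single (⟨0, hk0⟩ : Fin k)]
  · rw [φK_ev_i1, if_pos rfl, one_smul]
  · intro l _ hl
    rw [φK_ev_i1, if_neg hl, zero_smul]
  · intro hni
    exact absurd (Finset.mem_univ _) hni

end InvProps

lemma mul_fix {a b : GL (Fin n) F} {v : Fin n → F}
    (ha : (a : Matrix (Fin n) (Fin n) F) *ᵥ v = v) (hb : (b : Matrix (Fin n) (Fin n) F) *ᵥ v = v) :
    ((a * b : GL (Fin n) F) : Matrix (Fin n) (Fin n) F) *ᵥ v = v := by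
  rw [Units.val_mul, ← Matrix.mulVec_mulVec, hb, ha]

lemma pow_fix {a : GL (Fin n) F} {v : Fin n → F}
    (ha : (a : Matrix (Fin n) (Fin n) F) *ᵥ v = v) (m : ℕ) :
    ((a ^ m : GL (Fin n) F) : Matrix (Fin n) (Fin n) F) *ᵥ v = v := by
  induction m with
  | zero => rw [pow_zero, Units.val_one, Matrix.one_mulVec]
  | succ m ih =>
    rw [pow_succ]
    exact mul_fix ih ha

lemma not_conj {k k' : ℕ} (hkk : k < k') (hk'n : k' ≤ n) (φ : Fin k → ((Fin n → F) →ₗ[F] F))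
    (φ' : Fin k' → ((Fin n → F) →ₗ[F] F)) (dv : Fin k' → (Fin n → F))
    (hdv : ∀ l m, φ' l (dv m) = if l = m then 1 else 0) (t t' x : GL (Fin n) F)
    (ht : ∀ v, (∀ l, φ l v = 0) → (t : Matrix (Fin n) (Fin n) F) *ᵥ v = v)
    (ht' : ∀ v, (t' : Matrix (Fin n) (Fin n) F) *ᵥ v = v → ∀ l, φ' l v = 0)
    (hx : t * x = x * t') : False := by
  obtain ⟨Ψ, hΨ⟩ : ∃ Ψ : (Fin n → F) →ₗ[F] (Fin k → F),
      Ψ = (LinearMap.pi φ) ∘ₗ Matrix.toLin' (x : Matrix (Fin n) (Fin n) F) := ⟨_, rfl⟩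
  obtain ⟨Φ', hΦ'⟩ : ∃ Φ' : (Fin n → F) →ₗ[F] (Fin k' → F), Φ' = LinearMap.pi φ' := ⟨_, rfl⟩
  have hle : LinearMap.ker Ψ ≤ LinearMap.ker Φ' := by
    intro v hv
    rw [LinearMap.mem_ker] at hv ⊢
    have h1 : ∀ l, φ l ((x : Matrix (Fin n) (Fin n) F) *ᵥ v) = 0 := by
      intro l
      have := congrFun hv l
      rw [hΨ, LinearMap.comp_apply, LinearMap.pi_apply, Matrix.toLin'_apply] at this
      exact this
    have h2 := ht _ h1
    have h3 : (t' : Matrix (Fin n) (Fin n) F) *ᵥ v = v := by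
      apply mulVec_inj x
      rw [Matrix.mulVec_mulVec, ← Units.val_mul, ← hx, Units.val_mul, ← Matrix.mulVec_mulVec, h2]
    funext l
    rw [hΦ', LinearMap.pi_apply]
    exact ht' v h3 l
  have hsurj : LinearMap.range Φ' = ⊤ := by
    rw [LinearMap.range_eq_top]
    intro w
    refine ⟨∑ m, w m • dv m, ?_⟩
    funext l
    rw [hΦ', LinearMap.pi_apply, map_sum, Finset.sum_eq_single l]
    · rw [map_smul, hdv, if_pos rfl, smul_eq_mul, mul_one]
    · intro m _ hm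
      rw [map_smul, hdv, if_neg (Ne.symm hm), smul_zero]
    · intro hni
      exact absurd (Finset.mem_univ _) hni
  have r1 := LinearMap.finrank_range_add_finrank_ker Ψ
  have r2 := LinearMap.finrank_range_add_finrank_ker Φ'
  rw [hsurj, finrank_top, Module.finrank_fin_fun, Module.finrank_fin_fun] at r2
  rw [Module.finrank_fin_fun] at r1
  have r3 : Module.finrank F (LinearMap.range Ψ) ≤ k := by
    have := Submodule.finrank_le (LinearMap.range Ψ)
    rwa [Module.finrank_fin_fun] at this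
  have r4 := Submodule.finrank_mono hle
  omega

lemma exists_common_fixed {k k' : ℕ} (hkn : k + k' < n) (φ : Fin k → ((Fin n → F) →ₗ[F] F))
    (φ' : Fin k' → ((Fin n → F) →ₗ[F] F)) (g : GL (Fin n) F) :
    ∃ v : Fin n → F, v ≠ 0 ∧ (∀ l, φ l ((g : Matrix (Fin n) (Fin n) F) *ᵥ v) = 0) ∧
      (∀ l, φ' l v = 0) := by
  obtain ⟨Ξ, hΞ⟩ : ∃ Ξ : (Fin n → F) →ₗ[F] ((Fin k → F) × (Fin k' → F)),
      Ξ = ((LinearMap.pi φ) ∘ₗ Matrix.toLin' (g : Matrix (Fin n) (Fin n) F)).prod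
        (LinearMap.pi φ') := ⟨_, rfl⟩
  have hker : LinearMap.ker Ξ ≠ ⊥ := LinearMap.ker_ne_bot_of_finrank_lt (by
    rw [Module.finrank_prod, Module.finrank_fin_fun, Module.finrank_fin_fun,
      Module.finrank_fin_fun]
    exact hkn)
  obtain ⟨v, hv, hv0⟩ := Submodule.exists_mem_ne_zero_of_ne_bot hker
  rw [LinearMap.mem_ker, hΞ, LinearMap.prod_apply] at hv
  refine ⟨v, hv0, fun l => ?_, fun l => ?_⟩
  · have := congrFun (congrArg Prod.fst hv) l
    simpa [LinearMap.comp_apply, LinearMap.pi_apply, Matrix.toLin'_apply] using this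
  · have := congrFun (congrArg Prod.snd hv) l
    simpa [LinearMap.pi_apply] using this

end RankK

section Dihedral

lemma dihedral {G : Type*} [Group G] [Finite G] (i j : G) (hi : i * i = 1) (hj : j * j = 1) :
    (∃ w : G, w * i * w⁻¹ = j) ∨
      ∃ m : ℕ, (i * j) ^ m ≠ 1 ∧ (i * j) ^ m * (i * j) ^ m = 1 ∧
        (i * j) ^ m * i = i * (i * j) ^ m ∧ (i * j) ^ m * j = j * (i * j) ^ m := by
  have hi' : i⁻¹ = i := inv_eq_of_mul_eq_one_right hi
  have hj' : j⁻¹ = j := inv_eq_of_mul_eq_one_right hj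
  obtain ⟨x, hx⟩ : ∃ x : G, x = i * j := ⟨_, rfl⟩
  rw [← hx]
  have hxinv : x⁻¹ = j * i := by rw [hx, _root_.mul_inv_rev, hi', hj']
  have hix : ∀ m : ℕ, i * x ^ m * i = (x ^ m)⁻¹ := by
    intro m
    have h1 : i * x * i⁻¹ = x⁻¹ := by
      rw [hi', hxinv, hx, ← mul_assoc, hi, one_mul]
    have h2 := conj_pow (i := m) (a := i) (b := x)
    rw [h1, hi'] at h2
    rw [← h2, inv_pow]
  have hjx : ∀ m : ℕ, j * x ^ m * j = (x ^ m)⁻¹ := by
    intro m
    have h1 : j * x * j⁻¹ = x⁻¹ := by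
      rw [hj', hxinv, hx, mul_assoc, mul_assoc, hj, mul_one]
    have h2 := conj_pow (i := m) (a := j) (b := x)
    rw [h1, hj'] at h2
    rw [← h2, inv_pow]
  have hpos : 0 < orderOf x := orderOf_pos x
  obtain ⟨k, hk | hk⟩ := Nat.even_or_odd' (orderOf x)
  · right
    have hzz : x ^ k * x ^ k = 1 := by
      rw [← pow_add, ← two_mul, ← hk, pow_orderOf_eq_one]
    have hzinv : (x ^ k)⁻¹ = x ^ k := inv_eq_of_mul_eq_one_right hzz
    refine ⟨k, ?_, hzz, ?_, ?_⟩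
    · exact pow_ne_one_of_lt_orderOf (by omega) (by omega)
    · have h3 := hix k
      rw [hzinv] at h3
      calc x ^ k * i = (i * i) * x ^ k * i := by rw [hi, one_mul]
        _ = i * (i * x ^ k * i) := by simp only [mul_assoc]
        _ = i * x ^ k := by rw [h3]
    · have h3 := hjx k
      rw [hzinv] at h3
      calc x ^ k * j = (j * j) * x ^ k * j := by rw [hj, one_mul]
        _ = j * (j * x ^ k * j) := by simp only [mul_assoc]
        _ = j * x ^ k := by rw [h3]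
  · left
    have hx2k : x ^ (2 * k) = x⁻¹ := by
      apply eq_inv_of_mul_eq_one_left
      rw [← pow_succ, ← hk, pow_orderOf_eq_one]
    have h3 := hix k
    refine ⟨x ^ k, ?_⟩
    rw [← h3]
    calc x ^ k * i * (i * x ^ k * i) = x ^ k * (i * i) * x ^ k * i := by simp only [mul_assoc]
      _ = x ^ (2 * k) * i := by rw [hi, mul_one, ← pow_add, two_mul]
      _ = j := by rw [hx2k, hxinv, mul_assoc, hi, mul_one]

end Dihedral

section Main
variable {F : Type*} [Field F] [Fintype F] {n : ℕ} {F₀ : Subfield F} {P : GL (Fin n) F}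
  {M : Subgroup (GL (Fin n) F)}

lemma stab_mem (hn : 3 ≤ n) (h : Ctx F₀ P M) {t z : GL (Fin n) F} (hz : z ∈ M)
    (hcomm : z * t = t * z) {m₀ : Fin n}
    (hyper : ∀ v, cf P m₀ ((t : Matrix (Fin n) (Fin n) F) *ᵥ v - v) = 0) {c₀ a : Fin n → F}
    (ha : IsRat F₀ P a) (ha0 : a ≠ 0)
    (himg : (t : Matrix (Fin n) (Fin n) F) *ᵥ c₀ - c₀ = a) :
    z ∈ Cfsg.Geo.subfieldSubgroup F₀ P := by
  have hza : (z : Matrix (Fin n) (Fin n) F) *ᵥ a =
      (t : Matrix (Fin n) (Fin n) F) *ᵥ ((z : Matrix (Fin n) (Fin n) F) *ᵥ c₀) -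
        (z : Matrix (Fin n) (Fin n) F) *ᵥ c₀ := by
    rw [← himg, Matrix.mulVec_sub, Matrix.mulVec_mulVec, ← Units.val_mul, hcomm, Units.val_mul,
      ← Matrix.mulVec_mulVec]
  have hcf : cf P m₀ ((z : Matrix (Fin n) (Fin n) F) *ᵥ a) = 0 := by
    rw [hza]
    exact hyper _
  obtain ⟨s₀, hs₀R, hs₀0, hs₀a⟩ := exists_ratF_kill (F₀ := F₀) (P := P) (by omega) ha
  have hT := TM_conj hz (h.rat (by omega) hs₀R ha hs₀a)
  obtain ⟨c, hc, hr⟩ := C_basis hn h hT (comp_inv_ne_zero z hs₀0) hcf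
  exact L5_gen hn h hz ha ha0 hc hr

lemma sq_mem_imp_mem (hp : (Module.finrank F₀ F).Prime) (h3 : 3 ≤ Module.finrank F₀ F) {μ : F}
    (h : μ * μ ∈ F₀) : μ ∈ F₀ := by
  classical
  by_contra hμ
  let S : Subalgebra F₀ F :=
    { carrier := {x | ∃ a b : F₀, x = (a : F) + (b : F) * μ}
      mul_mem' := by
        rintro _ _ ⟨a, b, rfl⟩ ⟨a', b', rfl⟩
        refine ⟨a * a' + b * b' * ⟨μ * μ, h⟩, a * b' + b * a', ?_⟩
        simp only [Subfield.coe_add, Subfield.coe_mul]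
        ring
      one_mem' := ⟨1, 0, by simp⟩
      add_mem' := by
        rintro _ _ ⟨a, b, rfl⟩ ⟨a', b', rfl⟩
        refine ⟨a + a', b + b', ?_⟩
        simp only [Subfield.coe_add]
        ring
      zero_mem' := ⟨0, 0, by simp⟩
      algebraMap_mem' := fun c => ⟨c, 0, by simp; rfl⟩ }
  have := Subalgebra.isSimpleOrder_of_finrank_prime F₀ F hp
  rcases eq_bot_or_eq_top S with hS | hS
  · have hm : μ ∈ S := ⟨0, 1, by simp⟩
    rw [hS, Algebra.mem_bot] at hm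
    obtain ⟨c, rfl⟩ := hm
    exact hμ c.2
  · have hsurj : Function.Surjective (fun p : F₀ × F₀ => (p.1 : F) + (p.2 : F) * μ) := by
      intro x
      have hx : x ∈ S := by rw [hS]; exact Algebra.mem_top
      obtain ⟨a, b, e⟩ := hx
      exact ⟨(a, b), e.symm⟩
    letI : Fintype F₀ := Fintype.ofFinite F₀
    have hc1 := Fintype.card_le_of_surjective _ hsurj
    rw [Fintype.card_prod, Module.card_eq_pow_finrank (K := F₀) (V := F)] at hc1
    have h2 : 2 ≤ Fintype.card F₀ := Fintype.one_lt_card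
    have h4 : Fintype.card F₀ ^ 3 ≤ Fintype.card F₀ ^ Module.finrank F₀ F :=
      Nat.pow_le_pow_right (by omega) h3
    have h5 : Fintype.card F₀ ^ 3 ≤ Fintype.card F₀ * Fintype.card F₀ := le_trans h4 hc1
    have h6 : Fintype.card F₀ ^ 3 = Fintype.card F₀ * Fintype.card F₀ * Fintype.card F₀ := by ring
    rw [h6] at h5
    nlinarith

lemma ratact (hn0 : 0 < n) (hp : (Module.finrank F₀ F).Prime) (h3 : 3 ≤ Module.finrank F₀ F)
    {z : GL (Fin n) F} (hz : z ∈ Cfsg.Geo.subfieldSubgroup F₀ P) (hzz : z * z = 1) :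
    ∀ x, IsRat F₀ P x → IsRat F₀ P ((z : Matrix (Fin n) (Fin n) F) *ᵥ x) := by
  obtain ⟨μ, hμ0, hmap⟩ := rat_of_mem_subfield z hz
  have hzzv : ∀ v, (z : Matrix (Fin n) (Fin n) F) *ᵥ ((z : Matrix (Fin n) (Fin n) F) *ᵥ v) = v := by
    intro v
    rw [Matrix.mulVec_mulVec, ← Units.val_mul, hzz, Units.val_one, Matrix.one_mulVec]
  obtain ⟨r, hr, e⟩ := hmap (ev P ⟨0, hn0⟩) (isRat_ev P _)
  obtain ⟨r', hr', e'⟩ := hmap r hr
  have h1 : ev P ⟨0, hn0⟩ = (μ * μ) • r' := by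
    have := hzzv (ev P ⟨0, hn0⟩)
    rw [e, Matrix.mulVec_smul, e', smul_smul] at this
    exact this.symm
  have h2 := congrArg (cf P ⟨0, hn0⟩) h1
  rw [cf_ev_same, map_smul, smul_eq_mul] at h2
  have hμμ : μ * μ ∈ F₀ := by
    have e2 : μ * μ = (cf P ⟨0, hn0⟩ r')⁻¹ := eq_inv_of_mul_eq_one_left h2.symm
    rw [e2]
    exact F₀.inv_mem (isRat_cf hr' _)
  have hμ : μ ∈ F₀ := sq_mem_imp_mem hp h3 hμμ
  intro x hx
  obtain ⟨rx, hrx, ex⟩ := hmap x hx
  rw [ex]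
  exact isRat_smul hμ hrx

lemma exists_rat_fixed {z : GL (Fin n) F}
    (hzr : ∀ x, IsRat F₀ P x → IsRat F₀ P ((z : Matrix (Fin n) (Fin n) F) *ᵥ x))
    {v₀ : Fin n → F} (hv₀ : v₀ ≠ 0) (hfix : (z : Matrix (Fin n) (Fin n) F) *ᵥ v₀ = v₀) :
    ∃ a : Fin n → F, IsRat F₀ P a ∧ a ≠ 0 ∧ (z : Matrix (Fin n) (Fin n) F) *ᵥ a = a := by
  classical
  obtain ⟨Λ, hΛ⟩ : ∃ Λ : (Fin n → F) →ₗ[F] (Fin n → F),
      Λ = Matrix.toLin' (z : Matrix (Fin n) (Fin n) F) - LinearMap.id := ⟨_, rfl⟩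
  have hΛv : ∀ v, Λ v = (z : Matrix (Fin n) (Fin n) F) *ᵥ v - v := by
    intro v
    rw [hΛ, LinearMap.sub_apply, Matrix.toLin'_apply, LinearMap.id_apply]
  have hent : ∀ l m, cf P l (Λ (ev P m)) ∈ F₀ := fun l m => by
    rw [hΛv]
    exact isRat_cf (isRat_sub (hzr _ (isRat_ev P m)) (isRat_ev P m)) l
  obtain ⟨D₀, hD₀⟩ : ∃ D₀ : Matrix (Fin n) (Fin n) F₀,
      D₀ = Matrix.of (fun l m => (⟨cf P l (Λ (ev P m)), hent l m⟩ : F₀)) := ⟨_, rfl⟩
  obtain ⟨D, hD⟩ : ∃ D : Matrix (Fin n) (Fin n) F, D = D₀.map (F₀.subtype) := ⟨_, rfl⟩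
  have hDlm : ∀ l m, D l m = cf P l (Λ (ev P m)) := by
    intro l m
    rw [hD, Matrix.map_apply, hD₀, Matrix.of_apply]
    rfl
  have hDv : ∀ v, D *ᵥ (((P⁻¹ : GL (Fin n) F) : Matrix (Fin n) (Fin n) F) *ᵥ v) =
      ((P⁻¹ : GL (Fin n) F) : Matrix (Fin n) (Fin n) F) *ᵥ (Λ v) := by
    intro v
    funext l
    change ∑ m, D l m * (((P⁻¹ : GL (Fin n) F) : Matrix (Fin n) (Fin n) F) *ᵥ v) m = _
    rw [← cf_apply, lin_decomp P Λ v, map_sum]
    apply Finset.sum_congr rfl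
    intro m _
    rw [hDlm, map_smul, smul_eq_mul, ← cf_apply, mul_comm]
  have hdet : D.det = 0 := by
    apply Matrix.exists_mulVec_eq_zero_iff.mp
    refine ⟨((P⁻¹ : GL (Fin n) F) : Matrix (Fin n) (Fin n) F) *ᵥ v₀, ?_, ?_⟩
    · intro h0
      apply hv₀
      have := mul_inv_mulVec P v₀
      rw [h0, Matrix.mulVec_zero] at this
      exact this.symm
    · rw [hDv, hΛv, hfix, sub_self, Matrix.mulVec_zero]
  have hdet0 : D₀.det = 0 := by
    have h1 : D.det = F₀.subtype D₀.det := by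
      rw [hD]
      exact (RingHom.map_det F₀.subtype D₀).symm
    rw [hdet] at h1
    apply Subtype.ext
    exact h1.symm
  obtain ⟨w₀, hw₀, hDw⟩ := Matrix.exists_mulVec_eq_zero_iff.mpr hdet0
  obtain ⟨w, hw⟩ : ∃ w : Fin n → F, w = fun m => (w₀ m : F) := ⟨_, rfl⟩
  have hDw' : D *ᵥ w = 0 := by
    funext l
    have h3 : F₀.subtype ((D₀ *ᵥ w₀) l) = ∑ m, D l m * w m := by
      change F₀.subtype (∑ m, D₀ l m * w₀ m) = _
      rw [map_sum]
      apply Finset.sum_congr rfl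
      intro m _
      rw [map_mul, hD, Matrix.map_apply, hw]
      rfl
    change ∑ m, D l m * w m = 0
    rw [← h3, hDw]
    rfl
  refine ⟨(P : Matrix (Fin n) (Fin n) F) *ᵥ w,
    isRat_mulVec (fun i => by rw [hw]; exact (w₀ i).2), ?_, ?_⟩
  · intro h0
    apply hw₀
    have h4 := inv_mul_mulVec P w
    rw [h0, Matrix.mulVec_zero] at h4
    funext m
    apply Subtype.ext
    have h5 := congrFun h4 m
    rw [hw] at h5
    exact h5.symm
  · have h5 := hDv ((P : Matrix (Fin n) (Fin n) F) *ᵥ w)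
    rw [inv_mul_mulVec, hDw'] at h5
    have h6 : Λ ((P : Matrix (Fin n) (Fin n) F) *ᵥ w) = 0 := by
      have h7 := mul_inv_mulVec P (Λ ((P : Matrix (Fin n) (Fin n) F) *ᵥ w))
      rw [← h5, Matrix.mulVec_zero] at h7
      exact h7.symm
    rw [hΛv] at h6
    exact sub_eq_zero.mp h6

/-- the case `[F : F₀] ≥ 3`: the dihedral trick -/
lemma hard_case (hn : 9 ≤ n) (h : Ctx F₀ P M) (hr3 : 3 ≤ Module.finrank F₀ F) {g : GL (Fin n) F}
    (hg : g ∈ M) : g ∈ Cfsg.Geo.subfieldSubgroup F₀ P := by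
  classical
  have hk2 : 2 * 2 ≤ n := by omega
  have hk4 : 2 * 4 ≤ n := by omega
  obtain ⟨t, htH, htv⟩ := inv_exists F₀ (by omega) P hk2 ⟨1, rfl⟩
  obtain ⟨t', ht'H, ht'v⟩ := inv_exists F₀ (by omega) P hk4 ⟨2, rfl⟩
  have htM : t ∈ M := h.1 htH
  have ht'M : t' ∈ M := h.1 ht'H
  have htt : t * t = 1 := inv_sq P hk2 htv
  have ht't' : t' * t' = 1 := inv_sq P hk4 ht'v
  obtain ⟨j, hj⟩ : ∃ j : GL (Fin n) F, j = g * t' * g⁻¹ := ⟨_, rfl⟩
  have hjM : j ∈ M := by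
    rw [hj]
    exact M.mul_mem (M.mul_mem hg ht'M) (M.inv_mem hg)
  have hjj : j * j = 1 := by
    rw [hj]
    calc g * t' * g⁻¹ * (g * t' * g⁻¹) = g * (t' * t') * g⁻¹ := by group
      _ = 1 := by rw [ht't', mul_one, mul_inv_cancel]
  rcases dihedral t j htt hjj with ⟨w, hw⟩ | ⟨m, hz1, hzz, hzt, hzj⟩
  · exfalso
    have hx : t * (w⁻¹ * g) = (w⁻¹ * g) * t' := by
      rw [hj] at hw
      have e : t = w⁻¹ * (g * t' * g⁻¹) * w := by
        rw [← hw]
        group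
      calc t * (w⁻¹ * g) = w⁻¹ * (g * t' * g⁻¹) * w * (w⁻¹ * g) := by rw [← e]
        _ = (w⁻¹ * g) * t' := by group
    exact not_conj (k := 2) (k' := 4) (by norm_num) (by omega) (φK P hk2) (φK P hk4)
      (fun m => ev P (i1 hk4 m)) (fun l m => φK_ev_i1 P hk4 l m) t t' (w⁻¹ * g)
      (fun v hv => inv_fix_of P hk2 htv hv) (fun v hv l => inv_fix_imp P hk4 ht'v hv l) hx
  · obtain ⟨z, hz⟩ : ∃ z : GL (Fin n) F, z = (t * j) ^ m := ⟨_, rfl⟩
    rw [← hz] at hz1 hzz hzt hzj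
    have hzM : z ∈ M := by
      rw [hz]
      exact M.pow_mem (M.mul_mem htM hjM) m
    obtain ⟨v₀, hv₀, hφ, hφ'⟩ := exists_common_fixed (k := 2) (k' := 4) (by omega)
      (φK P hk2) (φK P hk4) g
    have htg : (t : Matrix (Fin n) (Fin n) F) *ᵥ ((g : Matrix (Fin n) (Fin n) F) *ᵥ v₀) =
        (g : Matrix (Fin n) (Fin n) F) *ᵥ v₀ := inv_fix_of P hk2 htv hφ
    have ht'v₀ : (t' : Matrix (Fin n) (Fin n) F) *ᵥ v₀ = v₀ := inv_fix_of P hk4 ht'v hφ'
    have hjg : (j : Matrix (Fin n) (Fin n) F) *ᵥ ((g : Matrix (Fin n) (Fin n) F) *ᵥ v₀) =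
        (g : Matrix (Fin n) (Fin n) F) *ᵥ v₀ := by
      rw [hj, Units.val_mul, Units.val_mul, ← Matrix.mulVec_mulVec, ← Matrix.mulVec_mulVec,
        inv_mul_mulVec, ht'v₀]
    have hzg : (z : Matrix (Fin n) (Fin n) F) *ᵥ ((g : Matrix (Fin n) (Fin n) F) *ᵥ v₀) =
        (g : Matrix (Fin n) (Fin n) F) *ᵥ v₀ := by
      rw [hz]
      exact pow_fix (mul_fix htg hjg) m
    have hk0 : 0 < 2 := by norm_num
    have hk0' : 0 < 4 := by norm_num
    have hzS : z ∈ Cfsg.Geo.subfieldSubgroup F₀ P :=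
      stab_mem (by omega) h hzM hzt (m₀ := ⟨4, by omega⟩)
        (inv_hyper P hk2 htv ⟨4, by omega⟩ (le_refl _)) (bK_rat F₀ P hk2 ⟨0, hk0⟩)
        (bK_ne_zero P hk2 _) (inv_img P hk2 htv hk0)
    obtain ⟨z', hz'⟩ : ∃ z' : GL (Fin n) F, z' = g⁻¹ * z * g := ⟨_, rfl⟩
    have hz'M : z' ∈ M := by
      rw [hz']
      exact M.mul_mem (M.mul_mem (M.inv_mem hg) hzM) hg
    have hz'z' : z' * z' = 1 := by
      rw [hz']
      calc g⁻¹ * z * g * (g⁻¹ * z * g) = g⁻¹ * (z * z) * g := by group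
        _ = 1 := by rw [hzz, mul_one, inv_mul_cancel]
    have hz't' : z' * t' = t' * z' := by
      rw [hj] at hzj
      rw [hz']
      calc g⁻¹ * z * g * t' = g⁻¹ * (z * (g * t' * g⁻¹)) * g := by group
        _ = g⁻¹ * ((g * t' * g⁻¹) * z) * g := by rw [hzj]
        _ = t' * (g⁻¹ * z * g) := by group
    have hz'S : z' ∈ Cfsg.Geo.subfieldSubgroup F₀ P :=
      stab_mem (by omega) h hz'M hz't' (m₀ := ⟨8, by omega⟩)
        (inv_hyper P hk4 ht'v ⟨8, by omega⟩ (le_refl _)) (bK_rat F₀ P hk4 ⟨0, hk0'⟩)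
        (bK_ne_zero P hk4 _) (inv_img P hk4 ht'v hk0')
    have hzr := ratact (P := P) (by omega) h.2.2 hr3 hzS hzz
    have hz'r := ratact (P := P) (by omega) h.2.2 hr3 hz'S hz'z'
    have hz'v₀ : (z' : Matrix (Fin n) (Fin n) F) *ᵥ v₀ = v₀ := by
      rw [hz', Units.val_mul, Units.val_mul, ← Matrix.mulVec_mulVec, ← Matrix.mulVec_mulVec, hzg,
        inv_mul_mulVec]
    obtain ⟨a', ha'R, ha'0, ha'fix⟩ := exists_rat_fixed hz'r hv₀ hz'v₀
    have hzy : (z : Matrix (Fin n) (Fin n) F) *ᵥ ((g : Matrix (Fin n) (Fin n) F) *ᵥ a') =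
        (g : Matrix (Fin n) (Fin n) F) *ᵥ a' := by
      have e : z * g = g * z' := by
        rw [hz']
        group
      rw [Matrix.mulVec_mulVec, ← Units.val_mul, e, Units.val_mul, ← Matrix.mulVec_mulVec, ha'fix]
    have hzne : ∃ v, (z : Matrix (Fin n) (Fin n) F) *ᵥ v ≠ v := by
      by_contra hcon
      push Not at hcon
      apply hz1
      apply Units.ext
      apply mat_eq_of_mulVec
      intro v
      rw [hcon v, Units.val_one, Matrix.one_mulVec]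
    obtain ⟨v₁, hv₁⟩ := hzne
    obtain ⟨k₁, hk₁⟩ : ∃ k₁, cf P k₁ ((z : Matrix (Fin n) (Fin n) F) *ᵥ v₁ - v₁) ≠ 0 := by
      by_contra hcon
      push Not at hcon
      apply hv₁
      have e : (z : Matrix (Fin n) (Fin n) F) *ᵥ v₁ - v₁ = 0 := by
        refine (decomp P _).trans ?_
        apply Finset.sum_eq_zero
        intro l _
        rw [hcon l, zero_smul]
      exact sub_eq_zero.mp e
    obtain ⟨s₁, hs₁⟩ : ∃ s₁ : (Fin n → F) →ₗ[F] F, s₁ = cf P k₁ ∘ₗ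
        (Matrix.toLin' (z : Matrix (Fin n) (Fin n) F) - LinearMap.id) := ⟨_, rfl⟩
    have hs₁v : ∀ v, s₁ v = cf P k₁ ((z : Matrix (Fin n) (Fin n) F) *ᵥ v - v) := by
      intro v
      rw [hs₁, LinearMap.comp_apply, LinearMap.sub_apply, Matrix.toLin'_apply, LinearMap.id_apply]
    have hs₁R : IsRatF F₀ P s₁ := fun x hx => by
      rw [hs₁v]
      exact isRat_cf (isRat_sub (hzr x hx) hx) k₁
    have hs₁0 : s₁ ≠ 0 := by
      intro h0
      apply hk₁
      rw [← hs₁v, h0, LinearMap.zero_apply]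
    have hs₁y : s₁ ((g : Matrix (Fin n) (Fin n) F) *ᵥ a') = 0 := by
      rw [hs₁v, hzy, sub_self, map_zero]
    obtain ⟨s₀, hs₀R, hs₀0, hs₀a⟩ := exists_ratF_kill (F₀ := F₀) (P := P) (by omega) ha'R
    have hT := TM_conj hg (h.rat (by omega) hs₀R ha'R hs₀a)
    obtain ⟨c, hc, hr⟩ := C_gen (by omega) h hT (comp_inv_ne_zero g hs₀0) hs₁R hs₁0 hs₁y
    exact L5_gen (by omega) h hg ha'R ha'0 hc hr

lemma finrank_eq_of_card (F₀ : Subfield F) {r : ℕ}
    (hcard : Fintype.card F = Nat.card F₀ ^ r) : Module.finrank F₀ F = r := by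
  classical
  letI : Fintype F₀ := Fintype.ofFinite F₀
  have h1 := Module.card_eq_pow_finrank (K := F₀) (V := F)
  rw [hcard, Nat.card_eq_fintype_card] at h1
  have h2 : 2 ≤ Fintype.card F₀ := Fintype.one_lt_card
  exact (Nat.pow_right_injective h2 h1).symm

lemma subfield_lt (hn : 2 ≤ n) (F₀ : Subfield F) (P : GL (Fin n) F)
    (hr2 : 2 ≤ Module.finrank F₀ F) :
    Cfsg.Geo.subfieldSubgroup F₀ P ⊓ Cfsg.Geo.specialLinear (Fin n) F <
      Cfsg.Geo.specialLinear (Fin n) F := by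
  classical
  refine lt_of_le_of_ne inf_le_right ?_
  intro heq
  obtain ⟨ω, hω⟩ : ∃ ω : F, ω ∉ F₀ := by
    by_contra hcon
    push Not at hcon
    letI : Fintype F₀ := Fintype.ofFinite F₀
    have h1 := Module.card_eq_pow_finrank (K := F₀) (V := F)
    have h2 : Fintype.card F₀ = Fintype.card F :=
      Fintype.card_congr (Equiv.subtypeUnivEquiv hcon)
    have h3 : 2 ≤ Fintype.card F₀ := Fintype.one_lt_card
    rw [← h2] at h1
    have h4 : Fintype.card F₀ ^ 1 = Fintype.card F₀ ^ Module.finrank F₀ F := by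
      rw [pow_one]
      exact h1
    have h5 := Nat.pow_right_injective h3 h4
    omega
  obtain ⟨j₀, hj₀⟩ : ∃ j₀ : Fin n, j₀ = ⟨0, by omega⟩ := ⟨_, rfl⟩
  obtain ⟨j₁, hj₁⟩ : ∃ j₁ : Fin n, j₁ = ⟨1, by omega⟩ := ⟨_, rfl⟩
  have h10 : j₁ ≠ j₀ := by
    rw [hj₀, hj₁]
    intro h
    have := congrArg Fin.val h
    simp at this
  obtain ⟨t, htS, htv⟩ := exists_rank_one (ω • cf P j₁) (ev P j₀)
    (by rw [LinearMap.smul_apply, cf_ev_ne P h10, smul_zero])
  have htH : t ∈ Cfsg.Geo.subfieldSubgroup F₀ P ⊓ Cfsg.Geo.specialLinear (Fin n) F := by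
    rw [heq]
    exact htS
  obtain ⟨μ, hμ0, hmap⟩ := rat_of_mem_subfield t (Subgroup.mem_inf.mp htH).1
  obtain ⟨r₀, hr₀, e₀⟩ := hmap (ev P j₀) (isRat_ev P j₀)
  obtain ⟨r₁, hr₁, e₁⟩ := hmap (ev P j₁) (isRat_ev P j₁)
  have f₀ := congrArg (cf P j₀) e₀
  have f₁ := congrArg (cf P j₀) e₁
  rw [htv, map_add, map_smul, map_smul, LinearMap.smul_apply, cf_ev_ne P h10, cf_ev_same,
    smul_eq_mul, smul_eq_mul, smul_eq_mul, mul_zero, zero_mul, add_zero] at f₀
  rw [htv, map_add, map_smul, map_smul, LinearMap.smul_apply, cf_ev_same, cf_ev_ne P h10.symm,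
    cf_ev_same, smul_eq_mul, smul_eq_mul, smul_eq_mul, mul_one, mul_one, zero_add] at f₁
  apply hω
  have hc0 : cf P j₀ r₀ ≠ 0 := by
    intro h0
    rw [h0, mul_zero] at f₀
    exact one_ne_zero f₀
  have hμe : μ = (cf P j₀ r₀)⁻¹ := eq_inv_of_mul_eq_one_left f₀.symm
  rw [f₁, hμe]
  exact F₀.mul_mem (F₀.inv_mem (isRat_cf hr₀ _)) (isRat_cf hr₁ _)

end Main

end Cfsg.Agent.Lib.Helper5.LSub
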