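import Mathlib
import Cfsg.Agent.Lib.Helper10.StAut11

/-!
# Sharply 4-transitive groups of degree 11 preserve an S(4,5,11) (helper5)

Let `G ≤ Sym(α)`, `|α| = 11`, be sharply `4`-transitive.  For four points `a b c d` let `τ ∈ G` swap
`a, b` and fix `c, d`; it is an involution with exactly three fixed points `c, d, e`.  The sets
`{a, b, c, d, e}` are the blocks of a Steiner system `S(4,5,11)` preserved by `G`: the key step is
that with the transposition `(a b)` also `(a c)` is induced on `{a,b,c,d,e}` by an element of `G`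
(`P_step`), because both invert the element `δ : a → b → c → a`, `d → d` of order `3`, whose fixed
points are exactly `d, e`.
-/

set_option autoImplicit false
set_option linter.unusedSectionVars false
set_option linter.style.haveILetI false

namespace Cfsg.Agent.Lib.Helper5.M11Sharp

open Cfsg Equiv

universe u

variable {α : Type u} [Fintype α] [DecidableEq α]

/-- four pairwise distinct points -/
def D4 (a b c d : α) : Prop := a ≠ b ∧ a ≠ c ∧ a ≠ d ∧ b ≠ c ∧ b ≠ d ∧ c ≠ d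

/-- five pairwise distinct points -/
def D5 (x y u v w : α) : Prop :=
  x ≠ y ∧ x ≠ u ∧ x ≠ v ∧ x ≠ w ∧ y ≠ u ∧ y ≠ v ∧ y ≠ w ∧ u ≠ v ∧ u ≠ w ∧ v ≠ w

/-- sharp 4-transitivity, elementwise -/
structure Sharp4 (G : Subgroup (Perm α)) : Prop where
  trans : ∀ a b c d a' b' c' d' : α, D4 a b c d → D4 a' b' c' d' →
    ∃ g ∈ G, g a = a' ∧ g b = b' ∧ g c = c' ∧ g d = d'
  sharp : ∀ g ∈ G, ∀ a b c d : α, D4 a b c d → g a = a → g b = b → g c = c → g d = d → g = 1

/-- the embedding with four given distinct values -/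
def emb4 (a b c d : α) (h : D4 a b c d) : Fin 4 ↪ α :=
  ⟨![a, b, c, d], by
    obtain ⟨h1, h2, h3, h4, h5, h6⟩ := h
    intro i j hij
    fin_cases i <;> fin_cases j <;> simp_all⟩

theorem emb4_zero (a b c d : α) (h : D4 a b c d) : emb4 a b c d h 0 = a := rfl
theorem emb4_one (a b c d : α) (h : D4 a b c d) : emb4 a b c d h 1 = b := rfl
theorem emb4_two (a b c d : α) (h : D4 a b c d) : emb4 a b c d h 2 = c := rfl
theorem emb4_three (a b c d : α) (h : D4 a b c d) : emb4 a b c d h 3 = d := rfl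

theorem smul_emb_apply (G : Subgroup (Perm α)) (g : G) (x : Fin 4 ↪ α) (i : Fin 4) :
    (g • x) i = (g : Perm α) (x i) := rfl

theorem inv_apply_self' (h : Perm α) (a : α) : h⁻¹ (h a) = a := Perm.inv_eq_iff_eq.mpr rfl

theorem sharp4_of (G : Subgroup (Perm α)) [h4 : MulAction.IsMultiplyPretransitive G α 4]
    (hsharp : ∀ x : Fin 4 ↪ α, MulAction.stabilizer G x = ⊥) : Sharp4 G := by
  constructor
  · intro a b c d a' b' c' d' h h'
    obtain ⟨g, hg⟩ := MulAction.exists_smul_eq G (emb4 a b c d h) (emb4 a' b' c' d' h')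
    refine ⟨g.1, g.2, ?_, ?_, ?_, ?_⟩
    · have := DFunLike.congr_fun hg 0
      rwa [smul_emb_apply, emb4_zero, emb4_zero] at this
    · have := DFunLike.congr_fun hg 1
      rwa [smul_emb_apply, emb4_one, emb4_one] at this
    · have := DFunLike.congr_fun hg 2
      rwa [smul_emb_apply, emb4_two, emb4_two] at this
    · have := DFunLike.congr_fun hg 3
      rwa [smul_emb_apply, emb4_three, emb4_three] at this
  · intro g hg a b c d h ha hb hc hd
    have hmem : (⟨g, hg⟩ : G) ∈ MulAction.stabilizer G (emb4 a b c d h) := by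
      rw [MulAction.mem_stabilizer_iff]
      ext i
      show g (emb4 a b c d h i) = emb4 a b c d h i
      fin_cases i
      · exact ha
      · exact hb
      · exact hc
      · exact hd
    rw [hsharp, Subgroup.mem_bot] at hmem
    exact congrArg Subtype.val hmem

theorem Sharp4.eq_of_agree {G : Subgroup (Perm α)} (hG : Sharp4 G) {g h : Perm α} (hg : g ∈ G)
    (hh : h ∈ G) {a b c d : α} (hD : D4 a b c d) (ha : g a = h a) (hb : g b = h b)
    (hc : g c = h c) (hd : g d = h d) : g = h := by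
  have key := hG.sharp (h⁻¹ * g) (G.mul_mem (G.inv_mem hh) hg) a b c d hD
    (by rw [Perm.mul_apply, ha, inv_apply_self'])
    (by rw [Perm.mul_apply, hb, inv_apply_self'])
    (by rw [Perm.mul_apply, hc, inv_apply_self'])
    (by rw [Perm.mul_apply, hd, inv_apply_self'])
  exact (inv_mul_eq_one.mp key).symm

theorem mem_fix (g : Perm α) (z : α) : z ∈ g.supportᶜ ↔ g z = z := by
  rw [Finset.mem_compl, Perm.mem_support, not_not]

theorem exists_D4_of_card {s : Finset α} (h : 4 ≤ s.card) :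
    ∃ a ∈ s, ∃ b ∈ s, ∃ c ∈ s, ∃ d ∈ s, D4 a b c d := by
  have hne : s.Nonempty := Finset.card_pos.mp (by omega)
  obtain ⟨a, ha⟩ := hne
  have h3 : 2 < (s.erase a).card := by rw [Finset.card_erase_of_mem ha]; omega
  obtain ⟨b, hb, c, hc, d, hd, hbc, hbd, hcd⟩ := Finset.two_lt_card.mp h3
  refine ⟨a, ha, b, Finset.mem_of_mem_erase hb, c, Finset.mem_of_mem_erase hc, d,
    Finset.mem_of_mem_erase hd, ?_⟩
  exact ⟨(Finset.ne_of_mem_erase hb).symm, (Finset.ne_of_mem_erase hc).symm,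
    (Finset.ne_of_mem_erase hd).symm, hbc, hbd, hcd⟩

theorem Sharp4.card_fix_le {G : Subgroup (Perm α)} (hG : Sharp4 G) {g : Perm α} (hg : g ∈ G)
    (h1 : g ≠ 1) : g.supportᶜ.card ≤ 3 := by
  by_contra h
  push Not at h
  obtain ⟨a, ha, b, hb, c, hc, d, hd, hD⟩ := exists_D4_of_card (s := g.supportᶜ) (by omega)
  exact h1 (hG.sharp g hg a b c d hD ((mem_fix g a).mp ha) ((mem_fix g b).mp hb)
    ((mem_fix g c).mp hc) ((mem_fix g d).mp hd))

/-- an involution fixing two points has a third fixed point -/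
theorem Sharp4.exists_third {G : Subgroup (Perm α)} (hG : Sharp4 G) (hα : Fintype.card α = 11)
    {g : Perm α} (hg : g ∈ G) (h1 : g ≠ 1) (h2 : g ^ 2 = 1) {c d : α} (hcd : c ≠ d)
    (hc : g c = c) (hd : g d = d) : ∃ e, e ≠ c ∧ e ≠ d ∧ g e = e := by
  haveI : Fact (Nat.Prime 2) := ⟨Nat.prime_two⟩
  have hmod := Perm.card_compl_support_modEq (p := 2) (n := 1) (σ := g) (by rwa [pow_one])
  rw [hα] at hmod
  unfold Nat.ModEq at hmod
  have hle := hG.card_fix_le hg h1
  have hge : 1 < g.supportᶜ.card :=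
    Finset.one_lt_card.mpr ⟨c, (mem_fix g c).mpr hc, d, (mem_fix g d).mpr hd, hcd⟩
  have h3 : g.supportᶜ.card = 3 := by omega
  have hdm : d ∈ g.supportᶜ.erase c := by
    rw [Finset.mem_erase]
    exact ⟨hcd.symm, (mem_fix g d).mpr hd⟩
  have hpos : 0 < ((g.supportᶜ.erase c).erase d).card := by
    rw [Finset.card_erase_of_mem hdm, Finset.card_erase_of_mem ((mem_fix g c).mpr hc), h3]
    norm_num
  obtain ⟨e, he⟩ := Finset.card_pos.mp hpos
  rw [Finset.mem_erase, Finset.mem_erase] at he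
  exact ⟨e, he.2.1, he.1, (mem_fix g e).mp he.2.2⟩

/-- an element of order three fixing a point has exactly one further fixed point -/
theorem Sharp4.fix_two {G : Subgroup (Perm α)} (hG : Sharp4 G) (hα : Fintype.card α = 11)
    {g : Perm α} (hg : g ∈ G) (h1 : g ≠ 1) (h3 : g ^ 3 = 1) {v : α} (hv : g v = v) :
    ∃ f, f ≠ v ∧ g f = f ∧ ∀ z, g z = z → z = v ∨ z = f := by
  haveI : Fact (Nat.Prime 3) := ⟨Nat.prime_three⟩
  have hmod := Perm.card_compl_support_modEq (p := 3) (n := 1) (σ := g) (by rwa [pow_one])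
  rw [hα] at hmod
  unfold Nat.ModEq at hmod
  have hle := hG.card_fix_le hg h1
  have h2 : g.supportᶜ.card = 2 := by omega
  obtain ⟨x, y, hxy, hs⟩ := Finset.card_eq_two.mp h2
  have hvm : v ∈ g.supportᶜ := (mem_fix g v).mpr hv
  have hall : ∀ z, g z = z → z = x ∨ z = y := by
    intro z hz
    have : z ∈ g.supportᶜ := (mem_fix g z).mpr hz
    rw [hs] at this
    simpa using this
  have hx : g x = x := (mem_fix g x).mp (by rw [hs]; simp)
  have hy : g y = y := (mem_fix g y).mp (by rw [hs]; simp)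
  rcases hall v hv with h | h
  · subst h
    exact ⟨y, hxy.symm, hy, hall⟩
  · subst h
    exact ⟨x, hxy, hx, fun z hz => (hall z hz).symm⟩

/-- some element of `G` swaps `x, y` and fixes `u, v, w` -/
def P (G : Subgroup (Perm α)) (x y u v w : α) : Prop :=
  ∃ g ∈ G, g x = y ∧ g y = x ∧ g u = u ∧ g v = v ∧ g w = w

/-- the key step: from the transposition `(x y)` to the transposition `(x u)` -/
theorem P_step {G : Subgroup (Perm α)} (hG : Sharp4 G) (hα : Fintype.card α = 11) {x y u v w : α}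
    (hD : D5 x y u v w) (hP : P G x y u v w) : P G x u y v w := by
  obtain ⟨hxy, hxu, hxv, hxw, hyu, hyv, hyw, huv, huw, hvw⟩ := hD
  obtain ⟨g, hg, gx, gy, gu, gv, gw⟩ := hP
  have D1 : D4 x y u v := ⟨hxy, hxu, hxv, hyu, hyv, huv⟩
  obtain ⟨δ, hδ, δx, δy, δu, δv⟩ := hG.trans x y u v y u x v D1
    ⟨hyu, hxy.symm, hyv, hxu.symm, huv, hxv⟩
  have hδ3 : δ ^ 3 = 1 := by
    apply hG.sharp _ (G.pow_mem hδ 3) x y u v D1
    · rw [pow_succ, pow_two, Perm.mul_apply, Perm.mul_apply, δx, δy, δu]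
    · rw [pow_succ, pow_two, Perm.mul_apply, Perm.mul_apply, δy, δu, δx]
    · rw [pow_succ, pow_two, Perm.mul_apply, Perm.mul_apply, δu, δx, δy]
    · rw [pow_succ, pow_two, Perm.mul_apply, Perm.mul_apply, δv, δv, δv]
  have hδ1 : δ ≠ 1 := by
    intro h
    rw [h, Perm.one_apply] at δx
    exact hxy δx
  obtain ⟨f, hfv, δf, hFix⟩ := hG.fix_two hα hδ hδ1 hδ3 δv
  have δix : δ⁻¹ x = u := by rw [Perm.inv_eq_iff_eq, δu]
  have δiy : δ⁻¹ y = x := by rw [Perm.inv_eq_iff_eq, δx]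
  have δiu : δ⁻¹ u = y := by rw [Perm.inv_eq_iff_eq, δy]
  have δiv : δ⁻¹ v = v := by rw [Perm.inv_eq_iff_eq, δv]
  have key : ∀ h ∈ G, h * δ = δ⁻¹ * h → h v = v → h f = f := by
    intro h _ hcomm hv
    have h1 : δ (h f) = h f := by
      have h0 := DFunLike.congr_fun hcomm f
      rw [Perm.mul_apply, Perm.mul_apply, δf] at h0
      rw [eq_comm, Perm.inv_eq_iff_eq] at h0
      exact h0.symm
    rcases hFix _ h1 with h2 | h2
    · exfalso
      apply hfv
      apply h.injective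
      rw [h2, hv]
    · exact h2
  have hgδ : g * δ = δ⁻¹ * g := by
    apply hG.eq_of_agree (G.mul_mem hg hδ) (G.mul_mem (G.inv_mem hδ) hg) D1
    · rw [Perm.mul_apply, Perm.mul_apply, δx, gy, gx, δiy]
    · rw [Perm.mul_apply, Perm.mul_apply, δy, gu, gy, δix]
    · rw [Perm.mul_apply, Perm.mul_apply, δu, gx, gu, δiu]
    · rw [Perm.mul_apply, Perm.mul_apply, δv, gv, δiv]
  have gf := key g hg hgδ gv
  have hfu : f ≠ u := by
    intro h
    rw [h, δu] at δf
    exact hxu δf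
  have hfw : f = w := by
    by_contra hne
    apply hxy
    have h1 := hG.sharp g hg u v w f ⟨huv, huw, Ne.symm hfu, hvw, Ne.symm hfv, Ne.symm hne⟩
      gu gv gw gf
    rw [h1, Perm.one_apply] at gx
    exact gx
  obtain ⟨τ, hτ, τx, τy, τu, τv⟩ := hG.trans x y u v u y x v D1
    ⟨hyu.symm, hxu.symm, huv, hxy.symm, hyv, hxv⟩
  have hτδ : τ * δ = δ⁻¹ * τ := by
    apply hG.eq_of_agree (G.mul_mem hτ hδ) (G.mul_mem (G.inv_mem hδ) hτ) D1
    · rw [Perm.mul_apply, Perm.mul_apply, δx, τy, τx, δiu]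
    · rw [Perm.mul_apply, Perm.mul_apply, δy, τu, τy, δiy]
    · rw [Perm.mul_apply, Perm.mul_apply, δu, τx, τu, δix]
    · rw [Perm.mul_apply, Perm.mul_apply, δv, τv, δiv]
  have τf := key τ hτ hτδ τv
  rw [hfw] at τf
  exact ⟨τ, hτ, τx, τu, τy, τv, τf⟩

/-- the transposition `(x y)` of `B` is induced by an element of `G` -/
def Tr (G : Subgroup (Perm α)) (B : Finset α) (x y : α) : Prop :=
  ∃ g ∈ G, g x = y ∧ g y = x ∧ ∀ z ∈ B, z ≠ x → z ≠ y → g z = z

theorem Tr.symm {G : Subgroup (Perm α)} {B : Finset α} {x y : α} (h : Tr G B x y) :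
    Tr G B y x := by
  obtain ⟨g, hg, gx, gy, gz⟩ := h
  exact ⟨g, hg, gy, gx, fun z hz h1 h2 => gz z hz h2 h1⟩

theorem Tr.step {G : Subgroup (Perm α)} (hG : Sharp4 G) (hα : Fintype.card α = 11)
    {B : Finset α} (hB : B.card = 5) {x y u : α} (hx : x ∈ B) (hy : y ∈ B) (hu : u ∈ B)
    (hxy : x ≠ y) (hux : u ≠ x) (huy : u ≠ y) (h : Tr G B x y) : Tr G B x u := by
  obtain ⟨g, hg, gx, gy, gz⟩ := h
  have hc : (((B.erase x).erase y).erase u).card = 2 := by
    rw [Finset.card_erase_of_mem, Finset.card_erase_of_mem, Finset.card_erase_of_mem hx, hB]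
    · rw [Finset.mem_erase]; exact ⟨hxy.symm, hy⟩
    · rw [Finset.mem_erase, Finset.mem_erase]; exact ⟨huy, hux, hu⟩
  obtain ⟨v, w, hvw, hC⟩ := Finset.card_eq_two.mp hc
  have hmemC : ∀ z, z ∈ ((B.erase x).erase y).erase u ↔ z ≠ u ∧ z ≠ y ∧ z ≠ x ∧ z ∈ B := by
    intro z
    rw [Finset.mem_erase, Finset.mem_erase, Finset.mem_erase]
  have hv : v ≠ u ∧ v ≠ y ∧ v ≠ x ∧ v ∈ B := (hmemC v).mp (by rw [hC]; simp)
  have hw : w ≠ u ∧ w ≠ y ∧ w ≠ x ∧ w ∈ B := (hmemC w).mp (by rw [hC]; simp)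
  have hD : D5 x y u v w := ⟨hxy, hux.symm, hv.2.2.1.symm, hw.2.2.1.symm, huy.symm,
    hv.2.1.symm, hw.2.1.symm, hv.1.symm, hw.1.symm, hvw⟩
  have hP : P G x y u v w := ⟨g, hg, gx, gy, gz u hu hux huy, gz v hv.2.2.2 hv.2.2.1 hv.2.1,
    gz w hw.2.2.2 hw.2.2.1 hw.2.1⟩
  obtain ⟨τ, hτ, τx, τu, τy, τv, τw⟩ := P_step hG hα hD hP
  refine ⟨τ, hτ, τx, τu, ?_⟩
  intro z hz hzx hzu
  by_cases hzy : z = y
  · rw [hzy]; exact τy
  · have : z ∈ ((B.erase x).erase y).erase u := (hmemC z).mpr ⟨hzu, hzy, hzx, hz⟩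
    rw [hC] at this
    simp only [Finset.mem_insert, Finset.mem_singleton] at this
    rcases this with h | h
    · rw [h]; exact τv
    · rw [h]; exact τw

theorem Tr.all {G : Subgroup (Perm α)} (hG : Sharp4 G) (hα : Fintype.card α = 11)
    {B : Finset α} (hB : B.card = 5) {a b : α} (ha : a ∈ B) (hb : b ∈ B) (hab : a ≠ b)
    (h : Tr G B a b) : ∀ x ∈ B, ∀ y ∈ B, x ≠ y → Tr G B x y := by
  have h1 : ∀ u ∈ B, u ≠ a → Tr G B a u := by
    intro u hu hua
    by_cases hub : u = b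
    · rw [hub]; exact h
    · exact Tr.step hG hα hB ha hb hu hab hua hub h
  intro x hx y hy hxy
  by_cases hxa : x = a
  · rw [hxa]
    exact h1 y hy (by rw [← hxa]; exact hxy.symm)
  · have h2 : Tr G B x a := (h1 x hx hxa).symm
    by_cases hya : y = a
    · rw [hya]; exact h2
    · exact Tr.step hG hα hB hx ha hy hxa hxy.symm hya h2

/-- the blocks -/
def Blocks (G : Subgroup (Perm α)) : Set (Finset α) :=
  {B | B.card = 5 ∧ ∀ x ∈ B, ∀ y ∈ B, x ≠ y → Tr G B x y}

theorem exists_eq_four {s : Finset α} (hs : s.card = 4) :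
    ∃ a b c d, D4 a b c d ∧ s = {a, b, c, d} := by
  obtain ⟨a, ha, b, hb, c, hc, d, hd, hD⟩ := exists_D4_of_card (s := s) (by omega)
  refine ⟨a, b, c, d, hD, ?_⟩
  obtain ⟨h1, h2, h3, h4, h5, h6⟩ := hD
  symm
  apply Finset.eq_of_subset_of_card_le
  · intro z hz
    simp only [Finset.mem_insert, Finset.mem_singleton] at hz
    rcases hz with rfl | rfl | rfl | rfl <;> assumption
  · rw [hs, Finset.card_insert_of_notMem, Finset.card_insert_of_notMem,
      Finset.card_insert_of_notMem, Finset.card_singleton]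
    · simp [h6]
    · simp [h4, h5]
    · simp [h1, h2, h3]

theorem steiner_blocks {G : Subgroup (Perm α)} (hG : Sharp4 G) (hα : Fintype.card α = 11) :
    IsSteinerSystem 4 5 (Blocks G) := by
  refine ⟨fun b hb => hb.1, ?_⟩
  intro s hs
  obtain ⟨a, b, c, d, hD, rfl⟩ := exists_eq_four hs
  obtain ⟨hab, hac, had, hbc, hbd, hcd⟩ := hD
  have hD' : D4 a b c d := ⟨hab, hac, had, hbc, hbd, hcd⟩
  obtain ⟨τ, hτ, τa, τb, τc, τd⟩ := hG.trans a b c d b a c d hD'
    ⟨hab.symm, hbc, hbd, hac, had, hcd⟩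
  have hτ2 : τ ^ 2 = 1 := by
    apply hG.sharp _ (G.pow_mem hτ 2) a b c d hD'
    · rw [pow_two, Perm.mul_apply, τa, τb]
    · rw [pow_two, Perm.mul_apply, τb, τa]
    · rw [pow_two, Perm.mul_apply, τc, τc]
    · rw [pow_two, Perm.mul_apply, τd, τd]
  have hτ1 : τ ≠ 1 := by
    intro h
    rw [h, Perm.one_apply] at τa
    exact hab τa
  obtain ⟨e, hec, hed, τe⟩ := hG.exists_third hα hτ hτ1 hτ2 hcd τc τd
  have hea : e ≠ a := by
    intro h
    rw [h, τa] at τe
    exact hab τe.symm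
  have heb : e ≠ b := by
    intro h
    rw [h, τb] at τe
    exact hab τe
  have hes : e ∉ ({a, b, c, d} : Finset α) := by
    simp only [Finset.mem_insert, Finset.mem_singleton, not_or]
    exact ⟨hea, heb, hec, hed⟩
  have hmem : ∀ z, z ∈ insert e ({a, b, c, d} : Finset α) ↔
      z = e ∨ z = a ∨ z = b ∨ z = c ∨ z = d := by
    intro z
    simp only [Finset.mem_insert, Finset.mem_singleton]
  have hB5 : (insert e ({a, b, c, d} : Finset α)).card = 5 := by
    rw [Finset.card_insert_of_notMem hes, hs]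
  have hTr : Tr G (insert e ({a, b, c, d} : Finset α)) a b := by
    refine ⟨τ, hτ, τa, τb, ?_⟩
    intro z hz hza hzb
    rcases (hmem z).mp hz with h | h | h | h | h
    · rw [h]; exact τe
    · exact absurd h hza
    · exact absurd h hzb
    · rw [h]; exact τc
    · rw [h]; exact τd
  have haB : a ∈ insert e ({a, b, c, d} : Finset α) := (hmem a).mpr (Or.inr (Or.inl rfl))
  have hbB : b ∈ insert e ({a, b, c, d} : Finset α) :=
    (hmem b).mpr (Or.inr (Or.inr (Or.inl rfl)))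
  refine ⟨insert e ({a, b, c, d} : Finset α),
    ⟨⟨hB5, Tr.all hG hα hB5 haB hbB hab hTr⟩, Finset.subset_insert _ _⟩, ?_⟩
  -- uniqueness
  rintro B' ⟨⟨hB'5, hB'tr⟩, hsub⟩
  have ha' : a ∈ B' := hsub (by simp)
  have hb' : b ∈ B' := hsub (by simp)
  have hc' : c ∈ B' := hsub (by simp)
  have hd' : d ∈ B' := hsub (by simp)
  have hdiff : (B' \ ({a, b, c, d} : Finset α)).card = 1 := by
    rw [Finset.card_sdiff_of_subset hsub, hB'5, hs]
  obtain ⟨e', he'⟩ := Finset.card_eq_one.mp hdiff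
  have he'mem : e' ∈ B' \ ({a, b, c, d} : Finset α) := by rw [he']; simp
  rw [Finset.mem_sdiff] at he'mem
  obtain ⟨he'B, he's⟩ := he'mem
  simp only [Finset.mem_insert, Finset.mem_singleton, not_or] at he's
  obtain ⟨he'a, he'b, he'c, he'd⟩ := he's
  obtain ⟨g, hg, ga, gb, gz⟩ := hB'tr a ha' b hb' hab
  have gc := gz c hc' hac.symm hbc.symm
  have gd := gz d hd' had.symm hbd.symm
  have ge' := gz e' he'B he'a he'b
  have hgτ : g = τ := hG.eq_of_agree hg hτ hD' (by rw [ga, τa]) (by rw [gb, τb])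
    (by rw [gc, τc]) (by rw [gd, τd])
  rw [hgτ] at ge'
  have hee' : e' = e := by
    by_contra hne
    apply hτ1
    exact hG.sharp τ hτ c d e e' ⟨hcd, hec.symm, Ne.symm he'c, hed.symm, Ne.symm he'd, Ne.symm hne⟩
      τc τd τe ge'
  have hB'eq : B' = (B' \ ({a, b, c, d} : Finset α)) ∪ ({a, b, c, d} : Finset α) :=
    (Finset.sdiff_union_of_subset hsub).symm
  rw [hB'eq, he', hee']
  rfl

theorem image_mem_blocks {G : Subgroup (Perm α)} {σ : Perm α} (hσ : σ ∈ G) {B : Finset α}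
    (hB : B ∈ Blocks G) : B.image σ ∈ Blocks G := by
  obtain ⟨hB5, hBtr⟩ := hB
  refine ⟨by rw [Finset.card_image_of_injective _ σ.injective, hB5], ?_⟩
  intro x' hx' y' hy' hxy'
  obtain ⟨x, hx, rfl⟩ := Finset.mem_image.mp hx'
  obtain ⟨y, hy, rfl⟩ := Finset.mem_image.mp hy'
  have hxy : x ≠ y := fun h => hxy' (by rw [h])
  obtain ⟨g, hg, gx, gy, gz⟩ := hBtr x hx y hy hxy
  refine ⟨σ * g * σ⁻¹, G.mul_mem (G.mul_mem hσ hg) (G.inv_mem hσ), ?_, ?_, ?_⟩
  · rw [Perm.mul_apply, Perm.mul_apply, inv_apply_self', gx]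
  · rw [Perm.mul_apply, Perm.mul_apply, inv_apply_self', gy]
  · intro z' hz' hzx hzy
    obtain ⟨z, hz, rfl⟩ := Finset.mem_image.mp hz'
    rw [Perm.mul_apply, Perm.mul_apply, inv_apply_self',
      gz z hz (fun h => hzx (by rw [h])) (fun h => hzy (by rw [h]))]

theorem le_aut_blocks (G : Subgroup (Perm α)) : G ≤ setSystemAut (Blocks G) := by
  intro σ hσ
  apply Cfsg.Agent.Lib.Helper10.StCert.mem_aut_of_forall
  · intro b hb
    exact image_mem_blocks hσ hb
  · intro b hb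
    exact image_mem_blocks (G.inv_mem hσ) hb

end Cfsg.Agent.Lib.Helper5.M11Sharp
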