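import Mathlib
import Cfsg.Agent.Lib.Helper5.M11SharpA

/-!
# Sharply 4-transitive groups of degree 11 are isomorphic to the Mathieu group M₁₁ (helper5)

`iso_kgrp_of_sharply_four`: a sharply `4`-transitive subgroup of `Sym(α)`, `|α| = 11`, is isomorphic
to the stabiliser in `M₂₄` of a dodecad and a point of it.
`iso_kgrp_of_action`: the same for a group acting sharply `4`-transitively on `11` points.

Route: the invariant Steiner system `Blocks G` of `M11SharpA`, the uniqueness of `S(4,5,11)` and
the determination of its automorphism group (helper10, `StUnique`, `StAut11`).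
-/

set_option autoImplicit false
set_option linter.unusedSectionVars false
set_option linter.style.haveILetI false

namespace Cfsg.Agent.Lib.Helper5.M11Sharp

open Cfsg Equiv Cfsg.Agent.Lib.Helper10.StCert Cfsg.Agent.Lib.Helper28.SteinerDerived
open Cfsg.Agent.S1602 (Kgrp)
open scoped Pointwise

theorem sharpOn_of_steiner {α : Type*} [Fintype α] [DecidableEq α] (hα : Fintype.card α = 11)
    {B : Set (Finset α)} (hB : IsSteinerSystem 4 5 B) : SharpOn 4 B := by
  intro g hg x hx
  have h := (steiner_4_5_11_aut hα hB).2.2 x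
  have hmem : (⟨g, hg⟩ : setSystemAut B) ∈ MulAction.stabilizer (setSystemAut B) x := by
    rw [MulAction.mem_stabilizer_iff]
    ext i
    exact hx i
  rw [h, Subgroup.mem_bot] at hmem
  exact congrArg Subtype.val hmem

/-- a sharply 4-transitive group of degree 11 is the automorphism group of an `S(4,5,11)` -/
theorem exists_steiner_iso {α : Type*} [Fintype α] [DecidableEq α] (hα : Fintype.card α = 11)
    (G : Subgroup (Perm α)) [h4 : MulAction.IsMultiplyPretransitive G α 4]
    (hsharp : ∀ x : Fin 4 ↪ α, MulAction.stabilizer G x = ⊥) :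
    ∃ B : Set (Finset α), IsSteinerSystem 4 5 B ∧ Nonempty (G ≃* setSystemAut B) := by
  have hG := sharp4_of G hsharp
  have hB := steiner_blocks hG hα
  refine ⟨Blocks G, hB, ?_⟩
  have hle := le_aut_blocks G
  have htr : ∀ x y : Fin 4 ↪ α, ∃ m : G, ∀ i,
      ((Subgroup.inclusion hle m : setSystemAut (Blocks G)) : Perm α) (x i) = y i := by
    intro x y
    obtain ⟨g, hg⟩ := MulAction.exists_smul_eq G x y
    exact ⟨g, fun i => DFunLike.congr_fun hg i⟩
  have hbij := bijective_of_sharp (n := 4) (by rw [hα]; norm_num) (Subgroup.inclusion hle)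
    (Subgroup.inclusion_injective hle) htr (sharpOn_of_steiner hα hB)
  exact ⟨MulEquiv.ofBijective _ hbij⟩

/-- the automorphism group of any `S(4,5,11)` is the stabiliser of a dodecad and a point -/
theorem aut_iso_kgrp {α : Type*} [Fintype α] [DecidableEq α] (hα : Fintype.card α = 11)
    {B : Set (Finset α)} (hB : IsSteinerSystem 4 5 B) (d : Finset GolayPt) (hd : d ∈ dodecads)
    (p : GolayPt) (hp : p ∈ d) : Nonempty (setSystemAut B ≃* Kgrp d p) := by
  have hH := isSteiner_Pent hd hp
  have hc := card_erase_pts hd hp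
  obtain ⟨e, he⟩ := iso_std11 hα hB
  obtain ⟨e', he'⟩ := iso_std11 hc hH
  have E_B : ↥(setSystemAut B) ≃* ↥(setSystemAut (Std 11 std11)) := by
    have := autCongr e B
    have he2 : imgSys e B = Std 11 std11 := he
    rwa [he2] at this
  have E_H : ↥(setSystemAut (Pent d p)) ≃* ↥(setSystemAut (Std 11 std11)) := by
    have := autCongr e' (Pent d p)
    have he2 : imgSys e' (Pent d p) = Std 11 std11 := he'
    rwa [he2] at this
  have hbij := bijective_of_sharp (n := 4) (by rw [hc]; norm_num) (rho11 d p)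
    (rho11_injective hd hp) (rho11_trans hd hp) (sharpOn_of_steiner hc hH)
  have E1 : ↥(Kgrp d p) ≃* ↥(setSystemAut (Pent d p)) := MulEquiv.ofBijective (rho11 d p) hbij
  exact ⟨E_B.trans (E_H.symm.trans E1.symm)⟩

/-- **sharply 4-transitive of degree 11 ⇒ M₁₁** (permutation group form) -/
theorem iso_kgrp_of_sharply_four {α : Type*} [Fintype α] [DecidableEq α]
    (hα : Fintype.card α = 11) (G : Subgroup (Perm α))
    [h4 : MulAction.IsMultiplyPretransitive G α 4]
    (hsharp : ∀ x : Fin 4 ↪ α, MulAction.stabilizer G x = ⊥) (d : Finset GolayPt)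
    (hd : d ∈ dodecads) (p : GolayPt) (hp : p ∈ d) :
    Nonempty (G ≃* ↥(MulAction.stabilizer M24 d ⊓ MulAction.stabilizer M24 p)) := by
  obtain ⟨B, hB, ⟨E⟩⟩ := exists_steiner_iso hα G hsharp
  obtain ⟨E'⟩ := aut_iso_kgrp hα hB d hd p hp
  exact ⟨E.trans E'⟩

/-- **sharply 4-transitive of degree 11 ⇒ M₁₁** (group action form) -/
theorem iso_kgrp_of_action {G : Type*} [Group G] {Ω : Type*} [Fintype Ω] [DecidableEq Ω]
    [MulAction G Ω] (hΩ : Fintype.card Ω = 11) [h4 : MulAction.IsMultiplyPretransitive G Ω 4]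
    (hsharp : ∀ x : Fin 4 ↪ Ω, MulAction.stabilizer G x = ⊥) (d : Finset GolayPt)
    (hd : d ∈ dodecads) (p : GolayPt) (hp : p ∈ d) :
    Nonempty (G ≃* ↥(MulAction.stabilizer M24 d ⊓ MulAction.stabilizer M24 p)) := by
  obtain ⟨x₀⟩ : Nonempty (Fin 4 ↪ Ω) :=
    Function.Embedding.nonempty_of_card_le (by rw [Fintype.card_fin, hΩ]; norm_num)
  set φ : G →* Perm Ω := MulAction.toPermHom G Ω with hφ
  have hφa : ∀ (g : G) (a : Ω), φ g a = g • a := fun g a => rfl
  have hinj : Function.Injective φ := by
    rw [injective_iff_map_eq_one]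
    intro g hg
    have hmem : g ∈ MulAction.stabilizer G x₀ := by
      rw [MulAction.mem_stabilizer_iff]
      ext i
      rw [Function.Embedding.smul_apply, ← hφa, hg, Perm.one_apply]
    rw [hsharp, Subgroup.mem_bot] at hmem
    exact hmem
  have E0 : G ≃* ↥φ.range := MonoidHom.ofInjective hinj
  haveI : MulAction.IsMultiplyPretransitive ↥φ.range Ω 4 := by
    refine ⟨fun x y => ?_⟩
    obtain ⟨g, hg⟩ := MulAction.exists_smul_eq G x y
    refine ⟨⟨φ g, g, rfl⟩, ?_⟩
    ext i
    have := DFunLike.congr_fun hg i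
    rw [Function.Embedding.smul_apply] at this
    exact this
  have hsharp' : ∀ x : Fin 4 ↪ Ω, MulAction.stabilizer ↥φ.range x = ⊥ := by
    intro x
    rw [Subgroup.eq_bot_iff_forall]
    rintro ⟨_, g, rfl⟩ hmem
    rw [MulAction.mem_stabilizer_iff] at hmem
    have hg : g ∈ MulAction.stabilizer G x := by
      rw [MulAction.mem_stabilizer_iff]
      ext i
      have := DFunLike.congr_fun hmem i
      rw [Function.Embedding.smul_apply]
      exact this
    rw [hsharp, Subgroup.mem_bot] at hg
    apply Subtype.ext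
    show φ g = 1
    rw [hg, map_one]
  obtain ⟨E⟩ := iso_kgrp_of_sharply_four hΩ φ.range hsharp' d hd p hp
  exact ⟨E0.trans E⟩

end Cfsg.Agent.Lib.Helper5.M11Sharp
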