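import Mathlib
import Cfsg.Agent.Lib.Helper5.M11D

/-!
# Simple groups of order 7920, part E: the degrees of the irreducible characters (helper5)

A character of degree `10` shows that no element of order `5` commutes with an involution, whence
`N(Q) = 5 : 4` is a Frobenius group for a Sylow `5`-subgroup `Q`.  The values at an element `y` of
order `5` are integers `c` with `∑ c² = 5`, `c ≡ χ(1) (mod 5)`; this excludes the degree pattern
`1, 10, 10, 12, 12, 5, 5` for the principal `11`-block and, in the pattern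
`1, 10, 10, 10, 45, 16, 16`, forces the remaining characters to have degrees `11, 44, 55`.
-/

set_option autoImplicit false
set_option linter.unusedSectionVars false
set_option linter.style.haveILetI false

namespace Cfsg.Agent.Lib.Helper5.M11

open MulAction Cfsg Cfsg.Agent.Lib.Helper8.SmallSimple Cfsg.Agent.Lib.Helper8.SmallSimple2
  Cfsg.Agent.Lib.Helper7 Cfsg.Agent.Lib.Helper19.Ord4032 Cfsg.Agent.CharLib
  Cfsg.Agent.Lib.Helper24 Cfsg.Agent.Lib.Helper12.BSF Cfsg.Agent.Lib.Helper6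
  Cfsg.Agent.Lib.Helper19.Ord720
open scoped ComplexConjugate

universe u

/-- integers whose squares sum to two -/
theorem sq_sum_two {α : Type*} [DecidableEq α] (s : Finset α) (c : α → ℤ)
    (h : ∑ a ∈ s, c a ^ 2 = 2) :
    ∃ u ∈ s, ∃ v ∈ s, u ≠ v ∧ (c u = 1 ∨ c u = -1) ∧ (c v = 1 ∨ c v = -1) ∧
      ∀ b ∈ s, b ≠ u → b ≠ v → c b = 0 := by
  set t := s.filter (fun a => c a ≠ 0) with ht
  have hts : t ⊆ s := Finset.filter_subset _ _
  have hsum : ∑ a ∈ t, c a ^ 2 = 2 := by
    rw [ht, Finset.sum_filter_of_ne]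
    · exact h
    · intro x _ hx h0
      apply hx
      rw [h0]
      norm_num
  have hpm : ∀ a ∈ t, c a = 1 ∨ c a = -1 := by
    intro a ha
    have h0 : c a ≠ 0 := (Finset.mem_filter.mp ha).2
    have h1 := Finset.single_le_sum (f := fun x => c x ^ 2) (fun x _ => sq_nonneg (c x)) ha
    have h1' : c a ^ 2 ≤ 2 := by rw [← hsum]; exact h1
    have h3 : -1 ≤ c a := by nlinarith
    have h4 : c a ≤ 1 := by nlinarith
    omega
  have hone : ∀ a ∈ t, c a ^ 2 = 1 := by
    intro a ha
    rcases hpm a ha with h | h <;> rw [h] <;> norm_num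
  have hcard : t.card = 2 := by
    have h1 : ∑ a ∈ t, c a ^ 2 = ∑ a ∈ t, (1 : ℤ) := Finset.sum_congr rfl hone
    rw [hsum, Finset.sum_const, nsmul_eq_mul, mul_one] at h1
    exact_mod_cast h1.symm
  obtain ⟨u, v, huv, htuv⟩ := Finset.card_eq_two.mp hcard
  have hut : u ∈ t := by rw [htuv]; simp
  have hvt : v ∈ t := by rw [htuv]; simp
  refine ⟨u, hts hut, v, hts hvt, huv, hpm u hut, hpm v hvt, ?_⟩
  intro b hb hbu hbv
  by_contra h0
  have hbt : b ∈ t := Finset.mem_filter.mpr ⟨hb, h0⟩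
  rw [htuv] at hbt
  simp only [Finset.mem_insert, Finset.mem_singleton] at hbt
  rcases hbt with h | h
  · exact hbu h
  · exact hbv h

theorem count_spec (n : ℕ) :
    List.count n [11, 44, 55, 10, 10, 10, 45, 1, 16, 16] =
      (if n = 1 ∨ n = 11 ∨ n = 44 ∨ n = 45 ∨ n = 55 then 1 else if n = 10 then 3
        else if n = 16 then 2 else 0) := by
  by_cases h1 : n = 1
  · subst h1; decide
  by_cases h11 : n = 11
  · subst h11; decide
  by_cases h44 : n = 44
  · subst h44; decide
  by_cases h45 : n = 45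
  · subst h45; decide
  by_cases h55 : n = 55
  · subst h55; decide
  by_cases h10 : n = 10
  · subst h10; decide
  by_cases h16 : n = 16
  · subst h16; decide
  rw [if_neg (by omega), if_neg h10, if_neg h16]
  apply List.count_eq_zero.mpr
  simp only [List.mem_cons, List.not_mem_nil, or_false, not_or]
  omega

section main

variable {G : Type u} [Group G] [Finite G]

/-- the value at an element of order `5` whose non-trivial powers are all conjugate -/
theorem char_data5 [Fact (Nat.Prime 5)] (Q : Sylow 5 G) (hQ : Nat.card ↥(Q : Subgroup G) = 5)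
    (y : G) (hconj : ∀ x ∈ (Q : Subgroup G), x ≠ 1 → IsConj x y) (χ : IrrCharacter G) :
    ∃ c : ℤ, (χ : G → ℂ) y = c ∧ (5 : ℤ) ∣ (charDegree (χ : G → ℂ) : ℤ) - c := by
  classical
  letI : Fintype ↥(Q : Subgroup G) := Fintype.ofFinite _
  have hd := irr_apply_one χ
  have hχ := IsIrrCharacter.isCharacter χ.2
  have hcl : IsClassFunction G (χ : G → ℂ) := IsCharacter.isClassFunction hχ
  have s1 := sum_subgroup_of_conj (Q : Subgroup G) (χ : G → ℂ) hcl y hconj
  obtain ⟨a, ha⟩ := exists_nat_sum_subgroup (Q : Subgroup G) hχ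
  rw [ha, hQ, hd] at s1
  have hq : (χ : G → ℂ) y =
      (((5 * (a : ℚ) - (charDegree (χ : G → ℂ) : ℚ)) / 4 : ℚ) : ℂ) := by
    push_cast
    push_cast at s1
    linear_combination (-1 / 4 : ℂ) * s1
  have hint : IsIntegral ℤ ((χ : G → ℂ) y) := irr_isIntegral χ y
  rw [hq] at hint
  have h2 : IsIntegral ℤ ((5 * (a : ℚ) - (charDegree (χ : G → ℂ) : ℚ)) / 4 : ℚ) :=
    (isIntegral_algebraMap_iff (algebraMap ℚ ℂ).injective (R := ℤ)
      (x := ((5 * (a : ℚ) - (charDegree (χ : G → ℂ) : ℚ)) / 4 : ℚ))).mp hint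
  obtain ⟨v, hv⟩ := IsIntegrallyClosed.isIntegral_iff.mp h2
  have hv' : ((v : ℤ) : ℚ) = (5 * (a : ℚ) - (charDegree (χ : G → ℂ) : ℚ)) / 4 := hv
  have hcy : (χ : G → ℂ) y = (v : ℂ) := by
    rw [hq, ← hv']
    push_cast
    rfl
  have hrel : (charDegree (χ : G → ℂ) : ℤ) + 4 * v = 5 * a := by
    have h3 : (((charDegree (χ : G → ℂ) : ℕ) : ℤ) : ℚ) + 4 * (v : ℚ) = 5 * ((a : ℤ) : ℚ) := by
      rw [hv']
      push_cast
      ring
    exact_mod_cast h3
  exact ⟨v, hcy, ⟨(a : ℤ) - v, by linarith⟩⟩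

set_option maxHeartbeats 1600000 in
/-- the multiset of the degrees of the irreducible characters -/
theorem degrees_multiset [IsSimpleGroup G] (hG : Nat.card G = 7920) :
    (@Finset.univ (IrrCharacter G) (fintypeIrr G)).val.map
        (fun χ : IrrCharacter G => charDegree (χ : G → ℂ)) =
      (↑[11, 44, 55, 10, 10, 10, 45, 1, 16, 16] : Multiset ℕ) := by
  classical
  letI : Fintype G := Fintype.ofFinite G
  letI : Fintype (IrrCharacter G) := fintypeIrr G
  haveI : Fact (Nat.Prime 5) := ⟨by norm_num⟩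
  have hnc : ¬ IsMulCommutative G := by
    apply not_comm_of_card_not_prime
    rw [hG]; norm_num
  obtain ⟨S, hS, hout⟩ := block11 hG
  set deg : IrrCharacter G → ℕ := fun χ => charDegree (χ : G → ℂ) with hdeg
  have hpos : ∀ χ, 0 < deg χ := fun χ => irr_charDegree_pos χ
  -- a character of degree `10`
  have h10 : ∃ χ : IrrCharacter G, deg χ = 10 := by
    have hmem : 10 ∈ S.val.map deg := by
      rcases hS with h | h <;> rw [h] <;> decide
    obtain ⟨χ, -, hχ⟩ := Multiset.mem_map.mp hmem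
    exact ⟨χ, hχ⟩
  obtain ⟨χ10, hχ10⟩ := h10
  have h5fac : (Nat.card G).factorization 5 = 1 := by
    rw [hG, show (7920 : ℕ) = 5 * 1584 from rfl,
      Nat.factorization_mul (by norm_num) (by norm_num)]
    simp only [Finsupp.coe_add, Pi.add_apply]
    rw [(by norm_num : Nat.Prime 5).factorization_self,
      Nat.factorization_eq_zero_of_not_dvd (by norm_num)]
  have hno : ∀ q z : G, orderOf q = 5 → orderOf z = 2 → q * z = z * q → False :=
    fun q z hq hz hqz => no_order_ten hnc h5fac χ10 hχ10 q z hq hz hqz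
  obtain ⟨Q⟩ : Nonempty (Sylow 5 G) := inferInstance
  obtain ⟨hQ, hNc, hCc⟩ := sylow5_data hG hno Q
  have hC := centralizer_eq_of_card Q hQ hCc
  obtain ⟨u, huN, hu⟩ := exists_order_four Q hQ hNc hC
  obtain ⟨y, hyQ, hy⟩ := exists_prime_order_mem (Q : Subgroup G) 5 (by rw [hQ])
  have hy1 : y ≠ 1 := by
    intro h
    rw [h, orderOf_one] at hy
    omega
  have hconj := isConj_of_mem_sylow Q hQ hC u huN hu y hyQ hy1
  choose c hcy h5₀ using char_data5 Q hQ y hconj
  have h5 : ∀ χ : IrrCharacter G, (5 : ℤ) ∣ (deg χ : ℤ) - c χ := fun χ => h5₀ χ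
  have hout' : ∀ χ : IrrCharacter G, χ ∉ S → 11 ∣ deg χ := fun χ hχ => hout χ hχ
  have hd1 : ∀ χ : IrrCharacter G, (χ : G → ℂ) 1 = (deg χ : ℂ) := fun χ => irr_apply_one χ
  -- the centralizer of `y`
  have hCy : Nat.card ↥(Subgroup.centralizer ({y} : Set G)) = 5 := by
    have hzy : Subgroup.zpowers y = (Q : Subgroup G) := by
      apply le_antisymm
      · rw [Subgroup.zpowers_le]; exact hyQ
      · exact le_zpowers_of_card_prime 5 (Q : Subgroup G) hQ y hyQ hy1
    rw [← centralizer_zpowers_eq', hzy, hC, hQ]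
  -- column orthogonality
  have hB : ∑ χ : IrrCharacter G, c χ ^ 2 = 5 := by
    have h := sum_irr_mul_conj (G := G) y y
    rw [classInd_self, one_mul, hCy] at h
    have h3 : ∀ χ : IrrCharacter G, (χ : G → ℂ) y * conj ((χ : G → ℂ) y) =
        ((c χ ^ 2 : ℤ) : ℂ) := by
      intro χ
      rw [hcy χ, map_intCast]
      push_cast
      ring
    simp only [h3] at h
    exact_mod_cast h
  have hnc1 : ¬ IsConj (1 : G) y := by
    rw [isConj_one_right]
    exact hy1
  have hD : ∑ χ : IrrCharacter G, (deg χ : ℤ) * c χ = 0 := by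
    have h := sum_irr_mul_conj (G := G) 1 y
    rw [classInd_of_not hnc1, zero_mul] at h
    have h3 : ∀ χ : IrrCharacter G, (χ : G → ℂ) 1 * conj ((χ : G → ℂ) y) =
        (((deg χ : ℤ) * c χ : ℤ) : ℂ) := by
      intro χ
      rw [hcy χ, hd1 χ, map_intCast]
      push_cast
      ring
    simp only [h3] at h
    exact_mod_cast h
  have hE : ∑ χ : IrrCharacter G, (deg χ : ℤ) ^ 2 = 7920 := by
    have := sum_deg_sq (G := G)
    rw [hG] at this
    exact_mod_cast this
  -- the values `c χ`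
  have hcb : ∀ χ, c χ ^ 2 ≤ 5 := by
    intro χ
    have := Finset.single_le_sum (f := fun χ => c χ ^ 2) (fun x _ => sq_nonneg (c x))
      (Finset.mem_univ χ)
    have h' : c χ ^ 2 ≤ ∑ χ : IrrCharacter G, c χ ^ 2 := this
    rw [hB] at h'
    exact h'
  have hcr : ∀ χ, c χ = -2 ∨ c χ = -1 ∨ c χ = 0 ∨ c χ = 1 ∨ c χ = 2 := by
    intro χ
    have hb := hcb χ
    have hlo : -2 ≤ c χ := by nlinarith
    have hhi : c χ ≤ 2 := by nlinarith
    omega
  have hc0 : ∀ χ, deg χ % 5 = 0 → c χ = 0 := by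
    intro χ hm
    obtain ⟨k, hk⟩ := h5 χ
    rcases hcr χ with h | h | h | h | h <;> omega
  have hc1 : ∀ χ, deg χ % 5 = 1 → c χ = 1 := by
    intro χ hm
    obtain ⟨k, hk⟩ := h5 χ
    rcases hcr χ with h | h | h | h | h <;> omega
  have hc2 : ∀ χ, deg χ % 5 = 2 → c χ ^ 2 = 4 := by
    intro χ hm
    obtain ⟨k, hk⟩ := h5 χ
    rcases hcr χ with h | h | h | h | h
    · rw [h]; norm_num
    · omega
    · omega
    · omega
    · rw [h]; norm_num
  have hsumS : ∀ g : ℕ → ℤ, ∑ χ ∈ S, g (deg χ) = ((S.val.map deg).map g).sum := by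
    intro g
    rw [Multiset.map_map]
    rfl
  rcases hS with hA | hBm
  · -- the pattern `1, 10, 10, 12, 12, 5, 5` is impossible
    exfalso
    have h1 : ∑ χ ∈ S, c χ ^ 2 ≤ 5 := by
      rw [← hB]
      exact Finset.sum_le_sum_of_subset_of_nonneg (Finset.subset_univ _)
        (fun _ _ _ => sq_nonneg _)
    have h2 : ∑ χ ∈ S, (fun n : ℕ => if n = 12 then (4 : ℤ) else 0) (deg χ) ≤
        ∑ χ ∈ S, c χ ^ 2 := by
      apply Finset.sum_le_sum
      intro χ _
      by_cases h : deg χ = 12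
      · simp only [h, if_true]
        rw [hc2 χ (by rw [h])]
      · simp only [h, if_false]
        exact sq_nonneg _
    have e := hsumS (fun n : ℕ => if n = 12 then (4 : ℤ) else 0)
    rw [hA] at e
    have h3 : (Multiset.map (fun n : ℕ => if n = 12 then (4 : ℤ) else 0)
        (↑[10, 10, 12, 12, 1, 5, 5] : Multiset ℕ)).sum = 8 := by decide
    rw [h3] at e
    have h2' : (8 : ℤ) ≤ ∑ χ ∈ S, c χ ^ 2 := by
      rw [← e]
      exact h2
    omega
  · -- the pattern `1, 10, 10, 10, 45, 16, 16`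
    have hSmem : ∀ χ ∈ S, deg χ = 10 ∨ deg χ = 45 ∨ deg χ = 1 ∨ deg χ = 16 := by
      intro χ hχ
      have : deg χ ∈ S.val.map deg := Multiset.mem_map_of_mem deg hχ
      rw [hBm] at this
      simp only [Multiset.mem_coe, List.mem_cons, List.not_mem_nil, or_false] at this
      omega
    have hSc : ∀ χ ∈ S, c χ = (fun n : ℕ => if n = 1 ∨ n = 16 then (1 : ℤ) else 0) (deg χ) := by
      intro χ hχ
      rcases hSmem χ hχ with h | h | h | h
      · simp only [h]
        rw [hc0 χ (by rw [h])]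
        norm_num
      · simp only [h]
        rw [hc0 χ (by rw [h])]
        norm_num
      · simp only [h]
        rw [hc1 χ (by rw [h])]
        norm_num
      · simp only [h]
        rw [hc1 χ (by rw [h])]
        norm_num
    have hS1 : ∑ χ ∈ S, c χ ^ 2 = 3 := by
      have e1 : ∑ χ ∈ S, c χ ^ 2 =
          ∑ χ ∈ S, (fun n : ℕ => (if n = 1 ∨ n = 16 then (1 : ℤ) else 0) ^ 2) (deg χ) := by
        apply Finset.sum_congr rfl
        intro χ hχ
        rw [hSc χ hχ]
      have e := hsumS (fun n : ℕ => (if n = 1 ∨ n = 16 then (1 : ℤ) else 0) ^ 2)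
      rw [hBm] at e
      rw [e1]
      exact e.trans (by decide)
    have hS2 : ∑ χ ∈ S, (deg χ : ℤ) * c χ = 33 := by
      have e1 : ∑ χ ∈ S, (deg χ : ℤ) * c χ =
          ∑ χ ∈ S, (fun n : ℕ => (n : ℤ) * (if n = 1 ∨ n = 16 then (1 : ℤ) else 0)) (deg χ) := by
        apply Finset.sum_congr rfl
        intro χ hχ
        rw [hSc χ hχ]
      have e := hsumS (fun n : ℕ => (n : ℤ) * (if n = 1 ∨ n = 16 then (1 : ℤ) else 0))
      rw [hBm] at e
      rw [e1]
      exact e.trans (by decide)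
    have hS3 : ∑ χ ∈ S, (deg χ : ℤ) ^ 2 = 2838 := by
      have e := hsumS (fun n : ℕ => (n : ℤ) ^ 2)
      rw [hBm] at e
      exact e.trans (by decide)
    set T := Finset.univ \ S with hT
    have hT1 : ∑ χ ∈ T, c χ ^ 2 = 2 := by
      have := Finset.sum_sdiff (Finset.subset_univ S) (f := fun χ : IrrCharacter G => c χ ^ 2)
      rw [hB, hS1] at this
      linarith
    have hT2 : ∑ χ ∈ T, (deg χ : ℤ) * c χ = -33 := by
      have := Finset.sum_sdiff (Finset.subset_univ S)
        (f := fun χ : IrrCharacter G => (deg χ : ℤ) * c χ)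
      rw [hD, hS2] at this
      linarith
    have hT3 : ∑ χ ∈ T, (deg χ : ℤ) ^ 2 = 5082 := by
      have := Finset.sum_sdiff (Finset.subset_univ S)
        (f := fun χ : IrrCharacter G => (deg χ : ℤ) ^ 2)
      rw [hE, hS3] at this
      linarith
    have hT11 : ∀ χ ∈ T, 11 ∣ deg χ := fun χ hχ => hout' χ (Finset.mem_sdiff.mp hχ).2
    have hTle : ∀ χ ∈ T, deg χ ≤ 71 := by
      intro χ hχ
      have h1 := Finset.single_le_sum (f := fun χ : IrrCharacter G => (deg χ : ℤ) ^ 2)
        (fun _ _ => sq_nonneg _) hχ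
      have h1' : (deg χ : ℤ) ^ 2 ≤ ∑ χ ∈ T, (deg χ : ℤ) ^ 2 := h1
      rw [hT3] at h1'
      by_contra hcon
      push Not at hcon
      have : (72 : ℤ) ≤ deg χ := by exact_mod_cast hcon
      nlinarith
    obtain ⟨u', hu'T, v', hv'T, huv, hcu, hcv, hrest⟩ := sq_sum_two T c hT1
    -- the characters of `T` other than `u'`, `v'` have degree `55`
    have hrest55 : ∀ b ∈ T, b ≠ u' → b ≠ v' → deg b = 55 := by
      intro b hb hbu hbv
      have hc0' := hrest b hb hbu hbv
      obtain ⟨k, hk⟩ := h5 b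
      rw [hc0'] at hk
      obtain ⟨k', hk'⟩ := hT11 b hb
      have hle := hTle b hb
      have hp := hpos b
      omega
    have key : ∀ χ ∈ T, (c χ = 1 ∨ c χ = -1) →
        (c χ = 1 ∧ (deg χ = 11 ∨ deg χ = 66)) ∨ (c χ = -1 ∧ deg χ = 44) := by
      intro χ hχ hc
      obtain ⟨k, hk⟩ := h5 χ
      obtain ⟨k', hk'⟩ := hT11 χ hχ
      have hle := hTle χ hχ
      have hp := hpos χ
      rcases hc with h | h
      · left
        refine ⟨h, ?_⟩
        rw [h] at hk
        omega
      · right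
        refine ⟨h, ?_⟩
        rw [h] at hk
        omega
    set R := (T.erase u').erase v' with hR
    have hv'Tu : v' ∈ T.erase u' := Finset.mem_erase.mpr ⟨huv.symm, hv'T⟩
    have hsplitT : ∀ f : IrrCharacter G → ℤ, ∑ χ ∈ T, f χ = f u' + (f v' + ∑ χ ∈ R, f χ) := by
      intro f
      rw [← Finset.add_sum_erase T f hu'T, ← Finset.add_sum_erase (T.erase u') f hv'Tu]
    have hRmem : ∀ b ∈ R, b ∈ T ∧ b ≠ u' ∧ b ≠ v' := by
      intro b hb
      have h1 := Finset.mem_erase.mp hb
      have h2 := Finset.mem_erase.mp h1.2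
      exact ⟨h2.2, h2.1, h1.1⟩
    have hR0 : ∑ χ ∈ R, (deg χ : ℤ) * c χ = 0 := by
      apply Finset.sum_eq_zero
      intro b hb
      obtain ⟨h1, h2, h3⟩ := hRmem b hb
      rw [hrest b h1 h2 h3, mul_zero]
    have hR2 : ∑ χ ∈ R, (deg χ : ℤ) ^ 2 = 3025 * (R.card : ℤ) := by
      have : ∑ χ ∈ R, (deg χ : ℤ) ^ 2 = ∑ χ ∈ R, (3025 : ℤ) := by
        apply Finset.sum_congr rfl
        intro b hb
        obtain ⟨h1, h2, h3⟩ := hRmem b hb
        rw [hrest55 b h1 h2 h3]
        norm_num
      rw [this, Finset.sum_const, nsmul_eq_mul]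
      ring
    have e2 := hsplitT (fun χ => (deg χ : ℤ) * c χ)
    rw [hT2, hR0] at e2
    have e3 := hsplitT (fun χ => (deg χ : ℤ) ^ 2)
    rw [hT3, hR2] at e3
    have ku := key u' hu'T hcu
    have kv := key v' hv'T hcv
    -- the degrees of `u'`, `v'` and the size of `R`
    have hfin : (deg u' = 11 ∧ deg v' = 44 ∨ deg u' = 44 ∧ deg v' = 11) ∧ R.card = 1 := by
      rcases ku with ⟨hcu', hdu | hdu⟩ | ⟨hcu', hdu⟩ <;>
        rcases kv with ⟨hcv', hdv | hdv⟩ | ⟨hcv', hdv⟩ <;>
        simp only [hcu', hcv', hdu, hdv] at e2 e3 <;> push_cast at e2 e3 <;>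
        first
        | (exfalso; omega)
        | exact ⟨Or.inl ⟨hdu, hdv⟩, by omega⟩
        | exact ⟨Or.inr ⟨hdu, hdv⟩, by omega⟩
    obtain ⟨hduv, hRc⟩ := hfin
    obtain ⟨w, hw⟩ := Finset.card_eq_one.mp hRc
    have hwR : w ∈ R := by rw [hw]; exact Finset.mem_singleton_self w
    obtain ⟨hwT, hwu, hwv⟩ := hRmem w hwR
    have hdw : deg w = 55 := hrest55 w hwT hwu hwv
    -- `T = {u', v', w}`
    have hTnd : [u', v', w].Nodup := by
      simp only [List.nodup_cons, List.mem_cons, List.not_mem_nil, or_false, not_or,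
        List.nodup_nil, and_true, not_false_eq_true]
      exact ⟨⟨huv, fun h => hwu h.symm⟩, fun h => hwv h.symm⟩
    have hTeq : T = ⟨↑[u', v', w], Multiset.coe_nodup.mpr hTnd⟩ := by
      ext b
      have hmem : b ∈ (⟨↑[u', v', w], Multiset.coe_nodup.mpr hTnd⟩ : Finset (IrrCharacter G)) ↔
          (b = u' ∨ b = v' ∨ b = w) := by
        show b ∈ (↑[u', v', w] : Multiset (IrrCharacter G)) ↔ _
        rw [Multiset.mem_coe]
        simp only [List.mem_cons, List.not_mem_nil, or_false]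
      rw [hmem]
      constructor
      · intro hb
        by_cases h1 : b = u'
        · left; exact h1
        by_cases h2 : b = v'
        · right; left; exact h2
        right; right
        have hbR : b ∈ R := Finset.mem_erase.mpr ⟨h2, Finset.mem_erase.mpr ⟨h1, hb⟩⟩
        rw [hw] at hbR
        exact Finset.mem_singleton.mp hbR
      · rintro (h | h | h)
        · rw [h]; exact hu'T
        · rw [h]; exact hv'T
        · rw [h]; exact hwT
    have hTval : T.val.map deg = (↑[deg u', deg v', deg w] : Multiset ℕ) := by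
      rw [hTeq]
      rfl
    -- the union
    have huniv : (Finset.univ : Finset (IrrCharacter G)).val = T.val + S.val := by
      rw [hT, Finset.sdiff_val]
      exact (Multiset.sub_add_cancel (Finset.val_le_iff.mpr (Finset.subset_univ S))).symm
    show (Finset.univ : Finset (IrrCharacter G)).val.map deg = _
    rw [huniv, Multiset.map_add, hTval, hBm, hdw]
    rcases hduv with ⟨h1, h2⟩ | ⟨h1, h2⟩
    · rw [h1, h2]
      rfl
    · rw [h1, h2]
      decide

end main

end Cfsg.Agent.Lib.Helper5.M11
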