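import Mathlib
import Cfsg.Agent.Lib.Helper5.M11E

/-!
# Simple groups of order 7920, part F: the column of an element of order 11 (helper5)

The irreducible characters of a simple group of order `7920`, labelled by the principal `11`-block:
the five non-exceptional characters of degrees `10, 10, 10, 45, 1` take the values `-1, -1, -1, 1, 1`
on the elements of order `11`, the two exceptional characters `η₁, η₂` of degree `16` take values
with sum `-1` and product `3`, and the remaining characters (of degrees `11, 44, 55`) vanish there.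
-/

set_option autoImplicit false
set_option linter.unusedSectionVars false
set_option linter.style.haveILetI false

namespace Cfsg.Agent.Lib.Helper5.M11

open MulAction Cfsg Cfsg.Agent.Lib.Helper8.SmallSimple Cfsg.Agent.Lib.Helper8.SmallSimple2
  Cfsg.Agent.Lib.Helper7 Cfsg.Agent.Lib.Helper19.Ord4032 Cfsg.Agent.CharLib
  Cfsg.Agent.Lib.Helper24 Cfsg.Agent.Lib.Helper12.BSF Cfsg.Agent.Lib.Helper6
  Cfsg.Agent.Lib.Helper19.Ord720
open scoped ComplexConjugate

universe u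

variable {G : Type u} [Group G] [Finite G]

/-- an element of order `11` is not conjugate to its inverse -/
theorem not_isConj_inv_of_order_eleven [IsSimpleGroup G] (hG : Nat.card G = 7920)
    [Fact (Nat.Prime 11)] (P : Sylow 11 G) (y : G) (hyP : y ∈ (P : Subgroup G)) (hy1 : y ≠ 1) :
    ¬ IsConj y y⁻¹ := by
  obtain ⟨hP, hNc, hCc, hr⟩ := sylow11_data hG P
  intro hc
  obtain ⟨g, hg⟩ := isConj_iff.mp hc
  have hzy : (P : Subgroup G) ≤ Subgroup.zpowers y :=
    le_zpowers_of_card_prime 11 (P : Subgroup G) hP y hyP hy1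
  have hg' : g⁻¹ * y * g⁻¹⁻¹ = y⁻¹ := by
    have : y = g⁻¹ * y⁻¹ * g := by rw [← hg]; group
    rw [inv_inv]
    calc g⁻¹ * y * g = (g⁻¹ * y⁻¹ * g)⁻¹ := by group
      _ = y⁻¹ := by rw [← this]
  have key : ∀ c : G, c * y * c⁻¹ = y⁻¹ → ∀ h ∈ (P : Subgroup G), c * h * c⁻¹ ∈ (P : Subgroup G) := by
    intro c hcy h hh
    obtain ⟨k, rfl⟩ := Subgroup.mem_zpowers_iff.mp (hzy hh)
    have e : c * y ^ k * c⁻¹ = (c * y * c⁻¹) ^ k := by
      have := map_zpow (MulAut.conj c) y k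
      simpa [MulAut.conj_apply] using this
    rw [e, hcy]
    exact Subgroup.zpow_mem _ (Subgroup.inv_mem _ hyP) k
  have hgN : g ∈ Subgroup.normalizer ((P : Subgroup G) : Set G) := by
    rw [Subgroup.mem_normalizer_iff]
    intro h
    constructor
    · exact key g hg h
    · intro hh
      have := key g⁻¹ hg' _ hh
      have e : g⁻¹ * (g * h * g⁻¹) * g⁻¹⁻¹ = h := by group
      rwa [e] at this
  have hg55 : g ^ 55 = 1 := by
    have h := pow_card_eq_one' (G := ↥(Subgroup.normalizer ((P : Subgroup G) : Set G)))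
      (x := ⟨g, hgN⟩)
    rw [hNc] at h
    have h' := congrArg
      (fun w : ↥(Subgroup.normalizer ((P : Subgroup G) : Set G)) => (w : G)) h
    simpa using h'
  -- `g ^ 2` commutes with `y`
  have hcomm2 : Commute (g ^ 2) y := by
    rw [pow_two]
    have h1 : g * g * y * (g * g)⁻¹ = y := by
      calc g * g * y * (g * g)⁻¹ = g * (g * y * g⁻¹) * g⁻¹ := by group
        _ = g * y⁻¹ * g⁻¹ := by rw [hg]
        _ = (g * y * g⁻¹)⁻¹ := by group
        _ = y := by rw [hg, inv_inv]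
    have : g * g * y = y * (g * g) := by
      calc g * g * y = g * g * y * (g * g)⁻¹ * (g * g) := by group
        _ = y * (g * g) := by rw [h1]
    exact this
  have hcomm54 : Commute (g ^ 54) y := by
    have : g ^ 54 = (g ^ 2) ^ 27 := by rw [← pow_mul]
    rw [this]
    exact hcomm2.pow_left 27
  have hg1 : g = (g ^ 54)⁻¹ := by
    have : g ^ 54 * g = 1 := by rw [← pow_succ]; exact hg55
    exact eq_inv_of_mul_eq_one_right this
  have hcomm : Commute g y := by
    rw [hg1]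
    exact hcomm54.inv_left
  have hyy : y = y⁻¹ := by
    rw [← hg]
    calc y = y * g * g⁻¹ := by group
      _ = g * y * g⁻¹ := by rw [hcomm.eq]
  have hy2 : y ^ 2 = 1 := by
    rw [pow_two]
    nth_rewrite 2 [hyy]
    exact mul_inv_cancel y
  have hord : orderOf y = 11 := orderOf_eq_of_card_prime 11 (P : Subgroup G) hP y hyP hy1
  have := orderOf_dvd_of_pow_eq_one hy2
  rw [hord] at this
  omega

set_option maxHeartbeats 1600000 in
/-- the labelled column of the elements of order `11` -/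
theorem table11_val [IsSimpleGroup G] (hG : Nat.card G = 7920) [Fact (Nat.Prime 11)]
    (P : Sylow 11 G) :
    ∃ (S : Finset (IrrCharacter G)) (a : IrrCharacter G → ℤ) (η₁ η₂ : IrrCharacter G),
      S.val.map (fun χ : IrrCharacter G => (charDegree (χ : G → ℂ), a χ)) =
        (↑[((10 : ℕ), (-1 : ℤ)), (10, -1), (10, -1), (45, 1), (1, 1)] : Multiset (ℕ × ℤ)) ∧
      η₁ ≠ η₂ ∧ η₁ ∉ S ∧ η₂ ∉ S ∧
      charDegree (η₁ : G → ℂ) = 16 ∧ charDegree (η₂ : G → ℂ) = 16 ∧
      (∀ χ ∈ S, ∀ y ∈ (P : Subgroup G), y ≠ 1 → (χ : G → ℂ) y = (a χ : ℂ)) ∧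
      (∀ y ∈ (P : Subgroup G), y ≠ 1 →
        (η₁ : G → ℂ) y + (η₂ : G → ℂ) y = -1 ∧ (η₁ : G → ℂ) y * (η₂ : G → ℂ) y = 3) ∧
      (∀ χ : IrrCharacter G, χ ∉ S → χ ≠ η₁ → χ ≠ η₂ →
        11 ∣ charDegree (χ : G → ℂ) ∧ ∀ y ∈ (P : Subgroup G), y ≠ 1 → (χ : G → ℂ) y = 0) := by
  classical
  letI : Fintype G := Fintype.ofFinite G
  letI : Fintype (IrrCharacter G) := fintypeIrr G
  obtain ⟨Xf, χ₁, η₁, η₂, a, κ, hχ₁X, hχ₁, ha1, ha0, hcong₀, hη12, hη₁X, hη₂X, hdegη₀, hκ, hrel₀,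
    hout, hval, hvan⟩ := bl11_extract_val hG P
  have hM₀ := degrees_multiset hG
  set deg : IrrCharacter G → ℕ := fun χ => charDegree (χ : G → ℂ) with hdeg
  have hM : (Finset.univ : Finset (IrrCharacter G)).val.map deg =
      (↑[11, 44, 55, 10, 10, 10, 45, 1, 16, 16] : Multiset ℕ) := hM₀
  have hcong : ∀ χ ∈ Xf, (11 : ℤ) ∣ (deg χ : ℤ) - a χ := hcong₀
  have hdegη : deg η₂ = deg η₁ := hdegη₀
  have hrel : κ * (deg η₁ : ℤ) + ∑ χ ∈ Xf, a χ * (deg χ : ℤ) = 0 := hrel₀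
  have hdegmem : ∀ χ, deg χ = 11 ∨ deg χ = 44 ∨ deg χ = 55 ∨ deg χ = 10 ∨ deg χ = 45 ∨
      deg χ = 1 ∨ deg χ = 16 := by
    intro χ
    have : deg χ ∈ (Finset.univ : Finset (IrrCharacter G)).val.map deg :=
      Multiset.mem_map_of_mem deg (Finset.mem_univ_val χ)
    rw [hM] at this
    simp only [Multiset.mem_coe, List.mem_cons, List.not_mem_nil, or_false] at this
    omega
  have hsumle : ∑ χ ∈ Xf, a χ ^ 2 ≤ 5 := by
    rcases hκ with ⟨-, h⟩ | ⟨-, h⟩ <;> rw [h] <;> norm_num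
  have habd : ∀ χ ∈ Xf, a χ = 1 ∨ a χ = -1 ∨ a χ = 2 ∨ a χ = -2 := by
    intro χ hχ
    have h1 := Finset.single_le_sum (f := fun χ => a χ ^ 2) (fun x _ => sq_nonneg (a x)) hχ
    have h1' : a χ ^ 2 ≤ 5 := le_trans h1 hsumle
    have h0 := ha0 χ hχ
    have h2 : -2 ≤ a χ := by nlinarith
    have h3 : a χ ≤ 2 := by nlinarith
    omega
  have hXdeg : ∀ χ ∈ Xf, (deg χ = 10 ∧ a χ = -1) ∨ ((deg χ = 1 ∨ deg χ = 45) ∧ a χ = 1) := by
    intro χ hχ
    obtain ⟨k, hk⟩ := hcong χ hχ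
    rcases hdegmem χ with h | h | h | h | h | h | h <;>
      rcases habd χ hχ with h' | h' | h' | h' <;> omega
  have hasq : ∀ χ ∈ Xf, a χ ^ 2 = 1 := by
    intro χ hχ
    rcases hXdeg χ hχ with ⟨-, h⟩ | ⟨-, h⟩ <;> rw [h] <;> norm_num
  have hcardX : ∑ χ ∈ Xf, a χ ^ 2 = (Xf.card : ℤ) := by
    rw [Finset.sum_congr rfl hasq, Finset.sum_const, nsmul_eq_mul, mul_one]
  -- the characters of degree `1`, `10`, `45`
  set F : Finset (IrrCharacter G) :=
    Finset.univ.filter (fun χ => deg χ = 10 ∨ deg χ = 45 ∨ deg χ = 1) with hF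
  have hXF : Xf ⊆ F := by
    intro χ hχ
    rw [hF, Finset.mem_filter]
    refine ⟨Finset.mem_univ _, ?_⟩
    rcases hXdeg χ hχ with ⟨h, -⟩ | ⟨h | h, -⟩
    · left; exact h
    · right; right; exact h
    · right; left; exact h
  have hFval : F.val.map deg = (↑[10, 10, 10, 45, 1] : Multiset ℕ) := by
    have h1 : F.val = Multiset.filter ((fun n : ℕ => n = 10 ∨ n = 45 ∨ n = 1) ∘ deg)
        (Finset.univ : Finset (IrrCharacter G)).val := by
      rw [hF, Finset.filter_val]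
      rfl
    rw [h1, ← Multiset.filter_map, hM]
    decide
  have hFcard : F.card = 5 := by
    have h1 : Multiset.card (F.val.map deg) = 5 := by rw [hFval]; rfl
    rw [Multiset.card_map] at h1
    exact h1
  -- `Xf = F`
  have hX5 : ∑ χ ∈ Xf, a χ ^ 2 = 5 ∧ (κ = 1 ∨ κ = -1) := by
    rcases hκ with ⟨h1, h2⟩ | ⟨h1, h2⟩
    · exact ⟨h2, h1⟩
    · exfalso
      rw [hcardX] at h2
      have hc1 : Xf.card = 1 := by exact_mod_cast h2
      obtain ⟨x, hx⟩ := Finset.card_eq_one.mp hc1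
      have hx1 : χ₁ = x := by
        have : χ₁ ∈ ({x} : Finset (IrrCharacter G)) := by rw [← hx]; exact hχ₁X
        exact Finset.mem_singleton.mp this
      rw [hx, Finset.sum_singleton, ← hx1, ha1] at hrel
      have hd1 := hXdeg χ₁ hχ₁X
      have hde := hdegmem η₁
      rcases h1 with rfl | rfl <;> omega
  obtain ⟨hsum5, hκ1⟩ := hX5
  have hXcard : Xf.card = 5 := by
    rw [hcardX] at hsum5
    exact_mod_cast hsum5
  have hXeq : Xf = F := Finset.eq_of_subset_of_card_le hXF (by rw [hFcard, hXcard])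
  have hXval : Xf.val.map deg = (↑[10, 10, 10, 45, 1] : Multiset ℕ) := by rw [hXeq, hFval]
  have hpair : Xf.val.map (fun χ : IrrCharacter G => (deg χ, a χ)) =
      (↑[((10 : ℕ), (-1 : ℤ)), (10, -1), (10, -1), (45, 1), (1, 1)] : Multiset (ℕ × ℤ)) := by
    have h1 : Xf.val.map (fun χ : IrrCharacter G => (deg χ, a χ)) =
        Xf.val.map ((fun n : ℕ => (n, if n = 10 then (-1 : ℤ) else 1)) ∘ deg) := by
      apply Multiset.map_congr rfl
      intro χ hχ
      have hχ' : χ ∈ Xf := hχ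
      rcases hXdeg χ hχ' with ⟨h, h'⟩ | ⟨h | h, h'⟩ <;>
        simp only [Function.comp_apply, h, h'] <;> norm_num
    rw [h1, ← Multiset.map_map, hXval]
    decide
  have hsumad : ∑ χ ∈ Xf, a χ * (deg χ : ℤ) = 16 := by
    have h1 : ∑ χ ∈ Xf, a χ * (deg χ : ℤ) =
        ∑ χ ∈ Xf, (fun n : ℕ => (if n = 10 then (-1 : ℤ) else 1) * (n : ℤ)) (deg χ) := by
      apply Finset.sum_congr rfl
      intro χ hχ
      rcases hXdeg χ hχ with ⟨h, h'⟩ | ⟨h | h, h'⟩ <;> simp only [h, h'] <;> norm_num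
    have h2 : ∑ χ ∈ Xf, (fun n : ℕ => (if n = 10 then (-1 : ℤ) else 1) * (n : ℤ)) (deg χ) =
        ((Xf.val.map deg).map
          (fun n : ℕ => (if n = 10 then (-1 : ℤ) else 1) * (n : ℤ))).sum := by
      rw [Multiset.map_map]
      rfl
    rw [h1, h2, hXval]
    decide
  have he16 : deg η₁ = 16 := by
    rw [hsumad] at hrel
    rcases hκ1 with rfl | rfl <;> omega
  -- orthogonality relations
  have hsplit : ∀ f : IrrCharacter G → ℂ,
      (∀ χ : IrrCharacter G, χ ∉ Xf → χ ≠ η₁ → χ ≠ η₂ → f χ = 0) →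
      ∑ χ : IrrCharacter G, f χ = f η₁ + (f η₂ + ∑ χ ∈ Xf, f χ) := by
    intro f hf
    have h1 := Finset.sum_sdiff (Finset.subset_univ (insert η₁ (insert η₂ Xf))) (f := f)
    have h2 : ∑ χ ∈ Finset.univ \ insert η₁ (insert η₂ Xf), f χ = 0 := by
      apply Finset.sum_eq_zero
      intro χ hχ
      have hχ' := (Finset.mem_sdiff.mp hχ).2
      simp only [Finset.mem_insert, not_or] at hχ'
      exact hf χ hχ'.2.2 hχ'.1 hχ'.2.1
    rw [h2, zero_add, Finset.sum_insert (by simp [hη12, hη₁X]), Finset.sum_insert hη₂X] at h1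
    exact h1.symm
  have hd1 : ∀ χ : IrrCharacter G, (χ : G → ℂ) 1 = (deg χ : ℂ) := fun χ => irr_apply_one χ
  refine ⟨Xf, a, η₁, η₂, hpair, hη12, hη₁X, hη₂X, he16, by rw [← he16]; exact hdegη, hval, ?_,
    fun χ h1 h2 h3 => ⟨hout χ h1 h2 h3, hvan χ h1 h2 h3⟩⟩
  intro y hyP hy1
  -- the relation with the column of `1`
  have hnc1 : ¬ IsConj (1 : G) y := by
    rw [isConj_one_right]
    exact hy1
  have hA : (η₁ : G → ℂ) y + (η₂ : G → ℂ) y = -1 := by
    have h := sum_irr_mul_conj (G := G) 1 y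
    rw [classInd_of_not hnc1, zero_mul, hsplit _ (by
      intro χ h1 h2 h3
      rw [hvan χ h1 h2 h3 y hyP hy1, map_zero, mul_zero])] at h
    have h3 : ∑ χ ∈ Xf, (χ : G → ℂ) 1 * conj ((χ : G → ℂ) y) = 16 := by
      have : ∑ χ ∈ Xf, (χ : G → ℂ) 1 * conj ((χ : G → ℂ) y) =
          ((∑ χ ∈ Xf, a χ * (deg χ : ℤ) : ℤ) : ℂ) := by
        push_cast
        apply Finset.sum_congr rfl
        intro χ hχ
        rw [hval χ hχ y hyP hy1, hd1 χ, map_intCast]
        ring
      rw [this, hsumad]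
      norm_num
    rw [h3, hd1 η₁, hd1 η₂, hdegη, he16] at h
    have h4 : conj ((η₁ : G → ℂ) y + (η₂ : G → ℂ) y) = -1 := by
      rw [map_add]
      push_cast at h
      linear_combination (1 / 16 : ℂ) * h
    have h5 := congrArg conj h4
    rw [Complex.conj_conj, map_neg, map_one] at h5
    exact h5
  refine ⟨hA, ?_⟩
  -- the relation with the column of `y⁻¹`
  have hnc2 : ¬ IsConj y y⁻¹ := not_isConj_inv_of_order_eleven hG P y hyP hy1
  have h := sum_irr_mul_conj (G := G) y y⁻¹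
  rw [classInd_of_not hnc2, zero_mul] at h
  have hinv : ∀ χ : IrrCharacter G, conj ((χ : G → ℂ) y⁻¹) = (χ : G → ℂ) y := by
    intro χ
    rw [irr_apply_inv, Complex.conj_conj]
  simp only [hinv] at h
  rw [hsplit _ (by
    intro χ h1 h2 h3
    rw [hvan χ h1 h2 h3 y hyP hy1, mul_zero])] at h
  have h3 : ∑ χ ∈ Xf, (χ : G → ℂ) y * (χ : G → ℂ) y = 5 := by
    have : ∑ χ ∈ Xf, (χ : G → ℂ) y * (χ : G → ℂ) y = ((∑ χ ∈ Xf, a χ ^ 2 : ℤ) : ℂ) := by
      push_cast
      apply Finset.sum_congr rfl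
      intro χ hχ
      rw [hval χ hχ y hyP hy1]
      ring
    rw [this, hsum5]
    norm_num
  rw [h3] at h
  linear_combination (1 / 2 : ℂ) * ((η₁ : G → ℂ) y + (η₂ : G → ℂ) y - 1) * hA - (1 / 2 : ℂ) * h

end Cfsg.Agent.Lib.Helper5.M11
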