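import Mathlib

/-!
# Automorphisms of a commutative group of order 9 (helper5)

A `2`-subgroup of order at least `4` of the automorphism group of a commutative group of order `9`
contains the inversion `x ↦ x⁻¹`.  (Used for the Sylow `3`-normalizer of a simple group of order
`7920`.)
-/

set_option autoImplicit false
set_option linter.unusedSectionVars false
set_option linter.style.haveILetI false

namespace Cfsg.Agent.Lib.Helper5.M11

universe u

section Nine

theorem nine_eq_one_of_sq {A : Type*} [Group A] (hA : Nat.card A = 9) (x : A) (h : x ^ 2 = 1) :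
    x = 1 := by
  have h9 : x ^ 9 = 1 := by rw [← hA]; exact pow_card_eq_one'
  have h' : x ^ 9 = (x ^ 2) ^ 4 * x := by rw [← pow_mul, ← pow_succ]
  rw [h, one_pow, one_mul] at h'
  rw [← h', h9]

theorem nine_eq_one_of_eq_inv {A : Type*} [Group A] (hA : Nat.card A = 9) (x : A)
    (h : x = x⁻¹) : x = 1 := by
  apply nine_eq_one_of_sq hA
  calc x ^ 2 = x * x := pow_two x
    _ = x * x⁻¹ := by rw [← h]
    _ = 1 := mul_inv_cancel x

theorem nine_card_eq_three_of_ne {A : Type*} [Group A] [Finite A] (hA : Nat.card A = 9)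
    (H : Subgroup A) (h0 : H ≠ ⊥) (h1 : H ≠ ⊤) : Nat.card H = 3 := by
  have hd : Nat.card H ∣ 9 := hA ▸ Subgroup.card_subgroup_dvd_card H
  have hle : Nat.card H ≤ 9 := Nat.le_of_dvd (by norm_num) hd
  have hne1 : Nat.card H ≠ 1 := fun h => h0 (Subgroup.card_eq_one.mp h)
  have hne9 : Nat.card H ≠ 9 := fun h => h1 (Subgroup.eq_top_of_card_eq H (by rw [h, hA]))
  have hpos : 0 < Nat.card H := Nat.pos_of_dvd_of_pos hd (by norm_num)
  generalize Nat.card H = c at *
  interval_cases c <;> first | omega | (exfalso; revert hd; decide)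

/-- the elements of a subgroup of order `3` -/
theorem mem_three {A : Type*} [Group A] (H : Subgroup A) (hH : Nat.card H = 3) (a y : A)
    (ha : a ∈ H) (ha1 : a ≠ 1) (hy : y ∈ H) : y = 1 ∨ y = a ∨ y = a⁻¹ := by
  haveI : Fact (Nat.Prime 3) := ⟨Nat.prime_three⟩
  have htop : Subgroup.zpowers (⟨a, ha⟩ : H) = ⊤ :=
    zpowers_eq_top_of_prime_card hH (fun h => ha1 (congrArg Subtype.val h))
  have hy' : (⟨y, hy⟩ : H) ∈ Subgroup.zpowers (⟨a, ha⟩ : H) := by rw [htop]; trivial
  obtain ⟨n, hn⟩ := Subgroup.mem_zpowers_iff.mp hy'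
  have hn' : a ^ n = y := by
    have := congrArg Subtype.val hn
    simpa using this
  have ha3n : a ^ 3 = 1 := by
    have h3 : (⟨a, ha⟩ : H) ^ Nat.card H = 1 := pow_card_eq_one'
    rw [hH] at h3
    have := congrArg Subtype.val h3
    simpa using this
  have ha3 : a ^ (3 : ℤ) = 1 := by
    have : a ^ ((3 : ℕ) : ℤ) = 1 := by rw [zpow_natCast]; exact ha3n
    exact_mod_cast this
  have key : a ^ n = a ^ (n % 3) := by
    conv_lhs => rw [← Int.emod_add_mul_ediv n 3]
    rw [zpow_add, zpow_mul, ha3, one_zpow, mul_one]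
  have h0 : 0 ≤ n % 3 := Int.emod_nonneg _ (by norm_num)
  have h3 : n % 3 < 3 := Int.emod_lt_of_pos _ (by norm_num)
  rw [key] at hn'
  generalize n % 3 = r at *
  interval_cases r
  · left; simpa using hn'.symm
  · right; left; simpa using hn'.symm
  · right; right
    rw [← hn']
    have : a ^ (2 : ℤ) * a = 1 := by
      have : a ^ (2 : ℤ) * a = a ^ (3 : ℤ) := by
        rw [show (3 : ℤ) = 2 + 1 from rfl, zpow_add, zpow_one]
      rw [this, ha3]
    exact eq_inv_of_mul_eq_one_left this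

/-- an automorphism preserving a subgroup of order `3` acts on it as `±1` -/
theorem act_on_three {A : Type*} [Group A] (H : Subgroup A) (hH : Nat.card H = 3) (γ : MulAut A)
    (hγ : ∀ u ∈ H, γ u ∈ H) : (∀ u ∈ H, γ u = u) ∨ (∀ u ∈ H, γ u = u⁻¹) := by
  have hne : H ≠ ⊥ := by
    intro h
    rw [h, Subgroup.card_bot] at hH
    omega
  obtain ⟨a, ha, ha1⟩ := (Subgroup.ne_bot_iff_exists_ne_one.mp hne |> fun ⟨x, hx⟩ =>
    (⟨x.1, x.2, fun h => hx (Subtype.ext h)⟩ : ∃ a ∈ H, a ≠ 1))
  have hγa1 : γ a ≠ 1 := fun h => ha1 ((MulEquiv.map_eq_one_iff γ).mp h)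
  rcases mem_three H hH a (γ a) ha ha1 (hγ a ha) with h | h | h
  · exact absurd h hγa1
  · left
    intro u hu
    rcases mem_three H hH a u ha ha1 hu with h' | h' | h'
    · rw [h', map_one]
    · rw [h', h]
    · rw [h', map_inv, h]
  · right
    intro u hu
    rcases mem_three H hH a u ha ha1 hu with h' | h' | h'
    · rw [h', map_one, inv_one]
    · rw [h', h]
    · rw [h', map_inv, h]

variable {A : Type u} [CommGroup A]

/-- fixed points of an automorphism -/
def fixSub (α : MulAut A) : Subgroup A where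
  carrier := {x | α x = x}
  mul_mem' := fun {a b} ha hb => by
    simp only [Set.mem_ofPred_eq] at *
    rw [map_mul, ha, hb]
  one_mem' := map_one α
  inv_mem' := fun {a} ha => by
    simp only [Set.mem_ofPred_eq] at *
    rw [map_inv, ha]

/-- inverted points of an automorphism -/
def invSub (α : MulAut A) : Subgroup A where
  carrier := {x | α x = x⁻¹}
  mul_mem' := fun {a b} ha hb => by
    simp only [Set.mem_ofPred_eq] at *
    rw [map_mul, ha, hb, mul_inv]
  one_mem' := by simp
  inv_mem' := fun {a} ha => by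
    simp only [Set.mem_ofPred_eq] at *
    rw [map_inv, ha]

theorem mem_fixSub (α : MulAut A) (x : A) : x ∈ fixSub α ↔ α x = x := Iff.rfl

theorem mem_invSub (α : MulAut A) (x : A) : x ∈ invSub α ↔ α x = x⁻¹ := Iff.rfl

/-- a `2`-subgroup of order at least `4` of `Aut A`, `|A| = 9`, contains the inversion -/
theorem exists_inverting_of_card_nine [Finite A] (hA : Nat.card A = 9) (Γ : Subgroup (MulAut A))
    (k : ℕ) (hk : 2 ≤ k) (hΓ : Nat.card Γ = 2 ^ k) : ∃ γ ∈ Γ, ∀ x : A, γ x = x⁻¹ := by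
  classical
  haveI : Fact (Nat.Prime 2) := ⟨Nat.prime_two⟩
  haveI : Finite Γ := Nat.finite_of_card_ne_zero (by rw [hΓ]; positivity)
  have hp : IsPGroup 2 Γ := IsPGroup.of_card hΓ
  have h4 : 4 ≤ Nat.card Γ := by
    rw [hΓ]
    calc 4 = 2 ^ 2 := rfl
      _ ≤ 2 ^ k := Nat.pow_le_pow_right (by norm_num) hk
  haveI : Nontrivial Γ := by
    rw [← Finite.one_lt_card_iff_nontrivial]
    omega
  haveI hcn : Nontrivial (Subgroup.center Γ) := hp.center_nontrivial
  obtain ⟨n, hn⟩ := (hp.to_subgroup (Subgroup.center Γ)).exists_card_eq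
  have hn0 : n ≠ 0 := by
    rintro rfl
    rw [pow_zero] at hn
    have := Finite.one_lt_card_iff_nontrivial.mpr hcn
    omega
  have h2 : 2 ∣ Nat.card (Subgroup.center Γ) := by rw [hn]; exact dvd_pow_self 2 hn0
  obtain ⟨z, hz⟩ := exists_prime_orderOf_dvd_card' 2 h2
  set α : MulAut A := ((z : Γ) : MulAut A) with hαdef
  have hαΓ : α ∈ Γ := (z : Γ).2
  have hαo : orderOf α = 2 := by
    rw [hαdef, Subgroup.orderOf_coe, Subgroup.orderOf_coe, hz]
  have hα2 : α * α = 1 := by
    have := pow_orderOf_eq_one α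
    rwa [hαo, pow_two] at this
  have hαα : ∀ x, α (α x) = x := fun x => by
    have := DFunLike.congr_fun hα2 x
    simpa using this
  have hα1 : α ≠ 1 := by
    intro h
    rw [h, orderOf_one] at hαo
    omega
  have hcomm : ∀ γ ∈ Γ, ∀ x, γ (α x) = α (γ x) := by
    intro γ hγ x
    have h1 := Subgroup.mem_center_iff.mp z.2 ⟨γ, hγ⟩
    have h2 : γ * α = α * γ := congrArg Subtype.val h1
    have := DFunLike.congr_fun h2 x
    simpa using this
  by_cases hcase : ∀ x, x * α x = 1
  · exact ⟨α, hαΓ, fun x => eq_inv_of_mul_eq_one_right (hcase x)⟩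
  push Not at hcase
  obtain ⟨a₀, ha₀⟩ := hcase
  set a := a₀ * α a₀ with hadef
  have haF : α a = a := by
    rw [hadef, map_mul, hαα, mul_comm]
  have hx₀ : ∃ x₀, α x₀ ≠ x₀ := by
    by_contra h
    push Not at h
    exact hα1 (MulEquiv.ext h)
  obtain ⟨x₀, hx₀⟩ := hx₀
  set b := x₀ * (α x₀)⁻¹ with hbdef
  have hb1 : b ≠ 1 := by
    intro h
    rw [hbdef, mul_inv_eq_one] at h
    exact hx₀ h.symm
  have hbI : α b = b⁻¹ := by
    rw [hbdef, map_mul, map_inv, hαα, mul_inv_rev, inv_inv]
  -- the two subgroups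
  have hFb : fixSub α ≠ ⊥ := by
    intro h
    have : a ∈ fixSub α := haF
    rw [h, Subgroup.mem_bot] at this
    exact ha₀ this
  have hFt : fixSub α ≠ ⊤ := by
    intro h
    have : x₀ ∈ fixSub α := by rw [h]; trivial
    exact hx₀ this
  have hIb : invSub α ≠ ⊥ := by
    intro h
    have : b ∈ invSub α := hbI
    rw [h, Subgroup.mem_bot] at this
    exact hb1 this
  have hIt : invSub α ≠ ⊤ := by
    intro h
    have h1 : a ∈ invSub α := by rw [h]; trivial
    have h2 : α a = a⁻¹ := h1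
    rw [haF] at h2
    exact ha₀ (nine_eq_one_of_eq_inv hA a h2)
  have hF3 := nine_card_eq_three_of_ne hA _ hFb hFt
  have hI3 := nine_card_eq_three_of_ne hA _ hIb hIt
  -- decomposition
  have hdec : ∀ x : A, ∃ u v, α u = u ∧ α v = v⁻¹ ∧ x = u * v := by
    intro x
    refine ⟨(x * α x) ^ 5, (x * (α x)⁻¹) ^ 5, ?_, ?_, ?_⟩
    · rw [map_pow, map_mul, hαα, mul_comm]
    · rw [map_pow, map_mul, map_inv, hαα, ← inv_pow, mul_inv_rev, inv_inv]
    · rw [← mul_pow]
      have h9 : x ^ 9 = 1 := by rw [← hA]; exact pow_card_eq_one'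
      have : x * α x * (x * (α x)⁻¹) = x ^ 2 := by
        rw [pow_two]
        calc x * α x * (x * (α x)⁻¹) = x * x * (α x * (α x)⁻¹) := by
              simp only [mul_left_comm, mul_assoc]
          _ = x * x := by rw [mul_inv_cancel, mul_one]
      rw [this, ← pow_mul]
      calc x = 1 * x := (one_mul x).symm
        _ = x ^ 9 * x := by rw [h9]
        _ = x ^ (2 * 5) := by rw [← pow_succ]
  by_contra hno
  push Not at hno
  have hall : ∀ γ ∈ Γ, γ = 1 ∨ γ = α := by
    intro γ hγ
    have hγF : ∀ u ∈ fixSub α, γ u ∈ fixSub α := by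
      intro u hu
      have hu' : α u = u := hu
      change α (γ u) = γ u
      rw [← hcomm γ hγ, hu']
    have hγI : ∀ v ∈ invSub α, γ v ∈ invSub α := by
      intro v hv
      have hv' : α v = v⁻¹ := hv
      change α (γ v) = (γ v)⁻¹
      rw [← hcomm γ hγ, hv', map_inv]
    rcases act_on_three _ hF3 γ hγF with hf | hf <;> rcases act_on_three _ hI3 γ hγI with hi | hi
    · left
      apply MulEquiv.ext
      intro x
      obtain ⟨u, v, hu, hv, rfl⟩ := hdec x
      rw [map_mul, hf u hu, hi v hv]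
      rfl
    · right
      apply MulEquiv.ext
      intro x
      obtain ⟨u, v, hu, hv, rfl⟩ := hdec x
      rw [map_mul, hf u hu, hi v hv, map_mul, hu, hv]
    · exfalso
      obtain ⟨x, hx⟩ := hno (γ * α) (Γ.mul_mem hγ hαΓ)
      apply hx
      obtain ⟨u, v, hu, hv, rfl⟩ := hdec x
      have hvI : v⁻¹ ∈ invSub α := (invSub α).inv_mem hv
      rw [MulAut.mul_apply, map_mul, hu, hv, map_mul, hf u hu, hi _ hvI, mul_inv]
    · exfalso
      obtain ⟨x, hx⟩ := hno γ hγ
      apply hx
      obtain ⟨u, v, hu, hv, rfl⟩ := hdec x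
      rw [map_mul, hf u hu, hi v hv, mul_inv]
  have hsub : (Γ : Set (MulAut A)) ⊆ {1, α} := by
    intro γ hγ
    rcases hall γ hγ with h | h
    · left; exact h
    · right; exact h
  have hle : (Γ : Set (MulAut A)).ncard ≤ 2 := by
    calc (Γ : Set (MulAut A)).ncard ≤ ({1, α} : Set (MulAut A)).ncard :=
          Set.ncard_le_ncard hsub (Set.toFinite _)
      _ ≤ 2 := Set.ncard_insert_le 1 {α} |>.trans (by rw [Set.ncard_singleton])
  have hcard : Nat.card Γ = (Γ : Set (MulAut A)).ncard := Nat.card_coe_set_eq _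
  omega

end Nine

end Cfsg.Agent.Lib.Helper5.M11
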