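import Mathlib
import Cfsg.Agent.Lib.Helper5.M11F
import Cfsg.Agent.Lib.Helper5.M11G
import Cfsg.Agent.Lib.Helper24.M11InvD
import Cfsg.Agent.Lib.Helper22.Basic

/-!
# Simple groups of order 7920, part H: the Sylow 3-subgroups (helper5)

For a Sylow `3`-subgroup `P` of a simple group `G` of order `7920`:
* no element of order `3` commutes with an element of order `5` or `11`;
* `|P| = 9`, `|N(P)| ∈ {36, 144}`, `C(P) = P`, `P` has exponent `3`;
* some involution of `N(P)` inverts `P`; in particular every element of order `3` is real;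
* `|C(z)|` divides `144` for `z` of order `3`.
-/

set_option autoImplicit false
set_option linter.unusedSectionVars false
set_option linter.style.haveILetI false

namespace Cfsg.Agent.Lib.Helper5.M11

open MulAction Cfsg Cfsg.Agent.Lib.Helper8.SmallSimple Cfsg.Agent.Lib.Helper8.SmallSimple2
  Cfsg.Agent.Lib.Helper7 Cfsg.Agent.Lib.Helper19.Ord4032 Cfsg.Agent.CharLib
  Cfsg.Agent.Lib.Helper24 Cfsg.Agent.Lib.Helper12.BSF Cfsg.Agent.Lib.Helper6
  Cfsg.Agent.Lib.Helper19.Ord720

universe u

variable {G : Type u} [Group G] [Finite G]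

/-- no element of order `5` commutes with an involution -/
theorem no_order_ten_7920 [IsSimpleGroup G] (hG : Nat.card G = 7920) (q z : G)
    (hq : orderOf q = 5) (hz : orderOf z = 2) (hqz : q * z = z * q) : False := by
  classical
  letI : Fintype G := Fintype.ofFinite G
  letI : Fintype (IrrCharacter G) := fintypeIrr G
  have hnc : ¬ IsMulCommutative G := by
    apply not_comm_of_card_not_prime
    rw [hG]; norm_num
  have hM := degrees_multiset hG
  have hmem : (10 : ℕ) ∈ (↑[11, 44, 55, 10, 10, 10, 45, 1, 16, 16] : Multiset ℕ) := by decide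
  rw [← hM] at hmem
  obtain ⟨χ10, -, hχ10⟩ := Multiset.mem_map.mp hmem
  have h5fac : (Nat.card G).factorization 5 = 1 := by
    rw [hG, show (7920 : ℕ) = 5 * 1584 from rfl,
      Nat.factorization_mul (by norm_num) (by norm_num)]
    simp only [Finsupp.coe_add, Pi.add_apply]
    rw [(by norm_num : Nat.Prime 5).factorization_self,
      Nat.factorization_eq_zero_of_not_dvd (by norm_num)]
  exact no_order_ten hnc h5fac χ10 hχ10 q z hq hz hqz

/-- no element of order `3` commutes with an element of order `11` -/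
theorem no_comm_three_eleven [IsSimpleGroup G] (hG : Nat.card G = 7920) (z y : G)
    (hz : orderOf z = 3) (hy : orderOf y = 11) (hc : z * y = y * z) : False := by
  haveI : Fact (Nat.Prime 11) := ⟨by norm_num⟩
  have hy1 : y ≠ 1 := by
    intro h
    rw [h, orderOf_one] at hy
    omega
  have hyp : IsPGroup 11 ↥(Subgroup.zpowers y) := by
    apply IsPGroup.of_card (n := 1)
    rw [Nat.card_zpowers, hy, pow_one]
  obtain ⟨P', hP'⟩ := hyp.exists_le_sylow
  obtain ⟨hP'c, -, hC'c, -⟩ := sylow11_data hG P'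
  have hyP' : y ∈ (P' : Subgroup G) := hP' (Subgroup.mem_zpowers y)
  have hle := Cfsg.Agent.Lib.Helper12.BSF.le_zpowers_of_card_prime 11 (P' : Subgroup G) hP'c y
    hyP' hy1
  have hzC : z ∈ Subgroup.centralizer ((P' : Subgroup G) : Set G) := by
    rw [Subgroup.mem_centralizer_iff]
    intro x hx
    obtain ⟨j, rfl⟩ := Subgroup.mem_zpowers_iff.mp (hle hx)
    have hc' : Commute z y := hc
    exact (hc'.zpow_right j).eq.symm
  have hd := Subgroup.orderOf_dvd_natCard _ hzC
  rw [hz, hC'c] at hd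
  omega

/-- no element of order `3` commutes with an element of order `5` -/
theorem no_comm_three_five [IsSimpleGroup G] (hG : Nat.card G = 7920) (z y : G)
    (hz : orderOf z = 3) (hy : orderOf y = 5) (hc : z * y = y * z) : False := by
  haveI : Fact (Nat.Prime 5) := ⟨by norm_num⟩
  have hy1 : y ≠ 1 := by
    intro h
    rw [h, orderOf_one] at hy
    omega
  have hyp : IsPGroup 5 ↥(Subgroup.zpowers y) := by
    apply IsPGroup.of_card (n := 1)
    rw [Nat.card_zpowers, hy, pow_one]
  obtain ⟨P', hP'⟩ := hyp.exists_le_sylow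
  obtain ⟨hP'c, -, hC'c⟩ := sylow5_data hG (no_order_ten_7920 hG) P'
  have hyP' : y ∈ (P' : Subgroup G) := hP' (Subgroup.mem_zpowers y)
  have hle := Cfsg.Agent.Lib.Helper12.BSF.le_zpowers_of_card_prime 5 (P' : Subgroup G) hP'c y
    hyP' hy1
  have hzC : z ∈ Subgroup.centralizer ((P' : Subgroup G) : Set G) := by
    rw [Subgroup.mem_centralizer_iff]
    intro x hx
    obtain ⟨j, rfl⟩ := Subgroup.mem_zpowers_iff.mp (hle hx)
    have hc' : Commute z y := hc
    exact (hc'.zpow_right j).eq.symm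
  have hd := Subgroup.orderOf_dvd_natCard _ hzC
  rw [hz, hC'c] at hd
  omega

/-- a nonidentity element with `x ^ 9 = 1` has a power of order `3` -/
theorem exists_pow_order_three {x : G} (h9 : x ^ 9 = 1) (h1 : x ≠ 1) :
    ∃ j : ℕ, orderOf (x ^ j) = 3 := by
  have hd : orderOf x ∣ 9 := orderOf_dvd_of_pow_eq_one h9
  have hle : orderOf x ≤ 9 := Nat.le_of_dvd (by norm_num) hd
  have hne1 : orderOf x ≠ 1 := fun h => h1 (orderOf_eq_one_iff.mp h)
  by_cases h3 : orderOf x = 3
  · exact ⟨1, by rw [pow_one]; exact h3⟩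
  · have h9' : orderOf x = 9 := by
      generalize orderOf x = c at *
      interval_cases c <;> first | rfl | omega | (exfalso; revert hd; decide)
    refine ⟨3, ?_⟩
    rw [orderOf_pow' x (by norm_num), h9']
    norm_num

theorem arith_dvd_144 (n : ℕ) (hd : n ∣ 7920) (h5 : ¬ 5 ∣ n) (h11 : ¬ 11 ∣ n) : n ∣ 144 := by
  have hc5 : Nat.Coprime n 5 :=
    ((Nat.Prime.coprime_iff_not_dvd (by norm_num : Nat.Prime 5)).mpr h5).symm
  have hc11 : Nat.Coprime n 11 :=
    ((Nat.Prime.coprime_iff_not_dvd (by norm_num : Nat.Prime 11)).mpr h11).symm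
  have hc : Nat.Coprime n (5 * 11) := Nat.Coprime.mul_right hc5 hc11
  exact hc.dvd_of_dvd_mul_right (show n ∣ 144 * (5 * 11) from hd)

theorem arith_n3 (n i : ℕ) (h : n * i = 7920) (h9 : 9 ∣ n) (h144 : n ∣ 144) (hi : i % 3 = 1) :
    n = 9 ∨ n = 36 ∨ n = 144 := by
  obtain ⟨d, rfl⟩ := h9
  have hd16 : d ∣ 16 :=
    Nat.dvd_of_mul_dvd_mul_left (by norm_num) (show 9 * d ∣ 9 * 16 from h144)
  have hdle : d ≤ 16 := Nat.le_of_dvd (by norm_num) hd16
  interval_cases d <;> omega

/-- the order of a Sylow `3`-subgroup -/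
theorem card_sylow3 (hG : Nat.card G = 7920) (P : Sylow 3 G) :
    Nat.card ↥(P : Subgroup G) = 9 := by
  have h3fac : (Nat.card G).factorization 3 = 2 := by
    rw [hG, show (7920 : ℕ) = 3 ^ 2 * 880 from rfl,
      Nat.factorization_mul (by norm_num) (by norm_num)]
    simp only [Finsupp.coe_add, Pi.add_apply]
    rw [Nat.prime_three.factorization_pow, Finsupp.single_eq_same,
      Nat.factorization_eq_zero_of_not_dvd (by norm_num)]
  rw [P.card_eq_multiplicity, h3fac]
  norm_num

/-- a Sylow `3`-subgroup is commutative -/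
theorem sylow3_comm (hG : Nat.card G = 7920) (P : Sylow 3 G) :
    ∀ x ∈ (P : Subgroup G), ∀ y ∈ (P : Subgroup G), x * y = y * x := by
  intro x hx y hy
  have h := IsPGroup.commutative_of_card_eq_prime_sq (p := 3) (G := ↥(P : Subgroup G))
    (by rw [card_sylow3 hG P]; norm_num) ⟨x, hx⟩ ⟨y, hy⟩
  exact congrArg Subtype.val h

theorem sylow3_le_centralizer (hG : Nat.card G = 7920) (P : Sylow 3 G) :
    (P : Subgroup G) ≤ Subgroup.centralizer ((P : Subgroup G) : Set G) := by
  intro x hx
  rw [Subgroup.mem_centralizer_iff]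
  intro y hy
  exact sylow3_comm hG P y hy x hx

theorem sylow3_pow_nine (hG : Nat.card G = 7920) (P : Sylow 3 G) :
    ∀ x ∈ (P : Subgroup G), x ^ 9 = 1 := by
  intro x hx
  have h : (⟨x, hx⟩ : ↥(P : Subgroup G)) ^ Nat.card ↥(P : Subgroup G) = 1 := pow_card_eq_one'
  rw [card_sylow3 hG P] at h
  simpa using congrArg Subtype.val h

/-- the centralizer of a Sylow `3`-subgroup has odd order -/
theorem odd_card_centralizer_sylow3 [IsSimpleGroup G] (hG : Nat.card G = 7920) (P : Sylow 3 G) :
    ¬ 2 ∣ Nat.card ↥(Subgroup.centralizer ((P : Subgroup G) : Set G)) := by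
  intro h2
  obtain ⟨t, htC, ht⟩ := exists_invol_mem _ h2
  have h48 := Cfsg.Agent.Lib.Helper24.M11Inv.card_centralizer_invol hG t ht
  have hle : (P : Subgroup G) ≤ Subgroup.centralizer ({t} : Set G) := by
    intro x hx
    rw [Subgroup.mem_centralizer_iff]
    intro h hh
    rw [Set.mem_singleton_iff] at hh
    subst hh
    exact (Subgroup.mem_centralizer_iff.mp htC x hx).symm
  have hd := Subgroup.card_dvd_of_le hle
  rw [card_sylow3 hG P, h48] at hd
  omega

/-- an element of prime order `p` (`9 mod p ≥ 2`) normalizing a subgroup of order `9` centralizes a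
nonidentity element of it -/
theorem exists_fixed_of_prime_order (P : Subgroup G) (hP : Nat.card ↥P = 9) (p : ℕ)
    [Fact p.Prime] (hp : 2 ≤ 9 % p) (y : G) (hyN : y ∈ Subgroup.normalizer (P : Set G))
    (hy : orderOf y = p) : ∃ x ∈ P, x ≠ 1 ∧ y * x * y⁻¹ = x := by
  set y' : ↥(Subgroup.normalizer (P : Set G)) := ⟨y, hyN⟩ with hy'
  set K : Subgroup ↥(Subgroup.normalizer (P : Set G)) := Subgroup.zpowers y' with hK
  have hKp : IsPGroup p ↥K := by
    apply IsPGroup.of_card (n := 1)
    rw [hK, Nat.card_zpowers, pow_one, ← hy]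
    exact Subgroup.orderOf_mk y hyN
  have hmod := hKp.card_modEq_card_fixedPoints (↥P)
  rw [hP] at hmod
  have hf2 : 2 ≤ Nat.card ↥(MulAction.fixedPoints ↥K ↥P) := by
    have h1 := hmod
    unfold Nat.ModEq at h1
    have h2 := Nat.mod_le (Nat.card ↥(MulAction.fixedPoints ↥K ↥P)) p
    omega
  haveI : Nontrivial ↥(MulAction.fixedPoints ↥K ↥P) := by
    rw [← Finite.one_lt_card_iff_nontrivial]; omega
  have h1mem : (1 : ↥P) ∈ MulAction.fixedPoints ↥K ↥P := by
    intro k
    exact smul_one k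
  obtain ⟨⟨x, hx⟩, hne⟩ := exists_ne (⟨1, h1mem⟩ : ↥(MulAction.fixedPoints ↥K ↥P))
  refine ⟨x.1, x.2, ?_, ?_⟩
  · intro h
    apply hne
    apply Subtype.ext
    apply Subtype.ext
    exact h
  · have := hx ⟨y', Subgroup.mem_zpowers y'⟩
    exact congrArg Subtype.val this

theorem not_dvd_card_normalizer (P : Subgroup G) (hP : Nat.card ↥P = 9) (p : ℕ) [Fact p.Prime]
    (hp : 2 ≤ 9 % p)
    (hno : ∀ z y : G, orderOf z = 3 → orderOf y = p → z * y = y * z → False) :
    ¬ p ∣ Nat.card ↥(Subgroup.normalizer (P : Set G)) := by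
  intro h
  obtain ⟨y, hyN, hy⟩ := exists_prime_order_mem _ p h
  obtain ⟨x, hxP, hx1, hfix⟩ := exists_fixed_of_prime_order P hP p hp y hyN hy
  have hx9 : x ^ 9 = 1 := by
    have h' : (⟨x, hxP⟩ : ↥P) ^ Nat.card ↥P = 1 := pow_card_eq_one'
    rw [hP] at h'
    simpa using congrArg Subtype.val h'
  obtain ⟨j, hj⟩ := exists_pow_order_three hx9 hx1
  have hc : Commute x y := by
    have h' : y * x = x * y := by
      calc y * x = y * x * y⁻¹ * y := by group
        _ = x * y := by rw [hfix]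
    exact h'.symm
  exact hno (x ^ j) y hj hy (hc.pow_left j).eq

/-- **T3**: the centralizer of an element of order `3` has order dividing `144` -/
theorem card_centralizer_order_three_dvd [IsSimpleGroup G] (hG : Nat.card G = 7920) (z : G)
    (hz : orderOf z = 3) : Nat.card ↥(Subgroup.centralizer ({z} : Set G)) ∣ 144 := by
  haveI : Fact (Nat.Prime 5) := ⟨by norm_num⟩
  haveI : Fact (Nat.Prime 11) := ⟨by norm_num⟩
  have hd : Nat.card ↥(Subgroup.centralizer ({z} : Set G)) ∣ 7920 :=
    hG ▸ Subgroup.card_subgroup_dvd_card _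
  have h5 : ¬ 5 ∣ Nat.card ↥(Subgroup.centralizer ({z} : Set G)) := by
    intro h
    obtain ⟨y, hyC, hy⟩ := exists_prime_order_mem _ 5 h
    exact no_comm_three_five hG z y hz hy (Subgroup.mem_centralizer_iff.mp hyC z rfl)
  have h11 : ¬ 11 ∣ Nat.card ↥(Subgroup.centralizer ({z} : Set G)) := by
    intro h
    obtain ⟨y, hyC, hy⟩ := exists_prime_order_mem _ 11 h
    exact no_comm_three_eleven hG z y hz hy (Subgroup.mem_centralizer_iff.mp hyC z rfl)
  exact arith_dvd_144 _ hd h5 h11

/-- **T1**: the normalizer of a Sylow `3`-subgroup has order `36` or `144` -/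
theorem card_normalizer_sylow3 [IsSimpleGroup G] (hG : Nat.card G = 7920) (P : Sylow 3 G) :
    Nat.card ↥(Subgroup.normalizer ((P : Subgroup G) : Set G)) = 36 ∨
    Nat.card ↥(Subgroup.normalizer ((P : Subgroup G) : Set G)) = 144 := by
  haveI : Fact (Nat.Prime 5) := ⟨by norm_num⟩
  haveI : Fact (Nat.Prime 11) := ⟨by norm_num⟩
  have hnc : ¬ IsMulCommutative G := by
    apply not_comm_of_card_not_prime
    rw [hG]; norm_num
  have hP9 := card_sylow3 hG P
  have h9N : 9 ∣ Nat.card ↥(Subgroup.normalizer ((P : Subgroup G) : Set G)) := by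
    rw [← hP9]; exact Subgroup.card_dvd_of_le Subgroup.le_normalizer
  have hN7920 : Nat.card ↥(Subgroup.normalizer ((P : Subgroup G) : Set G)) ∣ 7920 :=
    hG ▸ Subgroup.card_subgroup_dvd_card _
  have h5 : ¬ 5 ∣ Nat.card ↥(Subgroup.normalizer ((P : Subgroup G) : Set G)) :=
    not_dvd_card_normalizer (P : Subgroup G) hP9 5 (by norm_num)
      (fun z y hz hy hc => no_comm_three_five hG z y hz hy hc)
  have h11 : ¬ 11 ∣ Nat.card ↥(Subgroup.normalizer ((P : Subgroup G) : Set G)) :=
    not_dvd_card_normalizer (P : Subgroup G) hP9 11 (by norm_num)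
      (fun z y hz hy hc => no_comm_three_eleven hG z y hz hy hc)
  have h144 := arith_dvd_144 _ hN7920 h5 h11
  have hidx : Nat.card ↥(Subgroup.normalizer ((P : Subgroup G) : Set G)) *
      (Subgroup.normalizer ((P : Subgroup G) : Set G)).index = 7920 := by
    rw [Subgroup.card_mul_index, hG]
  have hmod : (Subgroup.normalizer ((P : Subgroup G) : Set G)).index % 3 = 1 := by
    have h1 := card_sylow_modEq_one 3 G
    rw [Sylow.card_eq_index_normalizer P] at h1
    unfold Nat.ModEq at h1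
    omega
  rcases arith_n3 _ _ hidx h9N h144 hmod with h | h | h
  · exfalso
    have hPN : (P : Subgroup G) = Subgroup.normalizer ((P : Subgroup G) : Set G) :=
      Subgroup.eq_of_le_of_card_ge Subgroup.le_normalizer (by rw [h, hP9])
    have hNC : Subgroup.normalizer ((P : Subgroup G) : Set G) ≤
        Subgroup.centralizer ((P : Subgroup G) : Set G) := by
      intro x hx
      rw [← hPN] at hx
      exact sylow3_le_centralizer hG P hx
    haveI : Group.IsPerfect G := ⟨commutator_eq_top_of_simple hnc⟩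
    have hbot := Cfsg.Agent.Lib.Helper22.sylow_eq_bot_of_isPerfect P hNC
    rw [hbot, Subgroup.card_bot] at hP9
    omega
  · left; exact h
  · right; exact h

/-- `C(P) = P` has order `9` -/
theorem card_centralizer_sylow3 [IsSimpleGroup G] (hG : Nat.card G = 7920) (P : Sylow 3 G) :
    Nat.card ↥(Subgroup.centralizer ((P : Subgroup G) : Set G)) = 9 := by
  have hP9 := card_sylow3 hG P
  have h9 : 9 ∣ Nat.card ↥(Subgroup.centralizer ((P : Subgroup G) : Set G)) := by
    rw [← hP9]; exact Subgroup.card_dvd_of_le (sylow3_le_centralizer hG P)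
  have hodd := odd_card_centralizer_sylow3 hG P
  have hCN : Nat.card ↥(Subgroup.centralizer ((P : Subgroup G) : Set G)) ∣
      Nat.card ↥(Subgroup.normalizer ((P : Subgroup G) : Set G)) :=
    Subgroup.card_dvd_of_le (Subgroup.centralizer_le_normalizer _)
  have h144 : Nat.card ↥(Subgroup.centralizer ((P : Subgroup G) : Set G)) ∣ 144 := by
    rcases card_normalizer_sylow3 hG P with h | h <;> rw [h] at hCN
    · exact hCN.trans (by norm_num)
    · exact hCN
  obtain ⟨d, hd⟩ := h9
  rw [hd] at h144 hodd ⊢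
  have hd16 : d ∣ 16 :=
    Nat.dvd_of_mul_dvd_mul_left (by norm_num) (show 9 * d ∣ 9 * 16 from h144)
  have hdle : d ≤ 16 := Nat.le_of_dvd (by norm_num) hd16
  interval_cases d <;> omega

/-- the image of `N(P)` in `Aut P` has order `|N(P)| / 9` -/
theorem card_range_mul [IsSimpleGroup G] (hG : Nat.card G = 7920) (P : Sylow 3 G) :
    9 * Nat.card ↥((P : Subgroup G).normalizerMonoidHom.range) =
      Nat.card ↥(Subgroup.normalizer ((P : Subgroup G) : Set G)) := by
  have h1 := card_centralizer_mul_relIndex (P : Subgroup G)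
  rw [card_centralizer_sylow3 hG P] at h1
  have h2 : (Subgroup.centralizer ((P : Subgroup G) : Set G)).relIndex
      (Subgroup.normalizer ((P : Subgroup G) : Set G)) =
      Nat.card ↥((P : Subgroup G).normalizerMonoidHom.range) := by
    rw [← Subgroup.index_ker, Subgroup.normalizerMonoidHom_ker]
    rfl
  rw [← h2]; exact h1

/-- **T2**: an involution of `N(P)` inverts `P` -/
theorem exists_invol_inverting [IsSimpleGroup G] (hG : Nat.card G = 7920) (P : Sylow 3 G) :
    ∃ s ∈ Subgroup.normalizer ((P : Subgroup G) : Set G), orderOf s = 2 ∧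
      ∀ x ∈ (P : Subgroup G), s * x * s⁻¹ = x⁻¹ := by
  haveI : Fact (Nat.Prime 2) := ⟨Nat.prime_two⟩
  have hP9 := card_sylow3 hG P
  have hcomm : ∀ a b : ↥(P : Subgroup G), a * b = b * a :=
    fun a b => Subtype.ext (sylow3_comm hG P a a.2 b b.2)
  letI : CommGroup ↥(P : Subgroup G) :=
    { (inferInstance : Group ↥(P : Subgroup G)) with mul_comm := hcomm }
  have hcard := card_range_mul hG P
  have hk : ∃ k, 2 ≤ k ∧ Nat.card ↥((P : Subgroup G).normalizerMonoidHom.range) = 2 ^ k := by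
    rcases card_normalizer_sylow3 hG P with h | h <;> rw [h] at hcard
    · exact ⟨2, le_refl _, by rw [show (2 : ℕ) ^ 2 = 4 from rfl]; omega⟩
    · exact ⟨4, by norm_num, by rw [show (2 : ℕ) ^ 4 = 16 from rfl]; omega⟩
  obtain ⟨k, hk2, hkc⟩ := hk
  obtain ⟨γ, hγ, hinv⟩ := exists_inverting_of_card_nine hP9
    ((P : Subgroup G).normalizerMonoidHom.range) k hk2 hkc
  obtain ⟨s₀, rfl⟩ := hγ
  have hs₀ : ∀ x ∈ (P : Subgroup G), (s₀ : G) * x * (s₀ : G)⁻¹ = x⁻¹ := by
    intro x hx
    have := hinv ⟨x, hx⟩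
    exact congrArg Subtype.val this
  obtain ⟨s₁, hs₁N⟩ := s₀
  simp only at hs₀
  -- `s₁ * s₁` centralizes `P`
  have hsq : s₁ * s₁ ∈ Subgroup.centralizer ((P : Subgroup G) : Set G) := by
    rw [Subgroup.mem_centralizer_iff]
    intro x hx
    have h1 := hs₀ x hx
    have h2 := hs₀ x⁻¹ (inv_mem hx)
    rw [inv_inv] at h2
    have h3 : (s₁ * s₁) * x * (s₁ * s₁)⁻¹ = x := by
      have : (s₁ * s₁) * x * (s₁ * s₁)⁻¹ = s₁ * (s₁ * x * s₁⁻¹) * s₁⁻¹ := by group
      rw [this, h1, h2]
    exact (mul_inv_eq_iff_eq_mul.mp h3).symm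
  have h18 : (s₁ * s₁) ^ 9 = 1 := by
    have h' : (⟨s₁ * s₁, hsq⟩ : ↥(Subgroup.centralizer ((P : Subgroup G) : Set G))) ^
        Nat.card ↥(Subgroup.centralizer ((P : Subgroup G) : Set G)) = 1 := pow_card_eq_one'
    rw [card_centralizer_sylow3 hG P] at h'
    simpa using congrArg Subtype.val h'
  set c : G := (s₁ * s₁) ^ 4 with hc
  have hcC : c ∈ Subgroup.centralizer ((P : Subgroup G) : Set G) := pow_mem hsq 4
  have hs9 : s₁ ^ 9 = c * s₁ := by
    rw [hc, show 9 = 2 * 4 + 1 from rfl, pow_succ, pow_mul, pow_two]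
  have hsinv : ∀ x ∈ (P : Subgroup G), s₁ ^ 9 * x * (s₁ ^ 9)⁻¹ = x⁻¹ := by
    intro x hx
    have hcx := Subgroup.mem_centralizer_iff.mp hcC x⁻¹ (inv_mem hx)
    rw [hs9]
    calc c * s₁ * x * (c * s₁)⁻¹ = c * (s₁ * x * s₁⁻¹) * c⁻¹ := by group
      _ = c * x⁻¹ * c⁻¹ := by rw [hs₀ x hx]
      _ = x⁻¹ * c * c⁻¹ := by rw [hcx]
      _ = x⁻¹ := by rw [mul_inv_cancel_right]
  have hsq1 : (s₁ ^ 9) ^ 2 = 1 := by
    rw [← pow_mul, show 9 * 2 = 2 * 9 from rfl, pow_mul, pow_two, h18]
  have hne1 : s₁ ^ 9 ≠ 1 := by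
    intro h
    have hPne : (P : Subgroup G) ≠ ⊥ := by
      intro hb
      rw [hb, Subgroup.card_bot] at hP9
      omega
    obtain ⟨x, hx⟩ := Subgroup.ne_bot_iff_exists_ne_one.mp hPne
    have h1 := hsinv x.1 x.2
    rw [h, one_mul, inv_one, mul_one] at h1
    have h2 : x = x⁻¹ := Subtype.ext h1
    exact hx (nine_eq_one_of_eq_inv hP9 x h2)
  exact ⟨s₁ ^ 9, pow_mem hs₁N 9, orderOf_eq_prime hsq1 hne1, hsinv⟩

/-- every element of order `3` is inverted by an involution -/
theorem exists_invol_inverting_order_three [IsSimpleGroup G] (hG : Nat.card G = 7920) (z : G)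
    (hz : orderOf z = 3) : ∃ s : G, orderOf s = 2 ∧ s * z * s⁻¹ = z⁻¹ := by
  have hzp : IsPGroup 3 ↥(Subgroup.zpowers z) := by
    apply IsPGroup.of_card (n := 1)
    rw [Nat.card_zpowers, hz, pow_one]
  obtain ⟨P, hP⟩ := hzp.exists_le_sylow
  obtain ⟨s, -, hs, hinv⟩ := exists_invol_inverting hG P
  exact ⟨s, hs, hinv z (hP (Subgroup.mem_zpowers z))⟩

/-- **T4**: a Sylow `3`-subgroup has exponent `3` -/
theorem sylow3_pow_three [IsSimpleGroup G] (hG : Nat.card G = 7920) (P : Sylow 3 G) :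
    ∀ x ∈ (P : Subgroup G), x ^ 3 = 1 := by
  intro x hx
  by_contra hne
  have hP9 := card_sylow3 hG P
  have ho : orderOf (⟨x, hx⟩ : ↥(P : Subgroup G)) = 9 := by
    have hd : orderOf (⟨x, hx⟩ : ↥(P : Subgroup G)) ∣ 9 := by
      rw [← hP9]; exact orderOf_dvd_natCard _
    have hle := Nat.le_of_dvd (by norm_num) hd
    have h3 : ¬ orderOf (⟨x, hx⟩ : ↥(P : Subgroup G)) ∣ 3 := by
      intro h
      apply hne
      have := orderOf_dvd_iff_pow_eq_one.mp h
      simpa using congrArg Subtype.val this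
    generalize orderOf (⟨x, hx⟩ : ↥(P : Subgroup G)) = c at *
    interval_cases c <;>
      first | rfl | (exfalso; revert hd; decide) | (exfalso; revert h3; decide)
  haveI : IsCyclic ↥(P : Subgroup G) := isCyclic_of_orderOf_eq_card ⟨x, hx⟩ (by rw [ho, hP9])
  have hA := IsCyclic.card_mulAut ↥(P : Subgroup G)
  rw [hP9] at hA
  have h6 : Nat.totient 9 = 6 := by decide
  rw [h6] at hA
  have hdvd := Subgroup.card_subgroup_dvd_card ((P : Subgroup G).normalizerMonoidHom.range)
  rw [hA] at hdvd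
  have hcard := card_range_mul hG P
  rcases card_normalizer_sylow3 hG P with h | h <;> rw [h] at hcard
  · have h4 : Nat.card ↥((P : Subgroup G).normalizerMonoidHom.range) = 4 := by omega
    rw [h4] at hdvd; omega
  · have h16 : Nat.card ↥((P : Subgroup G).normalizerMonoidHom.range) = 16 := by omega
    rw [h16] at hdvd; omega

/-- nonidentity elements of a Sylow `3`-subgroup have order `3` -/
theorem orderOf_eq_three_of_mem_sylow3 [IsSimpleGroup G] (hG : Nat.card G = 7920) (P : Sylow 3 G)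
    (x : G) (hx : x ∈ (P : Subgroup G)) (hx1 : x ≠ 1) : orderOf x = 3 :=
  orderOf_eq_prime (sylow3_pow_three hG P x hx) hx1

end Cfsg.Agent.Lib.Helper5.M11
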