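import Mathlib

/-!
# A group of order 48 with a central involution (helper5)

Abstract version of the analysis of the centralizer `K = C(t)` of an involution in a simple group of
order `7920`: if no element of order `3` of `K` commutes with a noncentral element of a `2`-subgroup
containing `t`, and `K` has no elementary abelian subgroup of order `8`, then `K` has a normal
subgroup `Q` of order `8`, contained in all Sylow `2`-subgroups, all of whose elements outside
`⟨t⟩` square to `t` and are permuted by an element `c` of order `3` in two orbits `O`, `O⁻¹`.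
-/

set_option autoImplicit false
set_option linter.unusedSectionVars false
set_option linter.style.haveILetI false

namespace Cfsg.Agent.Lib.Helper5.M11

section K48

variable {K : Type*} [Group K]

theorem conj_ne_mul_of_order_three {t d u : K} (ht2 : t * t = 1) (htc : ∀ g : K, g * t = t * g)
    (hd3 : d ^ 3 = 1) (hdu : d * u ≠ u * d) : d * u * d⁻¹ ≠ t * u := by
  intro h
  apply hdu
  have h2 : d * (d * u * d⁻¹) * d⁻¹ = u := by
    calc d * (d * u * d⁻¹) * d⁻¹ = d * (t * u) * d⁻¹ := by rw [h]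
      _ = (d * t) * u * d⁻¹ := by rw [mul_assoc d t u]
      _ = (t * d) * u * d⁻¹ := by rw [htc d]
      _ = t * (d * u * d⁻¹) := by simp only [mul_assoc]
      _ = t * (t * u) := by rw [h]
      _ = u := by rw [← mul_assoc, ht2, one_mul]
  have h3 : Commute (d * d) u := by
    have h' : (d * d) * u * (d * d)⁻¹ = u := by
      calc (d * d) * u * (d * d)⁻¹ = d * (d * u * d⁻¹) * d⁻¹ := by group
        _ = u := h2
    exact (mul_inv_eq_iff_eq_mul.mp h')
  have h4 : d = (d * d) * (d * d) := by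
    have : (d * d) * (d * d) = d ^ 3 * d := by
      simp only [pow_succ, pow_zero, one_mul, mul_assoc]
    rw [this, hd3, one_mul]
  have h5 : Commute ((d * d) * (d * d)) u := h3.mul_left h3
  rw [← h4] at h5
  exact h5

theorem conj_three {c x : K} (hc3 : c ^ 3 = 1) :
    c * (c * (c * x * c⁻¹) * c⁻¹) * c⁻¹ = x := by
  have h1 : c * c * c = 1 := by
    rw [← hc3]
    simp only [pow_succ, pow_zero, one_mul]
  calc c * (c * (c * x * c⁻¹) * c⁻¹) * c⁻¹ = (c * c * c) * x * (c * c * c)⁻¹ := by group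
    _ = x := by rw [h1, one_mul, inv_one, mul_one]

theorem conj_ne_self_of_not_comm {d u : K} (hdu : d * u ≠ u * d) : d * u * d⁻¹ ≠ u := by
  intro h
  apply hdu
  exact mul_inv_eq_iff_eq_mul.mp h

end K48

section Main

variable {K : Type*} [Group K] [Finite K]

/-- the six elements of `Q` outside `⟨t⟩` -/
theorem orbit_six (Q : Subgroup K) [hQn : Q.Normal] (hQ8 : Nat.card Q = 8) (t c : K)
    (htQ : t ∈ Q) (ht1 : t ≠ 1) (ht2 : t * t = 1) (htc : ∀ g : K, g * t = t * g)
    (hc3 : c ^ 3 = 1)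
    (hfree : ∀ u ∈ Q, u ≠ 1 → u ≠ t → c * u ≠ u * c)
    (q : K) (hq : q ∈ Q) (hq1 : q ≠ 1) (hqt : q ≠ t) :
    ∀ q' ∈ Q, q' ≠ 1 → q' ≠ t →
      (q' = q ∨ q' = c * q * c⁻¹ ∨ q' = c * (c * q * c⁻¹) * c⁻¹) ∨
      (q' = t * q ∨ q' = t * (c * q * c⁻¹) ∨ q' = t * (c * (c * q * c⁻¹) * c⁻¹)) := by
  classical
  -- conjugation by `c` preserves the set `X` of elements of `Q` outside `⟨t⟩`
  have hX : ∀ u ∈ Q, u ≠ 1 → u ≠ t → (c * u * c⁻¹ ∈ Q ∧ c * u * c⁻¹ ≠ 1 ∧ c * u * c⁻¹ ≠ t) := by
    intro u hu hu1 hut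
    refine ⟨hQn.conj_mem u hu c, ?_, ?_⟩
    · intro h
      apply hu1
      have : u = c⁻¹ * (c * u * c⁻¹) * c := by group
      rw [this, h]; group
    · intro h
      apply hut
      have : u = c⁻¹ * (c * u * c⁻¹) * c := by group
      rw [this, h]
      have h' : c⁻¹ * t * c = t := by
        rw [mul_assoc, ← htc c, ← mul_assoc, inv_mul_cancel, one_mul]
      exact h'
  set q0 := q with hq0
  set q1 := c * q0 * c⁻¹ with hq1d
  set q2 := c * q1 * c⁻¹ with hq2d
  obtain ⟨hq1Q, hq11, hq1t⟩ := hX q0 hq hq1 hqt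
  obtain ⟨hq2Q, hq21, hq2t⟩ := hX q1 hq1Q hq11 hq1t
  have hq3 : c * q2 * c⁻¹ = q0 := by
    rw [hq2d, hq1d]
    exact conj_three hc3
  -- the inequalities
  have a01 : q1 ≠ q0 := conj_ne_self_of_not_comm (hfree q0 hq hq1 hqt)
  have a12 : q2 ≠ q1 := conj_ne_self_of_not_comm (hfree q1 hq1Q hq11 hq1t)
  have a20 : q0 ≠ q2 := by
    have := conj_ne_self_of_not_comm (hfree q2 hq2Q hq21 hq2t)
    rwa [hq3] at this
  have b01 : q1 ≠ t * q0 := conj_ne_mul_of_order_three ht2 htc hc3 (hfree q0 hq hq1 hqt)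
  have b12 : q2 ≠ t * q1 := conj_ne_mul_of_order_three ht2 htc hc3 (hfree q1 hq1Q hq11 hq1t)
  have b20 : q0 ≠ t * q2 := by
    have := conj_ne_mul_of_order_three ht2 htc hc3 (hfree q2 hq2Q hq21 hq2t)
    rwa [hq3] at this
  have tt : ∀ x y : K, x = t * y → y = t * x := by
    intro x y h
    rw [h, ← mul_assoc, ht2, one_mul]
  have c10 : q0 ≠ t * q1 := fun h => b01 (tt _ _ h)
  have c21 : q1 ≠ t * q2 := fun h => b12 (tt _ _ h)
  have c02 : q2 ≠ t * q0 := fun h => b20 (tt _ _ h)
  have d0 : q0 ≠ t * q0 := by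
    intro h
    apply ht1
    have : t * q0 * q0⁻¹ = q0 * q0⁻¹ := by rw [← h]
    rwa [mul_inv_cancel_right, mul_inv_cancel] at this
  have d1 : q1 ≠ t * q1 := by
    intro h
    apply ht1
    have : t * q1 * q1⁻¹ = q1 * q1⁻¹ := by rw [← h]
    rwa [mul_inv_cancel_right, mul_inv_cancel] at this
  have d2 : q2 ≠ t * q2 := by
    intro h
    apply ht1
    have : t * q2 * q2⁻¹ = q2 * q2⁻¹ := by rw [← h]
    rwa [mul_inv_cancel_right, mul_inv_cancel] at this
  have e01 : t * q1 ≠ t * q0 := fun h => a01 (mul_left_cancel h)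
  have e12 : t * q2 ≠ t * q1 := fun h => a12 (mul_left_cancel h)
  have e20 : t * q0 ≠ t * q2 := fun h => a20 (mul_left_cancel h)
  -- the finset of six elements
  set F : Finset K := {q0, q1, q2, t * q0, t * q1, t * q2} with hF
  have hF6 : F.card = 6 := by
    rw [hF, Finset.card_insert_of_notMem, Finset.card_insert_of_notMem,
      Finset.card_insert_of_notMem, Finset.card_insert_of_notMem, Finset.card_insert_of_notMem,
      Finset.card_singleton]
    · simp only [Finset.mem_singleton]; exact e12.symm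
    · simp only [Finset.mem_insert, Finset.mem_singleton, not_or]; exact ⟨e01.symm, e20⟩
    · simp only [Finset.mem_insert, Finset.mem_singleton, not_or]; exact ⟨c02, b12, d2⟩
    · simp only [Finset.mem_insert, Finset.mem_singleton, not_or]
      exact ⟨a12.symm, b01, d1, c21⟩
    · simp only [Finset.mem_insert, Finset.mem_singleton, not_or]
      exact ⟨a01.symm, a20, d0, c10, b20⟩
  set X : Set K := (Q : Set K) \ {1, t} with hXdef
  have hXfin : X.Finite := Set.toFinite _
  have hXcard : X.ncard = 6 := by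
    rw [hXdef, Set.ncard_diff (by
      intro x hx
      simp only [Set.mem_insert_iff, Set.mem_singleton_iff] at hx
      rcases hx with rfl | rfl
      · exact Q.one_mem
      · exact htQ) (Set.toFinite _), Set.ncard_pair (Ne.symm ht1)]
    have : (Q : Set K).ncard = 8 := by
      rw [← hQ8]; rfl
    rw [this]
  have tQ : ∀ x ∈ Q, t * x ∈ Q := fun x hx => Q.mul_mem htQ hx
  have tne : ∀ x : K, x ≠ 1 → x ≠ t → (t * x ≠ 1 ∧ t * x ≠ t) := by
    intro x hx1 hxt
    constructor
    · intro h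
      apply hxt
      have : x = t * (t * x) := by rw [← mul_assoc, ht2, one_mul]
      rw [this, h, mul_one]
    · intro h
      apply hx1
      have : t * x = t * 1 := by rw [h, mul_one]
      exact mul_left_cancel this
  have hsub : (↑F : Set K) ⊆ X := by
    intro x hx
    rw [Finset.mem_coe, hF] at hx
    simp only [Finset.mem_insert, Finset.mem_singleton] at hx
    rw [hXdef, Set.mem_diff]
    simp only [Set.mem_insert_iff, Set.mem_singleton_iff, not_or, SetLike.mem_coe]
    rcases hx with rfl | rfl | rfl | rfl | rfl | rfl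
    · exact ⟨hq, hq1, hqt⟩
    · exact ⟨hq1Q, hq11, hq1t⟩
    · exact ⟨hq2Q, hq21, hq2t⟩
    · exact ⟨tQ _ hq, tne _ hq1 hqt⟩
    · exact ⟨tQ _ hq1Q, tne _ hq11 hq1t⟩
    · exact ⟨tQ _ hq2Q, tne _ hq21 hq2t⟩
  have hFX : (↑F : Set K) = X :=
    Set.eq_of_subset_of_ncard_le hsub (by rw [hXcard, Set.ncard_coe_finset, hF6]) hXfin
  intro q' hq' hq'1 hq't
  have hmem : q' ∈ X := by
    rw [hXdef, Set.mem_diff]
    simp only [Set.mem_insert_iff, Set.mem_singleton_iff, not_or, SetLike.mem_coe]
    exact ⟨hq', hq'1, hq't⟩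
  rw [← hFX, Finset.mem_coe, hF] at hmem
  simp only [Finset.mem_insert, Finset.mem_singleton] at hmem
  rcases hmem with h | h | h | h | h | h
  · exact Or.inl (Or.inl h)
  · exact Or.inl (Or.inr (Or.inl h))
  · exact Or.inl (Or.inr (Or.inr h))
  · exact Or.inr (Or.inl h)
  · exact Or.inr (Or.inr (Or.inl h))
  · exact Or.inr (Or.inr (Or.inr h))

end Main

end Cfsg.Agent.Lib.Helper5.M11
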