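import Mathlib
import Cfsg.Agent.Lib.Helper5.M11LocA

/-!
# A group of order 48 with a central involution, part B (helper5)

`k48_main`: see `M11LocA`.
-/

set_option autoImplicit false
set_option linter.unusedSectionVars false
set_option linter.style.haveILetI false

namespace Cfsg.Agent.Lib.Helper5.M11

open scoped Pointwise

variable {K : Type*} [Group K] [Finite K]

set_option maxHeartbeats 1000000 in
theorem k48_main (hK : Nat.card K = 48) (t : K) (ht : orderOf t = 2)
    (htc : ∀ g : K, g * t = t * g)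
    (h3 : ∀ c : K, orderOf c = 3 → ∀ A : Subgroup K, IsPGroup 2 ↥A → t ∈ A → ∀ s ∈ A, s ≠ 1 →
      s ≠ t → c * s = s * c → False)
    (hE8 : ∀ Q : Subgroup K, Nat.card ↥Q = 8 → (∀ x ∈ Q, x ^ 2 = 1) → False) :
    ∃ (Q : Subgroup K) (c : K), Q.Normal ∧ Nat.card ↥Q = 8 ∧ t ∈ Q ∧ orderOf c = 3 ∧
      (∀ S : Sylow 2 K, Q ≤ (S : Subgroup K)) ∧ (∀ q ∈ Q, q ≠ 1 → q ≠ t → q ^ 2 = t) ∧
      (∀ q ∈ Q, ∀ q' ∈ Q, q ≠ 1 → q ≠ t → q' ≠ 1 → q' ≠ t →
        (∃ g : K, q' = g * q * g⁻¹) ∨ (∃ g : K, q' = g * q⁻¹ * g⁻¹)) := by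
  classical
  haveI : Fact (Nat.Prime 2) := ⟨Nat.prime_two⟩
  haveI : Fact (Nat.Prime 3) := ⟨Nat.prime_three⟩
  have ht1 : t ≠ 1 := by
    intro h
    rw [h, orderOf_one] at ht
    omega
  have ht2 : t * t = 1 := by
    have := pow_orderOf_eq_one t
    rwa [ht, pow_two] at this
  have hfac : (Nat.card K).factorization 2 = 4 := by
    rw [hK, show (48 : ℕ) = 2 ^ 4 * 3 from rfl,
      Nat.factorization_mul (by norm_num) (by norm_num)]
    simp only [Finsupp.coe_add, Pi.add_apply]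
    rw [Nat.prime_two.factorization_pow, Finsupp.single_eq_same,
      Nat.factorization_eq_zero_of_not_dvd (by norm_num)]
  have hS16 : ∀ S : Sylow 2 K, Nat.card ↥(S : Subgroup K) = 16 := fun S => by
    rw [S.card_eq_multiplicity, hfac]; norm_num
  obtain ⟨c, hc⟩ := exists_prime_orderOf_dvd_card' (G := K) 3 (by rw [hK]; norm_num)
  have hc3 : c ^ 3 = 1 := by rw [← hc]; exact pow_orderOf_eq_one c
  have htp : IsPGroup 2 ↥(Subgroup.zpowers t) :=
    IsPGroup.of_card (n := 1) (by rw [Nat.card_zpowers, ht, pow_one])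
  obtain ⟨S0, hS0⟩ := htp.exists_le_sylow
  have htS0 : t ∈ (S0 : Subgroup K) := hS0 (Subgroup.mem_zpowers t)
  -- `S0` is not normal
  have hnn : ¬ (S0 : Subgroup K).Normal := by
    intro hn
    haveI := hn
    letI : MulAction ↥(Subgroup.zpowers c) ↥(S0 : Subgroup K) :=
      MulAction.compHom ↥(S0 : Subgroup K)
        ((MulAut.conjNormal (H := (S0 : Subgroup K))).comp (Subgroup.zpowers c).subtype)
    have hsmul : ∀ (k : ↥(Subgroup.zpowers c)) (x : ↥(S0 : Subgroup K)),
        ((k • x : ↥(S0 : Subgroup K)) : K) = (k : K) * x * (k : K)⁻¹ := fun k x => rfl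
    have hcp : IsPGroup 3 ↥(Subgroup.zpowers c) :=
      IsPGroup.of_card (n := 1) (by rw [Nat.card_zpowers, hc, pow_one])
    have hmod := hcp.card_modEq_card_fixedPoints ↥(S0 : Subgroup K)
    rw [hS16 S0] at hmod
    unfold Nat.ModEq at hmod
    set F := MulAction.fixedPoints ↥(Subgroup.zpowers c) ↥(S0 : Subgroup K) with hF
    have h1F : (1 : ↥(S0 : Subgroup K)) ∈ F := by
      intro k
      apply Subtype.ext
      rw [hsmul]
      simp
    have htF : (⟨t, htS0⟩ : ↥(S0 : Subgroup K)) ∈ F := by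
      intro k
      apply Subtype.ext
      rw [hsmul]
      show (k : K) * t * (k : K)⁻¹ = t
      rw [htc, mul_inv_cancel_right]
    have hFc : 2 < F.ncard := by
      have h2 : 1 < F.ncard := by
        rw [Set.one_lt_ncard (Set.toFinite _)]
        exact ⟨1, h1F, ⟨t, htS0⟩, htF, fun h => ht1 (congrArg Subtype.val h).symm⟩
      have h3' : Nat.card ↥F = F.ncard := Nat.card_coe_set_eq F
      omega
    obtain ⟨a, ha, b, hb, d, hd, hab, had, hbd⟩ := (Set.two_lt_ncard (Set.toFinite _)).mp hFc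
    have hex : ∃ s ∈ F, s ≠ 1 ∧ s ≠ ⟨t, htS0⟩ := by
      by_contra hno
      push Not at hno
      have ha' : a = 1 ∨ a = ⟨t, htS0⟩ := by
        by_cases h : a = 1
        · exact Or.inl h
        · exact Or.inr (hno a ha h)
      have hb' : b = 1 ∨ b = ⟨t, htS0⟩ := by
        by_cases h : b = 1
        · exact Or.inl h
        · exact Or.inr (hno b hb h)
      have hd' : d = 1 ∨ d = ⟨t, htS0⟩ := by
        by_cases h : d = 1
        · exact Or.inl h
        · exact Or.inr (hno d hd h)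
      rcases ha' with h1 | h1 <;> rcases hb' with h2 | h2 <;> rcases hd' with h3 | h3
      · exact hab (h1.trans h2.symm)
      · exact hab (h1.trans h2.symm)
      · exact had (h1.trans h3.symm)
      · exact hbd (h2.trans h3.symm)
      · exact hbd (h2.trans h3.symm)
      · exact had (h1.trans h3.symm)
      · exact hab (h1.trans h2.symm)
      · exact hab (h1.trans h2.symm)
    obtain ⟨s, hsF, hs1, hst⟩ := hex
    have hcs := hsF ⟨c, Subgroup.mem_zpowers c⟩
    have hcs' : c * (s : K) * c⁻¹ = s := by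
      have := congrArg Subtype.val hcs
      rwa [hsmul] at this
    exact h3 c hc (S0 : Subgroup K) S0.isPGroup' htS0 s.1 s.2 (fun h => hs1 (Subtype.ext h))
      (fun h => hst (Subtype.ext h)) (mul_inv_eq_iff_eq_mul.mp hcs')
  -- the core
  set Q : Subgroup K := (S0 : Subgroup K).normalCore with hQ
  have hQS0 : Q ≤ (S0 : Subgroup K) := Subgroup.normalCore_le _
  have htQ : t ∈ Q := by
    show ∀ b : K, b * t * b⁻¹ ∈ (S0 : Subgroup K)
    intro b
    rw [htc, mul_inv_cancel_right]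
    exact htS0
  have hQdvd : Nat.card ↥Q ∣ 16 := by
    rw [← hS16 S0]; exact Subgroup.card_dvd_of_le hQS0
  have hQne : Nat.card ↥Q ≠ 16 := by
    intro h
    have h' : Q = (S0 : Subgroup K) := Subgroup.eq_of_le_of_card_ge hQS0 (by rw [h, hS16 S0])
    apply hnn
    rw [← h']
    infer_instance
  have hidx : Q.index ∣ 6 := by
    rw [hQ, Subgroup.normalCore_eq_ker, Subgroup.index_ker]
    have h1 := Subgroup.card_subgroup_dvd_card
      (MulAction.toPermHom K (K ⧸ (S0 : Subgroup K))).range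
    rw [Nat.card_perm, ← Subgroup.index_eq_card] at h1
    have h2 : (S0 : Subgroup K).index = 3 := by
      have := Subgroup.card_mul_index (S0 : Subgroup K)
      rw [hS16 S0, hK] at this
      omega
    rw [h2] at h1
    exact h1
  have hQ8 : Nat.card ↥Q = 8 := by
    have hmul := Subgroup.card_mul_index Q
    rw [hK] at hmul
    have hle : Q.index ≤ 6 := Nat.le_of_dvd (by norm_num) hidx
    have hle16 : Nat.card ↥Q ≤ 16 := Nat.le_of_dvd (by norm_num) hQdvd
    generalize Q.index = i at *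
    generalize Nat.card ↥Q = n at *
    interval_cases i <;> omega
  have hQall : ∀ S : Sylow 2 K, Q ≤ (S : Subgroup K) := by
    intro S
    obtain ⟨g, rfl⟩ := MulAction.exists_smul_eq K S0 S
    intro x hx
    rw [Sylow.coe_subgroup_smul, Subgroup.mem_pointwise_smul_iff_inv_smul_mem]
    have h1 : g⁻¹ * x * g⁻¹⁻¹ ∈ (S0 : Subgroup K) := hx g⁻¹
    rw [inv_inv] at h1
    have h2 : (MulAut.conj g)⁻¹ • x = g⁻¹ * x * g := by
      rw [MulAut.smul_def, MulAut.conj_inv_apply]
    rw [h2]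
    exact h1
  have hQp : IsPGroup 2 ↥Q := IsPGroup.of_card (n := 3) (by rw [hQ8]; norm_num)
  have hfree : ∀ u ∈ Q, u ≠ 1 → u ≠ t → c * u ≠ u * c :=
    fun u hu h1 h2 hcomm => h3 c hc Q hQp htQ u hu h1 h2 hcomm
  have h6 := orbit_six Q hQ8 t c htQ ht1 ht2 htc hc3 hfree
  have conj_sq : ∀ y : K, y * y = 1 → (c * y * c⁻¹) * (c * y * c⁻¹) = 1 := by
    intro y hy
    calc (c * y * c⁻¹) * (c * y * c⁻¹) = c * (y * y) * c⁻¹ := by group
      _ = 1 := by rw [hy, mul_one, mul_inv_cancel]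
  have t_sq : ∀ y : K, y * y = 1 → (t * y) * (t * y) = 1 := by
    intro y hy
    calc (t * y) * (t * y) = t * (y * t) * y := by group
      _ = t * (t * y) * y := by rw [htc y]
      _ = (t * t) * (y * y) := by group
      _ = 1 := by rw [ht2, hy, one_mul]
  have hnoinv : ∀ u ∈ Q, u ≠ 1 → u ≠ t → u * u ≠ 1 := by
    intro u hu hu1 hut huu
    apply hE8 Q hQ8
    intro x hx
    by_cases hx1 : x = 1
    · rw [hx1, one_pow]
    by_cases hxt : x = t
    · rw [hxt, pow_two, ht2]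
    rw [pow_two]
    rcases h6 u hu hu1 hut x hx hx1 hxt with (h | h | h) | (h | h | h) <;> rw [h]
    · exact huu
    · exact conj_sq _ huu
    · exact conj_sq _ (conj_sq _ huu)
    · exact t_sq _ huu
    · exact t_sq _ (conj_sq _ huu)
    · exact t_sq _ (conj_sq _ (conj_sq _ huu))
  have conj4 : ∀ y : K, (c * y * c⁻¹) ^ 4 = 1 → y ^ 4 = 1 := by
    intro y hy
    rw [conj_pow] at hy
    exact conj_eq_one_iff.mp hy
  have t4 : ∀ y : K, (t * y) ^ 4 = 1 → y ^ 4 = 1 := by
    intro y hy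
    have hcomm : Commute t y := (htc y).symm
    rw [hcomm.mul_pow] at hy
    have h4 : t ^ 4 = 1 := by
      rw [show 4 = 2 * 2 from rfl, pow_mul, pow_two t, ht2, one_pow]
    rwa [h4, one_mul] at hy
  have hsq : ∀ q ∈ Q, q ≠ 1 → q ≠ t → q ^ 2 = t := by
    intro q hq hq1 hqt
    by_contra hne
    have hr : q ^ 2 ∈ Q := Q.pow_mem hq 2
    have hr1 : q ^ 2 ≠ 1 := by rw [pow_two]; exact hnoinv q hq hq1 hqt
    have hr4 : q ^ 2 * q ^ 2 ≠ 1 := hnoinv _ hr hr1 hne
    have hq8 : q ^ 8 = 1 := by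
      have h' : (⟨q, hq⟩ : ↥Q) ^ Nat.card ↥Q = 1 := pow_card_eq_one'
      rw [hQ8] at h'
      simpa using congrArg Subtype.val h'
    have hq4 : q ^ 4 ≠ 1 := by rwa [← pow_add] at hr4
    have hr44 : ∀ w : K, w = q ^ 2 → w ^ 4 = 1 := by
      intro w hw
      rw [hw, ← pow_mul]
      exact hq8
    rcases h6 q hq hq1 hqt (q ^ 2) hr hr1 hne with (h | h | h) | (h | h | h)
    · exact hq4 (hr44 q h.symm)
    · exact hq4 (conj4 _ (hr44 _ h.symm))
    · exact hq4 (conj4 _ (conj4 _ (hr44 _ h.symm)))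
    · exact hq4 (t4 _ (hr44 _ h.symm))
    · exact hq4 (conj4 _ (t4 _ (hr44 _ h.symm)))
    · exact hq4 (conj4 _ (conj4 _ (t4 _ (hr44 _ h.symm))))
  refine ⟨Q, c, inferInstance, hQ8, htQ, hc, hQall, hsq, ?_⟩
  intro q hq q' hq' hq1 hqt hq'1 hq't
  have hinv : t * q = q⁻¹ := by
    have h := hsq q hq hq1 hqt
    rw [pow_two] at h
    apply eq_inv_of_mul_eq_one_left
    rw [mul_assoc, h, ht2]
  have t_conj : ∀ g y : K, t * (g * y * g⁻¹) = g * (t * y) * g⁻¹ := by
    intro g y
    calc t * (g * y * g⁻¹) = (t * g) * y * g⁻¹ := by group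
      _ = (g * t) * y * g⁻¹ := by rw [htc g]
      _ = g * (t * y) * g⁻¹ := by group
  rcases h6 q hq hq1 hqt q' hq' hq'1 hq't with (h | h | h) | (h | h | h)
  · left; exact ⟨1, by rw [h]; group⟩
  · left; exact ⟨c, h⟩
  · left; exact ⟨c * c, by rw [h]; group⟩
  · right; exact ⟨1, by rw [h, hinv]; group⟩
  · right; exact ⟨c, by rw [h, t_conj, hinv]⟩
  · right; exact ⟨c * c, by rw [h, t_conj, t_conj, hinv]; group⟩

end Cfsg.Agent.Lib.Helper5.M11
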