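import Mathlib
import Cfsg.Agent.Lib.Helper5.M11LocB
import Cfsg.Agent.Lib.Helper24.M11VecB
import Cfsg.Agent.Lib.Helper24.M11ThreeC

/-!
# Simple groups of order 7920: the local data `T`, `Q`, `t`, `c` (helper5)

Piece [G] of the uniqueness proof (helper24's plan): a Sylow `3`-subgroup `T`, an involution `t`
inverting it, the normal subgroup `Q` of order `8` of `C(t)` (a quaternion group inside `N(T)`), and
an element `c` of order `3` of `C(t)` permuting the elements of order `4` of `Q`.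
-/

set_option autoImplicit false
set_option linter.unusedSectionVars false
set_option linter.style.haveILetI false

namespace Cfsg.Agent.Lib.Helper5.M11

universe u

variable {G : Type u} [Group G] [Finite G]

theorem card_normalizer_sylow3_eq [IsSimpleGroup G] (hG : Nat.card G = 7920) (P : Sylow 3 G) :
    Nat.card ↥(Subgroup.normalizer ((P : Subgroup G) : Set G)) = 144 := by
  apply Cfsg.Agent.Lib.Helper24.M11Three.card_normalizer_eq hG P (card_sylow3 hG P)
    (sylow3_pow_three hG P) (card_normalizer_sylow3 hG P)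
  intro z hz
  obtain ⟨s, -, hs⟩ := exists_invol_inverting_order_three hG z hz
  exact isConj_iff.mpr ⟨s, hs⟩

set_option maxHeartbeats 1600000 in
/-- the local data, strong form -/
theorem exists_local_data' [IsSimpleGroup G] (hG : Nat.card G = 7920) :
    ∃ (P : Sylow 3 G) (Q : Subgroup G) (t c : G), Nat.card ↥(P : Subgroup G) = 9 ∧
      Nat.card ↥Q = 8 ∧ orderOf t = 2 ∧ orderOf c = 3 ∧
      (∀ x ∈ (P : Subgroup G), t * x * t⁻¹ = x⁻¹) ∧ t ∈ Q ∧
      Q ≤ Subgroup.normalizer ((P : Subgroup G) : Set G) ∧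
      (∀ q ∈ Q, q ≠ 1 → q ≠ t → q ^ 2 = t) ∧ (∀ q ∈ Q, c * q * c⁻¹ ∈ Q) ∧
      c ∉ Subgroup.normalizer ((P : Subgroup G) : Set G) ∧
      (∀ q ∈ Q, ∀ q' ∈ Q, q ≠ 1 → q ≠ t → q' ≠ 1 → q' ≠ t → IsConj q q' ∨ IsConj q⁻¹ q') ∧
      c * t = t * c ∧ (∀ q ∈ Q, q * t = t * q) ∧
      (∀ g : G, g * t = t * g → ∀ q ∈ Q, g * q * g⁻¹ ∈ Q) := by
  classical
  haveI : Fact (Nat.Prime 2) := ⟨Nat.prime_two⟩
  obtain ⟨P⟩ : Nonempty (Sylow 3 G) := inferInstance
  have hP9 := card_sylow3 hG P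
  obtain ⟨t, htN, ht, hinv⟩ := exists_invol_inverting hG P
  have ht2 : t * t = 1 := by
    have := pow_orderOf_eq_one t
    rwa [ht, pow_two] at this
  set T : Subgroup G := (P : Subgroup G) with hT
  set N := Subgroup.normalizer (T : Set G) with hN
  set C := Subgroup.centralizer ({t} : Set G) with hC
  have hC48 : Nat.card ↥C = 48 := Cfsg.Agent.Lib.Helper24.M11Inv.card_centralizer_invol hG t ht
  have hN144 : Nat.card ↥N = 144 := card_normalizer_sylow3_eq hG P
  have hmemC : ∀ g : G, g ∈ C ↔ g * t = t * g := by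
    intro g
    rw [hC, Subgroup.mem_centralizer_iff]
    constructor
    · intro h
      exact (h t rfl).symm
    · intro h x hx
      rw [Set.mem_singleton_iff.mp hx]
      exact h.symm
  have htC : t ∈ C := (hmemC t).mpr rfl
  set t' : ↥C := ⟨t, htC⟩ with ht'def
  have ht' : orderOf t' = 2 := by rw [← ht]; exact Subgroup.orderOf_mk t htC
  have htc' : ∀ g : ↥C, g * t' = t' * g := by
    intro g
    apply Subtype.ext
    exact (hmemC g.1).mp g.2
  -- no element of order three commutes with a noncentral element of a 2-subgroup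
  have h3' : ∀ c : ↥C, orderOf c = 3 → ∀ A : Subgroup ↥C, IsPGroup 2 ↥A → t' ∈ A → ∀ s ∈ A,
      s ≠ 1 → s ≠ t' → c * s = s * c → False := by
    intro c hc A hA htA s hsA hs1 hst hcs
    have hc3 : orderOf (c : G) = 3 := by rw [← hc]; exact Subgroup.orderOf_coe c
    have h18 := Cfsg.Agent.Lib.Helper24.M11Vec.card_centralizer_three hG (c : G) hc3
    set A0 : Subgroup ↥C := A ⊓ Subgroup.centralizer ({c} : Set ↥C) with hA0
    have hA0p : IsPGroup 2 ↥A0 := hA.to_le inf_le_left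
    obtain ⟨n, hn⟩ := hA0p.exists_card_eq
    have hcm : ∀ x : ↥C, c * x = x * c → x ∈ Subgroup.centralizer ({c} : Set ↥C) := by
      intro x hx
      rw [Subgroup.mem_centralizer_iff]
      intro h hh
      rw [Set.mem_singleton_iff.mp hh]
      exact hx
    have h1m : (1 : ↥C) ∈ A0 := A0.one_mem
    have htm : t' ∈ A0 := ⟨htA, hcm t' (htc' c)⟩
    have hsm : s ∈ A0 := ⟨hsA, hcm s hcs⟩
    have hcard3 : 2 < Nat.card ↥A0 := by
      have h' : 2 < (A0 : Set ↥C).ncard :=
        (Set.two_lt_ncard (Set.toFinite _)).mpr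
          ⟨1, h1m, t', htm, s, hsm, fun h => by
            have := congrArg Subtype.val h
            have h2 : (1 : G) = t := this
            rw [← h2, orderOf_one] at ht
            omega, Ne.symm hs1, Ne.symm hst⟩
      exact h'
    have hdvd : Nat.card ↥A0 ∣ 18 := by
      rw [← h18, ← Subgroup.card_map_of_injective (Subgroup.subtype_injective C) (K := A0)]
      apply Subgroup.card_dvd_of_le
      rintro _ ⟨x, hx, rfl⟩
      rw [Subgroup.mem_centralizer_iff]
      intro h hh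
      rw [Set.mem_singleton_iff.mp hh]
      have := Subgroup.mem_centralizer_iff.mp hx.2 c rfl
      exact congrArg Subtype.val this
    rw [hn] at hdvd hcard3
    have hn2 : 2 ≤ n := by
      by_contra h
      push Not at h
      interval_cases n <;> simp at hcard3
    have h4 : 4 ∣ 18 := (pow_dvd_pow 2 hn2).trans hdvd
    omega
  have hE8' : ∀ Q : Subgroup ↥C, Nat.card ↥Q = 8 → (∀ x ∈ Q, x ^ 2 = 1) → False := by
    intro Q hQ hexp
    apply Cfsg.Agent.Lib.Helper24.M11Vec.no_E8 hG (Q.map C.subtype)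
      (by rw [Subgroup.card_map_of_injective (Subgroup.subtype_injective C), hQ])
    rintro _ ⟨x, hx, rfl⟩
    have := hexp x hx
    have h' := congrArg Subtype.val this
    simpa using h'
  obtain ⟨Q', c', hQn, hQ8, htQ, hc, hQall, hsq, hconj⟩ := k48_main hC48 t' ht' htc' h3' hE8'
  -- a Sylow 2-subgroup of `N` containing `t` lies in `C`
  set tN : ↥N := ⟨t, htN⟩ with htNdef
  have htNp : IsPGroup 2 ↥(Subgroup.zpowers tN) :=
    IsPGroup.of_card (n := 1) (by rw [Nat.card_zpowers, Subgroup.orderOf_mk, ht, pow_one])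
  obtain ⟨S2, hS2⟩ := htNp.exists_le_sylow
  set S0 : Subgroup G := (S2 : Subgroup ↥N).map N.subtype with hS0
  have hS0N : S0 ≤ N := by
    rintro _ ⟨x, -, rfl⟩
    exact x.2
  have hfacN : (Nat.card ↥N).factorization 2 = 4 := by
    rw [hN144, show (144 : ℕ) = 2 ^ 4 * 9 from rfl,
      Nat.factorization_mul (by norm_num) (by norm_num)]
    simp only [Finsupp.coe_add, Pi.add_apply]
    rw [Nat.prime_two.factorization_pow, Finsupp.single_eq_same,
      Nat.factorization_eq_zero_of_not_dvd (by norm_num)]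
  have hS0c : Nat.card ↥S0 = 16 := by
    rw [hS0, Subgroup.card_map_of_injective (Subgroup.subtype_injective N),
      S2.card_eq_multiplicity, hfacN]
    norm_num
  have htS0 : t ∈ S0 := ⟨tN, hS2 (Subgroup.mem_zpowers tN), rfl⟩
  have hCT : Subgroup.centralizer (T : Set G) = T := by
    symm
    apply Subgroup.eq_of_le_of_card_ge (sylow3_le_centralizer hG P)
    rw [card_centralizer_sylow3 hG P, hP9]
  have hdisj : T ⊓ S0 = ⊥ :=
    Subgroup.inf_eq_bot_of_coprime (by rw [hP9, hS0c]; norm_num)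
  have hS0C : S0 ≤ C := by
    intro s hs
    have hsN : s ∈ N := hS0N hs
    set u := s * t * s⁻¹ with hu
    have huinv : ∀ x ∈ T, u * x * u⁻¹ = x⁻¹ := by
      intro x hx
      have hx' : s⁻¹ * x * s ∈ T := by
        have := (Subgroup.mem_normalizer_iff.mp (N.inv_mem hsN) x).mp hx
        rwa [inv_inv] at this
      have h1 := hinv _ hx'
      calc u * x * u⁻¹ = s * (t * (s⁻¹ * x * s) * t⁻¹) * s⁻¹ := by rw [hu]; group
        _ = s * (s⁻¹ * x * s)⁻¹ * s⁻¹ := by rw [h1]
        _ = x⁻¹ := by group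
    have hut : u * t ∈ Subgroup.centralizer (T : Set G) := by
      rw [Subgroup.mem_centralizer_iff]
      intro x hx
      have h1 := hinv x hx
      have h2 := huinv x⁻¹ (T.inv_mem hx)
      rw [inv_inv] at h2
      have h3 : (u * t) * x * (u * t)⁻¹ = x := by
        calc (u * t) * x * (u * t)⁻¹ = u * (t * x * t⁻¹) * u⁻¹ := by group
          _ = x := by rw [h1, h2]
      exact (mul_inv_eq_iff_eq_mul.mp h3).symm
    rw [hCT] at hut
    have hutS : u * t ∈ S0 :=
      S0.mul_mem (S0.mul_mem (S0.mul_mem hs htS0) (S0.inv_mem hs)) htS0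
    have hut1 : u * t = 1 := by
      have : u * t ∈ T ⊓ S0 := ⟨hut, hutS⟩
      rwa [hdisj, Subgroup.mem_bot] at this
    have hu' : u = t := by
      calc u = u * (t * t) := by rw [ht2, mul_one]
        _ = (u * t) * t := by group
        _ = t := by rw [hut1, one_mul]
    rw [hmemC]
    rw [hu] at hu'
    exact mul_inv_eq_iff_eq_mul.mp hu'
  -- `S0` as a Sylow 2-subgroup of `C`
  have hfacC : (Nat.card ↥C).factorization 2 = 4 := by
    rw [hC48, show (48 : ℕ) = 2 ^ 4 * 3 from rfl,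
      Nat.factorization_mul (by norm_num) (by norm_num)]
    simp only [Finsupp.coe_add, Pi.add_apply]
    rw [Nat.prime_two.factorization_pow, Finsupp.single_eq_same,
      Nat.factorization_eq_zero_of_not_dvd (by norm_num)]
  have hS0'c : Nat.card ↥(S0.subgroupOf C) = 2 ^ (Nat.card ↥C).factorization 2 := by
    rw [hfacC, Nat.card_congr (Subgroup.subgroupOfEquivOfLe hS0C).toEquiv, hS0c]
    norm_num
  have hQ'S0 : Q' ≤ S0.subgroupOf C := by
    have := hQall (Sylow.ofCard (S0.subgroupOf C) hS0'c)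
    rwa [Sylow.coe_ofCard] at this
  set Q : Subgroup G := Q'.map C.subtype with hQdef
  have hQN : Q ≤ N := by
    rintro _ ⟨x, hx, rfl⟩
    have : x ∈ S0.subgroupOf C := hQ'S0 hx
    rw [Subgroup.mem_subgroupOf] at this
    exact hS0N this
  have hQmem : ∀ q : G, q ∈ Q ↔ ∃ h : q ∈ C, (⟨q, h⟩ : ↥C) ∈ Q' := by
    intro q
    constructor
    · rintro ⟨x, hx, rfl⟩
      exact ⟨x.2, hx⟩
    · rintro ⟨h, hx⟩
      exact ⟨⟨q, h⟩, hx, rfl⟩
  have hc3 : orderOf (c' : G) = 3 := by rw [← hc]; exact Subgroup.orderOf_coe c'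
  refine ⟨P, Q, t, (c' : G), hP9, ?_, ht, hc3, hinv, ?_, hQN, ?_, ?_, ?_, ?_, ?_, ?_, ?_⟩
  · rw [hQdef, Subgroup.card_map_of_injective (Subgroup.subtype_injective C), hQ8]
  · exact ⟨t', htQ, rfl⟩
  · intro q hq hq1 hqt
    obtain ⟨h, hx⟩ := (hQmem q).mp hq
    have := hsq ⟨q, h⟩ hx (fun h' => hq1 (congrArg Subtype.val h'))
      (fun h' => hqt (congrArg Subtype.val h'))
    exact congrArg Subtype.val this
  · intro q hq
    obtain ⟨h, hx⟩ := (hQmem q).mp hq
    exact ⟨c' * ⟨q, h⟩ * c'⁻¹, hQn.conj_mem _ hx c', rfl⟩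
  · intro hcN
    have hcp : IsPGroup 3 ↥(Subgroup.zpowers (c' : G)) :=
      IsPGroup.of_card (n := 1) (by rw [Nat.card_zpowers, hc3, pow_one])
    have heq := hcp.inf_normalizer_sylow P
    have hcT : (c' : G) ∈ T := ((le_of_eq heq) ⟨Subgroup.mem_zpowers _, hcN⟩).2
    have h1 := hinv _ hcT
    have h2 : (c' : G) * t = t * (c' : G) := (hmemC _).mp c'.2
    have h3 : t * (c' : G) * t⁻¹ = (c' : G) := by rw [← h2, mul_inv_cancel_right]
    rw [h3] at h1
    have h4 : (c' : G) ^ 2 = 1 := by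
      rw [pow_two]
      nth_rewrite 2 [h1]
      exact mul_inv_cancel _
    have h5 := orderOf_dvd_of_pow_eq_one h4
    rw [hc3] at h5
    omega
  · intro q hq q' hq' hq1 hqt hq'1 hq't
    obtain ⟨h, hx⟩ := (hQmem q).mp hq
    obtain ⟨h', hx'⟩ := (hQmem q').mp hq'
    rcases hconj ⟨q, h⟩ hx ⟨q', h'⟩ hx' (fun e => hq1 (congrArg Subtype.val e))
      (fun e => hqt (congrArg Subtype.val e)) (fun e => hq'1 (congrArg Subtype.val e))
      (fun e => hq't (congrArg Subtype.val e)) with ⟨g, hg⟩ | ⟨g, hg⟩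
    · left
      rw [isConj_iff]
      exact ⟨(g : G), (congrArg Subtype.val hg).symm⟩
    · right
      rw [isConj_iff]
      exact ⟨(g : G), (congrArg Subtype.val hg).symm⟩
  · exact (hmemC _).mp c'.2
  · intro q hq
    obtain ⟨h, -⟩ := (hQmem q).mp hq
    exact (hmemC q).mp h
  · intro g hg q hq
    obtain ⟨h, hx⟩ := (hQmem q).mp hq
    have hgC : g ∈ C := (hmemC g).mpr hg
    exact ⟨⟨g, hgC⟩ * ⟨q, h⟩ * ⟨g, hgC⟩⁻¹, hQn.conj_mem _ hx ⟨g, hgC⟩, rfl⟩

/-- the local data (helper24's interface) -/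
theorem exists_local_data [IsSimpleGroup G] (hG : Nat.card G = 7920) :
    ∃ (T Q : Subgroup G) (t c : G), Nat.card ↥T = 9 ∧ Nat.card ↥Q = 8 ∧ orderOf t = 2 ∧
      orderOf c = 3 ∧ (∀ x ∈ T, t * x * t⁻¹ = x⁻¹) ∧ t ∈ Q ∧
      Q ≤ Subgroup.normalizer (T : Set G) ∧
      (∀ q ∈ Q, q ≠ 1 → q ≠ t → q ^ 2 = t) ∧ (∀ q ∈ Q, c * q * c⁻¹ ∈ Q) ∧
      c ∉ Subgroup.normalizer (T : Set G) ∧
      (∀ q ∈ Q, ∀ q' ∈ Q, q ≠ 1 → q ≠ t → q' ≠ 1 → q' ≠ t → IsConj q q' ∨ IsConj q⁻¹ q') := by
  obtain ⟨P, Q, t, c, h1, h2, h3, h4, h5, h6, h7, h8, h9, h10, h11, -⟩ := exists_local_data' hG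
  exact ⟨(P : Subgroup G), Q, t, c, h1, h2, h3, h4, h5, h6, h7, h8, h9, h10, h11⟩

end Cfsg.Agent.Lib.Helper5.M11
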