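import Mathlib
import Cfsg.Prelude.Def_GeometricClasses
import Cfsg.Agent.Lib.Helper18.ReidxDefs

/-!
helper5: REINDEX / TRANSPORT block (helper18's market), packet P0b (subspaces), exact signatures of notes/Reidx_leaves.lean.
-/

set_option autoImplicit false
set_option linter.unusedSectionVars false
set_option linter.unusedVariables false

namespace Cfsg.Agent.Lib.Helper5.ReidxLeaf
open Matrix Cfsg Cfsg.Geo Cfsg.Agent.Lib.Helper18.Reidx
open scoped Kronecker

variable {F : Type*} [Field F] {ι κ : Type} [Fintype ι] [DecidableEq ι] [Fintype κ] [DecidableEq κ]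

theorem rv_symm_rv' (e : ι ≃ κ) (v : ι → F) : rv e.symm (rv e v) = v := by
  funext i
  simp [rv_apply]

theorem rv_rv_symm' (e : ι ≃ κ) (w : κ → F) : rv e (rv e.symm w) = w := by
  funext k
  simp [rv_apply]

theorem rs_symm (e : ι ≃ κ) (W : Submodule F (ι → F)) : rs e.symm (rs e W) = W := by
  ext v
  rw [mem_rs]
  constructor
  · rintro ⟨w, hw, rfl⟩
    rw [mem_rs] at hw
    obtain ⟨u, hu, rfl⟩ := hw
    rw [rv_symm_rv']
    exact hu
  · intro hv
    exact ⟨rv e v, mem_rs.2 ⟨v, hv, rfl⟩, rv_symm_rv' e v⟩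

theorem rs_mono (e : ι ≃ κ) {W W' : Submodule F (ι → F)} (h : W ≤ W') : rs e W ≤ rs e W' :=
  Submodule.map_mono h

theorem rs_eq_bot_iff (e : ι ≃ κ) (W : Submodule F (ι → F)) : rs e W = ⊥ ↔ W = ⊥ := by
  unfold rs
  rw [Submodule.map_eq_bot_iff]

theorem rs_eq_top_iff (e : ι ≃ κ) (W : Submodule F (ι → F)) : rs e W = ⊤ ↔ W = ⊤ := by
  constructor
  · intro h
    rw [eq_top_iff]
    intro v _
    have : rv e v ∈ rs e W := by rw [h]; exact Submodule.mem_top
    rw [mem_rs] at this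
    obtain ⟨u, hu, huv⟩ := this
    have := (rv (F := F) e).injective huv
    rw [← this]
    exact hu
  · intro h
    rw [h, eq_top_iff]
    intro w _
    exact mem_rs.2 ⟨rv e.symm w, Submodule.mem_top, rv_rv_symm' e w⟩

theorem finrank_rs (e : ι ≃ κ) (W : Submodule F (ι → F)) :
    Module.finrank F (rs e W) = Module.finrank F W := by
  unfold rs
  exact LinearEquiv.finrank_map_eq (rv e) W

theorem rs_iSup (e : ι ≃ κ) {α : Sort*} (D : α → Submodule F (ι → F)) :
    rs e (⨆ i, D i) = ⨆ i, rs e (D i) := by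
  unfold rs
  exact Submodule.map_iSup _ _

theorem rs_map_toLin' (e : ι ≃ κ) (M : Matrix ι ι F) (W : Submodule F (ι → F)) :
    (rs e W).map (Matrix.toLin' (rm e M)) = rs e (W.map (Matrix.toLin' M)) := by
  ext w
  constructor
  · rintro ⟨u, hu, rfl⟩
    have hu' : u ∈ rs e W := hu
    rw [mem_rs] at hu'
    obtain ⟨v, hv, rfl⟩ := hu'
    rw [Matrix.toLin'_apply, rm_mulVec]
    exact mem_rs.2 ⟨M *ᵥ v, ⟨v, hv, Matrix.toLin'_apply M v⟩, rfl⟩
  · intro hw
    rw [mem_rs] at hw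
    obtain ⟨u, ⟨v, hv, rfl⟩, rfl⟩ := hw
    refine ⟨rv e v, mem_rs.2 ⟨v, hv, rfl⟩, ?_⟩
    rw [Matrix.toLin'_apply, Matrix.toLin'_apply, rm_mulVec]

end Cfsg.Agent.Lib.Helper5.ReidxLeaf
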