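import Mathlib
import Cfsg.Prelude.Def_GeometricClasses
import Cfsg.Agent.Lib.Helper18.ReidxDefs
import Cfsg.Agent.Lib.Helper5.ReidxP0b

/-!
helper5: REINDEX / TRANSPORT block (helper18's market), packet P6 (form predicates on subspaces),
exact signatures of notes/Reidx_leaves.lean.  Auxiliary: `isMDecomposition_rs_aux`, `polar_rq_aux`.
-/

set_option autoImplicit false
set_option linter.unusedSectionVars false
set_option linter.unusedVariables false

namespace Cfsg.Agent.Lib.Helper5.ReidxLeaf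
open Matrix Cfsg Cfsg.Geo Cfsg.Agent.Lib.Helper18.Reidx
open scoped Kronecker

variable {F : Type*} [Field F] {ι κ : Type} [Fintype ι] [DecidableEq ι] [Fintype κ] [DecidableEq κ]

theorem rf_rv_left (e : ι ≃ κ) (f : (ι → F) → (ι → F) → F) (u : ι → F) (w : κ → F) :
    rf e f (rv e u) w = f u ((rv e).symm w) := by
  unfold rf
  rw [LinearEquiv.symm_apply_apply]

theorem isTotallySingularFor_rs (e : ι ≃ κ) {f : (ι → F) → (ι → F) → F} {W : Submodule F (ι → F)}
    (h : IsTotallySingularFor f W) : IsTotallySingularFor (rf e f) (rs e W) := by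
  intro u hu v hv
  rw [mem_rs] at hu hv
  obtain ⟨u', hu', rfl⟩ := hu
  obtain ⟨v', hv', rfl⟩ := hv
  rw [rf_rv]
  exact h u' hu' v' hv'

theorem isNondegenerateOn_rs (e : ι ≃ κ) {f : (ι → F) → (ι → F) → F} {W : Submodule F (ι → F)}
    (h : IsNondegenerateOn f W) : IsNondegenerateOn (rf e f) (rs e W) := by
  intro w hw hw0
  rw [mem_rs] at hw
  obtain ⟨w', hw', rfl⟩ := hw
  have hw'0 : w' ≠ 0 := by
    rintro rfl
    exact hw0 (map_zero _)
  obtain ⟨⟨x, hx, hfx⟩, ⟨y, hy, hfy⟩⟩ := h w' hw' hw'0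
  refine ⟨⟨rv e x, mem_rs.2 ⟨x, hx, rfl⟩, ?_⟩, ⟨rv e y, mem_rs.2 ⟨y, hy, rfl⟩, ?_⟩⟩
  · rw [rf_rv]; exact hfx
  · rw [rf_rv]; exact hfy

theorem areOrthogonalFor_rs (e : ι ≃ κ) {f : (ι → F) → (ι → F) → F} {W W' : Submodule F (ι → F)}
    (h : AreOrthogonalFor f W W') : AreOrthogonalFor (rf e f) (rs e W) (rs e W') := by
  intro u hu v hv
  rw [mem_rs] at hu hv
  obtain ⟨u', hu', rfl⟩ := hu
  obtain ⟨v', hv', rfl⟩ := hv
  rw [rf_rv]
  exact h u' hu' v' hv'

theorem isMDecomposition_rs_aux (e : ι ≃ κ) {t m : ℕ} {D : Fin t → Submodule F (ι → F)}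
    (h : IsMDecomposition m D) : IsMDecomposition m (fun i => rs e (D i)) := by
  refine ⟨h.two_le, h.pos, fun i => ?_, ?_, ?_⟩
  · rw [finrank_rs]; exact h.finrank_eq i
  · have := h.indep
    unfold rs
    exact (iSupIndep_map_orderIso_iff (Submodule.orderIsoMapComap (rv (F := F) e))).2 this
  · have := h.iSup_eq_top
    show ⨆ i, rs e (D i) = ⊤
    rw [← rs_iSup]
    exact (rs_eq_top_iff e _).2 this

theorem isNondegenerateMDecomposition_rs (e : ι ≃ κ) {f : (ι → F) → (ι → F) → F} {t m : ℕ}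
    {D : Fin t → Submodule F (ι → F)} (h : IsNondegenerateMDecomposition f m D) :
    IsNondegenerateMDecomposition (rf e f) m (fun i => rs e (D i)) :=
  ⟨isMDecomposition_rs_aux e h.decomp, fun i => isNondegenerateOn_rs e (h.nondegenerate i),
    fun i j hij => areOrthogonalFor_rs e (h.orthogonal i j hij)⟩

theorem isTotallySingularQuad_rs (e : ι ≃ κ) {Q : (ι → F) → F} {W : Submodule F (ι → F)}
    (h : IsTotallySingularQuad Q W) : IsTotallySingularQuad (rq e Q) (rs e W) := by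
  intro w hw
  rw [mem_rs] at hw
  obtain ⟨w', hw', rfl⟩ := hw
  rw [rq_rv]
  exact h w' hw'

/-- the linear equivalence `W ≃ rs e W` -/
noncomputable def rsEquiv (e : ι ≃ κ) (W : Submodule F (ι → F)) : W ≃ₗ[F] rs e W :=
  (rv (F := F) e).submoduleMap W

theorem rsEquiv_coe (e : ι ≃ κ) (W : Submodule F (ι → F)) (w : W) :
    ((rsEquiv e W w : rs e W) : κ → F) = rv e (w : ι → F) := rfl

theorem areIsometricFor_rs (e : ι ≃ κ) {Q : (ι → F) → F} {W W' : Submodule F (ι → F)}
    (h : AreIsometricFor Q W W') : AreIsometricFor (rq e Q) (rs e W) (rs e W') := by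
  obtain ⟨φ, hφ⟩ := h
  refine ⟨((rsEquiv e W).symm.trans φ).trans (rsEquiv e W'), fun w => ?_⟩
  obtain ⟨w', rfl⟩ := (rsEquiv e W).surjective w
  simp only [LinearEquiv.trans_apply, LinearEquiv.symm_apply_apply]
  rw [rsEquiv_coe, rsEquiv_coe, rq_rv, rq_rv]
  exact hφ w'

theorem polar_rq_aux (e : ι ≃ κ) (Q : (ι → F) → F) :
    QuadraticMap.polar (rq e Q) = rf e (QuadraticMap.polar Q) := by
  funext u v
  unfold QuadraticMap.polar rf rq
  rw [map_add]

theorem isOrthogonalMDecomposition_rs (e : ι ≃ κ) {Q : (ι → F) → F} {t m : ℕ}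
    {D : Fin t → Submodule F (ι → F)} (h : IsOrthogonalMDecomposition Q m D) :
    IsOrthogonalMDecomposition (rq e Q) m (fun i => rs e (D i)) := by
  refine ⟨?_, fun i j => areIsometricFor_rs e (h.isometric i j)⟩
  rw [polar_rq_aux]
  exact isNondegenerateMDecomposition_rs e h.decomp

end Cfsg.Agent.Lib.Helper5.ReidxLeaf
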