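import Mathlib
import Cfsg.Agent.Lib.Helper5.BLFullB

/-!
helper5: orders 4160 and 4680 excluded by the general Brauer–Leonard degree equation
(`p = 13`, `|N_G(P) : C_G(P)| ∈ {2, 4}` resp. `3`).
-/

set_option autoImplicit false
set_option linter.style.haveILetI false

namespace Cfsg.Agent.Lib.Helper5.BLOrd

open Cfsg Cfsg.Agent.CharLib Cfsg.Agent.Lib.Helper24 Cfsg.Agent.Lib.Helper12.BSF
open Cfsg.Agent.Lib.Helper5.BLFull Cfsg.Agent.Lib.Helper8.OrdSieve

/-- nonzero integers with a small sum of squares are all `±1` -/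
theorem sum_sq_small {ι : Type*} (X : Finset ι) (a : ι → ℤ) (ha0 : ∀ χ ∈ X, a χ ≠ 0) (s : ℤ)
    (hs : ∑ χ ∈ X, a χ ^ 2 = s) (hs3 : s ≤ 3) :
    (∀ χ ∈ X, a χ = 1 ∨ a χ = -1) ∧ (X.card : ℤ) = s := by
  have h1 : ∀ χ ∈ X, a χ = 1 ∨ a χ = -1 := by
    intro χ hχ
    apply pm_one_of_sq_le (a χ) (ha0 χ hχ)
    have h2 : a χ ^ 2 ≤ ∑ χ ∈ X, a χ ^ 2 :=
      Finset.single_le_sum (f := fun χ => a χ ^ 2) (fun i _ => sq_nonneg (a i)) hχ
    linarith
  refine ⟨h1, ?_⟩
  rw [← hs]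
  have h3 : ∀ χ ∈ X, a χ ^ 2 = 1 := by
    intro χ hχ
    rcases h1 χ hχ with h | h <;> rw [h] <;> norm_num
  rw [Finset.sum_congr rfl h3, Finset.sum_const, nsmul_eq_mul, mul_one]

/-- candidate pairs (degree, value) for the non-exceptional characters -/
def candList (N p : ℕ) : List (ℕ × ℤ) :=
  ((divs N).filter fun f => decide (f ≠ 1) && decide ((f - 1) % p = 0)).map
      (fun f => (f, (1 : ℤ))) ++
    ((divs N).filter fun f => decide ((f + 1) % p = 0)).map (fun f => (f, (-1 : ℤ)))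

theorem mem_candList {N p n : ℕ} {b : ℤ} (hN : 0 < N) (hb : b = 1 ∨ b = -1) (hdvd : n ∣ N)
    (hc : (p : ℤ) ∣ (n : ℤ) - b) (hne1 : n ≠ 1) (hn0 : 0 < n) : (n, b) ∈ candList N p := by
  have hmem := mem_divs hN hdvd
  unfold candList
  rw [List.mem_append]
  rcases hb with rfl | rfl
  · left
    rw [List.mem_map]
    refine ⟨n, ?_, rfl⟩
    rw [List.mem_filter]
    refine ⟨hmem, ?_⟩
    rw [Bool.and_eq_true, decide_eq_true_eq, decide_eq_true_eq]
    refine ⟨hne1, ?_⟩
    have h3 : ((p : ℕ) : ℤ) ∣ ((n - 1 : ℕ) : ℤ) := by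
      rw [Nat.cast_sub hn0]
      exact_mod_cast hc
    exact Nat.mod_eq_zero_of_dvd (Int.natCast_dvd_natCast.mp h3)
  · right
    rw [List.mem_map]
    refine ⟨n, ?_, rfl⟩
    rw [List.mem_filter]
    refine ⟨hmem, ?_⟩
    rw [decide_eq_true_eq]
    have h3 : ((p : ℕ) : ℤ) ∣ ((n + 1 : ℕ) : ℤ) := by
      push_cast
      have h4 : (n : ℤ) - (-1) = (n : ℤ) + 1 := by ring
      rw [← h4]
      exact hc
    exact Nat.mod_eq_zero_of_dvd (Int.natCast_dvd_natCast.mp h3)

theorem not_simple_4680 {G : Type*} [Group G] [Finite G] [IsSimpleGroup G] :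
    Nat.card G ≠ 4680 := by
  intro h
  classical
  have hG : ¬ IsMulCommutative G :=
    Cfsg.Agent.Lib.Helper7.not_comm_of_card_not_prime (by rw [h]; norm_num)
  have hperf := commutator_eq_top_of_simple hG
  have hp : Nat.Prime 13 := by norm_num
  haveI : Fact (Nat.Prime 13) := ⟨hp⟩
  obtain ⟨P⟩ : Nonempty (Sylow 13 G) := inferInstance
  have hN : Nat.card G = 13 * 360 := by rw [h]
  obtain ⟨hPc, hPi⟩ := Cfsg.Agent.Lib.Helper7.sylow_card_index_of_exact hN (by norm_num) P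
  have hN' : Nat.card G = 13 ^ 1 * 360 := by rw [h]; norm_num
  have hmem := sylow_count_mem hG hp (le_refl 1) (by norm_num : 1 < 360) hN' (by norm_num)
  have hl : npList 13 1 360 = [40] := by decide +kernel
  rw [hl, List.mem_singleton] at hmem
  have hk := card_normalizer_of_count hp (n := 40) (k := 117) h (by norm_num) P hmem
  obtain ⟨hd, hne, hmul⟩ := relIndex_facts hG P hPc hk
  have hgcd : Nat.gcd (117 / 13) (13 - 1) = 3 := by norm_num
  rw [hgcd] at hd
  have hm3 : (Subgroup.centralizer ((P : Subgroup G) : Set G)).relIndex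
      (Subgroup.normalizer ((P : Subgroup G) : Set G)) = 3 := by
    rcases (Nat.dvd_prime Nat.prime_three).mp hd with h1 | h1
    · exact absurd h1 hne
    · exact h1
  obtain ⟨X, a, η, d, δ, hδ, hXc, hXne, ha0, hsq, hcong, hdeg, -⟩ :=
    core_full 13 P hPc 3 (by norm_num) (by norm_num) hm3
  have ht : (((13 - 1) / 3 : ℕ) : ℤ) = 4 := by norm_num
  rw [ht] at hsq hdeg
  rw [Nat.cast_ofNat] at hsq
  have hηdvd : charDegree (η : G → ℂ) ∣ 4680 := by
    rw [← h]; exact irr_charDegree_dvd_card η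
  have hcand : ∀ χ ∈ X, a χ = 1 ∨ a χ = -1 →
      (charDegree (χ : G → ℂ), a χ) ∈ candList 4680 13 := by
    intro χ hχ hb
    refine mem_candList (by norm_num) hb ?_ (hcong χ hχ) ?_ (irr_charDegree_pos χ)
    · rw [← h]; exact irr_charDegree_dvd_card χ
    · exact fun h1 => hXne χ hχ (eq_one_of_charDegree_one hperf χ h1)
  have hcl : candList 4680 13 = [(40, 1), (12, -1), (90, -1)] := by decide +kernel
  rw [hcl] at hcand
  have hsum0 : 0 ≤ ∑ χ ∈ X, a χ ^ 2 := Finset.sum_nonneg (fun χ _ => sq_nonneg _)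
  have hd1 : -1 ≤ d := by nlinarith [sq_nonneg (d - δ)]
  have hd1' : d ≤ 1 := by nlinarith [sq_nonneg (d - δ)]
  have hδ2 : δ ^ 2 = 1 := by rcases hδ with rfl | rfl <;> norm_num
  -- the case `∑ a² = 0`
  have hempty : ∑ χ ∈ X, a χ ^ 2 = 0 → X = ∅ := by
    intro h0
    obtain ⟨-, hcard⟩ := sum_sq_small X a ha0 0 h0 (by norm_num)
    exact Finset.card_eq_zero.mp (by exact_mod_cast hcard)
  interval_cases d
  · rcases hδ with rfl | rfl
    · linarith
    · have hX0 := hempty (by linarith)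
      rw [hX0, Finset.sum_empty] at hdeg
      omega
  · have hs2 : ∑ χ ∈ X, a χ ^ 2 = 2 := by nlinarith
    obtain ⟨hpm, hcard⟩ := sum_sq_small X a ha0 2 hs2 (by norm_num)
    have hX2 : X.card = 2 := by exact_mod_cast hcard
    obtain ⟨χ, ψ, hne', rfl⟩ := Finset.card_eq_two.mp hX2
    rw [Finset.sum_pair hne'] at hdeg
    have hv : 1 + a χ * (charDegree (χ : G → ℂ) : ℤ) + a ψ * (charDegree (ψ : G → ℂ) : ℤ) =
        δ * (charDegree (η : G → ℂ) : ℤ) := by linarith
    have h1 := hcand χ (by simp) (hpm χ (by simp))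
    have h2 := hcand ψ (by simp) (hpm ψ (by simp))
    simp only [List.mem_cons, Prod.mk.injEq, List.not_mem_nil, or_false] at h1 h2
    rcases h1 with ⟨hf1, hb1⟩ | ⟨hf1, hb1⟩ | ⟨hf1, hb1⟩ <;>
      rcases h2 with ⟨hf2, hb2⟩ | ⟨hf2, hb2⟩ | ⟨hf2, hb2⟩ <;>
      rw [hf1, hb1, hf2, hb2] at hv <;>
      exact final_contra 4680 _ δ _ hδ hv hηdvd (by decide)
  · rcases hδ with rfl | rfl
    · have hX0 := hempty (by linarith)
      rw [hX0, Finset.sum_empty] at hdeg
      omega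
    · linarith

theorem not_simple_4160 {G : Type*} [Group G] [Finite G] [IsSimpleGroup G] :
    Nat.card G ≠ 4160 := by
  intro h
  classical
  have hG : ¬ IsMulCommutative G :=
    Cfsg.Agent.Lib.Helper7.not_comm_of_card_not_prime (by rw [h]; norm_num)
  have hperf := commutator_eq_top_of_simple hG
  have hp : Nat.Prime 13 := by norm_num
  haveI : Fact (Nat.Prime 13) := ⟨hp⟩
  obtain ⟨P⟩ : Nonempty (Sylow 13 G) := inferInstance
  have hN : Nat.card G = 13 * 320 := by rw [h]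
  obtain ⟨hPc, hPi⟩ := Cfsg.Agent.Lib.Helper7.sylow_card_index_of_exact hN (by norm_num) P
  have hN' : Nat.card G = 13 ^ 1 * 320 := by rw [h]; norm_num
  have hmem := sylow_count_mem hG hp (le_refl 1) (by norm_num : 1 < 320) hN' (by norm_num)
  have hl : npList 13 1 320 = [40] := by decide +kernel
  rw [hl, List.mem_singleton] at hmem
  have hk := card_normalizer_of_count hp (n := 40) (k := 104) h (by norm_num) P hmem
  obtain ⟨hd, hne, hmul⟩ := relIndex_facts hG P hPc hk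
  have hgcd : Nat.gcd (104 / 13) (13 - 1) = 4 := by norm_num
  rw [hgcd] at hd
  generalize hm : (Subgroup.centralizer ((P : Subgroup G) : Set G)).relIndex
      (Subgroup.normalizer ((P : Subgroup G) : Set G)) = m at hd hne hmul
  have hm4 : m ≤ 4 := Nat.le_of_dvd (by norm_num) hd
  have hm24 : m = 2 ∨ m = 4 := by
    interval_cases m
    · omega
    · omega
    · left; rfl
    · omega
    · right; rfl
  rcases hm24 with rfl | rfl
  · exact kill_two hG 13 (by norm_num) P hPc hm false (by simp)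
      (by rw [h]; decide +kernel)
  obtain ⟨X, a, η, d, δ, hδ, hXc, hXne, ha0, hsq, hcong, hdeg, -⟩ :=
    core_full 13 P hPc 4 (by norm_num) (by norm_num) hm
  have ht : (((13 - 1) / 4 : ℕ) : ℤ) = 3 := by norm_num
  rw [ht] at hsq hdeg
  rw [Nat.cast_ofNat] at hsq
  have hηdvd : charDegree (η : G → ℂ) ∣ 4160 := by
    rw [← h]; exact irr_charDegree_dvd_card η
  have hcand : ∀ χ ∈ X, a χ = 1 ∨ a χ = -1 →
      (charDegree (χ : G → ℂ), a χ) ∈ candList 4160 13 := by
    intro χ hχ hb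
    refine mem_candList (by norm_num) hb ?_ (hcong χ hχ) ?_ (irr_charDegree_pos χ)
    · rw [← h]; exact irr_charDegree_dvd_card χ
    · exact fun h1 => hXne χ hχ (eq_one_of_charDegree_one hperf χ h1)
  have hcl : candList 4160 13 = [(40, 1), (64, -1)] := by decide +kernel
  rw [hcl] at hcand
  have hsum0 : 0 ≤ ∑ χ ∈ X, a χ ^ 2 := Finset.sum_nonneg (fun χ _ => sq_nonneg _)
  have hd1 : -1 ≤ d := by nlinarith [sq_nonneg (d - δ)]
  have hd1' : d ≤ 1 := by nlinarith [sq_nonneg (d - δ)]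
  have hδ2 : δ ^ 2 = 1 := by rcases hδ with rfl | rfl <;> norm_num
  -- the case `∑ a² = 2`: parity
  have hpar : ∑ χ ∈ X, a χ ^ 2 = 2 →
      ∀ c : ℤ, 2 * c + 1 + ∑ χ ∈ X, a χ * (charDegree (χ : G → ℂ) : ℤ) = 0 → False := by
    intro hs2 c hc
    obtain ⟨hpm, hcard⟩ := sum_sq_small X a ha0 2 hs2 (by norm_num)
    have hX2 : X.card = 2 := by exact_mod_cast hcard
    obtain ⟨χ, ψ, hne', rfl⟩ := Finset.card_eq_two.mp hX2
    rw [Finset.sum_pair hne'] at hc
    have h1 := hcand χ (by simp) (hpm χ (by simp))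
    have h2 := hcand ψ (by simp) (hpm ψ (by simp))
    simp only [List.mem_cons, Prod.mk.injEq, List.not_mem_nil, or_false] at h1 h2
    rcases h1 with ⟨hf1, hb1⟩ | ⟨hf1, hb1⟩ <;>
      rcases h2 with ⟨hf2, hb2⟩ | ⟨hf2, hb2⟩ <;>
      rw [hf1, hb1, hf2, hb2] at hc <;>
      omega
  interval_cases d
  · rcases hδ with rfl | rfl
    · linarith
    · refine hpar (by linarith) (-(charDegree (η : G → ℂ) : ℤ)) ?_
      linarith
  · have hs3 : ∑ χ ∈ X, a χ ^ 2 = 3 := by nlinarith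
    obtain ⟨hpm, hcard⟩ := sum_sq_small X a ha0 3 hs3 (by norm_num)
    have hX3 : X.card = 3 := by exact_mod_cast hcard
    obtain ⟨χ, ψ, φ, hne1, hne2, hne3, rfl⟩ := Finset.card_eq_three.mp hX3
    rw [Finset.sum_insert (by simp [hne1, hne2]), Finset.sum_pair hne3] at hdeg
    have hv : 1 + (a χ * (charDegree (χ : G → ℂ) : ℤ) + (a ψ * (charDegree (ψ : G → ℂ) : ℤ) +
        a φ * (charDegree (φ : G → ℂ) : ℤ))) = δ * (charDegree (η : G → ℂ) : ℤ) := by linarith
    have h1 := hcand χ (by simp) (hpm χ (by simp))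
    have h2 := hcand ψ (by simp) (hpm ψ (by simp))
    have h3 := hcand φ (by simp) (hpm φ (by simp))
    simp only [List.mem_cons, Prod.mk.injEq, List.not_mem_nil, or_false] at h1 h2 h3
    rcases h1 with ⟨hf1, hb1⟩ | ⟨hf1, hb1⟩ <;>
      rcases h2 with ⟨hf2, hb2⟩ | ⟨hf2, hb2⟩ <;>
      rcases h3 with ⟨hf3, hb3⟩ | ⟨hf3, hb3⟩ <;>
      rw [hf1, hb1, hf2, hb2, hf3, hb3] at hv <;>
      exact final_contra 4160 _ δ _ hδ hv hηdvd (by decide)
  · rcases hδ with rfl | rfl
    · refine hpar (by linarith) (charDegree (η : G → ℂ) : ℤ) ?_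
      linarith
    · linarith

end Cfsg.Agent.Lib.Helper5.BLOrd
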