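import Mathlib
import Cfsg.Agent.Lib.Helper25.SpinAll

/-!
# The Dickson invariant via the rank of `g - 1`

For an isometry `g` of a nondegenerate quadratic space and a reflection `r`, the fixed spaces of `g`
and `r g` differ in dimension by exactly one.  Hence the parity of `rank (g - 1)` equals the parity of
the length of any word of reflections representing `g`; in characteristic two this describes `Ω`.
-/

set_option autoImplicit false
set_option linter.unusedSectionVars false
set_option linter.unusedVariables false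
set_option linter.unusedSimpArgs false

namespace Cfsg.Agent.Lib.Helper5.DicksonRank

open Module QuadraticMap Matrix Cfsg.Agent.Lib.Helper25.CD Cfsg.Agent.Lib.Helper25.Spin

section Abstract
variable {F V : Type*} [Field F] [AddCommGroup V] [Module F V] {Q : QuadraticForm F V}

/-- the fixed space of a linear equivalence -/
def fixS (g : V ≃ₗ[F] V) : Submodule F V := LinearMap.ker ((g : V →ₗ[F] V) - LinearMap.id)

lemma mem_fixS {g : V ≃ₗ[F] V} {x : V} : x ∈ fixS g ↔ g x = x := by
  unfold fixS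
  rw [LinearMap.mem_ker, LinearMap.sub_apply, LinearMap.id_apply, sub_eq_zero]
  rfl

lemma fixS_one : fixS (1 : V ≃ₗ[F] V) = ⊤ := by
  ext x
  rw [mem_fixS]
  simp

lemma fix_refl_mul_of_mem {g : V ≃ₗ[F] V} {u x : V} (hx : x ∈ fixS g) (hux : polar Q u x = 0) :
    x ∈ fixS (reflE Q u * g) := by
  rw [mem_fixS] at hx ⊢
  rw [LinearEquiv.mul_apply, hx, reflE_apply, hux, mul_zero, zero_smul, sub_zero]

lemma mem_of_fix_refl_mul {g : V ≃ₗ[F] V} (hg : g ∈ OG Q) {u : V} (hu : Q u ≠ 0) {y : V}
    (hy : y ∈ fixS g) (huy : polar Q u y ≠ 0) {x : V} (hx : x ∈ fixS (reflE Q u * g)) :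
    x ∈ fixS g ∧ polar Q u x = 0 := by
  rw [mem_fixS] at hx hy
  rw [LinearEquiv.mul_apply] at hx
  have h1 : g x = reflE Q u x := by
    have := congrArg (reflE Q u) hx
    rwa [reflE_reflE] at this
  rw [reflE_apply] at h1
  have h2 := polar_of_iso Q (mem_OG.1 hg) y x
  rw [hy, h1, polar_sub_right, polar_smul_right] at h2
  have h3 : (Q u)⁻¹ * polar Q u x * polar Q y u = 0 := by
    have := sub_eq_self.mp h2
    simpa [smul_eq_mul] using this
  rw [polar_comm Q y u] at h3
  have h4 : (Q u)⁻¹ * polar Q u x = 0 := (mul_eq_zero.mp h3).resolve_right huy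
  have h5 : polar Q u x = 0 := (mul_eq_zero.mp h4).resolve_left (inv_ne_zero hu)
  refine ⟨?_, h5⟩
  rw [mem_fixS, h1, h4, zero_smul, sub_zero]

lemma finrank_fix_refl_mul [FiniteDimensional F V] {g : V ≃ₗ[F] V} (hg : g ∈ OG Q) {u : V}
    (hu : Q u ≠ 0) {y : V} (hy : y ∈ fixS g) (huy : polar Q u y ≠ 0) :
    finrank F (fixS (reflE Q u * g)) + 1 = finrank F (fixS g) := by
  obtain ⟨φ, hφ⟩ : ∃ φ : Module.Dual F (fixS g), φ = (polarBilin Q u).domRestrict (fixS g) :=
    ⟨_, rfl⟩
  have hφa : ∀ x : fixS g, φ x = polar Q u x := fun x => by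
    rw [hφ, LinearMap.domRestrict_apply, polarBilin_apply_apply]
  have hφ0 : φ ≠ 0 := by
    intro h
    apply huy
    have := hφa ⟨y, hy⟩
    rw [h] at this
    exact this.symm
  have h1 := Module.Dual.finrank_ker_add_one_of_ne_zero hφ0
  have h2 : (LinearMap.ker φ).map (fixS g).subtype = fixS (reflE Q u * g) := by
    ext x
    constructor
    · rintro ⟨⟨x', hx'⟩, hker, rfl⟩
      rw [SetLike.mem_coe, LinearMap.mem_ker, hφa] at hker
      exact fix_refl_mul_of_mem hx' hker
    · intro hx
      obtain ⟨hxg, hux⟩ := mem_of_fix_refl_mul hg hu hy huy hx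
      refine ⟨⟨x, hxg⟩, ?_, rfl⟩
      rw [SetLike.mem_coe, LinearMap.mem_ker, hφa]
      exact hux
  rw [← h2, Submodule.finrank_map_subtype_eq]
  exact h1

lemma range_eq_orth [FiniteDimensional F V] (hQ : (polarBilin Q).Nondegenerate) {g : V ≃ₗ[F] V}
    (hg : g ∈ OG Q) :
    LinearMap.range ((g : V →ₗ[F] V) - LinearMap.id) = LinearMap.BilinForm.orthogonal (polarBilin Q) (fixS g) := by
  apply Submodule.eq_of_le_of_finrank_eq
  · rintro _ ⟨x, rfl⟩
    rw [LinearMap.BilinForm.mem_orthogonal_iff]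
    intro y hy
    rw [mem_fixS] at hy
    have h := polar_of_iso Q (mem_OG.1 hg) y x
    rw [hy] at h
    show polarBilin Q y (((g : V →ₗ[F] V) - (LinearMap.id : V →ₗ[F] V)) x) = 0
    rw [LinearMap.sub_apply, LinearMap.id_apply, map_sub, polarBilin_apply_apply,
      polarBilin_apply_apply, LinearEquiv.coe_coe, h, sub_self]
  · rw [LinearMap.BilinForm.finrank_orthogonal hQ]
    have := LinearMap.finrank_range_add_finrank_ker ((g : V →ₗ[F] V) - LinearMap.id)
    unfold fixS
    omega

lemma exists_fix_refl_mul [FiniteDimensional F V] (hQ : (polarBilin Q).Nondegenerate)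
    {g : V ≃ₗ[F] V} (hg : g ∈ OG Q) {u : V} (hu : Q u ≠ 0)
    (h : ∀ y ∈ fixS g, polar Q u y = 0) :
    ∃ v ∈ fixS (reflE Q u * g), polar Q u v ≠ 0 := by
  have hmem : u ∈ LinearMap.range ((g : V →ₗ[F] V) - LinearMap.id) := by
    rw [range_eq_orth hQ hg, LinearMap.BilinForm.mem_orthogonal_iff]
    intro y hy
    show polarBilin Q y u = 0
    rw [polarBilin_apply_apply, polar_comm]
    exact h y hy
  obtain ⟨v, hv⟩ := hmem
  rw [LinearMap.sub_apply, LinearMap.id_apply, LinearEquiv.coe_coe] at hv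
  have hgv : g v = u + v := by rw [← hv]; abel
  have hpol : polar Q u v = - Q u := by
    have h1 : polar Q u v = Q (u + v) - Q u - Q v := rfl
    rw [h1, ← hgv, mem_OG.1 hg v]; ring
  refine ⟨v, ?_, ?_⟩
  · rw [mem_fixS, LinearEquiv.mul_apply, hgv, reflE_apply, polar_add_right, hpol]
    have h2 : polar Q u u = 2 * Q u := by
      simp [two_smul, two_mul]
    rw [h2]
    have : (Q u)⁻¹ * (2 * Q u + -Q u) = 1 := by field_simp; ring
    rw [this, one_smul]; abel
  · rw [hpol]; exact neg_ne_zero.mpr hu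

lemma finrank_fix_refl_mul_cases [FiniteDimensional F V] (hQ : (polarBilin Q).Nondegenerate)
    {g : V ≃ₗ[F] V} (hg : g ∈ OG Q) {u : V} (hu : Q u ≠ 0) :
    finrank F (fixS (reflE Q u * g)) + 1 = finrank F (fixS g) ∨
    finrank F (fixS (reflE Q u * g)) = finrank F (fixS g) + 1 := by
  by_cases h : ∃ y ∈ fixS g, polar Q u y ≠ 0
  · obtain ⟨y, hy, huy⟩ := h
    exact Or.inl (finrank_fix_refl_mul hg hu hy huy)
  · push Not at h
    obtain ⟨v, hv, huv⟩ := exists_fix_refl_mul hQ hg hu h
    have hg' : reflE Q u * g ∈ OG Q := (OG Q).mul_mem (reflE_mem_OG Q u) hg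
    have h1 := finrank_fix_refl_mul hg' hu hv huv
    have h2 : reflE Q u * (reflE Q u * g) = g := by
      ext x
      rw [LinearEquiv.mul_apply, LinearEquiv.mul_apply, reflE_reflE]
    rw [h2] at h1
    exact Or.inr h1.symm

lemma wordProd_mem_OG : ∀ vs : List V, wordProd Q vs ∈ OG Q
  | [] => by rw [wordProd_nil]; exact (OG Q).one_mem
  | v :: vs => by
    rw [wordProd_cons]
    exact (OG Q).mul_mem (reflE_mem_OG Q v) (wordProd_mem_OG vs)

/-- the parity of the codimension of the fixed space of a word of reflections is the parity of its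
length -/
lemma word_parity [FiniteDimensional F V] (hQ : (polarBilin Q).Nondegenerate) :
    ∀ vs : List V, (∀ v ∈ vs, Q v ≠ 0) →
      Even (finrank F (fixS (wordProd Q vs)) + vs.length + finrank F V)
  | [], _ => by
    rw [wordProd_nil, fixS_one, finrank_top, List.length_nil, add_zero]
    exact ⟨_, rfl⟩
  | v :: vs, h => by
    have ih := word_parity hQ vs (fun w hw => h w (List.mem_cons_of_mem _ hw))
    rw [wordProd_cons, List.length_cons]
    rcases finrank_fix_refl_mul_cases hQ (wordProd_mem_OG vs) (h v (List.mem_cons_self ..))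
      with h1 | h1
    · rw [Nat.even_iff] at ih ⊢; omega
    · rw [Nat.even_iff] at ih ⊢; omega

end Abstract

section Mat
variable {ι : Type} [Fintype ι] [DecidableEq ι] {F : Type*} [Field F]
  (Q : QuadraticForm F (ι → F))

lemma rank_add_fix (g : ↥(Cfsg.isometryGroup F ⇑Q)) :
    (((g : GL ι F) : Matrix ι ι F) - 1).rank + finrank F (fixS (toOG Q g)) = Fintype.card ι := by
  have h := LinearMap.finrank_range_add_finrank_ker
    ((((g : GL ι F) : Matrix ι ι F) - 1).mulVecLin)
  rw [Module.finrank_fintype_fun_eq_card] at h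
  have hk : LinearMap.ker (((g : GL ι F) : Matrix ι ι F) - 1).mulVecLin = fixS (toOG Q g) := by
    ext x
    rw [LinearMap.mem_ker, mem_fixS, Matrix.mulVecLin_apply, Matrix.sub_mulVec, Matrix.one_mulVec,
      sub_eq_zero, toOG_apply]
  rw [hk] at h
  exact h

/-- In characteristic two, `Ω` consists of the isometries `t` with `rank (t - 1)` even. -/
theorem mem_omega_iff_even_rank [Fintype F] [CharP F 2] (hQ : (polarBilin Q).Nondegenerate)
    (hex : Fintype.card F ≠ 2 ∨ Fintype.card ι ≠ 4)
    (q : (ι → F) → F) (hq : ⇑Q = q) (t : ↥(Cfsg.isometryGroup F q)) :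
    t ∈ Cfsg.Omega F q ↔
      Even ((((t : ↥(Cfsg.isometryGroup F q)) : GL ι F) : Matrix ι ι F) - 1).rank := by
  subst hq
  obtain ⟨vs, hvs, rfl⟩ := exists_word' Q hQ hex t
  rw [mem_omega_iff_char2 Q hQ hex hvs]
  have h1 := rank_add_fix Q (wordG Q vs)
  rw [toOG_wordG] at h1
  have h2 := word_parity hQ vs hvs
  rw [Module.finrank_fintype_fun_eq_card] at h2
  rw [Nat.even_iff] at h2 ⊢
  rw [Nat.even_iff]
  omega

end Mat

end Cfsg.Agent.Lib.Helper5.DicksonRank
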