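import Mathlib
import Cfsg.Agent.Lib.Helper5.DicksonRank

/-!
# Involution classes of `O` inside `Ω` in characteristic two: no splitting when a nonsingular vector is fixed
-/

set_option autoImplicit false
set_option linter.unusedSectionVars false
set_option linter.unusedVariables false
set_option linter.unusedSimpArgs false

namespace Cfsg.Agent.Lib.Helper5.OmegaInvSplit

open Module QuadraticMap Matrix Cfsg.Agent.Lib.Helper25.CD Cfsg.Agent.Lib.Helper25.Spin
  Cfsg.Agent.Lib.Helper5.DicksonRank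

variable {ι : Type} [Fintype ι] [DecidableEq ι] {F : Type*} [Field F]
  (Q : QuadraticForm F (ι → F))

lemma coe_mul_self {g : ↥(Cfsg.isometryGroup F ⇑Q)} (hg : g * g = 1) :
    ((g : GL ι F) : Matrix ι ι F) * ((g : GL ι F) : Matrix ι ι F) = 1 := by
  have := congrArg (fun x : ↥(Cfsg.isometryGroup F ⇑Q) => ((x : GL ι F) : Matrix ι ι F)) hg
  simpa using this

/-- the image of `g - 1` is fixed by an involution `g` in characteristic two -/
lemma range_le_fix [CharP F 2] {g : ↥(Cfsg.isometryGroup F ⇑Q)} (hg : g * g = 1) :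
    LinearMap.range (((g : GL ι F) : Matrix ι ι F) - 1).mulVecLin ≤ fixS (toOG Q g) := by
  rintro _ ⟨x, rfl⟩
  rw [mem_fixS, toOG_apply, Matrix.mulVecLin_apply, Matrix.sub_mulVec, Matrix.one_mulVec,
    Matrix.mulVec_sub, Matrix.mulVec_mulVec, coe_mul_self Q hg, Matrix.one_mulVec]
  ext i
  simp only [Pi.sub_apply]
  rw [← neg_sub, CharTwo.neg_eq]

lemma card_le_two_fix [CharP F 2] {g : ↥(Cfsg.isometryGroup F ⇑Q)} (hg : g * g = 1) :
    Fintype.card ι ≤ 2 * finrank F (fixS (toOG Q g)) := by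
  have h1 := rank_add_fix Q g
  have h2 : (((g : GL ι F) : Matrix ι ι F) - 1).rank ≤ finrank F (fixS (toOG Q g)) :=
    Submodule.finrank_mono (range_le_fix Q hg)
  omega

/-- an involution fixes a nonsingular vector as soon as totally singular subspaces have dimension
less than half the dimension -/
lemma exists_fix_nonsing [CharP F 2] {g : ↥(Cfsg.isometryGroup F ⇑Q)} (hg : g * g = 1) (b : ℕ)
    (hb : ∀ U : Submodule F (ι → F), (∀ u ∈ U, Q u = 0) → finrank F U ≤ b)
    (hcard : 2 * b < Fintype.card ι) :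
    ∃ u, Q u ≠ 0 ∧ ((g : GL ι F) : Matrix ι ι F) *ᵥ u = u := by
  by_contra h
  push Not at h
  have h1 : ∀ u ∈ fixS (toOG Q g), Q u = 0 := by
    intro u hu
    by_contra hne
    rw [mem_fixS, toOG_apply] at hu
    exact h u hne hu
  have h2 := hb _ h1
  have h3 := card_le_two_fix Q hg
  omega

/-- if an involution `t` fixes a nonsingular vector then its `O`-class is a single `Ω`-class -/
theorem conj_in_omega_of_fix_nonsing [Fintype F] [CharP F 2] (hQ : (polarBilin Q).Nondegenerate)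
    (hex : Fintype.card F ≠ 2 ∨ Fintype.card ι ≠ 4)
    (t s : ↥(Cfsg.isometryGroup F ⇑Q)) (hconj : IsConj t s)
    (hfix : ∃ u : ι → F, Q u ≠ 0 ∧ ((t : GL ι F) : Matrix ι ι F) *ᵥ u = u) :
    ∃ g ∈ Cfsg.Omega F ⇑Q, g * t * g⁻¹ = s := by
  obtain ⟨u, hu, htu⟩ := hfix
  obtain ⟨c, hc⟩ := isConj_iff.mp hconj
  have hcomm : reflM Q u * t = t * reflM Q u := by
    have h := conj_reflM Q t u
    rw [htu] at h
    calc reflM Q u * t = (t * reflM Q u * t⁻¹) * t := by rw [h]
      _ = t * reflM Q u := by group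
  rcases mem_omega_or Q hQ hex hu c with h | h
  · exact ⟨c, h, hc⟩
  · refine ⟨c * reflM Q u, h, ?_⟩
    rw [_root_.mul_inv_rev, ← hc]
    have : c * reflM Q u * t * ((reflM Q u)⁻¹ * c⁻¹)
        = c * (reflM Q u * t * (reflM Q u)⁻¹) * c⁻¹ := by group
    rw [this, hcomm, mul_inv_cancel_right]

theorem conj_in_omega_of_bound [Fintype F] [CharP F 2] (hQ : (polarBilin Q).Nondegenerate)
    (hex : Fintype.card F ≠ 2 ∨ Fintype.card ι ≠ 4) (b : ℕ)
    (hb : ∀ U : Submodule F (ι → F), (∀ u ∈ U, Q u = 0) → finrank F U ≤ b)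
    (hcard : 2 * b < Fintype.card ι)
    (q : (ι → F) → F) (hq : ⇑Q = q)
    (t s : ↥(Cfsg.isometryGroup F q)) (ht : orderOf t = 2) (hconj : IsConj t s) :
    ∃ g ∈ Cfsg.Omega F q, g * t * g⁻¹ = s := by
  subst hq
  have htt : t * t = 1 := by
    have := pow_orderOf_eq_one t
    rwa [ht, _root_.sq] at this
  exact conj_in_omega_of_fix_nonsing Q hQ hex t s hconj (exists_fix_nonsing Q htt b hb hcard)

end Cfsg.Agent.Lib.Helper5.OmegaInvSplit
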