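import Mathlib
import Cfsg.Agent.Lib.Helper25.SpinAll
import Cfsg.Agent.Lib.Helper5.OmegaInvSplit

/-!
# Characteristic two orthogonal groups: the reflection machinery under a weaker hypothesis

The results of `Helper25.CDEven`, `CDConj`, `CDClifford`, `SpinAll` (generation by reflections, conjugacy
of reflections, `Ω` = even words) are re-derived from the "middle vector" property `HasMid`, which holds
in all cases except `O⁺₄(2)`; in particular for `O⁻₄(2)`.
-/

set_option autoImplicit false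
set_option linter.unusedSectionVars false
set_option linter.unusedVariables false
set_option linter.unusedSimpArgs false

universe u

namespace Cfsg.Agent.Lib.Helper5.CDGen

open Module QuadraticMap Matrix Cfsg.Agent.Lib.Helper25 Cfsg.Agent.Lib.Helper25.CD
  Cfsg.Agent.Lib.Helper25.Spin Cfsg.Agent.Lib.Helper5.DicksonRank
  Cfsg.Agent.Lib.Helper5.OmegaInvSplit

section abstract

variable {F : Type*} [Field F] [CharP F 2] [Fintype F] {V : Type u} [AddCommGroup V] [Module F V]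
  [FiniteDimensional F V] (Q : QuadraticForm F V)

/-- the "middle vector" property used for the transitivity of the reflection group -/
def HasMid : Prop := ∀ u u' : V, Q u ≠ 0 → Q u' = Q u → u' ≠ u → polar Q u u' = 0 →
    ∃ w, Q w = Q u ∧ polar Q u w ≠ 0 ∧ polar Q u' w ≠ 0

theorem hasMid_of_hex (hQ : (polarBilin Q).Nondegenerate)
    (hex : Fintype.card F ≠ 2 ∨ finrank F V ≠ 4) : HasMid Q :=
  fun u u' hu h hne hp => exists_mid_all Q hQ hex hu h hne hp

variable {Q}

theorem trans_all' (hmid : HasMid Q) {u u' : V} (hu : Q u ≠ 0) (h : Q u' = Q u) :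
    ∃ ρ ∈ RG Q, ρ u' = u := by
  by_cases hne : u' = u
  · exact ⟨1, one_mem _, by rw [hne]; rfl⟩
  by_cases hp : polar Q u u' = 0
  · obtain ⟨w, hwQ, hwu, hwu'⟩ := hmid u u' hu h hne hp
    have h1 : reflE Q (u + w) w = u := reflE_swap2 Q hwQ.symm hwu
    have h2 : reflE Q (w + u') u' = w := by
      apply reflE_swap2 Q (hwQ.trans h.symm)
      rw [polar_comm]; exact hwu'
    refine ⟨reflE Q (u + w) * reflE Q (w + u'), mul_mem ?_ ?_, ?_⟩
    · apply reflE_mem_RG
      rw [Q_add_eq_polar Q hwQ.symm]; exact hwu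
    · apply reflE_mem_RG
      rw [Q_add_eq_polar Q (hwQ.trans h.symm), polar_comm]; exact hwu'
    · rw [LinearEquiv.mul_apply, h2, h1]
  · refine ⟨reflE Q (u + u'), ?_, reflE_swap2 Q h.symm hp⟩
    apply reflE_mem_RG
    rw [Q_add_eq_polar Q h.symm]; exact hp

theorem cd_even' (hQ : (polarBilin Q).Nondegenerate) (hmid : HasMid Q) : OG Q ≤ RG Q := by
  intro g hg
  rcases subsingleton_or_nontrivial V with hV | hV
  · have : g = 1 := by
      ext x
      exact Subsingleton.elim _ _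
    rw [this]
    exact one_mem _
  · obtain ⟨u, hu⟩ := exists_nonsing Q hQ
    obtain ⟨ρ, hρ, hρu⟩ := trans_all' hmid hu (hg u)
    have hmem : ρ * g ∈ RG Q :=
      stab_mem _ V Q rfl hQ (ρ * g) (mul_mem (RG_le_OG Q hρ) hg) u hu
        (by rw [LinearEquiv.mul_apply, hρu])
    have : g = ρ⁻¹ * (ρ * g) := by group
    rw [this]
    exact mul_mem (inv_mem hρ) hmem

theorem exists_conj_reflE' (hmid : HasMid Q) {v v' : V} (hv : Q v ≠ 0) (hv' : Q v' ≠ 0) :
    ∃ ρ ∈ RG Q, ρ * reflE Q v * ρ⁻¹ = reflE Q v' := by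
  obtain ⟨t, ht0, ht⟩ := exists_scale Q hv' hv
  obtain ⟨ρ, hρ, hρv⟩ := trans_all' hmid (u := t • v') (u' := v) (by rw [ht]; exact hv) ht.symm
  refine ⟨ρ, hρ, ?_⟩
  rw [conj_reflE Q (RG_le_OG Q hρ), hρv, reflE_smul Q ht0]

end abstract

section matrix

variable {ι : Type} [Fintype ι] [DecidableEq ι] {F : Type*} [Field F] [Fintype F] [CharP F 2]
  (Q : QuadraticForm F (ι → F))

theorem reflSet_closure' (hQ : (polarBilin Q).Nondegenerate) (hmid : HasMid Q) :
    Subgroup.closure (reflSet Q) = ⊤ := by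
  rw [eq_top_iff]
  intro g _
  have h1 : toOG Q g ∈ RG Q := cd_even' hQ hmid (toOG_mem_OG Q g)
  have h2 : RG Q ≤ (Subgroup.closure (reflSet Q)).map (toOG Q) := by
    rw [RG, Subgroup.closure_le]
    rintro _ ⟨v, hv, rfl⟩
    exact ⟨reflM Q v, Subgroup.subset_closure (reflM_mem Q hv), toOG_reflM Q v⟩
  obtain ⟨g', hg', hgg'⟩ := h2 h1
  rw [← toOG_injective Q hgg']
  exact hg'

theorem reflSet_conj_all' (hmid : HasMid Q) :
    ∀ r ∈ reflSet Q, ∀ r' ∈ reflSet Q, ∃ k : ↥(Cfsg.isometryGroup F ⇑Q), k * r * k⁻¹ = r' := by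
  intro r hr r' hr'
  obtain ⟨v, hv, rfl⟩ := (mem_reflSet_iff Q r).1 hr
  obtain ⟨v', hv', rfl⟩ := (mem_reflSet_iff Q r').1 hr'
  obtain ⟨ρ, hρ, hρc⟩ := exists_conj_reflE' hmid hv hv'
  refine ⟨ofOG Q ρ (RG_le_OG Q hρ), ?_⟩
  apply toOG_injective
  rw [map_mul, map_mul, map_inv, toOG_ofOG, toOG_reflM, toOG_reflM, hρc]

theorem omega_eq_closure_pairs' (hQ : (polarBilin Q).Nondegenerate) (hmid : HasMid Q) :
    Cfsg.Omega F ⇑Q = Subgroup.closure (ReflGroup.pairs (reflSet Q)) :=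
  ReflGroup.commutator_eq_closure_pairs (reflSet_closure' Q hQ hmid) (reflSet_inv Q)
    (reflSet_conj Q) (reflSet_conj_all' Q hmid)

theorem mem_omega_or' (hQ : (polarBilin Q).Nondegenerate) (hmid : HasMid Q) {v : ι → F}
    (hv : Q v ≠ 0) (g : ↥(Cfsg.isometryGroup F ⇑Q)) :
    g ∈ Cfsg.Omega F ⇑Q ∨ g * reflM Q v ∈ Cfsg.Omega F ⇑Q :=
  ReflGroup.mem_commutator_or (reflSet_closure' Q hQ hmid) (reflSet_inv Q)
    (reflSet_conj Q) (reflSet_conj_all' Q hmid) (reflM_mem Q hv) g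

theorem reflM_not_mem_omega' (hQ : (polarBilin Q).Nondegenerate) (hmid : HasMid Q) {v : ι → F}
    (hv : Q v ≠ 0) : reflM Q v ∉ Cfsg.Omega F ⇑Q := by
  rw [omega_eq_closure_pairs' Q hQ hmid]
  intro hmem
  apply refl_not_mem_pairs Q hQ hv
  have := Subgroup.mem_map_of_mem (toOG Q) hmem
  rw [MonoidHom.map_closure, toOG_reflM] at this
  refine Subgroup.closure_mono ?_ this
  rintro _ ⟨g, ⟨r, hr, r', hr', rfl⟩, rfl⟩
  obtain ⟨u, hu, rfl⟩ := (mem_reflSet_iff Q r).1 hr
  obtain ⟨w, hw, rfl⟩ := (mem_reflSet_iff Q r').1 hr'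
  exact ⟨u, w, hu, hw, by rw [map_mul, toOG_reflM, toOG_reflM]⟩

theorem exists_word'' (hQ : (polarBilin Q).Nondegenerate) (hmid : HasMid Q)
    (g : ↥(Cfsg.isometryGroup F ⇑Q)) :
    ∃ vs : List (ι → F), (∀ v ∈ vs, Q v ≠ 0) ∧ wordG Q vs = g := by
  have hg : g ∈ Subgroup.closure (reflSet Q) := by
    rw [reflSet_closure' Q hQ hmid]; trivial
  induction hg using Subgroup.closure_induction with
  | mem x hx =>
    obtain ⟨v, hv, rfl⟩ := (mem_reflSet_iff Q x).1 hx
    refine ⟨[v], ?_, wordG_singleton Q v⟩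
    intro w hw
    rw [List.mem_singleton] at hw
    rw [hw]; exact hv
  | one => exact ⟨[], by simp, wordG_nil Q⟩
  | mul a b _ _ ha hb =>
    obtain ⟨as, has, rfl⟩ := ha
    obtain ⟨bs, hbs, rfl⟩ := hb
    refine ⟨as ++ bs, ?_, wordG_append Q as bs⟩
    intro v hv
    rcases List.mem_append.1 hv with h | h
    · exact has v h
    · exact hbs v h
  | inv a _ ha =>
    obtain ⟨as, has, rfl⟩ := ha
    refine ⟨as.reverse, ?_, (wordG_inv Q as).symm⟩
    intro v hv
    exact has v (List.mem_reverse.1 hv)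

theorem mem_omega_iff_char2' (hQ : (polarBilin Q).Nondegenerate) (hmid : HasMid Q)
    {vs : List (ι → F)} (hvs : ∀ v ∈ vs, Q v ≠ 0) :
    wordG Q vs ∈ Cfsg.Omega F ⇑Q ↔ Even vs.length := by
  constructor
  · intro h
    by_contra hodd
    cases vs with
    | nil => simp at hodd
    | cons v vs' =>
      have hev : Even vs'.length := by
        rw [List.length_cons, Nat.even_add_one, not_not] at hodd
        exact hodd
      have h1 : wordG Q vs' ∈ Cfsg.Omega F ⇑Q := by
        rw [omega_eq_closure_pairs' Q hQ hmid]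
        exact even_word_mem_pairs Q vs' (fun u hu => hvs u (List.mem_cons_of_mem _ hu)) hev
      have h3 : reflM Q v ∈ Cfsg.Omega F ⇑Q := by
        have := mul_mem h (inv_mem h1)
        rwa [wordG_cons, mul_inv_cancel_right] at this
      exact reflM_not_mem_omega' Q hQ hmid (hvs v (List.mem_cons_self ..)) h3
  · intro hev
    rw [omega_eq_closure_pairs' Q hQ hmid]
    exact even_word_mem_pairs Q vs hvs hev

/-- In characteristic two, `Ω` consists of the isometries `t` with `rank (t - 1)` even. -/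
theorem mem_omega_iff_even_rank' (hQ : (polarBilin Q).Nondegenerate) (hmid : HasMid Q)
    (q : (ι → F) → F) (hq : ⇑Q = q) (t : ↥(Cfsg.isometryGroup F q)) :
    t ∈ Cfsg.Omega F q ↔
      Even ((((t : ↥(Cfsg.isometryGroup F q)) : GL ι F) : Matrix ι ι F) - 1).rank := by
  subst hq
  obtain ⟨vs, hvs, rfl⟩ := exists_word'' Q hQ hmid t
  rw [mem_omega_iff_char2' Q hQ hmid hvs]
  have h1 := rank_add_fix Q (wordG Q vs)
  rw [toOG_wordG] at h1
  have h2 := word_parity hQ vs hvs
  rw [Module.finrank_fintype_fun_eq_card] at h2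
  rw [Nat.even_iff] at h2 ⊢
  rw [Nat.even_iff]
  omega

theorem conj_in_omega_of_fix_nonsing' (hQ : (polarBilin Q).Nondegenerate) (hmid : HasMid Q)
    (t s : ↥(Cfsg.isometryGroup F ⇑Q)) (hconj : IsConj t s)
    (hfix : ∃ u : ι → F, Q u ≠ 0 ∧ ((t : GL ι F) : Matrix ι ι F) *ᵥ u = u) :
    ∃ g ∈ Cfsg.Omega F ⇑Q, g * t * g⁻¹ = s := by
  obtain ⟨u, hu, htu⟩ := hfix
  obtain ⟨c, hc⟩ := isConj_iff.mp hconj
  have hcomm : reflM Q u * t = t * reflM Q u := by
    have h := conj_reflM Q t u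
    rw [htu] at h
    calc reflM Q u * t = (t * reflM Q u * t⁻¹) * t := by rw [h]
      _ = t * reflM Q u := by group
  rcases mem_omega_or' Q hQ hmid hu c with h | h
  · exact ⟨c, h, hc⟩
  · refine ⟨c * reflM Q u, h, ?_⟩
    rw [_root_.mul_inv_rev, ← hc]
    have : c * reflM Q u * t * ((reflM Q u)⁻¹ * c⁻¹)
        = c * (reflM Q u * t * (reflM Q u)⁻¹) * c⁻¹ := by group
    rw [this, hcomm, mul_inv_cancel_right]

end matrix

end Cfsg.Agent.Lib.Helper5.CDGen
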