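import Mathlib
import Cfsg.Agent.S0750

/-!
# Involutions of orthogonal groups in characteristic two (abstract core)

`V` a finite-dimensional space over a finite field `F` of characteristic two, `Q` a quadratic
form with non-degenerate polar form.  For an isometry `T` with `T ∘ T = 1` put `N = T - 1`.
We classify such `T` up to conjugacy by isometries by `rank N` and the type
(`polar (N x) x = 0` for all `x`, or not).
-/

set_option autoImplicit false
set_option linter.unusedSectionVars false
set_option linter.unusedVariables false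
set_option linter.unusedSimpArgs false

namespace Cfsg.Agent.Lib.Helper5.OrthInv
open QuadraticMap Cfsg.Agent.S0750.S0750aux

lemma vv (F : Type*) {V : Type*} [Field F] [AddCommGroup V] [Module F V] [CharP F 2] (v : V) :
    v + v = 0 := by
  rw [← two_smul F v, CharTwo.two_eq_zero, zero_smul]

lemma sub_eq_add2 (F : Type*) {V : Type*} [Field F] [AddCommGroup V] [Module F V] [CharP F 2]
    (u v : V) : u - v = u + v := by
  have h := vv F v
  have h1 : -v = v := neg_eq_of_add_eq_zero_left h
  rw [sub_eq_add_neg, h1]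

variable {F V : Type*} [Field F] [AddCommGroup V] [Module F V] (Q : QuadraticForm F V)

lemma pl_smul_left (a : F) (x y : V) : polar Q (a • x) y = a * polar Q x y := by
  rw [polar_smul_left, smul_eq_mul]

lemma pl_smul_right (a : F) (x y : V) : polar Q x (a • y) = a * polar Q x y := by
  rw [polar_smul_right, smul_eq_mul]

lemma pl_zero_left (y : V) : polar Q 0 y = 0 := by simp [polar]

lemma pl_zero_right (x : V) : polar Q x 0 = 0 := by simp [polar]

lemma pl_sum_right {ι : Type*} (s : Finset ι) (x : V) (v : ι → V) :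
    polar Q x (∑ i ∈ s, v i) = ∑ i ∈ s, polar Q x (v i) := by
  have h := map_sum (QuadraticMap.polarBilin Q x) v s
  simpa only [polarBilin_apply_apply] using h

lemma pl_sum_left {ι : Type*} (s : Finset ι) (v : ι → V) (y : V) :
    polar Q (∑ i ∈ s, v i) y = ∑ i ∈ s, polar Q (v i) y := by
  rw [polar_comm, pl_sum_right]
  exact Finset.sum_congr rfl (fun i _ => polar_comm _ _ _)

lemma pl_sum_smul_left {ι : Type*} (s : Finset ι) (c : ι → F) (v : ι → V) (y : V) :
    polar Q (∑ i ∈ s, c i • v i) y = ∑ i ∈ s, c i * polar Q (v i) y := by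
  rw [pl_sum_left]
  exact Finset.sum_congr rfl (fun i _ => pl_smul_left Q _ _ _)

/-- self-adjoint square-zero maps compatible with `Q` -/
def QGood (N : V →ₗ[F] V) : Prop :=
  (∀ x, N (N x) = 0) ∧ (∀ x y, polar Q (N x) y = polar Q x (N y)) ∧
    ∀ x, Q (N x) = polar Q (N x) x

section Char2
variable [CharP F 2]

lemma pl_self (x : V) : polar Q x x = 0 := by
  simp only [polar]
  rw [vv F x, map_zero]
  have h := CharTwo.add_self_eq_zero (Q x)
  linear_combination (-1 : F) * h

lemma sub_id_apply (T : V →ₗ[F] V) (x : V) : (T - LinearMap.id : V →ₗ[F] V) x = T x + x := by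
  rw [LinearMap.sub_apply, LinearMap.id_apply, sub_eq_add2 F]

lemma good_of_isom (T : V →ₗ[F] V) (hT : ∀ x, Q (T x) = Q x) (hTT : ∀ x, T (T x) = x) :
    QGood Q (T - LinearMap.id : V →ₗ[F] V) := by
  have hpol := polar_of_isom Q (fun x y => map_add T x y) hT
  refine ⟨fun x => ?_, fun x y => ?_, fun x => ?_⟩
  · rw [sub_id_apply, sub_id_apply, map_add, hTT]
    have h1 : x + T x + (T x + x) = (x + x) + (T x + T x) := by abel
    rw [h1, vv F, vv F, add_zero]
  · rw [sub_id_apply, sub_id_apply, polar_add_left, polar_add_right]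
    have h1 : polar Q (T x) y = polar Q x (T y) := by
      have h := hpol x (T y)
      rw [hTT] at h
      exact h
    rw [h1]
  · rw [sub_id_apply, QuadraticMap.map_add Q, hT, polar_add_left, pl_self]
    have h := CharTwo.add_self_eq_zero (Q x)
    linear_combination h

variable [FiniteDimensional F V]

lemma exists_polar_ne (hQ : (QuadraticMap.polarBilin Q).Nondegenerate) (x : V) (hx : x ≠ 0) :
    ∃ y, polar Q x y ≠ 0 := by
  by_contra hcon
  push Not at hcon
  apply hx
  apply hQ.1 x
  intro y
  rw [polarBilin_apply_apply]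
  exact hcon y

lemma structure_nonalt [Finite F] (hQ : (QuadraticMap.polarBilin Q).Nondegenerate) :
    ∀ (r : ℕ) (N : V →ₗ[F] V), QGood Q N → Module.finrank F (LinearMap.range N) = r →
    (r ≠ 0 → ∃ x, polar Q (N x) x ≠ 0) →
    ∃ e : Fin r → V, (∀ i, ∃ z, e i = N z) ∧ (∀ i, Q (e i) = 1) ∧
      ∀ x, N x = ∑ i, polar Q x (e i) • e i := by
  intro r
  induction r with
  | zero =>
    intro N hN hr _
    have h1 : LinearMap.range N = ⊥ := Submodule.finrank_eq_zero.mp hr
    have h2 : N = 0 := LinearMap.range_eq_bot.mp h1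
    refine ⟨Fin.elim0, fun i => i.elim0, fun i => i.elim0, fun x => ?_⟩
    rw [h2]
    simp
  | succ r ih =>
    intro N hN hr hna
    have h2 : (2 : F) = 0 := CharTwo.two_eq_zero
    have hsw : ∀ u v : V, polar Q u v = polar Q v u := fun u v => polar_comm Q u v
    obtain ⟨x₀, hx₀⟩ := hna (Nat.succ_ne_zero r)
    obtain ⟨ζ, hζ⟩ : ∃ ζ : F, ζ * ζ = (polar Q (N x₀) x₀)⁻¹ := by
      obtain ⟨ζ, h⟩ := FiniteField.isSquare_of_char_two (ringChar.eq F 2) (polar Q (N x₀) x₀)⁻¹
      exact ⟨ζ, h.symm⟩
    obtain ⟨x₁, hx₁, hx₁good⟩ : ∃ x₁, polar Q (N x₁) x₁ = 1 ∧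
        (r ≠ 0 → ∃ y, polar Q (N y) y + polar Q y (N x₁) * polar Q y (N x₁) ≠ 0) := by
      obtain ⟨x', hx'def⟩ : ∃ x', x' = ζ • x₀ := ⟨_, rfl⟩
      have hx' : polar Q (N x') x' = 1 := by
        rw [hx'def, map_smul, pl_smul_left, pl_smul_right, ← mul_assoc, hζ]
        exact inv_mul_cancel₀ hx₀
      by_cases hbad : ∃ y, polar Q (N y) y + polar Q y (N x') * polar Q y (N x') ≠ 0
      · exact ⟨x', hx', fun _ => hbad⟩
      · push Not at hbad
        by_cases hr0 : r = 0
        · exact ⟨x', hx', fun h => absurd hr0 h⟩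
        · have hNx'0 : N x' ≠ 0 := by
            intro h0
            rw [h0, pl_zero_left] at hx'
            exact zero_ne_one hx'
          obtain ⟨v, hv⟩ : ∃ v, N v ∉ Submodule.span F {N x'} := by
            by_contra hcon
            push Not at hcon
            have h1 : LinearMap.range N ≤ Submodule.span F {N x'} := by
              rintro _ ⟨v, rfl⟩
              exact hcon v
            have h3 := Submodule.finrank_mono h1
            have h4 : Module.finrank F (Submodule.span F {N x'}) = 1 :=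
              finrank_span_singleton hNx'0
            omega
          obtain ⟨c, hcdef⟩ : ∃ c, c = polar Q v (N x') := ⟨_, rfl⟩
          obtain ⟨k, hkdef⟩ : ∃ k, k = v + c • x' := ⟨_, rfl⟩
          have hx'N : polar Q x' (N x') = 1 := by rw [hsw, hx']
          have hkx' : polar Q k (N x') = 0 := by
            rw [hkdef, polar_add_left, pl_smul_left, hx'N, mul_one, ← hcdef]
            exact CharTwo.add_self_eq_zero c
          have hkk : polar Q (N k) k = 0 := by
            have h1 := hbad k
            rw [hkx', mul_zero, add_zero] at h1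
            exact h1
          have hNk : N k ≠ 0 := by
            intro h0
            apply hv
            have h1 : N v = (-c) • (N x') := by
              rw [hkdef, map_add, map_smul] at h0
              rw [neg_smul]
              exact eq_neg_of_add_eq_zero_left h0
            rw [h1]
            exact Submodule.smul_mem _ _ (Submodule.mem_span_singleton_self _)
          obtain ⟨y₀, hy₀⟩ := exists_polar_ne Q hQ (N k) hNk
          refine ⟨x' + k, ?_, fun _ => ⟨y₀, ?_⟩⟩
          · rw [map_add, polar_add_left, polar_add_right, polar_add_right, hx', hkk,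
              hN.2.1 k x', hkx', hsw (N x') k, hkx']
            ring
          · have h1 := hbad y₀
            rw [map_add, polar_add_right]
            have h3 : polar Q y₀ (N k) ≠ 0 := by rw [hsw]; exact hy₀
            intro h4
            apply h3
            have h5 : polar Q y₀ (N k) * polar Q y₀ (N k) = 0 := by
              linear_combination h4 - h1 - (polar Q y₀ (N x') * polar Q y₀ (N k)) * h2
            exact mul_self_eq_zero.mp h5
    obtain ⟨e₀, he₀⟩ : ∃ e₀, e₀ = N x₁ := ⟨_, rfl⟩
    obtain ⟨N₁, hN₁def⟩ : ∃ N₁ : V →ₗ[F] V,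
        N₁ = N + (QuadraticMap.polarBilin Q e₀).smulRight e₀ := ⟨_, rfl⟩
    have hN₁x : ∀ x, N₁ x = N x + polar Q x e₀ • e₀ := by
      intro x
      rw [hN₁def, LinearMap.add_apply, LinearMap.smulRight_apply, polarBilin_apply_apply,
        polar_comm]
    have hNe₀ : N e₀ = 0 := by rw [he₀]; exact hN.1 x₁
    have he₀N : ∀ x, polar Q (N x) e₀ = 0 := by
      intro x
      rw [hN.2.1, hNe₀, pl_zero_right]
    have he₀e₀ : polar Q e₀ e₀ = 0 := pl_self Q e₀
    have he₀x₁ : polar Q e₀ x₁ = 1 := by rw [he₀]; exact hx₁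
    have hx₁e₀ : polar Q x₁ e₀ = 1 := by rw [hsw, he₀x₁]
    have hQe₀ : Q e₀ = 1 := by rw [he₀, hN.2.2, hx₁]
    have hN₁x₁ : N₁ x₁ = 0 := by
      rw [hN₁x, ← he₀, hx₁e₀, one_smul]
      exact vv F e₀
    have hGood₁ : QGood Q N₁ := by
      refine ⟨fun x => ?_, fun x y => ?_, fun x => ?_⟩
      · rw [hN₁x x, hN₁x]
        simp only [map_add, map_smul, hN.1, hNe₀, polar_add_left, pl_smul_left, he₀N, he₀e₀]
        simp
      · simp only [hN₁x, polar_add_left, polar_add_right, pl_smul_left, pl_smul_right]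
        rw [hN.2.1 x y, hsw e₀ y]
        ring
      · rw [hN₁x, Q_add_smul, hN.2.2, hQe₀, he₀N, polar_add_left, pl_smul_left, hsw e₀ x]
        ring
    have hrange_le : LinearMap.range N₁ ≤ LinearMap.range N := by
      rintro _ ⟨x, rfl⟩
      refine ⟨x + polar Q x e₀ • x₁, ?_⟩
      rw [hN₁x, map_add, map_smul, he₀]
    have he₀_notin : e₀ ∉ LinearMap.range N₁ := by
      rintro ⟨z, hz⟩
      have h1 : polar Q e₀ x₁ = 0 := by
        rw [← hz, hGood₁.2.1, hN₁x₁, pl_zero_right]
      rw [he₀x₁] at h1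
      exact one_ne_zero h1
    have he₀_in : e₀ ∈ LinearMap.range N := ⟨x₁, he₀.symm⟩
    have hlt : LinearMap.range N₁ < LinearMap.range N :=
      lt_of_le_of_ne hrange_le (fun h => he₀_notin (h ▸ he₀_in))
    have hr1 := Submodule.finrank_lt_finrank_of_lt hlt
    have he₀ne : e₀ ≠ 0 := by
      intro h0
      rw [h0, pl_zero_left] at he₀x₁
      exact zero_ne_one he₀x₁
    have hr2 : Module.finrank F (LinearMap.range N) ≤
        Module.finrank F (LinearMap.range N₁) + 1 := by
      have h1 : LinearMap.range N ≤ LinearMap.range N₁ ⊔ Submodule.span F {e₀} := by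
        rintro _ ⟨x, rfl⟩
        have h0 : N x = N₁ x + (-(polar Q x e₀)) • e₀ := by
          rw [hN₁x, neg_smul]
          abel
        rw [h0]
        exact Submodule.add_mem_sup ⟨x, rfl⟩
          (Submodule.smul_mem _ _ (Submodule.mem_span_singleton_self e₀))
      have h3 := Submodule.finrank_mono h1
      have h4 := Submodule.finrank_add_le_finrank_add_finrank
        (LinearMap.range N₁) (Submodule.span F {e₀})
      have h5 : Module.finrank F (Submodule.span F {e₀}) = 1 := finrank_span_singleton he₀ne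
      omega
    obtain ⟨e', he'1, he'Q, he'2⟩ := ih N₁ hGood₁ (by omega) (fun hr0 => by
      obtain ⟨y, hy⟩ := hx₁good hr0
      refine ⟨y, ?_⟩
      rw [hN₁x, polar_add_left, pl_smul_left, hsw e₀ y, he₀]
      exact hy)
    refine ⟨Fin.cons e₀ e', ?_, ?_, ?_⟩
    · intro i
      refine Fin.cases ?_ (fun i => ?_) i
      · exact ⟨x₁, by rw [Fin.cons_zero, he₀]⟩
      · obtain ⟨z, hz⟩ := he'1 i
        refine ⟨z + polar Q z e₀ • x₁, ?_⟩
        rw [Fin.cons_succ, hz, hN₁x, map_add, map_smul, he₀]
    · intro i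
      refine Fin.cases ?_ (fun i => ?_) i
      · rw [Fin.cons_zero]; exact hQe₀
      · rw [Fin.cons_succ]; exact he'Q i
    · intro x
      rw [Fin.sum_univ_succ]
      simp only [Fin.cons_zero, Fin.cons_succ]
      rw [← he'2 x, hN₁x, add_comm (N x) _, ← add_assoc, vv F, zero_add]

lemma structure_alt (hQ : (QuadraticMap.polarBilin Q).Nondegenerate) :
    ∀ (r : ℕ) (N : V →ₗ[F] V), QGood Q N → (∀ x, polar Q (N x) x = 0) →
    Module.finrank F (LinearMap.range N) = r →
    ∃ s, r = 2 * s ∧ ∃ e d : Fin s → V,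
      (∀ i, ∃ z, e i = N z) ∧ (∀ i, ∃ z, d i = N z) ∧ (∀ i, Q (e i) = 0) ∧ (∀ i, Q (d i) = 0) ∧
      ∀ x, N x = ∑ i, (polar Q x (d i) • e i + polar Q x (e i) • d i) := by
  intro r
  induction r using Nat.strong_induction_on with
  | _ r ih =>
    intro N hN halt hr
    have h2 : (2 : F) = 0 := CharTwo.two_eq_zero
    have hsw : ∀ u v : V, polar Q u v = polar Q v u := fun u v => polar_comm Q u v
    by_cases hN0 : ∀ x, N x = 0
    · have h0 : N = 0 := LinearMap.ext (fun v => by rw [hN0]; rfl)
      have h1 : LinearMap.range N = ⊥ := LinearMap.range_eq_bot.mpr h0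
      rw [h1, finrank_bot] at hr
      refine ⟨0, by omega, Fin.elim0, Fin.elim0, fun i => i.elim0, fun i => i.elim0,
        fun i => i.elim0, fun i => i.elim0, fun x => ?_⟩
      rw [hN0]
      simp
    · push Not at hN0
      obtain ⟨z, hz⟩ := hN0
      obtain ⟨w₀, hw₀⟩ := exists_polar_ne Q hQ (N z) hz
      obtain ⟨w, hwdef⟩ : ∃ w, w = (polar Q (N z) w₀)⁻¹ • w₀ := ⟨_, rfl⟩
      have hzw : polar Q (N z) w = 1 := by
        rw [hwdef, pl_smul_right]
        exact inv_mul_cancel₀ hw₀
      obtain ⟨e₀, he₀⟩ : ∃ e₀, e₀ = N z := ⟨_, rfl⟩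
      obtain ⟨d₀, hd₀⟩ : ∃ d₀, d₀ = N w := ⟨_, rfl⟩
      have he₀w : polar Q e₀ w = 1 := by rw [he₀]; exact hzw
      have hwe₀ : polar Q w e₀ = 1 := by rw [hsw, he₀w]
      have hd₀z : polar Q d₀ z = 1 := by rw [hd₀, hN.2.1, ← he₀, hwe₀]
      have hzd₀ : polar Q z d₀ = 1 := by rw [hsw, hd₀z]
      have he₀z : polar Q e₀ z = 0 := by rw [he₀]; exact halt z
      have hze₀ : polar Q z e₀ = 0 := by rw [hsw, he₀z]
      have hd₀w : polar Q d₀ w = 0 := by rw [hd₀]; exact halt w
      have hwd₀ : polar Q w d₀ = 0 := by rw [hsw, hd₀w]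
      have hNe₀ : N e₀ = 0 := by rw [he₀]; exact hN.1 z
      have hNd₀ : N d₀ = 0 := by rw [hd₀]; exact hN.1 w
      have hNe : ∀ x, polar Q (N x) e₀ = 0 := fun x => by
        rw [hN.2.1, hNe₀, pl_zero_right]
      have hNd : ∀ x, polar Q (N x) d₀ = 0 := fun x => by
        rw [hN.2.1, hNd₀, pl_zero_right]
      have hee : polar Q e₀ e₀ = 0 := pl_self Q e₀
      have hdd : polar Q d₀ d₀ = 0 := pl_self Q d₀
      have hed : polar Q e₀ d₀ = 0 := by
        have h1 := hNd z
        rwa [← he₀] at h1
      have hde : polar Q d₀ e₀ = 0 := by rw [hsw, hed]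
      have hQe₀ : Q e₀ = 0 := by rw [he₀, hN.2.2, halt]
      have hQd₀ : Q d₀ = 0 := by rw [hd₀, hN.2.2, halt]
      obtain ⟨N₁, hN₁def⟩ : ∃ N₁ : V →ₗ[F] V, N₁ = N +
          ((QuadraticMap.polarBilin Q d₀).smulRight e₀ +
            (QuadraticMap.polarBilin Q e₀).smulRight d₀) := ⟨_, rfl⟩
      have hN₁x : ∀ x, N₁ x = N x + (polar Q x d₀ • e₀ + polar Q x e₀ • d₀) := by
        intro x
        rw [hN₁def, LinearMap.add_apply, LinearMap.add_apply, LinearMap.smulRight_apply,
          LinearMap.smulRight_apply, polarBilin_apply_apply, polarBilin_apply_apply,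
          polar_comm Q d₀ x, polar_comm Q e₀ x]
      have hN₁z : N₁ z = 0 := by
        rw [hN₁x, ← he₀, hzd₀, hze₀, one_smul, zero_smul, add_zero]
        exact vv F e₀
      have hN₁w : N₁ w = 0 := by
        rw [hN₁x, ← hd₀, hwd₀, hwe₀, one_smul, zero_smul, zero_add]
        exact vv F d₀
      have hGood₁ : QGood Q N₁ := by
        refine ⟨fun x => ?_, fun x y => ?_, fun x => ?_⟩
        · rw [hN₁x x, hN₁x]
          simp only [map_add, map_smul, hN.1, hNe₀, hNd₀, polar_add_left, pl_smul_left, hNd,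
            hNe, hed, hdd, hee, hde]
          simp
        · simp only [hN₁x, polar_add_left, polar_add_right, pl_smul_left, pl_smul_right]
          rw [hN.2.1 x y, hsw e₀ y, hsw d₀ y]
          ring
        · rw [hN₁x, ← add_assoc, Q_add_smul_smul, hN.2.2, hQe₀, hQd₀, hNe, hNd, hed,
            polar_add_left, polar_add_left, pl_smul_left, pl_smul_left, hsw e₀ x, hsw d₀ x]
          linear_combination (-(polar Q x d₀ * polar Q x e₀)) * h2
      have halt₁ : ∀ x, polar Q (N₁ x) x = 0 := by
        intro x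
        rw [hN₁x, polar_add_left, polar_add_left, pl_smul_left, pl_smul_left,
          halt, hsw e₀ x, hsw d₀ x]
        linear_combination (polar Q x d₀ * polar Q x e₀) * h2
      have hrange_le : LinearMap.range N₁ ≤ LinearMap.range N := by
        rintro _ ⟨x, rfl⟩
        refine ⟨x + (polar Q x d₀ • z + polar Q x e₀ • w), ?_⟩
        rw [hN₁x, map_add, map_add, map_smul, map_smul, he₀, hd₀]
      have he₀_in : e₀ ∈ LinearMap.range N := ⟨z, he₀.symm⟩
      have hd₀_in : d₀ ∈ LinearMap.range N := ⟨w, hd₀.symm⟩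
      have he₀_notin : e₀ ∉ LinearMap.range N₁ := by
        rintro ⟨y, hy⟩
        have h1 : polar Q e₀ w = 0 := by
          rw [← hy, hGood₁.2.1, hN₁w, pl_zero_right]
        rw [he₀w] at h1
        exact one_ne_zero h1
      have hd₀_notin : d₀ ∉ LinearMap.range N₁ ⊔ Submodule.span F {e₀} := by
        intro h
        obtain ⟨u, ⟨y, hy⟩, v, hv, huv⟩ := Submodule.mem_sup.mp h
        obtain ⟨c, rfl⟩ := Submodule.mem_span_singleton.mp hv
        have h1 : polar Q d₀ z = 0 := by
          rw [← huv, polar_add_left, pl_smul_left, he₀z, mul_zero, add_zero, ← hy,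
            hGood₁.2.1, hN₁z, pl_zero_right]
        rw [hd₀z] at h1
        exact one_ne_zero h1
      have hlt1 : LinearMap.range N₁ < LinearMap.range N₁ ⊔ Submodule.span F {e₀} :=
        lt_of_le_of_ne le_sup_left (fun h => he₀_notin (h ▸ Submodule.mem_sup_right
          (Submodule.mem_span_singleton_self e₀)))
      have hle2 : LinearMap.range N₁ ⊔ Submodule.span F {e₀} ≤ LinearMap.range N :=
        sup_le hrange_le ((Submodule.span_singleton_le_iff_mem _ _).mpr he₀_in)
      have hlt2 : LinearMap.range N₁ ⊔ Submodule.span F {e₀} < LinearMap.range N :=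
        lt_of_le_of_ne hle2 (fun h => hd₀_notin (h ▸ hd₀_in))
      have hf1 := Submodule.finrank_lt_finrank_of_lt hlt1
      have hf2 := Submodule.finrank_lt_finrank_of_lt hlt2
      have he₀ne : e₀ ≠ 0 := by
        intro h0
        rw [h0, pl_zero_left] at he₀w
        exact zero_ne_one he₀w
      have hd₀ne : d₀ ≠ 0 := by
        intro h0
        rw [h0, pl_zero_left] at hd₀z
        exact zero_ne_one hd₀z
      have hup : LinearMap.range N ≤
          (LinearMap.range N₁ ⊔ Submodule.span F {e₀}) ⊔ Submodule.span F {d₀} := by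
        rintro _ ⟨x, rfl⟩
        have h0 : N x = (N₁ x + (-(polar Q x d₀)) • e₀) + (-(polar Q x e₀)) • d₀ := by
          rw [hN₁x, neg_smul, neg_smul]
          abel
        rw [h0]
        exact Submodule.add_mem_sup (Submodule.add_mem_sup ⟨x, rfl⟩
          (Submodule.smul_mem _ _ (Submodule.mem_span_singleton_self e₀)))
          (Submodule.smul_mem _ _ (Submodule.mem_span_singleton_self d₀))
      have h3 := Submodule.finrank_mono hup
      have h4 := Submodule.finrank_add_le_finrank_add_finrank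
        (LinearMap.range N₁ ⊔ Submodule.span F {e₀}) (Submodule.span F {d₀})
      have h4' := Submodule.finrank_add_le_finrank_add_finrank
        (LinearMap.range N₁) (Submodule.span F {e₀})
      have h5 : Module.finrank F (Submodule.span F {e₀}) = 1 := finrank_span_singleton he₀ne
      have h5' : Module.finrank F (Submodule.span F {d₀}) = 1 := finrank_span_singleton hd₀ne
      have hrk : Module.finrank F (LinearMap.range N) =
          Module.finrank F (LinearMap.range N₁) + 2 := by omega
      obtain ⟨s', hs', e', d', he', hd', hQe', hQd', hsum'⟩ :=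
        ih (Module.finrank F (LinearMap.range N₁)) (by omega) N₁ hGood₁ halt₁ rfl
      refine ⟨s' + 1, by omega, Fin.cons e₀ e', Fin.cons d₀ d', ?_, ?_, ?_, ?_, ?_⟩
      · intro i
        refine Fin.cases ?_ (fun i => ?_) i
        · exact ⟨z, by rw [Fin.cons_zero, he₀]⟩
        · obtain ⟨z', hz'⟩ := he' i
          refine ⟨z' + (polar Q z' d₀ • z + polar Q z' e₀ • w), ?_⟩
          rw [Fin.cons_succ, hz', hN₁x, map_add, map_add, map_smul, map_smul, he₀, hd₀]
      · intro i
        refine Fin.cases ?_ (fun i => ?_) i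
        · exact ⟨w, by rw [Fin.cons_zero, hd₀]⟩
        · obtain ⟨z', hz'⟩ := hd' i
          refine ⟨z' + (polar Q z' d₀ • z + polar Q z' e₀ • w), ?_⟩
          rw [Fin.cons_succ, hz', hN₁x, map_add, map_add, map_smul, map_smul, he₀, hd₀]
      · intro i
        refine Fin.cases ?_ (fun i => ?_) i
        · rw [Fin.cons_zero]; exact hQe₀
        · rw [Fin.cons_succ]; exact hQe' i
      · intro i
        refine Fin.cases ?_ (fun i => ?_) i
        · rw [Fin.cons_zero]; exact hQd₀
        · rw [Fin.cons_succ]; exact hQd' i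
      · intro x
        rw [Fin.sum_univ_succ]
        simp only [Fin.cons_zero, Fin.cons_succ]
        rw [← hsum' x, hN₁x, add_comm (N x) _, ← add_assoc, vv F, zero_add]

lemma li_of_span (N : V →ₗ[F] V) {k : ℕ} (hr : Module.finrank F (LinearMap.range N) = k)
    (E : Fin k → V) (hE : ∀ i, ∃ z, E i = N z)
    (hsp : ∀ x, N x ∈ Submodule.span F (Set.range E)) : LinearIndependent F E := by
  rw [linearIndependent_iff_card_eq_finrank_span, Fintype.card_fin]
  have h1 : Submodule.span F (Set.range E) = LinearMap.range N := by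
    apply le_antisymm
    · rw [Submodule.span_le]
      rintro _ ⟨i, rfl⟩
      obtain ⟨z, hz⟩ := hE i
      exact ⟨z, hz.symm⟩
    · rintro _ ⟨x, rfl⟩
      exact hsp x
  rw [Set.finrank, h1]
  exact hr.symm

lemma gram_zero (N : V →ₗ[F] V) (hN : QGood Q N) {k : ℕ} (E : Fin k → V)
    (hE : ∀ i, ∃ z, E i = N z) : ∀ i j, polar Q (E i) (E j) = 0 := by
  intro i j
  obtain ⟨zi, hzi⟩ := hE i
  obtain ⟨zj, hzj⟩ := hE j
  rw [hzi, hzj, hN.2.1, hN.1, pl_zero_right]

lemma conj_of_tuples (T S : V →ₗ[F] V) {k : ℕ} (E E' G G' : Fin k → V)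
    (hA : ∀ x, (T - LinearMap.id : V →ₗ[F] V) x = ∑ i, polar Q x (E i) • E' i)
    (hB : ∀ x, (S - LinearMap.id : V →ₗ[F] V) x = ∑ i, polar Q x (G i) • G' i)
    (g : V ≃ₗ[F] V) (hgQ : ∀ v, Q (g v) = Q v)
    (hg : ∀ i, g (E i) = G i) (hg' : ∀ i, g (E' i) = G' i) : ∀ x, g (T x) = S (g x) := by
  intro x
  have hpol := polar_of_isom Q (fun x y => map_add g x y) hgQ
  have hTx : ∀ x, T x = x + ∑ i, polar Q x (E i) • E' i := by
    intro x
    rw [← hA x, sub_id_apply]
    rw [add_comm (T x) x, ← add_assoc, vv F, zero_add]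
  have hSx : ∀ x, S x = x + ∑ i, polar Q x (G i) • G' i := by
    intro x
    rw [← hB x, sub_id_apply]
    rw [add_comm (S x) x, ← add_assoc, vv F, zero_add]
  rw [hTx, hSx, map_add, map_sum]
  congr 1
  apply Finset.sum_congr rfl
  intro i _
  rw [map_smul, hg', ← hg i, hpol]

theorem conj_of_type [Finite F] (hQ : (QuadraticMap.polarBilin Q).Nondegenerate)
    (T S : V →ₗ[F] V) (hT : ∀ x, Q (T x) = Q x) (hTT : ∀ x, T (T x) = x)
    (hS : ∀ x, Q (S x) = Q x) (hSS : ∀ x, S (S x) = x)
    (hrk : Module.finrank F (LinearMap.range (T - LinearMap.id : V →ₗ[F] V)) =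
      Module.finrank F (LinearMap.range (S - LinearMap.id : V →ₗ[F] V)))
    (htype : (∀ x, polar Q ((T - LinearMap.id : V →ₗ[F] V) x) x = 0) ↔
      (∀ x, polar Q ((S - LinearMap.id : V →ₗ[F] V) x) x = 0)) :
    ∃ g : V ≃ₗ[F] V, (∀ v, Q (g v) = Q v) ∧ ∀ x, g (T x) = S (g x) := by
  classical
  have hGA := good_of_isom Q T hT hTT
  have hGB := good_of_isom Q S hS hSS
  obtain ⟨r, hr⟩ : ∃ r, Module.finrank F (LinearMap.range (T - LinearMap.id : V →ₗ[F] V)) = r := ⟨_, rfl⟩
  have hr' : Module.finrank F (LinearMap.range (S - LinearMap.id : V →ₗ[F] V)) = r := by rw [← hrk, hr]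
  by_cases hA : ∀ x, polar Q ((T - LinearMap.id : V →ₗ[F] V) x) x = 0
  · have hB := htype.mp hA
    obtain ⟨s, hs, e, d, he, hd, hQe, hQd, hsum⟩ := structure_alt Q hQ r _ hGA hA hr
    obtain ⟨s', hs', e', d', he', hd', hQe', hQd', hsum'⟩ := structure_alt Q hQ r _ hGB hB hr'
    obtain rfl : s' = s := by omega
    have hrs : Module.finrank F (LinearMap.range (T - LinearMap.id : V →ₗ[F] V)) = s' + s' := by omega
    have hrs' : Module.finrank F (LinearMap.range (S - LinearMap.id : V →ₗ[F] V)) = s' + s' := by omega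
    have hE : ∀ i, ∃ z, Fin.append e d i = (T - LinearMap.id : V →ₗ[F] V) z := fun i =>
      Fin.addCases (motive := fun i => ∃ z, Fin.append e d i = (T - LinearMap.id : V →ₗ[F] V) z)
        (fun j => by rw [Fin.append_left]; exact he j)
        (fun j => by rw [Fin.append_right]; exact hd j) i
    have hG : ∀ i, ∃ z, Fin.append e' d' i = (S - LinearMap.id : V →ₗ[F] V) z := fun i =>
      Fin.addCases (motive := fun i => ∃ z, Fin.append e' d' i = (S - LinearMap.id : V →ₗ[F] V) z)
        (fun j => by rw [Fin.append_left]; exact he' j)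
        (fun j => by rw [Fin.append_right]; exact hd' j) i
    have hliE : LinearIndependent F (Fin.append e d) := by
      apply li_of_span _ hrs _ hE
      intro x
      rw [hsum x]
      refine Submodule.sum_mem _ fun i _ => Submodule.add_mem _
        (Submodule.smul_mem _ _ (Submodule.subset_span ⟨Fin.castAdd s' i, Fin.append_left e d i⟩))
        (Submodule.smul_mem _ _ (Submodule.subset_span ⟨Fin.natAdd s' i, Fin.append_right e d i⟩))
    have hliG : LinearIndependent F (Fin.append e' d') := by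
      apply li_of_span _ hrs' _ hG
      intro x
      rw [hsum' x]
      refine Submodule.sum_mem _ fun i _ => Submodule.add_mem _
        (Submodule.smul_mem _ _ (Submodule.subset_span
          ⟨Fin.castAdd s' i, Fin.append_left e' d' i⟩))
        (Submodule.smul_mem _ _ (Submodule.subset_span
          ⟨Fin.natAdd s' i, Fin.append_right e' d' i⟩))
    have hQE : ∀ i, Q (Fin.append e d i) = Q (Fin.append e' d' i) := fun i =>
      Fin.addCases (motive := fun i => Q (Fin.append e d i) = Q (Fin.append e' d' i))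
        (fun j => by rw [Fin.append_left, Fin.append_left, hQe, hQe'])
        (fun j => by rw [Fin.append_right, Fin.append_right, hQd, hQd']) i
    obtain ⟨g, hgQ, hg⟩ := witt_tuple Q hQ (s' + s') (Fin.append e d) (Fin.append e' d')
      hliE hliG hQE
      (fun i j => by rw [gram_zero Q _ hGA _ hE, gram_zero Q _ hGB _ hG])
    have hge : ∀ j, g (e j) = e' j := fun j => by
      have h := hg (Fin.castAdd s' j)
      rwa [Fin.append_left, Fin.append_left] at h
    have hgd : ∀ j, g (d j) = d' j := fun j => by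
      have h := hg (Fin.natAdd s' j)
      rwa [Fin.append_right, Fin.append_right] at h
    have hg' : ∀ i, g (Fin.append d e i) = Fin.append d' e' i := fun i =>
      Fin.addCases (motive := fun i => g (Fin.append d e i) = Fin.append d' e' i)
        (fun j => by rw [Fin.append_left, Fin.append_left]; exact hgd j)
        (fun j => by rw [Fin.append_right, Fin.append_right]; exact hge j) i
    refine ⟨g, hgQ, conj_of_tuples Q T S (Fin.append e d) (Fin.append d e) (Fin.append e' d')
      (Fin.append d' e') ?_ ?_ g hgQ hg hg'⟩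
    · intro x
      rw [hsum x, Fin.sum_univ_add]
      simp only [Fin.append_left, Fin.append_right]
      rw [Finset.sum_add_distrib]
      exact add_comm _ _
    · intro x
      rw [hsum' x, Fin.sum_univ_add]
      simp only [Fin.append_left, Fin.append_right]
      rw [Finset.sum_add_distrib]
      exact add_comm _ _
  · have hB : ¬ ∀ x, polar Q ((S - LinearMap.id : V →ₗ[F] V) x) x = 0 := fun h => hA (htype.mpr h)
    push Not at hA hB
    obtain ⟨e, he1, heQ, he2⟩ := structure_nonalt Q hQ r _ hGA hr (fun _ => hA)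
    obtain ⟨e', he'1, he'Q, he'2⟩ := structure_nonalt Q hQ r _ hGB hr' (fun _ => hB)
    have hli : LinearIndependent F e := by
      apply li_of_span _ hr _ he1
      intro x
      rw [he2 x]
      exact Submodule.sum_mem _ fun i _ =>
        Submodule.smul_mem _ _ (Submodule.subset_span ⟨i, rfl⟩)
    have hli' : LinearIndependent F e' := by
      apply li_of_span _ hr' _ he'1
      intro x
      rw [he'2 x]
      exact Submodule.sum_mem _ fun i _ =>
        Submodule.smul_mem _ _ (Submodule.subset_span ⟨i, rfl⟩)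
    obtain ⟨g, hgQ, hg⟩ := witt_tuple Q hQ r e e' hli hli'
      (fun i => by rw [heQ, he'Q])
      (fun i j => by rw [gram_zero Q _ hGA _ he1, gram_zero Q _ hGB _ he'1])
    exact ⟨g, hgQ, conj_of_tuples Q T S e e e' e' he2 he'2 g hgQ hg hg⟩

/-- bounds on the rank -/
lemma rank_le (N : V →ₗ[F] V) (hN : QGood Q N) :
    2 * Module.finrank F (LinearMap.range N) ≤ Module.finrank F V := by
  have h1 : LinearMap.range N ≤ LinearMap.ker N := by
    rintro _ ⟨x, rfl⟩
    rw [LinearMap.mem_ker]
    exact hN.1 x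
  have h2 := LinearMap.finrank_range_add_finrank_ker N
  have h3 := Submodule.finrank_mono h1
  omega


/-- invariance of rank and type under conjugation by a polar-preserving linear equivalence -/
lemma inv_of_conj (T S : V →ₗ[F] V) (g : V ≃ₗ[F] V)
    (hpol : ∀ x y, polar Q (g x) (g y) = polar Q x y) (h : ∀ x, g (T x) = S (g x)) :
    Module.finrank F (LinearMap.range (T - LinearMap.id : V →ₗ[F] V)) =
      Module.finrank F (LinearMap.range (S - LinearMap.id : V →ₗ[F] V)) ∧
    ((∀ x, polar Q ((T - LinearMap.id : V →ₗ[F] V) x) x = 0) ↔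
      (∀ x, polar Q ((S - LinearMap.id : V →ₗ[F] V) x) x = 0)) := by
  have hN : ∀ x, (S - LinearMap.id : V →ₗ[F] V) (g x) = g ((T - LinearMap.id : V →ₗ[F] V) x) := by
    intro x
    rw [sub_id_apply, sub_id_apply, map_add, h]
  constructor
  · have h1 : LinearMap.range (S - LinearMap.id : V →ₗ[F] V) =
        Submodule.map (g : V →ₗ[F] V) (LinearMap.range (T - LinearMap.id : V →ₗ[F] V)) := by
      apply le_antisymm
      · rintro _ ⟨y, rfl⟩
        obtain ⟨x, rfl⟩ := g.surjective y
        exact ⟨_, ⟨x, rfl⟩, (hN x).symm⟩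
      · rintro _ ⟨_, ⟨x, rfl⟩, rfl⟩
        exact ⟨g x, hN x⟩
    rw [h1, LinearEquiv.finrank_map_eq]
  · constructor
    · intro hT y
      obtain ⟨x, rfl⟩ := g.surjective y
      rw [hN, hpol]
      exact hT x
    · intro hS x
      have h1 := hS (g x)
      rwa [hN, hpol] at h1

lemma Q_sum_orth : ∀ (n : ℕ) (c : Fin n → F) (P : Fin n → V),
    (∀ i j, polar Q (P i) (P j) = 0) →
    Q (∑ i, c i • P i) = ∑ i, c i * c i * Q (P i) := by
  intro n
  induction n with
  | zero => intro c P _; simp
  | succ n ih =>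
    intro c P hP
    have h0 : polar Q (c 0 • P 0) (∑ i : Fin n, c i.succ • P i.succ) = 0 := by
      rw [pl_smul_left, pl_sum_right,
        Finset.sum_eq_zero (fun i _ => by rw [pl_smul_right, hP, mul_zero]), mul_zero]
    rw [Fin.sum_univ_succ, Fin.sum_univ_succ, QuadraticMap.map_add Q, QuadraticMap.map_smul,
      ih (fun i => c i.succ) (fun i => P i.succ) (fun i j => hP i.succ j.succ), h0]
    simp only [smul_eq_mul]
    ring

lemma exists_dual (hQ : (QuadraticMap.polarBilin Q).Nondegenerate) {n : ℕ} (P : Fin n → V)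
    (hli : LinearIndependent F P) :
    ∃ R : Fin n → V, ∀ i j, polar Q (R j) (P i) = if i = j then 1 else 0 := by
  classical
  have h1 : ∀ j : Fin n, ∃ e, (∀ k ∈ Submodule.span F (P '' {i | i ≠ j}), polar Q e k = 0) ∧
      polar Q e (P j) = 1 := by
    intro j
    have h2 : P j ∉ Submodule.span F (P '' {i | i ≠ j}) :=
      hli.notMem_span_image (by simp)
    exact exists_sep Q hQ _ (P j) h2 1
  choose R hR1 hR2 using h1
  refine ⟨R, fun i j => ?_⟩
  by_cases hij : i = j
  · rw [if_pos hij, hij]
    exact hR2 j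
  · rw [if_neg hij]
    exact hR1 j _ (Submodule.subset_span ⟨i, hij, rfl⟩)

theorem exists_nonalt (hQ : (QuadraticMap.polarBilin Q).Nondegenerate) {s : ℕ} (E : Fin s → V)
    (hli : LinearIndependent F E) (hE : ∀ i j, polar Q (E i) (E j) = 0)
    (hQE : ∀ i, Q (E i) = 1) :
    ∃ T : V →ₗ[F] V, (∀ x, Q (T x) = Q x) ∧ (∀ x, T (T x) = x) ∧
      Module.finrank F (LinearMap.range (T - LinearMap.id : V →ₗ[F] V)) = s ∧
      (0 < s → ¬ ∀ x, polar Q ((T - LinearMap.id : V →ₗ[F] V) x) x = 0) := by
  classical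
  obtain ⟨N, hNdef⟩ : ∃ N : V →ₗ[F] V,
      N = ∑ i, (QuadraticMap.polarBilin Q (E i)).smulRight (E i) := ⟨_, rfl⟩
  have hNx : ∀ x, N x = ∑ i, polar Q x (E i) • E i := by
    intro x
    rw [hNdef, LinearMap.sum_apply]
    apply Finset.sum_congr rfl
    intro i _
    rw [LinearMap.smulRight_apply, polarBilin_apply_apply, polar_comm]
  have hNN : ∀ x, N (N x) = 0 := by
    intro x
    rw [hNx (N x)]
    apply Finset.sum_eq_zero
    intro i _
    rw [hNx x, pl_sum_smul_left, Finset.sum_eq_zero (fun j _ => by rw [hE, mul_zero]), zero_smul]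
  obtain ⟨T, hTdef⟩ : ∃ T : V →ₗ[F] V, T = LinearMap.id + N := ⟨_, rfl⟩
  have hTx : ∀ x, T x = x + N x := by
    intro x
    rw [hTdef, LinearMap.add_apply, LinearMap.id_apply]
  have hTN : (T - LinearMap.id : V →ₗ[F] V) = N := by
    rw [hTdef]
    exact add_sub_cancel_left _ _
  obtain ⟨R, hR⟩ := exists_dual Q hQ E hli
  have hNR : ∀ j, N (R j) = E j := by
    intro j
    rw [hNx]
    simp only [hR]
    rw [Finset.sum_eq_single j]
    · rw [if_pos rfl, one_smul]
    · intro i _ hij
      rw [if_neg hij, zero_smul]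
    · intro h
      exact absurd (Finset.mem_univ j) h
  refine ⟨T, fun x => ?_, fun x => ?_, ?_, fun hs hA => ?_⟩
  · rw [hTx, QuadraticMap.map_add Q, hNx, Q_sum_orth Q s _ E hE, pl_sum_right]
    have h1 : ∀ i, polar Q x (polar Q x (E i) • E i) = polar Q x (E i) * polar Q x (E i) :=
      fun i => by rw [pl_smul_right]
    simp only [h1, hQE, mul_one]
    rw [add_assoc, CharTwo.add_self_eq_zero, add_zero]
  · rw [hTx (T x), hTx x, map_add, hNN, add_zero, add_assoc, vv F, add_zero]
  · rw [hTN]
    have h1 : LinearMap.range N = Submodule.span F (Set.range E) := by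
      apply le_antisymm
      · rintro _ ⟨x, rfl⟩
        rw [hNx]
        exact Submodule.sum_mem _ fun i _ =>
          Submodule.smul_mem _ _ (Submodule.subset_span ⟨i, rfl⟩)
      · rw [Submodule.span_le]
        rintro _ ⟨j, rfl⟩
        exact ⟨R j, hNR j⟩
    rw [h1, finrank_span_eq_card hli, Fintype.card_fin]
  · have h1 := hA (R ⟨0, hs⟩)
    rw [hTN, hNR, polar_comm, hR, if_pos rfl] at h1
    exact one_ne_zero h1

theorem exists_alt (hQ : (QuadraticMap.polarBilin Q).Nondegenerate) {k : ℕ}
    (P : Fin (k + k) → V) (hli : LinearIndependent F P)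
    (hP : ∀ i j, polar Q (P i) (P j) = 0) (hQP : ∀ i, Q (P i) = 0) :
    ∃ T : V →ₗ[F] V, (∀ x, Q (T x) = Q x) ∧ (∀ x, T (T x) = x) ∧
      Module.finrank F (LinearMap.range (T - LinearMap.id : V →ₗ[F] V)) = k + k ∧
      ∀ x, polar Q ((T - LinearMap.id : V →ₗ[F] V) x) x = 0 := by
  classical
  have h2 : (2 : F) = 0 := CharTwo.two_eq_zero
  obtain ⟨P', hP'def⟩ : ∃ P' : Fin (k + k) → V,
      P' = Fin.append (fun i => P (Fin.natAdd k i)) (fun i => P (Fin.castAdd k i)) := ⟨_, rfl⟩
  have hP'l : ∀ i, P' (Fin.castAdd k i) = P (Fin.natAdd k i) := fun i => by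
    rw [hP'def, Fin.append_left]
  have hP'r : ∀ i, P' (Fin.natAdd k i) = P (Fin.castAdd k i) := fun i => by
    rw [hP'def, Fin.append_right]
  have hPP' : ∀ i j, polar Q (P i) (P' j) = 0 := fun i j =>
    Fin.addCases (motive := fun j => polar Q (P i) (P' j) = 0)
      (fun l => by rw [hP'l]; exact hP _ _) (fun l => by rw [hP'r]; exact hP _ _) j
  obtain ⟨N, hNdef⟩ : ∃ N : V →ₗ[F] V,
      N = ∑ j, (QuadraticMap.polarBilin Q (P' j)).smulRight (P j) := ⟨_, rfl⟩
  have hNx : ∀ x, N x = ∑ j, polar Q x (P' j) • P j := by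
    intro x
    rw [hNdef, LinearMap.sum_apply]
    apply Finset.sum_congr rfl
    intro i _
    rw [LinearMap.smulRight_apply, polarBilin_apply_apply, polar_comm]
  have hNN : ∀ x, N (N x) = 0 := by
    intro x
    rw [hNx (N x)]
    apply Finset.sum_eq_zero
    intro i _
    rw [hNx x, pl_sum_smul_left, Finset.sum_eq_zero (fun j _ => by rw [hPP', mul_zero]),
      zero_smul]
  have hxN : ∀ x, polar Q x (N x) = 0 := by
    intro x
    rw [hNx, pl_sum_right, Fin.sum_univ_add]
    simp only [pl_smul_right, hP'l, hP'r]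
    rw [← Finset.sum_add_distrib]
    apply Finset.sum_eq_zero
    intro i _
    linear_combination (polar Q x (P (Fin.natAdd k i)) * polar Q x (P (Fin.castAdd k i))) * h2
  obtain ⟨T, hTdef⟩ : ∃ T : V →ₗ[F] V, T = LinearMap.id + N := ⟨_, rfl⟩
  have hTx : ∀ x, T x = x + N x := by
    intro x
    rw [hTdef, LinearMap.add_apply, LinearMap.id_apply]
  have hTN : (T - LinearMap.id : V →ₗ[F] V) = N := by
    rw [hTdef]
    exact add_sub_cancel_left _ _
  obtain ⟨R, hR⟩ := exists_dual Q hQ P hli
  have hcn : ∀ i j : Fin k, (Fin.castAdd k i : Fin (k + k)) ≠ Fin.natAdd k j := by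
    intro i j h
    have h' := congrArg Fin.val h
    rw [Fin.val_castAdd, Fin.val_natAdd] at h'
    have := i.2
    omega
  have hnn : ∀ i j : Fin k, (Fin.natAdd k i : Fin (k + k)) = Fin.natAdd k j → i = j := by
    intro i j h
    have h' := congrArg Fin.val h
    rw [Fin.val_natAdd, Fin.val_natAdd] at h'
    exact Fin.ext (by omega)
  have hcc : ∀ i j : Fin k, (Fin.castAdd k i : Fin (k + k)) = Fin.castAdd k j → i = j := by
    intro i j h
    have h' := congrArg Fin.val h
    rw [Fin.val_castAdd, Fin.val_castAdd] at h'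
    exact Fin.ext h'
  have hNR1 : ∀ j : Fin k, N (R (Fin.natAdd k j)) = P (Fin.castAdd k j) := by
    intro j
    rw [hNx, Fin.sum_univ_add]
    simp only [hP'l, hP'r, hR]
    rw [Finset.sum_eq_single j, Finset.sum_eq_zero, add_zero, if_pos rfl, one_smul]
    · intro i _
      rw [if_neg (hcn i j), zero_smul]
    · intro i _ hij
      rw [if_neg (fun h => hij (hnn i j h)), zero_smul]
    · intro h
      exact absurd (Finset.mem_univ j) h
  have hNR2 : ∀ j : Fin k, N (R (Fin.castAdd k j)) = P (Fin.natAdd k j) := by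
    intro j
    rw [hNx, Fin.sum_univ_add]
    simp only [hP'l, hP'r, hR]
    rw [Finset.sum_eq_zero, zero_add, Finset.sum_eq_single j, if_pos rfl, one_smul]
    · intro i _ hij
      rw [if_neg (fun h => hij (hcc i j h)), zero_smul]
    · intro h
      exact absurd (Finset.mem_univ j) h
    · intro i _
      rw [if_neg (fun h => hcn j i h.symm), zero_smul]
  refine ⟨T, fun x => ?_, fun x => ?_, ?_, fun x => ?_⟩
  · rw [hTx, QuadraticMap.map_add Q, hxN, add_zero, hNx, Q_sum_orth Q (k + k) _ P hP]
    simp only [hQP, mul_zero, Finset.sum_const_zero, add_zero]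
  · rw [hTx (T x), hTx x, map_add, hNN, add_zero, add_assoc, vv F, add_zero]
  · rw [hTN]
    have h1 : LinearMap.range N = Submodule.span F (Set.range P) := by
      apply le_antisymm
      · rintro _ ⟨x, rfl⟩
        rw [hNx]
        exact Submodule.sum_mem _ fun i _ =>
          Submodule.smul_mem _ _ (Submodule.subset_span ⟨i, rfl⟩)
      · rw [Submodule.span_le]
        rintro _ ⟨j, rfl⟩
        exact Fin.addCases (motive := fun j => P j ∈ (LinearMap.range N : Set V))
          (fun i => ⟨R (Fin.natAdd k i), hNR1 i⟩) (fun i => ⟨R (Fin.castAdd k i), hNR2 i⟩) j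
    rw [h1, finrank_span_eq_card hli, Fintype.card_fin]
  · rw [hTN, polar_comm]
    exact hxN x

end Char2

end Cfsg.Agent.Lib.Helper5.OrthInv
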