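import Mathlib
import Cfsg.Prelude.Def_Classical
import Cfsg.Agent.S0832
import Cfsg.Agent.Lib.Helper15.WittBound
import Cfsg.Agent.Lib.Helper5.OrthInv

/-!
# Standard tuples for the plus and minus type quadratic forms (characteristic two)
-/

set_option autoImplicit false
set_option linter.unusedSectionVars false
set_option linter.unusedVariables false
set_option linter.unusedSimpArgs false

namespace Cfsg.Agent.Lib.Helper5.OrthStd
open QuadraticMap Cfsg.Agent.S0832.S0832aux Cfsg.Agent.Lib.Helper5.OrthInv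

variable {F : Type*} [Field F]

section Plus
variable (m : ℕ)

/-- orthogonal vectors with `Q = 1` -/
def plusE (F : Type*) [Field F] (m : ℕ) (i : Fin m) : Fin m ⊕ Fin m → F :=
  Pi.single (Sum.inl i) 1 + Pi.single (Sum.inr i) 1

/-- singular vectors spanning a maximal totally singular subspace -/
def plusP (F : Type*) [Field F] (m : ℕ) (i : Fin m) : Fin m ⊕ Fin m → F :=
  Pi.single (Sum.inl i) 1

lemma plusE_Q (i : Fin m) : plusQ F m (plusE F m i) = 1 := by
  classical
  rw [plusQ_apply]
  unfold Cfsg.quadFormPlus plusE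
  rw [Finset.sum_eq_single i]
  · simp
  · intro j _ hj
    simp [hj]
  · intro h
    exact absurd (Finset.mem_univ i) h

lemma plusE_orth [CharP F 2] (i j : Fin m) :
    polar (plusQ F m) (plusE F m i) (plusE F m j) = 0 := by
  classical
  by_cases hij : i = j
  · subst hij
    exact pl_self _ _
  · rw [polar_plusQ]
    apply Finset.sum_eq_zero
    intro l _
    unfold plusE
    by_cases h1 : l = i
    · subst h1
      simp [hij]
    · simp [h1]

lemma plusE_li : LinearIndependent F (plusE F m) := by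
  classical
  rw [Fintype.linearIndependent_iff]
  intro c hc j
  have h := congrFun hc (Sum.inl j)
  simpa [plusE, Finset.sum_apply, Pi.single_apply] using h

lemma plusP_Q (i : Fin m) : plusQ F m (plusP F m i) = 0 := by
  classical
  rw [plusQ_apply]
  unfold Cfsg.quadFormPlus plusP
  apply Finset.sum_eq_zero
  intro j _
  simp

lemma plusP_orth (i j : Fin m) : polar (plusQ F m) (plusP F m i) (plusP F m j) = 0 := by
  classical
  rw [polar_plusQ]
  apply Finset.sum_eq_zero
  intro l _
  unfold plusP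
  simp

lemma plusP_li : LinearIndependent F (plusP F m) := by
  classical
  have h1 := (Pi.basisFun F (Fin m ⊕ Fin m)).linearIndependent.comp
    (fun j : Fin m => (Sum.inl j : Fin m ⊕ Fin m)) Sum.inl_injective
  have h2 : (plusP F m : Fin m → (Fin m ⊕ Fin m → F)) =
      (Pi.basisFun F (Fin m ⊕ Fin m)) ∘ (fun j : Fin m => (Sum.inl j : Fin m ⊕ Fin m)) := by
    funext j
    simp [plusP, Pi.basisFun_apply]
  rw [h2]
  exact h1

lemma plus_ts (U : Submodule F (Fin m ⊕ Fin m → F)) (hU : ∀ u ∈ U, plusQ F m u = 0) :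
    Module.finrank F U ≤ m :=
  Cfsg.Agent.Lib.Helper15.ts_plus_le m U (fun u hu => by rw [← plusQ_apply]; exact hU u hu)

end Plus

section Minus
variable (k : ℕ) (a b : F)

/-- the minus type form as a `QuadraticForm` -/
noncomputable def minusQ (F : Type*) [Field F] (k : ℕ) (a b : F) :
    QuadraticForm F ((Fin k ⊕ Fin k) ⊕ Fin 2 → F) :=
  (∑ i : Fin k, QuadraticMap.proj (Sum.inl (Sum.inl i)) (Sum.inl (Sum.inr i))) +
    (QuadraticMap.proj (Sum.inr 0) (Sum.inr 0) + a • QuadraticMap.proj (Sum.inr 0) (Sum.inr 1) +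
      b • QuadraticMap.proj (Sum.inr 1) (Sum.inr 1))

lemma minusQ_apply (v : (Fin k ⊕ Fin k) ⊕ Fin 2 → F) :
    minusQ F k a b v = Cfsg.quadFormMinus k F a b v := by
  unfold minusQ Cfsg.quadFormMinus
  rw [add_apply, _root_.sum_apply]
  simp only [add_apply, smul_apply, QuadraticMap.proj_apply,
    smul_eq_mul]
  ring

lemma polar_minusQ [CharP F 2] (u v : (Fin k ⊕ Fin k) ⊕ Fin 2 → F) :
    polar (minusQ F k a b) u v =
      ∑ i, (u (Sum.inl (Sum.inl i)) * v (Sum.inl (Sum.inr i)) +
        u (Sum.inl (Sum.inr i)) * v (Sum.inl (Sum.inl i))) +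
      a * (u (Sum.inr 0) * v (Sum.inr 1) + u (Sum.inr 1) * v (Sum.inr 0)) := by
  have h2 : (2 : F) = 0 := CharTwo.two_eq_zero
  simp only [polar, minusQ_apply]
  rw [Cfsg.Agent.Lib.Helper15.polar_quadFormMinus]
  simp only [dotProduct]
  rw [Finset.sum_add_distrib]
  have h3 : ∑ i : Fin k, v (Sum.inl (Sum.inl i)) * u (Sum.inl (Sum.inr i)) =
      ∑ i : Fin k, u (Sum.inl (Sum.inr i)) * v (Sum.inl (Sum.inl i)) :=
    Finset.sum_congr rfl (fun i _ => mul_comm _ _)
  rw [h3]
  linear_combination (u (Sum.inr 0) * v (Sum.inr 0) + b * u (Sum.inr 1) * v (Sum.inr 1)) * h2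

lemma a_ne_zero [Finite F] [CharP F 2]
    (hab : ∀ z₁ z₂ : F, z₁ ^ 2 + a * z₁ * z₂ + b * z₂ ^ 2 = 0 → z₁ = 0 ∧ z₂ = 0) : a ≠ 0 := by
  intro ha
  obtain ⟨ζ, hζ⟩ := FiniteField.isSquare_of_char_two (ringChar.eq F 2) b
  have h1 := hab ζ 1 (by
    rw [ha, hζ]
    have h := CharTwo.add_self_eq_zero (ζ * ζ)
    linear_combination h)
  exact one_ne_zero h1.2

lemma minusQ_nondeg [Finite F] [CharP F 2]
    (hab : ∀ z₁ z₂ : F, z₁ ^ 2 + a * z₁ * z₂ + b * z₂ ^ 2 = 0 → z₁ = 0 ∧ z₂ = 0) :
    (QuadraticMap.polarBilin (minusQ F k a b)).Nondegenerate := by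
  classical
  have ha := a_ne_zero a b hab
  have key : ∀ u : (Fin k ⊕ Fin k) ⊕ Fin 2 → F,
      (∀ v, polar (minusQ F k a b) u v = 0) → u = 0 := by
    intro u hu
    funext j
    rcases j with (j | j) | j
    · have h1 := hu (Pi.single (Sum.inl (Sum.inr j)) 1)
      rw [polar_minusQ] at h1
      simpa [Pi.single_apply, Finset.sum_add_distrib] using h1
    · have h1 := hu (Pi.single (Sum.inl (Sum.inl j)) 1)
      rw [polar_minusQ] at h1
      simpa [Pi.single_apply, Finset.sum_add_distrib] using h1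
    · fin_cases j
      · have h1 := hu (Pi.single (Sum.inr 1) 1)
        rw [polar_minusQ] at h1
        have h3 : a * u (Sum.inr 0) = 0 := by
          simpa [Pi.single_apply] using h1
        rcases mul_eq_zero.mp h3 with h4 | h4
        · exact absurd h4 ha
        · exact h4
      · have h1 := hu (Pi.single (Sum.inr 0) 1)
        rw [polar_minusQ] at h1
        have h3 : a * u (Sum.inr 1) = 0 := by
          simpa [Pi.single_apply] using h1
        rcases mul_eq_zero.mp h3 with h4 | h4
        · exact absurd h4 ha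
        · exact h4
  constructor
  · intro u hu
    exact key u (fun v => by simpa using hu v)
  · intro v hv
    exact key v (fun u => by rw [polar_comm]; simpa using hv u)

/-- orthogonal vectors with `Q = 1` -/
def minusE (F : Type*) [Field F] (k : ℕ) : Fin (k + 1) → ((Fin k ⊕ Fin k) ⊕ Fin 2 → F) :=
  Fin.cons (Pi.single (Sum.inr 0) 1)
    (fun i => Pi.single (Sum.inl (Sum.inl i)) 1 + Pi.single (Sum.inl (Sum.inr i)) 1)

/-- singular vectors -/
def minusP (F : Type*) [Field F] (k : ℕ) (i : Fin k) : (Fin k ⊕ Fin k) ⊕ Fin 2 → F :=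
  Pi.single (Sum.inl (Sum.inl i)) 1

lemma minusE_Q (i : Fin (k + 1)) : minusQ F k a b (minusE F k i) = 1 := by
  classical
  rw [minusQ_apply]
  refine Fin.cases ?_ (fun i => ?_) i
  · unfold minusE Cfsg.quadFormMinus
    rw [Fin.cons_zero]
    simp
  · unfold minusE Cfsg.quadFormMinus
    rw [Fin.cons_succ, Finset.sum_eq_single i]
    · simp
    · intro j _ hj
      simp [hj]
    · intro h
      exact absurd (Finset.mem_univ i) h

lemma minusE_orth [CharP F 2] (i j : Fin (k + 1)) :
    polar (minusQ F k a b) (minusE F k i) (minusE F k j) = 0 := by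
  classical
  by_cases hij : i = j
  · subst hij
    exact pl_self _ _
  · rw [polar_minusQ]
    revert hij
    refine Fin.cases ?_ (fun i' => ?_) i <;> refine Fin.cases ?_ (fun j' => ?_) j
    · intro _
      unfold minusE
      simp
    · intro _
      unfold minusE
      simp
    · intro _
      unfold minusE
      simp
    · intro hij
      have hij' : i' ≠ j' := fun h => hij (by rw [h])
      unfold minusE
      rw [Fin.cons_succ, Fin.cons_succ]
      have h0 : (∑ l : Fin k,
          ((Pi.single (Sum.inl (Sum.inl i')) (1 : F) + Pi.single (Sum.inl (Sum.inr i')) 1 :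
            (Fin k ⊕ Fin k) ⊕ Fin 2 → F) (Sum.inl (Sum.inl l)) *
           (Pi.single (Sum.inl (Sum.inl j')) (1 : F) + Pi.single (Sum.inl (Sum.inr j')) 1 :
            (Fin k ⊕ Fin k) ⊕ Fin 2 → F) (Sum.inl (Sum.inr l)) +
           (Pi.single (Sum.inl (Sum.inl i')) (1 : F) + Pi.single (Sum.inl (Sum.inr i')) 1 :
            (Fin k ⊕ Fin k) ⊕ Fin 2 → F) (Sum.inl (Sum.inr l)) *
           (Pi.single (Sum.inl (Sum.inl j')) (1 : F) + Pi.single (Sum.inl (Sum.inr j')) 1 :
            (Fin k ⊕ Fin k) ⊕ Fin 2 → F) (Sum.inl (Sum.inl l)))) = 0 := by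
        apply Finset.sum_eq_zero
        intro l _
        by_cases h1 : l = i'
        · subst h1
          simp [hij']
        · simp [h1]
      rw [h0]
      simp

lemma minusE_li : LinearIndependent F (minusE F k) := by
  classical
  rw [Fintype.linearIndependent_iff]
  intro c hc
  rw [Fin.sum_univ_succ] at hc
  unfold minusE at hc
  simp only [Fin.cons_zero, Fin.cons_succ] at hc
  refine Fin.cases ?_ (fun j => ?_)
  · have h := congrFun hc (Sum.inr 0)
    simpa [Finset.sum_apply, Pi.single_apply] using h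
  · have h := congrFun hc (Sum.inl (Sum.inl j))
    simpa [Finset.sum_apply, Pi.single_apply] using h

lemma minusP_Q (i : Fin k) : minusQ F k a b (minusP F k i) = 0 := by
  classical
  rw [minusQ_apply]
  unfold Cfsg.quadFormMinus minusP
  rw [Finset.sum_eq_zero (fun j _ => by simp)]
  simp

lemma minusP_orth [CharP F 2] (i j : Fin k) :
    polar (minusQ F k a b) (minusP F k i) (minusP F k j) = 0 := by
  classical
  rw [polar_minusQ]
  unfold minusP
  rw [Finset.sum_eq_zero (fun l _ => by simp)]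
  simp

lemma minusP_li : LinearIndependent F (minusP F k) := by
  classical
  have h1 := (Pi.basisFun F ((Fin k ⊕ Fin k) ⊕ Fin 2)).linearIndependent.comp
    (fun j : Fin k => (Sum.inl (Sum.inl j) : (Fin k ⊕ Fin k) ⊕ Fin 2))
    (fun x y h => Sum.inl_injective (Sum.inl_injective h))
  have h2 : (minusP F k : Fin k → ((Fin k ⊕ Fin k) ⊕ Fin 2 → F)) =
      (Pi.basisFun F ((Fin k ⊕ Fin k) ⊕ Fin 2)) ∘
        (fun j : Fin k => (Sum.inl (Sum.inl j) : (Fin k ⊕ Fin k) ⊕ Fin 2)) := by
    funext j
    simp [minusP, Pi.basisFun_apply]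
  rw [h2]
  exact h1

lemma minus_ts
    (hab : ∀ z₁ z₂ : F, z₁ ^ 2 + a * z₁ * z₂ + b * z₂ ^ 2 = 0 → z₁ = 0 ∧ z₂ = 0)
    (U : Submodule F ((Fin k ⊕ Fin k) ⊕ Fin 2 → F))
    (hU : ∀ u ∈ U, minusQ F k a b u = 0) : Module.finrank F U ≤ k :=
  Cfsg.Agent.Lib.Helper15.ts_minus_le k a b hab U
    (fun u hu => by rw [← minusQ_apply]; exact hU u hu)

end Minus

end Cfsg.Agent.Lib.Helper5.OrthStd
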