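import Mathlib
import Cfsg.Agent.Lib.Helper5.CDGen
import Cfsg.Agent.Lib.Helper5.OrthStd

/-!
# Minus type orthogonal groups in characteristic two: no exceptions

The "middle vector" property holds for the minus type form in every dimension over every finite field of
characteristic two (including `O⁻₄(2)`), hence `Ω` is described by the parity of `rank (t - 1)` and
no class of involutions of `O` inside `Ω` splits.
-/

set_option autoImplicit false
set_option linter.unusedSectionVars false
set_option linter.unusedVariables false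
set_option linter.unusedSimpArgs false

namespace Cfsg.Agent.Lib.Helper5.MinusMid

open Module QuadraticMap Matrix Cfsg.Agent.Lib.Helper25 Cfsg.Agent.Lib.Helper25.CD
  Cfsg.Agent.Lib.Helper25.Spin Cfsg.Agent.Lib.Helper5.DicksonRank
  Cfsg.Agent.Lib.Helper5.OmegaInvSplit Cfsg.Agent.Lib.Helper5.CDGen
  Cfsg.Agent.Lib.Helper5.OrthStd

variable {F : Type*} [Field F] [Fintype F] [CharP F 2] (k : ℕ) (a b : F)

/-- over the field of two elements, in the four-dimensional minus type space, the middle vector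
exists: otherwise there would be a totally singular plane -/
theorem hasMid_minus_small
    (hab : ∀ z₁ z₂ : F, z₁ ^ 2 + a * z₁ * z₂ + b * z₂ ^ 2 = 0 → z₁ = 0 ∧ z₂ = 0)
    (hF : Fintype.card F = 2) (hk : k = 1) : HasMid (minusQ F k a b) := by
  intro u u' hu h hne hp
  have hQ := minusQ_nondeg k a b hab
  have h01 : ∀ x : F, x = 0 ∨ x = 1 := card_two_cases hF
  have hone : ∀ x : F, x ≠ 0 → x = 1 := fun x hx => (h01 x).resolve_left hx
  have h11 : (1 : F) + 1 = 0 := CharTwo.add_self_eq_zero 1
  have hu0 : u ≠ 0 := by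
    rintro rfl
    exact hu (QuadraticMap.map_zero _)
  have hu'0 : u' ≠ 0 := by
    rintro rfl
    rw [QuadraticMap.map_zero] at h
    exact hu h.symm
  have hfun : ∀ z : (Fin k ⊕ Fin k) ⊕ Fin 2 → F, z ≠ 0 →
      ∃ c ∈ (⊤ : Submodule F ((Fin k ⊕ Fin k) ⊕ Fin 2 → F)),
        polarBilin (minusQ F k a b) z c ≠ 0 := by
    intro z hz
    by_contra hcon
    push Not at hcon
    exact hz (hQ.1 z (fun y => hcon y trivial))
  obtain ⟨w0, -, hw0u, hw0u'⟩ := two_functionals ⊤ (polarBilin (minusQ F k a b) u)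
    (polarBilin (minusQ F k a b) u') (hfun u hu0) (hfun u' hu'0)
  rw [polarBilin_apply_apply] at hw0u hw0u'
  have hQu : minusQ F k a b u = 1 := hone _ hu
  by_cases hw0 : minusQ F k a b w0 = 0
  · exfalso
    -- the plane spanned by `w0` and `u + u'` is totally singular
    obtain ⟨s, hs⟩ : ∃ s, s = u + u' := ⟨_, rfl⟩
    have hQs : minusQ F k a b s = 0 := by
      rw [hs, Q_add, h, hQu, hp, add_zero, h11]
    have hws : polar (minusQ F k a b) w0 s = 0 := by
      rw [hs, polar_add_right, polar_comm _ w0 u, polar_comm _ w0 u', hone _ hw0u,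
        hone _ hw0u', h11]
    have hus : polar (minusQ F k a b) u s = 0 := by
      rw [hs, polar_add_right, hp, add_zero]
      exact Cfsg.Agent.Lib.Helper5.OrthInv.pl_self _ u
    have hli : LinearIndependent F ![w0, s] := by
      rw [LinearIndependent.pair_iff]
      intro c d hcd
      have h1 := congrArg (fun x => polar (minusQ F k a b) u x) hcd
      simp only [polar_add_right, polar_smul_right, hus, smul_eq_mul, mul_zero, add_zero] at h1
      have hc : c = 0 := by
        have h2 : polar (minusQ F k a b) u 0 = 0 := by simp [polar]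
        rw [h2] at h1
        exact (mul_eq_zero.mp h1).resolve_right hw0u
      rw [hc, zero_smul, zero_add] at hcd
      refine ⟨hc, ?_⟩
      rcases smul_eq_zero.mp hcd with hd | hs0
      · exact hd
      · exfalso
        apply hne
        have : u + u' = 0 := by rw [← hs]; exact hs0
        have h3 : u' = -u := (neg_eq_of_add_eq_zero_right this).symm
        rw [h3]
        ext i
        simp only [Pi.neg_apply]
        exact CharTwo.neg_eq (u i)
    have hfin := finrank_span_eq_card hli
    rw [Fintype.card_fin] at hfin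
    have hts : ∀ x ∈ Submodule.span F (Set.range ![w0, s]), minusQ F k a b x = 0 := by
      intro x hx
      obtain ⟨c, rfl⟩ := (Submodule.mem_span_range_iff_exists_fun F).mp hx
      rw [Fin.sum_univ_two]
      simp only [Matrix.cons_val_zero, Matrix.cons_val_one]
      rw [Q_add, QuadraticMap.map_smul, QuadraticMap.map_smul, hw0, hQs, polar_smul_left,
        polar_smul_right, hws]
      simp
    have := minus_ts k a b hab _ hts
    omega
  · exact ⟨w0, (hone _ hw0).trans hQu.symm, hw0u, hw0u'⟩

theorem hasMid_minus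
    (hab : ∀ z₁ z₂ : F, z₁ ^ 2 + a * z₁ * z₂ + b * z₂ ^ 2 = 0 → z₁ = 0 ∧ z₂ = 0) :
    HasMid (minusQ F k a b) := by
  by_cases hex : Fintype.card F ≠ 2 ∨ finrank F ((Fin k ⊕ Fin k) ⊕ Fin 2 → F) ≠ 4
  · exact hasMid_of_hex _ (minusQ_nondeg k a b hab) hex
  · push Not at hex
    obtain ⟨hF, hdim⟩ := hex
    rw [Module.finrank_fintype_fun_eq_card] at hdim
    simp only [Fintype.card_sum, Fintype.card_fin] at hdim
    exact hasMid_minus_small k a b hab hF (by omega)

/-- `Ω⁻` in characteristic two, all cases -/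
theorem minus_mem_omega_iff_even_rank
    (hab : ∀ z₁ z₂ : F, z₁ ^ 2 + a * z₁ * z₂ + b * z₂ ^ 2 = 0 → z₁ = 0 ∧ z₂ = 0)
    (q : ((Fin k ⊕ Fin k) ⊕ Fin 2 → F) → F) (hq : ⇑(minusQ F k a b) = q)
    (t : ↥(Cfsg.isometryGroup F q)) :
    t ∈ Cfsg.Omega F q ↔
      Even ((((t : ↥(Cfsg.isometryGroup F q)) : GL ((Fin k ⊕ Fin k) ⊕ Fin 2) F) :
        Matrix ((Fin k ⊕ Fin k) ⊕ Fin 2) ((Fin k ⊕ Fin k) ⊕ Fin 2) F) - 1).rank :=
  mem_omega_iff_even_rank' _ (minusQ_nondeg k a b hab) (hasMid_minus k a b hab) q hq t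

/-- no class of involutions splits in `Ω⁻`, all cases -/
theorem minus_conj_in_omega
    (hab : ∀ z₁ z₂ : F, z₁ ^ 2 + a * z₁ * z₂ + b * z₂ ^ 2 = 0 → z₁ = 0 ∧ z₂ = 0)
    (t s : ↥(Cfsg.isometryGroup F ⇑(minusQ F k a b))) (ht : orderOf t = 2) (hconj : IsConj t s) :
    ∃ g ∈ Cfsg.Omega F ⇑(minusQ F k a b), g * t * g⁻¹ = s := by
  have htt : t * t = 1 := by
    have := pow_orderOf_eq_one t
    rwa [ht, _root_.sq] at this
  apply conj_in_omega_of_fix_nonsing' _ (minusQ_nondeg k a b hab) (hasMid_minus k a b hab) t s hconj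
  apply exists_fix_nonsing _ htt k (fun U hU => minus_ts k a b hab U hU)
  simp only [Fintype.card_sum, Fintype.card_fin]
  omega

end Cfsg.Agent.Lib.Helper5.MinusMid
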