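/-
helper5: shared vocabulary for S4581 (solvable `G`, `P ∈ Syl_2(G)`, `N = N_G(P)`:
`#{real odd-degree Irr(G)} = #{real odd-degree Irr(N)}`, and all odd-degree irreducible characters
are real iff `P' = Φ(P)` and `N = P`).
-/
import Mathlib
import Cfsg.Prelude.Def_Blocks
import Cfsg.Agent.Lib.Helper6.Clifford

set_option autoImplicit false

namespace Cfsg.Agent.Lib.Helper5.RO

open Cfsg Cfsg.Agent.Lib.Helper6

universe u

/-- the number of real-valued irreducible characters of odd degree (shape of the frozen statement) -/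
noncomputable def rcount (X : Type u) [Group X] : ℕ :=
  Nat.card {χ : IrrCharacter X //
    (∀ g : X, ((χ : X → ℂ) g).im = 0) ∧ Odd (charDegree (χ : X → ℂ))}

/-- the number of real-valued irreducible characters of odd degree with the set `S` in the kernel -/
noncomputable def rcountKer (X : Type u) [Group X] (S : Set X) : ℕ :=
  Nat.card {χ : IrrCharacter X //
    ((∀ g : X, ((χ : X → ℂ) g).im = 0) ∧ Odd (charDegree (χ : X → ℂ))) ∧
      ∀ s ∈ S, (χ : X → ℂ) s = (χ : X → ℂ) 1}

/-- the number of real-valued irreducible characters `ψ` of odd degree whose restriction along `ι`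
is `ψ 1 • lam` (for an invariant linear `lam`: the characters lying over `lam`) -/
noncomputable def cntOver (X : Type u) [Group X] {W : Type u} [Group W] (ι : W →* X)
    (lam : W → ℂ) : ℕ :=
  Nat.card {ψ : IrrCharacter X //
    ((∀ g : X, ((ψ : X → ℂ) g).im = 0) ∧ Odd (charDegree (ψ : X → ℂ))) ∧
      ∀ w : W, (ψ : X → ℂ) (ι w) = (ψ : X → ℂ) 1 * lam w}

/-- the number of real-valued irreducible characters of odd degree having `lam` as a constituent of
the restriction to the subgroup `V` -/
noncomputable def cntUnder (X : Type u) [Group X] [Finite X] (V : Subgroup X) (lam : V → ℂ) : ℕ :=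
  haveI := Fintype.ofFinite V
  Nat.card {χ : IrrCharacter X //
    ((∀ g : X, ((χ : X → ℂ) g).im = 0) ∧ Odd (charDegree (χ : X → ℂ))) ∧
      classInner (fun v : V => (χ : X → ℂ) v) lam ≠ 0}

/-- every irreducible character of odd degree is real-valued -/
def AllOddReal (X : Type u) [Group X] : Prop :=
  ∀ χ : IrrCharacter X, Odd (charDegree (χ : X → ℂ)) → ∀ g : X, ((χ : X → ℂ) g).im = 0

/-- squares of elements of `P` lie in the derived subgroup of `P` (shape of the done row S4582) -/
def SqComm {X : Type u} [Group X] (P : Subgroup X) : Prop :=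
  ∀ x ∈ P, x ^ 2 ∈ ⁅P, P⁆

/-- the first claim for the group `X`, for all Sylow 2-subgroups -/
def P1 (X : Type u) [Group X] : Prop :=
  ∀ Q : Sylow 2 X, rcount X = rcount ↥(Subgroup.normalizer ((Q : Subgroup X) : Set X))

/-- every Sylow 2-subgroup is self-normalizing -/
def SelfNorm (X : Type u) [Group X] : Prop :=
  ∀ Q : Sylow 2 X, Subgroup.normalizer ((Q : Subgroup X) : Set X) = (Q : Subgroup X)

/-- `P/P'` is elementary abelian for every Sylow 2-subgroup -/
def AllSqComm (X : Type u) [Group X] : Prop :=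
  ∀ Q : Sylow 2 X, SqComm (Q : Subgroup X)

/-- the converse direction of the second claim for the group `X` -/
def T2 (X : Type u) [Group X] : Prop :=
  ∀ Q : Sylow 2 X, SqComm (Q : Subgroup X) →
    Subgroup.normalizer ((Q : Subgroup X) : Set X) = (Q : Subgroup X) → AllOddReal X

/-- the subgroup generated by the squares of the elements of `Q` -/
def sqSub {X : Type u} [Group X] (Q : Subgroup X) : Subgroup X :=
  Subgroup.closure {y : X | ∃ x ∈ Q, y = x ^ 2}

theorem sq_mem_sqSub {X : Type u} [Group X] (Q : Subgroup X) {x : X} (hx : x ∈ Q) :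
    x ^ 2 ∈ sqSub Q :=
  Subgroup.subset_closure ⟨x, hx, rfl⟩

theorem sqSub_le {X : Type u} [Group X] (Q : Subgroup X) : sqSub Q ≤ Q := by
  unfold sqSub
  rw [Subgroup.closure_le]
  rintro y ⟨x, hx, rfl⟩
  exact Q.pow_mem hx 2

instance sqSub_normal {X : Type u} [Group X] (Q : Subgroup X) [hQ : Q.Normal] :
    (sqSub Q).Normal := by
  constructor
  intro n hn g
  unfold sqSub at hn ⊢
  induction hn using Subgroup.closure_induction with
  | mem y hy =>
    obtain ⟨x, hx, rfl⟩ := hy
    refine Subgroup.subset_closure ⟨g * x * g⁻¹, hQ.conj_mem x hx g, ?_⟩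
    rw [conj_pow]
  | one => simp
  | mul x y _ _ hx hy =>
    have : g * (x * y) * g⁻¹ = (g * x * g⁻¹) * (g * y * g⁻¹) := by group
    rw [this]
    exact Subgroup.mul_mem _ hx hy
  | inv x _ hx =>
    have : g * x⁻¹ * g⁻¹ = (g * x * g⁻¹)⁻¹ := by group
    rw [this]
    exact Subgroup.inv_mem _ hx

theorem sqSub_eq_bot_iff {X : Type u} [Group X] (Q : Subgroup X) :
    sqSub Q = ⊥ ↔ ∀ x ∈ Q, x ^ 2 = 1 := by
  constructor
  · intro h x hx
    have := sq_mem_sqSub Q hx
    rw [h, Subgroup.mem_bot] at this
    exact this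
  · intro h
    unfold sqSub
    rw [Subgroup.closure_eq_bot_iff]
    rintro y ⟨x, hx, rfl⟩
    exact h x hx

end Cfsg.Agent.Lib.Helper5.RO
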