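import Mathlib
import Cfsg.Agent.Lib.Helper14.Unitary3

set_option autoImplicit false
set_option linter.unusedSectionVars false

namespace Cfsg.Agent.Lib.Helper5.GUCenter

open Finset Cfsg.Agent.Lib.Helper14

variable {F : Type*} [Field F] [Fintype F] [DecidableEq F] {q n : ℕ}

theorem comm_offdiag (hF : Fintype.card F = q ^ 2) (Z : Matrix (Fin n) (Fin n) F)
    (hZ : ∀ M : Matrix (Fin n) (Fin n) F, M.det = 1 → IsUni F q n M → M * Z = Z * M)
    (i j : Fin n) (hij : i ≠ j) : Z i j = 0 := by
  obtain ⟨l, hl1, hl2⟩ := exists_normOne_sq_ne_one hF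
  have hl0 : l ≠ 0 := by
    rintro rfl
    rw [zero_mul] at hl1
    exact zero_ne_one hl1
  have hlinv : l⁻¹ * l⁻¹ ^ q = 1 := by
    rw [inv_pow, ← mul_inv, hl1, inv_one]
  let d : Fin n → F := fun k => (if k = i then l else 1) * (if k = j then l⁻¹ else 1)
  have hd : ∀ k, d k * d k ^ q = 1 := by
    intro k
    simp only [d]
    rw [mul_pow]
    have h1 : (if k = i then l else 1) * (if k = i then l else 1) ^ q = 1 := by
      split_ifs
      · exact hl1
      · simp
    have h2 : (if k = j then l⁻¹ else 1) * (if k = j then l⁻¹ else 1) ^ q = 1 := by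
      split_ifs
      · exact hlinv
      · simp
    calc _ = ((if k = i then l else 1) * (if k = i then l else 1) ^ q) *
        ((if k = j then l⁻¹ else 1) * (if k = j then l⁻¹ else 1) ^ q) := by ring
      _ = 1 := by rw [h1, h2, one_mul]
  have hdet : (Matrix.diagonal d).det = 1 := by
    rw [Matrix.det_diagonal]
    simp only [d]
    rw [Finset.prod_mul_distrib, Finset.prod_ite_eq' univ i, Finset.prod_ite_eq' univ j]
    simp only [mem_univ, if_true]
    exact mul_inv_cancel₀ hl0
  have hcomm := hZ (Matrix.diagonal d) hdet (isUni_diagonal d hd)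
  have h1 := congrFun (congrFun hcomm i) j
  rw [Matrix.diagonal_mul, Matrix.mul_diagonal] at h1
  have hdi : d i = l := by
    simp only [d, if_neg hij, mul_one, if_true]
  have hdj : d j = l⁻¹ := by
    simp only [d, if_neg (Ne.symm hij), one_mul, if_true]
  rw [hdi, hdj] at h1
  have h2 : (l * l - 1) * Z i j = 0 := by
    have : l * (l * Z i j) = Z i j := by
      rw [h1]
      field_simp
    linear_combination this
  rcases mul_eq_zero.mp h2 with h | h
  · exact absurd (sub_eq_zero.mp h) hl2
  · exact h

theorem comm_diag_eq (hF : Fintype.card F = q ^ 2) (Z : Matrix (Fin n) (Fin n) F)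
    (hZ : ∀ M : Matrix (Fin n) (Fin n) F, M.det = 1 → IsUni F q n M → M * Z = Z * M)
    (i j : Fin n) (hij : i ≠ j) : Z i i = Z j j := by
  let d : Fin n → F := fun k => if k = j then -1 else 1
  have hneg : (-1 : F) * (-1) ^ q = 1 := by
    rw [herm_neg_pow hF, one_pow]; ring
  have hd : ∀ k, d k * d k ^ q = 1 := by
    intro k
    simp only [d]
    split_ifs
    · exact hneg
    · simp
  let S : Matrix (Fin n) (Fin n) F := (Equiv.swap i j).permMatrix F * Matrix.diagonal d
  have hS : IsUni F q n S := (isUni_permMatrix _).mul (isUni_diagonal d hd)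
  have hdet : S.det = 1 := by
    simp only [S]
    rw [Matrix.det_mul, Matrix.det_permutation, Equiv.Perm.sign_swap hij, Matrix.det_diagonal]
    simp only [d]
    rw [Finset.prod_ite_eq' univ j]
    simp
  have hcomm := hZ S hdet hS
  have h1 := congrFun (congrFun hcomm j) i
  rw [Matrix.mul_apply, Matrix.mul_apply] at h1
  have hSji : S j i = 1 := by
    simp only [S]
    rw [Matrix.mul_diagonal]
    simp only [d, if_neg hij, mul_one]
    simp [Equiv.Perm.permMatrix, PEquiv.toMatrix_apply, Equiv.toPEquiv_apply]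
  rw [Finset.sum_eq_single i, Finset.sum_eq_single j] at h1
  · rw [hSji, one_mul, mul_one] at h1
    exact h1
  · intro k _ hk
    rw [comm_offdiag hF Z hZ j k (Ne.symm hk), zero_mul]
  · intro h; exact absurd (mem_univ _) h
  · intro k _ hk
    rw [comm_offdiag hF Z hZ k i hk, mul_zero]
  · intro h; exact absurd (mem_univ _) h

theorem comm_scalar (hF : Fintype.card F = q ^ 2) {m : ℕ} (Z : Matrix (Fin (m + 2)) (Fin (m + 2)) F)
    (hZ : ∀ M : Matrix (Fin (m + 2)) (Fin (m + 2)) F, M.det = 1 → IsUni F q (m + 2) M →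
      M * Z = Z * M) :
    Z = Matrix.diagonal (fun _ => Z 0 0) := by
  ext a b
  by_cases hab : a = b
  · subst hab
    rw [Matrix.diagonal_apply_eq]
    by_cases ha : a = 0
    · rw [ha]
    · exact comm_diag_eq hF Z hZ a 0 ha
  · rw [Matrix.diagonal_apply_ne _ hab]
    exact comm_offdiag hF Z hZ a b hab

/-- a unitary scalar matrix `c • 1` has `c * c^q = 1` -/
theorem scalar_norm (hF : Fintype.card F = q ^ 2) {m : ℕ} (c : F)
    (hU : IsUni F q (m + 2) (Matrix.diagonal (fun _ => c))) : c * c ^ q = 1 := by
  have := hU (Pi.single 0 1) (Pi.single 0 1)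
  rw [hermForm_single hF, if_pos rfl, Matrix.mulVec_single_one] at this
  unfold Cfsg.hermForm at this
  rw [Finset.sum_eq_single 0] at this
  · simpa using this
  · intro k _ hk
    simp [Matrix.diagonal_apply_ne _ hk]
  · intro h; exact absurd (mem_univ _) h

end Cfsg.Agent.Lib.Helper5.GUCenter
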