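import Mathlib
import Cfsg.Prelude.Def_ClassicalGeometry
import Cfsg.Agent.Lib.Helper5.SympTrans

/-!
The block argument for primitivity of the symplectic group on points, at the level of vectors.
-/

set_option autoImplicit false

namespace Cfsg.Agent.Lib.Helper5

open Matrix

variable {F : Type*} [Field F] {m : ℕ}

/-- Two independent vectors are separated by the symplectic form. -/
theorem exists_sympForm_ne_zero_eq_zero (v w : Fin m ⊕ Fin m → F) (hv : v ≠ 0) (hw : w ≠ 0)
    (hind : ∀ c : F, w ≠ c • v) :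
    ∃ a, Cfsg.sympForm m F v a ≠ 0 ∧ Cfsg.sympForm m F w a = 0 := by
  by_contra hcon
  push Not at hcon
  obtain ⟨a₀, ha₀⟩ := sympForm_nondeg w hw
  set a₁ := (Cfsg.sympForm m F w a₀)⁻¹ • a₀ with ha₁
  have hwa₁ : Cfsg.sympForm m F w a₁ = 1 := by
    rw [ha₁, sympForm_smul_right, inv_mul_cancel₀ ha₀]
  set c := Cfsg.sympForm m F v a₁ with hc
  have hall : ∀ x, Cfsg.sympForm m F (v - c • w) x = 0 := by
    intro x
    have h1 : Cfsg.sympForm m F w (x - Cfsg.sympForm m F w x • a₁) = 0 := by
      rw [sympForm_sub_right, sympForm_smul_right, hwa₁, mul_one, sub_self]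
    have h2 : Cfsg.sympForm m F v (x - Cfsg.sympForm m F w x • a₁) = 0 := by
      by_contra h
      exact h (by
        have := hcon (x - Cfsg.sympForm m F w x • a₁)
        by_contra h'
        exact this h' h1)
    rw [sympForm_sub_right, sympForm_smul_right, ← hc] at h2
    rw [sympForm_sub_left, sympForm_smul_left]
    rw [sub_eq_zero] at h2 ⊢
    rw [h2]; ring
  have hvc : v - c • w = 0 := by
    by_contra h
    obtain ⟨a, ha⟩ := sympForm_nondeg _ h
    exact ha (hall a)
  have hvc' : v = c • w := sub_eq_zero.1 hvc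
  have hc0 : c ≠ 0 := by
    intro h0
    apply hv
    rw [hvc', h0, zero_smul]
  apply hind c⁻¹
  rw [hvc', smul_smul, inv_mul_cancel₀ hc0, one_smul]

/-- The block argument: a non-trivial "block of vectors" stable under symplectic maps fixing
one of its members contains every non-zero vector. -/
theorem symp_block_all (P : (Fin m ⊕ Fin m → F) → Prop)
    (hscale : ∀ (v : Fin m ⊕ Fin m → F) (c : F), c ≠ 0 → P v → P (c • v))
    (hfix : ∀ (A : Matrix.symplecticGroup (Fin m) F) (v w : Fin m ⊕ Fin m → F),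
      (A : Matrix (Fin m ⊕ Fin m) (Fin m ⊕ Fin m) F) *ᵥ v = v → P v → P w →
        P ((A : Matrix (Fin m ⊕ Fin m) (Fin m ⊕ Fin m) F) *ᵥ w))
    (v w : Fin m ⊕ Fin m → F) (hPv : P v) (hPw : P w) (hv : v ≠ 0) (hw : w ≠ 0)
    (hind : ∀ c : F, w ≠ c • v) : ∀ x : Fin m ⊕ Fin m → F, x ≠ 0 → P x := by
  -- Step A
  have stepA : ∀ v w : Fin m ⊕ Fin m → F, P v → P w → Cfsg.sympForm m F v w ≠ 0 →
      ∀ x, Cfsg.sympForm m F v x ≠ 0 → P x := by
    intro v w hPv hPw hvw x hvx
    have h1 : Cfsg.sympForm m F v ((Cfsg.sympForm m F v w)⁻¹ • w) = 1 := by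
      rw [sympForm_smul_right, inv_mul_cancel₀ hvw]
    have h2 : Cfsg.sympForm m F v ((Cfsg.sympForm m F v x)⁻¹ • x) = 1 := by
      rw [sympForm_smul_right, inv_mul_cancel₀ hvx]
    obtain ⟨B, -, hBv, hBw⟩ := transv_trans2 v _ _ h1 h2
    have h3 := hfix B v _ hBv hPv (hscale w _ (inv_ne_zero hvw) hPw)
    rw [hBw] at h3
    have h4 := hscale _ _ hvx h3
    rwa [smul_smul, mul_inv_cancel₀ hvx, one_smul] at h4
  -- Step A'
  have stepA' : ∀ v w : Fin m ⊕ Fin m → F, P v → P w → Cfsg.sympForm m F v w ≠ 0 →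
      ∀ x, x ≠ 0 → P x := by
    intro v w hPv hPw hvw x hx
    by_cases hvx : Cfsg.sympForm m F v x ≠ 0
    · exact stepA v w hPv hPw hvw x hvx
    · rw [not_not] at hvx
      have hv0 : v ≠ 0 := by
        rintro rfl
        exact hvw (sympForm_zero_left w)
      -- find y with f v y ≠ 0 and f x y ≠ 0
      obtain ⟨y, hy1, hy2⟩ : ∃ y, Cfsg.sympForm m F v y ≠ 0 ∧ Cfsg.sympForm m F x y ≠ 0 := by
        obtain ⟨a, ha⟩ := sympForm_nondeg v hv0
        obtain ⟨b, hb⟩ := sympForm_nondeg x hx
        by_cases h1 : Cfsg.sympForm m F x a ≠ 0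
        · exact ⟨a, ha, h1⟩
        · rw [not_not] at h1
          by_cases h2 : Cfsg.sympForm m F v b ≠ 0
          · exact ⟨b, h2, hb⟩
          · rw [not_not] at h2
            refine ⟨a + b, ?_, ?_⟩
            · rw [sympForm_add_right, h2, add_zero]; exact ha
            · rw [sympForm_add_right, h1, zero_add]; exact hb
      have hPy : P y := stepA v w hPv hPw hvw y hy1
      have hyv : Cfsg.sympForm m F y v ≠ 0 := by
        rw [sympForm_swap]; exact neg_ne_zero.2 hy1
      have hyx : Cfsg.sympForm m F y x ≠ 0 := by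
        rw [sympForm_swap]; exact neg_ne_zero.2 hy2
      exact stepA y v hPy hPv hyv x hyx
  by_cases hvw : Cfsg.sympForm m F v w ≠ 0
  · exact stepA' v w hPv hPw hvw
  · rw [not_not] at hvw
    have hind' : ∀ c : F, v ≠ c • w := by
      intro c hc
      have hc0 : c ≠ 0 := by
        intro h0
        apply hv
        rw [hc, h0, zero_smul]
      apply hind c⁻¹
      rw [hc, smul_smul, inv_mul_cancel₀ hc0, one_smul]
    obtain ⟨a₀, ha1, ha2⟩ := exists_sympForm_ne_zero_eq_zero v w hv hw hind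
    obtain ⟨b, hb1, hb2⟩ := exists_sympForm_ne_zero_eq_zero w v hw hv hind'
    -- adjust a so that f a b ≠ 0
    obtain ⟨a, ha1, ha2, hab⟩ : ∃ a, Cfsg.sympForm m F v a ≠ 0 ∧ Cfsg.sympForm m F w a = 0 ∧
        Cfsg.sympForm m F a b ≠ 0 := by
      by_cases h : Cfsg.sympForm m F a₀ b ≠ 0
      · exact ⟨a₀, ha1, ha2, h⟩
      · rw [not_not] at h
        refine ⟨a₀ + w, ?_, ?_, ?_⟩
        · rw [sympForm_add_right, hvw, add_zero]; exact ha1
        · rw [sympForm_add_right, ha2, sympForm_self, add_zero]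
        · rw [sympForm_add_left, h, zero_add]; exact hb1
    -- transvection with centre b fixes v and maps w to w + b
    have hPwb : P (w + b) := by
      have hmem := sympTransvection_mem m b (Cfsg.sympForm m F w b)⁻¹
      have h1 := hfix ⟨_, hmem⟩ v w (by
        change Cfsg.sympTransvection m b (Cfsg.sympForm m F w b)⁻¹ *ᵥ v = v
        rw [sympTransvection_mulVec, hb2, mul_zero, zero_smul, add_zero]) hPv hPw
      change P (Cfsg.sympTransvection m b (Cfsg.sympForm m F w b)⁻¹ *ᵥ w) at h1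
      rwa [sympTransvection_mulVec, inv_mul_cancel₀ hb1, one_smul] at h1
    have hPva : P (v + a) := by
      have hmem := sympTransvection_mem m a (Cfsg.sympForm m F v a)⁻¹
      have h1 := hfix ⟨_, hmem⟩ w v (by
        change Cfsg.sympTransvection m a (Cfsg.sympForm m F v a)⁻¹ *ᵥ w = w
        rw [sympTransvection_mulVec, ha2, mul_zero, zero_smul, add_zero]) hPw hPv
      change P (Cfsg.sympTransvection m a (Cfsg.sympForm m F v a)⁻¹ *ᵥ v) at h1
      rwa [sympTransvection_mulVec, inv_mul_cancel₀ ha1, one_smul] at h1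
    have hne : Cfsg.sympForm m F (v + a) (w + b) ≠ 0 := by
      rw [sympForm_add_left, sympForm_add_right, sympForm_add_right, hvw, hb2,
        sympForm_swap m a w, ha2, neg_zero, zero_add, zero_add, zero_add]
      exact hab
    exact stepA' _ _ hPva hPwb hne

end Cfsg.Agent.Lib.Helper5
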