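import Mathlib
import Cfsg.Agent.Lib.Helper5.SUGen
import Cfsg.Agent.Lib.Helper14.PSpSimple
import Cfsg.Agent.S0781

/-!
Simplicity of `PSU_n(q)` (`n ≥ 3`, `(n, q) ≠ (3, 2)`) by Iwasawa's criterion: `SU_n(q)` is perfect
(`commutator_SU_eq_top`), acts primitively on the isotropic points (`isoPts`, `isPreprimitive_su`, via the block
argument `su_block_all` and the Eichler elements `exists_partner_map`), the root subgroups `rootSub` form an
Iwasawa structure (`iwasawa`), and the kernel of the action is the centre (`mem_center_of_fixes`).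
-/

set_option autoImplicit false
set_option linter.unusedSectionVars false
set_option linter.unusedVariables false
set_option linter.unusedSimpArgs false

open scoped LinearAlgebra.Projectivization

namespace Cfsg.Agent.Lib.Helper5.PSUSimple
open Cfsg Matrix Cfsg.Agent.Lib.Helper14 Cfsg.Agent.Lib.Helper5.SpMax
  Cfsg.Agent.Lib.Helper5.UForm Cfsg.Agent.Lib.Helper5.UEichler Cfsg.Agent.Lib.Helper5.HermBridge
  Cfsg.Agent.Lib.Helper5.SUGen

variable {F : Type*} [Field F] [Fintype F] {q n : ℕ}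

/-- `SU_n(q)` is perfect -/
theorem commutator_SU_eq_top (hF : Fintype.card F = q ^ 2) (hn : 3 ≤ n)
    (h32 : ¬ (n = 3 ∧ q = 2)) : commutator ↥(Cfsg.SU n F q) = ⊤ := by
  classical
  have hq2 := herm_two_le hF
  rw [eq_top_iff, ← closure_transvections_eq_top hF hn h32, commutator_eq_closure]
  apply Subgroup.closure_mono
  rintro A ⟨v, c, h0, hA⟩
  exact Cfsg.Agent.S0781.result hF n (by omega) A v c h0 hA

omit [Fintype F] in
/-- from a `GL` element of determinant one preserving the form to an element of `SU` -/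
lemma toSU {g : GL (Fin n) F} (hS : g ∈ Cfsg.Geo.specialLinear (Fin n) F)
    (hiso : ∀ x y, Cfsg.hermForm n F q ((g : Matrix (Fin n) (Fin n) F) *ᵥ x)
      ((g : Matrix (Fin n) (Fin n) F) *ᵥ y) = Cfsg.hermForm n F q x y) :
    ∃ A : ↥(Cfsg.SU n F q), ∀ x, av A x = (g : Matrix (Fin n) (Fin n) F) *ᵥ x := by
  have hdet : (g : Matrix (Fin n) (Fin n) F).det = 1 := by
    have h1 := congrArg Units.val (MonoidHom.mem_ker.mp hS)
    simpa using h1
  exact ⟨⟨⟨(g : Matrix (Fin n) (Fin n) F), hdet⟩, hiso⟩, fun x => rfl⟩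

/-- the stabiliser of an isotropic vector in `SU` is transitive on its hyperbolic partners -/
lemma exists_partner_map (hF : Fintype.card F = q ^ 2) {e e' e'' : Fin n → F}
    (hee : Cfsg.hermForm n F q e e = 0) (h1 : Cfsg.hermForm n F q e' e' = 0)
    (h2 : Cfsg.hermForm n F q e'' e'' = 0) (h3 : Cfsg.hermForm n F q e' e = 1)
    (h4 : Cfsg.hermForm n F q e'' e = 1) :
    ∃ A : ↥(Cfsg.SU n F q), av A e = e ∧ av A e' = e'' := by
  have hf := herm_unitary (n := n) hF
  have h3' : Cfsg.hermForm n F q e e' = 1 := by rw [hf.herm, h3, map_one]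
  have h4' : Cfsg.hermForm n F q e e'' = 1 := by rw [hf.herm, h4, map_one]
  obtain ⟨μ, hμdef⟩ : ∃ μ, μ = Cfsg.hermForm n F q e'' e' := ⟨_, rfl⟩
  have hμ' : Cfsg.hermForm n F q e' e'' = frobQ hF μ := by rw [hμdef]; exact hf.herm e' e''
  obtain ⟨y'', hy''def⟩ : ∃ y'', y'' = e'' - e' - μ • e := ⟨_, rfl⟩
  have he''dec : e'' = e' + μ • e + y'' := by rw [hy''def]; abel
  have hy''e : Cfsg.hermForm n F q y'' e = 0 := by
    rw [hy''def, u_sub_left hf, u_sub_left hf, hf.smul_left, h4, h3, hee]; ring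
  have hy''e' : Cfsg.hermForm n F q y'' e' = 0 := by
    rw [hy''def, u_sub_left hf, u_sub_left hf, hf.smul_left, ← hμdef, h1, h3']; ring
  have hy''y'' : Cfsg.hermForm n F q y'' y'' = -(μ + frobQ hF μ) := by
    have h5 : Cfsg.hermForm n F q y'' e'' = Cfsg.hermForm n F q y'' y'' := by
      rw [he''dec, u_add_right hf, u_add_right hf, u_smul_right hf, hy''e, hy''e']; ring
    rw [← h5, hy''def, u_sub_left hf, u_sub_left hf, hf.smul_left, h2, hμ', h4']; ring
  have hwv : Cfsg.hermForm n F q (-y'') e = 0 := by rw [u_neg_left hf, hy''e, neg_zero]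
  have hκ : -μ + frobQ hF (-μ) = Cfsg.hermForm n F q (-y'') (-y'') := by
    rw [u_neg_left hf, u_neg_right hf, hy''y'', map_neg]; ring
  obtain ⟨g, hgS, hg⟩ := exists_E hf hee hwv (-μ)
  obtain ⟨A, hA⟩ := toSU (q := q) hgS (E_isometry hf hee hwv hκ hg)
  refine ⟨A, ?_, ?_⟩
  · rw [hA, hg, hee, u_symm_zero hf hwv]
    simp
  · rw [hA, hg, h3, u_neg_right hf, u_symm_zero hf hy''e', he''dec]
    simp only [neg_zero, zero_smul, add_zero, one_smul, mul_one, neg_smul, sub_neg_eq_add]
    abel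

/-- the block argument for the action on isotropic vectors -/
theorem su_block_all (hF : Fintype.card F = q ^ 2) (hn : 3 ≤ n) (P : (Fin n → F) → Prop)
    (hscale : ∀ (v : Fin n → F) (c : F), c ≠ 0 → P v → P (c • v))
    (hfix : ∀ (A : ↥(Cfsg.SU n F q)) (v w : Fin n → F), av A v = v → P v → P w → P (av A w))
    (v w : Fin n → F) (hPv : P v) (hPw : P w) (hv : v ≠ 0) (hw : w ≠ 0)
    (hvv : Cfsg.hermForm n F q v v = 0) (hww : Cfsg.hermForm n F q w w = 0)
    (hind : ∀ c : F, w ≠ c • v) :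
    ∀ x : Fin n → F, x ≠ 0 → Cfsg.hermForm n F q x x = 0 → P x := by
  have hf := herm_unitary (n := n) hF
  have htop : Module.finrank F (⊤ : Submodule F (Fin n → F)) = n := by
    rw [finrank_top, Module.finrank_fin_fun]
  have stepA : ∀ v w : Fin n → F, Cfsg.hermForm n F q v v = 0 → Cfsg.hermForm n F q w w = 0 →
      P v → P w → Cfsg.hermForm n F q w v ≠ 0 →
      ∀ x, Cfsg.hermForm n F q x x = 0 → Cfsg.hermForm n F q x v ≠ 0 → P x := by
    intro v w hvv hww hPv hPw hwv x hxx hxv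
    have h1 : Cfsg.hermForm n F q ((Cfsg.hermForm n F q w v)⁻¹ • w) v = 1 := by
      rw [hf.smul_left, inv_mul_cancel₀ hwv]
    have h2 : Cfsg.hermForm n F q ((Cfsg.hermForm n F q x v)⁻¹ • x) v = 1 := by
      rw [hf.smul_left, inv_mul_cancel₀ hxv]
    obtain ⟨A, hAv, hAw⟩ := exists_partner_map hF hvv
      (by rw [hf.smul_left, u_smul_right hf, hww, mul_zero, mul_zero])
      (by rw [hf.smul_left, u_smul_right hf, hxx, mul_zero, mul_zero]) h1 h2
    have h3 := hfix A v _ hAv hPv (hscale w _ (inv_ne_zero hwv) hPw)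
    rw [hAw] at h3
    have h4 := hscale _ _ hxv h3
    rwa [smul_smul, mul_inv_cancel₀ hxv, one_smul] at h4
  have stepA' : ∀ v w : Fin n → F, v ≠ 0 → Cfsg.hermForm n F q v v = 0 →
      Cfsg.hermForm n F q w w = 0 → P v → P w → Cfsg.hermForm n F q w v ≠ 0 →
      ∀ x, x ≠ 0 → Cfsg.hermForm n F q x x = 0 → P x := by
    intro v w hv hvv hww hPv hPw hwv x hx hxx
    by_cases hxv : Cfsg.hermForm n F q x v ≠ 0
    · exact stepA v w hvv hww hPv hPw hwv x hxx hxv
    obtain ⟨y, -, hyy, hyv, hyx⟩ := exists_iso_ne2 hf (ND_top hf) (by omega) v x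
      (by obtain ⟨z, hz⟩ := (hf.nondegenerate v hv).1; exact ⟨z, Submodule.mem_top, hz⟩)
      (by obtain ⟨z, hz⟩ := (hf.nondegenerate x hx).1; exact ⟨z, Submodule.mem_top, hz⟩)
    have hPy : P y := stepA v w hvv hww hPv hPw hwv y hyy hyv
    exact stepA y v hyy hvv hPy hPv (u_symm_ne hf hyv) x hxx (u_symm_ne hf hyx)
  by_cases hwv : Cfsg.hermForm n F q w v ≠ 0
  · exact stepA' v w hv hvv hww hPv hPw hwv
  rw [not_not] at hwv
  have hvw : Cfsg.hermForm n F q v w = 0 := u_symm_zero hf hwv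
  obtain ⟨w', -, hw'w', hww'⟩ := exists_partner hf (ND_top hf) Submodule.mem_top hw hww
  have hw'w : Cfsg.hermForm n F q w' w = 1 := by rw [hf.herm, hww', map_one]
  have hW' := ND_hyp hf (ND_top hf) (Submodule.mem_top : w ∈ ⊤) (Submodule.mem_top : w' ∈ ⊤)
    hww hw'w' hww'
  obtain ⟨a, hadef⟩ : ∃ a, a = Cfsg.hermForm n F q v w' := ⟨_, rfl⟩
  obtain ⟨v', hv'def⟩ : ∃ v', v' = v - a • w := ⟨_, rfl⟩
  have hv'w : Cfsg.hermForm n F q v' w = 0 := by
    rw [hv'def, u_sub_left hf, hf.smul_left, hvw, hww]; ring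
  have hv'w' : Cfsg.hermForm n F q v' w' = 0 := by
    rw [hv'def, u_sub_left hf, hf.smul_left, ← hadef, hww']; ring
  have hv'v' : Cfsg.hermForm n F q v' v' = 0 := by
    rw [hv'def, u_sub_left hf, u_sub_right hf, u_sub_right hf, hf.smul_left, hf.smul_left,
      u_smul_right hf, u_smul_right hf, hvv, hvw, hwv, hww]; ring
  have hv'0 : v' ≠ 0 := by
    intro h0
    have h5 : v = a • w := by rw [hv'def] at h0; exact sub_eq_zero.mp h0
    have ha0 : a ≠ 0 := by
      intro ha
      apply hv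
      rw [h5, ha, zero_smul]
    apply hind a⁻¹
    rw [h5, smul_smul, inv_mul_cancel₀ ha0, one_smul]
  have hv'W' : v' ∈ (⊤ : Submodule F (Fin n → F)) ⊓ pp hf w ⊓ pp hf w' :=
    Submodule.mem_inf.mpr ⟨Submodule.mem_inf.mpr ⟨Submodule.mem_top, (mem_pp hf).mpr hv'w⟩,
      (mem_pp hf).mpr hv'w'⟩
  obtain ⟨x₀, hx₀W', hx₀x₀, hv'x₀⟩ := exists_partner hf hW' hv'W' hv'0 hv'v'
  have hx₀w : Cfsg.hermForm n F q x₀ w = 0 :=
    (mem_pp hf).mp (Submodule.mem_inf.mp (Submodule.mem_inf.mp hx₀W').1).2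
  have hvx₀ : Cfsg.hermForm n F q v x₀ = 1 := by
    have h5 : v = v' + a • w := by rw [hv'def]; abel
    rw [h5, hf.add_left, hf.smul_left, hv'x₀, u_symm_zero hf hx₀w]; ring
  obtain ⟨κ, hκ0, hκ⟩ := exists_skew hf.involutive hf.ne_refl
  obtain ⟨A, hA⟩ := exists_tv hF hx₀x₀ hκ
  have hAx : ∀ x, av A x = x + (κ * Cfsg.hermForm n F q x x₀) • x₀ := by
    intro x; unfold av; rw [hA, ut_mulVec]
  have hAw : av A w = w := by rw [hAx, u_symm_zero hf hx₀w, mul_zero, zero_smul, add_zero]
  have hPv₂ : P (av A v) := hfix A w v hAw hPw hPv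
  have hv₂v₂ : Cfsg.hermForm n F q (av A v) (av A v) = 0 := by rw [av_iso, hvv]
  have hv₂v : Cfsg.hermForm n F q (av A v) v ≠ 0 := by
    rw [hAx, hvx₀, mul_one, hf.add_left, hf.smul_left, hvv, zero_add, hf.herm x₀ v, hvx₀, map_one,
      mul_one]
    exact hκ0
  exact stepA' v (av A v) hv hvv hv₂v₂ hPv hPv₂ hv₂v

/-- the isotropic points, as a sub-action of the action of `SU` on projective space -/
def isoPts (hF : Fintype.card F = q ^ 2) (n : ℕ) :
    SubMulAction ↥(Cfsg.SU n F q) (ℙ F (Fin n → F)) where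
  carrier := {p | Cfsg.hermForm n F q p.rep p.rep = 0}
  smul_mem' := by
    have hf := herm_unitary (n := n) hF
    intro g p hp
    change Cfsg.hermForm n F q p.rep p.rep = 0 at hp
    change Cfsg.hermForm n F q (g • p).rep (g • p).rep = 0
    obtain ⟨a, ha⟩ := Projectivization.exists_smul_eq_mk_rep F (g • p.rep)
      ((smul_ne_zero_iff_ne g).mpr p.rep_nonzero)
    have h1 : g • p = Projectivization.mk F (g • p.rep)
        ((smul_ne_zero_iff_ne g).mpr p.rep_nonzero) := by
      conv_lhs => rw [← Projectivization.mk_rep p]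
      rfl
    rw [h1, ← ha, Units.smul_def, hf.smul_left, u_smul_right hf]
    have h2 : Cfsg.hermForm n F q (g • p.rep) (g • p.rep) = 0 := by
      have := av_iso g p.rep p.rep
      rw [hp] at this
      exact this
    rw [h2, mul_zero, mul_zero]

lemma mem_isoPts_mk (hF : Fintype.card F = q ^ 2) (v : Fin n → F) (hv : v ≠ 0) :
    Projectivization.mk F v hv ∈ isoPts hF n ↔ Cfsg.hermForm n F q v v = 0 := by
  have hf := herm_unitary (n := n) hF
  obtain ⟨a, ha⟩ := Projectivization.exists_smul_eq_mk_rep F v hv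
  change Cfsg.hermForm n F q (Projectivization.mk F v hv).rep (Projectivization.mk F v hv).rep = 0
    ↔ _
  rw [← ha, Units.smul_def, hf.smul_left, u_smul_right hf]
  have ha0 : (a : F) ≠ 0 := a.ne_zero
  have ha1 : frobQ hF (a : F) ≠ 0 := by rwa [Ne, map_eq_zero]
  constructor
  · intro h
    rcases mul_eq_zero.mp h with h | h
    · exact absurd h ha0
    · rcases mul_eq_zero.mp h with h | h
      · exact absurd h ha1
      · exact h
  · intro h
    rw [h, mul_zero, mul_zero]

omit [Fintype F] in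
lemma av_ne_zero (A : ↥(Cfsg.SU n F q)) {v : Fin n → F} (hv : v ≠ 0) : av A v ≠ 0 :=
  (smul_ne_zero_iff_ne A).mpr hv

omit [Fintype F] in
lemma smul_mk' (A : ↥(Cfsg.SU n F q)) (v : Fin n → F) (hv : v ≠ 0) :
    A • Projectivization.mk F v hv
      = Projectivization.mk F (av A v) (av_ne_zero A hv) := rfl

/-- an isotropic point given by an isotropic vector -/
def ipt (hF : Fintype.card F = q ^ 2) (v : Fin n → F) (hv : v ≠ 0)
    (hvv : Cfsg.hermForm n F q v v = 0) : ↥(isoPts hF n) :=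
  ⟨Projectivization.mk F v hv, (mem_isoPts_mk hF v hv).mpr hvv⟩

lemma smul_ipt (hF : Fintype.card F = q ^ 2) (A : ↥(Cfsg.SU n F q)) (v : Fin n → F) (hv : v ≠ 0)
    (hvv : Cfsg.hermForm n F q v v = 0) :
    A • ipt hF v hv hvv = ipt hF (av A v) (av_ne_zero A hv)
      (by rw [av_iso, hvv]) := rfl

lemma exists_ipt (hF : Fintype.card F = q ^ 2) (x : ↥(isoPts hF n)) :
    ∃ (v : Fin n → F) (hv : v ≠ 0) (hvv : Cfsg.hermForm n F q v v = 0), x = ipt hF v hv hvv := by
  obtain ⟨p, hp⟩ := x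
  induction p using Projectivization.ind with
  | h v hv => exact ⟨v, hv, (mem_isoPts_mk hF v hv).mp hp, rfl⟩

lemma ipt_eq_iff (hF : Fintype.card F = q ^ 2) (v w : Fin n → F) (hv : v ≠ 0) (hw : w ≠ 0)
    (hvv : Cfsg.hermForm n F q v v = 0) (hww : Cfsg.hermForm n F q w w = 0) :
    ipt hF v hv hvv = ipt hF w hw hww ↔ ∃ a : F, a • w = v := by
  unfold ipt
  rw [Subtype.mk.injEq, Projectivization.mk_eq_mk_iff']

open scoped Pointwise in
/-- `SU_n(q)` acts primitively on the isotropic points, `n ≥ 3` -/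
theorem isPreprimitive_su (hF : Fintype.card F = q ^ 2) (hn : 3 ≤ n) :
    MulAction.IsPreprimitive ↥(Cfsg.SU n F q) ↥(isoPts hF n) := by
  have hf := herm_unitary (n := n) hF
  have htop : Module.finrank F (⊤ : Submodule F (Fin n → F)) = n := by
    rw [finrank_top, Module.finrank_fin_fun]
  have htrans : MulAction.IsPretransitive ↥(Cfsg.SU n F q) ↥(isoPts hF n) := by
    constructor
    intro x y
    obtain ⟨v, hv, hvv, rfl⟩ := exists_ipt hF x
    obtain ⟨w, hw, hww, rfl⟩ := exists_ipt hF y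
    obtain ⟨t, -, ht⟩ := T0 hF (ND_top hf) (by omega) (Submodule.mem_top : v ∈ ⊤)
      (Submodule.mem_top : w ∈ ⊤) hv hw hvv hww
    refine ⟨t, ?_⟩
    rw [smul_ipt]
    unfold ipt
    congr 1
    congr 1
  refine { toIsPretransitive := htrans, isTrivialBlock_of_isBlock := ?_ }
  intro B hB
  by_cases hsub : B.Subsingleton
  · exact Or.inl hsub
  right
  rw [Set.not_subsingleton_iff] at hsub
  obtain ⟨x, hx, y, hy, hxy⟩ := hsub
  obtain ⟨v, hv, hvv, rfl⟩ := exists_ipt hF x
  obtain ⟨w, hw, hww, rfl⟩ := exists_ipt hF y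
  let P : (Fin n → F) → Prop := fun x =>
    ∃ (hx : x ≠ 0) (hxx : Cfsg.hermForm n F q x x = 0), ipt hF x hx hxx ∈ B
  have hscale : ∀ (v : Fin n → F) (c : F), c ≠ 0 → P v → P (c • v) := by
    rintro v c hc ⟨hv, hvv, hvB⟩
    have hcv : c • v ≠ 0 := smul_ne_zero hc hv
    have hcvv : Cfsg.hermForm n F q (c • v) (c • v) = 0 := by
      rw [hf.smul_left, u_smul_right hf, hvv, mul_zero, mul_zero]
    refine ⟨hcv, hcvv, ?_⟩
    have : ipt hF (c • v) hcv hcvv = ipt hF v hv hvv := by
      rw [ipt_eq_iff]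
      exact ⟨c, rfl⟩
    rw [this]
    exact hvB
  have hfix : ∀ (A : ↥(Cfsg.SU n F q)) (v w : Fin n → F), av A v = v → P v → P w →
      P (av A w) := by
    rintro A v w hAv ⟨hv, hvv, hvB⟩ ⟨hw, hww, hwB⟩
    have h1 : A • ipt hF v hv hvv ∈ B := by
      rw [smul_ipt]
      have : ipt hF (av A v) (av_ne_zero A hv) (by rw [av_iso, hvv])
          = ipt hF v hv hvv := by
        rw [ipt_eq_iff]
        exact ⟨1, by rw [one_smul, hAv]⟩
      rw [this]
      exact hvB
    have h2 : A • B = B := hB.smul_eq_of_mem hvB h1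
    have h3 : A • ipt hF w hw hww ∈ A • B := Set.smul_mem_smul_set hwB
    rw [h2, smul_ipt] at h3
    exact ⟨av_ne_zero A hw, by rw [av_iso, hww], h3⟩
  have hind : ∀ c : F, w ≠ c • v := by
    intro c hc
    apply hxy
    rw [ipt_eq_iff]
    have hc0 : c ≠ 0 := by
      intro h0
      apply hw
      rw [hc, h0, zero_smul]
    refine ⟨c⁻¹, ?_⟩
    rw [hc, smul_smul, inv_mul_cancel₀ hc0, one_smul]
  have hall := su_block_all hF hn P hscale hfix v w ⟨hv, hvv, hx⟩ ⟨hw, hww, hy⟩ hv hw hvv hww hind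
  rw [Set.eq_univ_iff_forall]
  intro r
  obtain ⟨z, hz, hzz, rfl⟩ := exists_ipt hF r
  obtain ⟨_, _, hzB⟩ := hall z hz hzz
  exact hzB

/-! ### Root subgroups and the Iwasawa structure -/

/-- the root subgroup of transvections with centre `v` (everything if `v` is not isotropic) -/
def rootSub (hF : Fintype.card F = q ^ 2) (v : Fin n → F) : Subgroup ↥(Cfsg.SU n F q) where
  carrier := {A | Cfsg.hermForm n F q v v = 0 → ∃ c : F, frobQ hF c = -c ∧
    ∀ x, av A x = x + (c * Cfsg.hermForm n F q x v) • v}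
  mul_mem' := by
    have hf := herm_unitary (n := n) hF
    rintro A B hA hB hv
    obtain ⟨c, hc, hAx⟩ := hA hv
    obtain ⟨d, hd, hBx⟩ := hB hv
    refine ⟨c + d, by rw [map_add, hc, hd]; ring, fun x => ?_⟩
    rw [av_mul, hBx, hAx, hf.add_left, hf.smul_left, hv]
    module
  one_mem' := by
    intro hv
    exact ⟨0, by simp, fun x => by rw [av_one]; simp⟩
  inv_mem' := by
    have hf := herm_unitary (n := n) hF
    rintro A hA hv
    obtain ⟨c, hc, hAx⟩ := hA hv
    refine ⟨-c, by rw [map_neg, hc], fun x => ?_⟩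
    have h1 : av A (x + (-c * Cfsg.hermForm n F q x v) • v) = x := by
      rw [hAx, hf.add_left, hf.smul_left, hv]
      module
    calc av A⁻¹ x = av A⁻¹ (av A (x + (-c * Cfsg.hermForm n F q x v) • v)) := by rw [h1]
      _ = x + (-c * Cfsg.hermForm n F q x v) • v := av_inv_av A _

lemma mem_rootSub (hF : Fintype.card F = q ^ 2) {v : Fin n → F}
    (hv : Cfsg.hermForm n F q v v = 0) (A : ↥(Cfsg.SU n F q)) :
    A ∈ rootSub hF v ↔ ∃ c : F, frobQ hF c = -c ∧
      ∀ x, av A x = x + (c * Cfsg.hermForm n F q x v) • v :=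
  ⟨fun h => h hv, fun h _ => h⟩

lemma rootSub_smul (hF : Fintype.card F = q ^ 2) (a : F) (ha : a ≠ 0) (v : Fin n → F) :
    rootSub hF (a • v) = rootSub hF v := by
  have hf := herm_unitary (n := n) hF
  have ha1 : frobQ hF a ≠ 0 := by rwa [Ne, map_eq_zero]
  have hiff : Cfsg.hermForm n F q (a • v) (a • v) = 0 ↔ Cfsg.hermForm n F q v v = 0 := by
    rw [hf.smul_left, u_smul_right hf]
    constructor
    · intro h
      rcases mul_eq_zero.mp h with h | h
      · exact absurd h ha
      · rcases mul_eq_zero.mp h with h | h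
        · exact absurd h ha1
        · exact h
    · intro h
      rw [h, mul_zero, mul_zero]
  ext A
  constructor
  · intro hA hv
    obtain ⟨c, hc, hAx⟩ := hA (hiff.mpr hv)
    refine ⟨c * a * frobQ hF a, by rw [map_mul, map_mul, hf.involutive, hc]; ring, fun x => ?_⟩
    rw [hAx, u_smul_right hf, smul_smul]
    congr 2
    ring
  · intro hA hv
    obtain ⟨c, hc, hAx⟩ := hA (hiff.mp hv)
    refine ⟨c / (a * frobQ hF a), by
      rw [map_div₀, map_mul, hf.involutive, hc]; field_simp, fun x => ?_⟩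
    rw [hAx, u_smul_right hf, smul_smul]
    congr 2
    field_simp

lemma rootSub_comm (hF : Fintype.card F = q ^ 2) {v : Fin n → F}
    (hv : Cfsg.hermForm n F q v v = 0) : IsMulCommutative (rootSub hF v) := by
  have hf := herm_unitary (n := n) hF
  refine ⟨⟨?_⟩⟩
  rintro ⟨A, hA⟩ ⟨B, hB⟩
  obtain ⟨c, hc, hAx⟩ := hA hv
  obtain ⟨d, hd, hBx⟩ := hB hv
  apply Subtype.ext
  change A * B = B * A
  apply av_ext
  intro x
  rw [av_mul, av_mul, hBx, hAx, hAx, hBx, hf.add_left, hf.add_left, hf.smul_left, hf.smul_left, hv]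
  module

open scoped Pointwise in
lemma conj_rootSub (hF : Fintype.card F = q ^ 2) (g : ↥(Cfsg.SU n F q)) (v : Fin n → F) :
    rootSub hF (av g v) = MulAut.conj g • rootSub hF v := by
  have hf := herm_unitary (n := n) hF
  have hiff : Cfsg.hermForm n F q (av g v) (av g v) = 0 ↔ Cfsg.hermForm n F q v v = 0 := by
    rw [av_iso]
  ext A
  rw [Subgroup.mem_pointwise_smul_iff_inv_smul_mem]
  simp only [MulAut.smul_def, MulAut.conj_inv_apply]
  constructor
  · intro hA hv
    obtain ⟨c, hc, hAx⟩ := hA (hiff.mpr hv)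
    refine ⟨c, hc, fun x => ?_⟩
    rw [av_mul, av_mul, hAx, av_iso, av_add, av_smul, av_inv_av, av_inv_av]
  · intro hA hv
    obtain ⟨c, hc, hAx⟩ := hA (hiff.mp hv)
    refine ⟨c, hc, fun x => ?_⟩
    have h1 := hAx (av g⁻¹ x)
    rw [av_mul, av_mul, av_av_inv] at h1
    have h2 : av A x = av g (av g⁻¹ (av A x)) := (av_av_inv g _).symm
    rw [h2, h1, av_add, av_smul, av_av_inv]
    have h3 : Cfsg.hermForm n F q (av g⁻¹ x) v = Cfsg.hermForm n F q x (av g v) := by
      have := av_iso g (av g⁻¹ x) v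
      rw [av_av_inv] at this
      exact this.symm
    rw [h3]

/-- the root subgroup attached to an isotropic point -/
noncomputable def rootT (hF : Fintype.card F = q ^ 2) (x : ↥(isoPts hF n)) :
    Subgroup ↥(Cfsg.SU n F q) :=
  rootSub hF x.1.rep

lemma rootT_ipt (hF : Fintype.card F = q ^ 2) (v : Fin n → F) (hv : v ≠ 0)
    (hvv : Cfsg.hermForm n F q v v = 0) : rootT hF (ipt hF v hv hvv) = rootSub hF v := by
  obtain ⟨a, ha⟩ := Projectivization.exists_smul_eq_mk_rep F v hv
  unfold rootT ipt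
  rw [← ha, Units.smul_def]
  exact rootSub_smul hF (a : F) a.ne_zero v

/-- the Iwasawa structure of root subgroups for the action of `SU` on isotropic points -/
noncomputable def iwasawa (hF : Fintype.card F = q ^ 2) (hn : 3 ≤ n) (h32 : ¬ (n = 3 ∧ q = 2)) :
    MulAction.IwasawaStructure ↥(Cfsg.SU n F q) ↥(isoPts hF n) where
  T := rootT hF
  is_comm := fun x => rootSub_comm hF x.2
  is_conj := by
    intro g x
    obtain ⟨v, hv, hvv, rfl⟩ := exists_ipt hF x
    rw [smul_ipt, rootT_ipt, rootT_ipt, conj_rootSub]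
  is_generator := by
    have hf := herm_unitary (n := n) hF
    rw [eq_top_iff, ← closure_transvections_eq_top hF hn h32, Subgroup.closure_le]
    rintro A ⟨v, c, hvv, hA⟩
    have hAx : ∀ x, av A x = x + (c * Cfsg.hermForm n F q x v) • v := by
      intro x; unfold av; rw [hA, ut_mulVec]
    by_cases hdeg : v = 0 ∨ c = 0
    · have hA1 : A = 1 := by
        apply av_ext
        intro x
        rw [hAx, av_one]
        rcases hdeg with h | h
        · rw [h, smul_zero, add_zero]
        · rw [h, zero_mul, zero_smul, add_zero]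
      rw [hA1]
      exact Subgroup.one_mem _
    push Not at hdeg
    obtain ⟨hv0, hc0⟩ := hdeg
    have hskew : frobQ hF c = -c := by
      obtain ⟨x, hx⟩ := (hf.nondegenerate v hv0).1
      have h1 := av_iso A x x
      rw [hAx, u_expand hf, hvv, mul_zero, add_zero, hf.herm v x, map_mul] at h1
      have h2 : (frobQ hF c + c) * (Cfsg.hermForm n F q x v *
          frobQ hF (Cfsg.hermForm n F q x v)) = 0 := by linear_combination h1
      rcases mul_eq_zero.mp h2 with h | h
      · linear_combination h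
      · exfalso
        rcases mul_eq_zero.mp h with h' | h'
        · exact hx h'
        · exact hx ((map_eq_zero (frobQ hF)).mp h')
    have h1 : A ∈ rootT hF (ipt hF v hv0 hvv) := by
      rw [rootT_ipt, mem_rootSub hF hvv]
      exact ⟨c, hskew, hAx⟩
    exact (le_iSup (rootT hF) (ipt hF v hv0 hvv)) h1

/-! ### Elements fixing all isotropic points are central -/

theorem mem_center_of_fixes (hF : Fintype.card F = q ^ 2) (hn : 3 ≤ n) (A : ↥(Cfsg.SU n F q))
    (h : ∀ x : ↥(isoPts hF n), A • x = x) : A ∈ Subgroup.center ↥(Cfsg.SU n F q) := by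
  have hf := herm_unitary (n := n) hF
  have htop : Module.finrank F (⊤ : Submodule F (Fin n → F)) = n := by
    rw [finrank_top, Module.finrank_fin_fun]
  have hex : ∀ v : Fin n → F, v ≠ 0 → Cfsg.hermForm n F q v v = 0 →
      ∃ a : F, av A v = a • v := by
    intro v hv hvv
    have h1 := h (ipt hF v hv hvv)
    rw [smul_ipt, ipt_eq_iff] at h1
    obtain ⟨a, ha⟩ := h1
    exact ⟨a, ha.symm⟩
  -- the eigenvalues of two non-orthogonal isotropic vectors agree
  have heq : ∀ v w : Fin n → F, Cfsg.hermForm n F q v v = 0 → Cfsg.hermForm n F q w w = 0 →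
      Cfsg.hermForm n F q v w ≠ 0 → ∀ a b : F, av A v = a • v → av A w = b • w → a = b := by
    intro v w hvv hww hvw a b ha hb
    have hv0 : v ≠ 0 := by
      intro h0; rw [h0, u_zero_left hf] at hvw; exact hvw rfl
    have hw0 : w ≠ 0 := by
      intro h0; rw [h0, u_zero_right hf] at hvw; exact hvw rfl
    obtain ⟨l, hl0, hl⟩ := exists_iso_comb hf hvv hww
    have hne : v + l • w ≠ 0 := by
      intro h0
      have h5 : Cfsg.hermForm n F q (v + l • w) v = l * Cfsg.hermForm n F q w v := by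
        rw [hf.add_left, hf.smul_left, hvv, zero_add]
      rw [h0, u_zero_left hf] at h5
      exact (mul_ne_zero hl0 (u_symm_ne hf hvw)) h5.symm
    obtain ⟨d, hd⟩ := hex (v + l • w) hne hl
    rw [av_add, av_smul, ha, hb] at hd
    have hwspan : w ∉ Submodule.span F {v} := by
      intro hmem
      obtain ⟨k, hk⟩ := Submodule.mem_span_singleton.mp hmem
      rw [← hk, u_smul_right hf, hvv, mul_zero] at hvw
      exact hvw rfl
    have hrel : (a - d) • v + (l * (b - d)) • w = 0 := by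
      have h5 : a • v + l • b • w = d • (v + l • w) := hd
      have h6 : (a - d) • v + (l * (b - d)) • w = (a • v + l • b • w) - d • (v + l • w) := by
        module
      rw [h6, h5, sub_self]
    obtain ⟨h7, h8⟩ := coeff_zero hv0 hwspan hrel
    have h9 : b - d = 0 := (mul_eq_zero.mp h8).resolve_left hl0
    rw [sub_eq_zero] at h7 h9
    rw [h7, h9]
  obtain ⟨e, -, e', -, hee, he'e', h1⟩ := exists_hyp hf (ND_top hf) (by omega : 2 ≤ _)
  have he0 : e ≠ 0 := by
    intro h0; rw [h0, u_zero_left hf] at h1; exact zero_ne_one h1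
  obtain ⟨a, ha⟩ := hex e he0 hee
  have hall : ∀ v : Fin n → F, Cfsg.hermForm n F q v v = 0 → av A v = a • v := by
    intro v hvv
    by_cases hv0 : v = 0
    · rw [hv0, av_zero, smul_zero]
    obtain ⟨b, hb⟩ := hex v hv0 hvv
    obtain ⟨y, -, hyy, hyv, hye⟩ := exists_iso_ne2 hf (ND_top hf) (by omega) v e
      (by obtain ⟨z, hz⟩ := (hf.nondegenerate v hv0).1; exact ⟨z, Submodule.mem_top, hz⟩)
      (by obtain ⟨z, hz⟩ := (hf.nondegenerate e he0).1; exact ⟨z, Submodule.mem_top, hz⟩)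
    have hy0 : y ≠ 0 := by
      intro h0; rw [h0, u_zero_left hf] at hyv; exact hyv rfl
    obtain ⟨d, hd⟩ := hex y hy0 hyy
    have h5 : d = a := heq y e hyy hee hye d a hd ha
    have h6 : d = b := heq y v hyy hvv hyv d b hd hb
    rw [hb, ← h6, h5]
  have hscalar : ∀ x, av A x = a • x := by
    intro x
    obtain ⟨b₁, -, b₂, -, b₃, -, h5, h6, h7, hsum⟩ := exists_iso_decomp hf (ND_top hf) (by omega)
      (Submodule.mem_top : x ∈ ⊤)
    rw [hsum, av_add, av_add, hall b₁ h5, hall b₂ h6, hall b₃ h7, smul_add, smul_add]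
  rw [Subgroup.mem_center_iff]
  intro B
  apply av_ext
  intro x
  rw [av_mul, av_mul, hscalar, hscalar, av_smul]

/-! ### Normal subgroups and simplicity -/

theorem normal_le_center_or_eq_top (hF : Fintype.card F = q ^ 2) (hn : 3 ≤ n)
    (h32 : ¬ (n = 3 ∧ q = 2)) (N : Subgroup ↥(Cfsg.SU n F q)) [N.Normal] :
    N ≤ Subgroup.center ↥(Cfsg.SU n F q) ∨ N = ⊤ := by
  have hprim := isPreprimitive_su (n := n) hF hn
  by_cases hfix : MulAction.fixedPoints N ↥(isoPts hF n) = Set.univ
  · left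
    intro A hA
    apply mem_center_of_fixes hF hn
    intro p
    have hp : p ∈ MulAction.fixedPoints N ↥(isoPts hF n) := by
      rw [hfix]; trivial
    exact hp ⟨A, hA⟩
  · right
    have := (iwasawa hF hn h32).commutator_le N hfix
    rw [commutator_SU_eq_top hF hn h32] at this
    exact top_le_iff.mp this

theorem center_ne_top (hF : Fintype.card F = q ^ 2) (hn : 3 ≤ n) (h32 : ¬ (n = 3 ∧ q = 2)) :
    Subgroup.center ↥(Cfsg.SU n F q) ≠ ⊤ := by
  have hf := herm_unitary (n := n) hF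
  have htop : Module.finrank F (⊤ : Submodule F (Fin n → F)) = n := by
    rw [finrank_top, Module.finrank_fin_fun]
  intro hcen
  have hcomm : ∀ a b : ↥(Cfsg.SU n F q), a * b = b * a := by
    intro a b
    have ha : a ∈ Subgroup.center ↥(Cfsg.SU n F q) := by rw [hcen]; trivial
    exact ((Subgroup.mem_center_iff.mp ha) b).symm
  have hbot : commutator ↥(Cfsg.SU n F q) = ⊥ := by
    rw [commutator_def, Subgroup.commutator_eq_bot_iff_le_centralizer]
    intro a _
    rw [Subgroup.mem_centralizer_iff]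
    intro b _
    exact hcomm b a
  rw [commutator_SU_eq_top hF hn h32] at hbot
  obtain ⟨e, -, e', -, hee, he'e', h1⟩ := exists_hyp hf (ND_top hf) (by omega : 2 ≤ _)
  have h1' : Cfsg.hermForm n F q e' e = 1 := by rw [hf.herm, h1, map_one]
  have he0 : e ≠ 0 := by
    intro h0; rw [h0, u_zero_left hf] at h1; exact zero_ne_one h1
  obtain ⟨κ, hκ0, hκ⟩ := exists_skew hf.involutive hf.ne_refl
  obtain ⟨A, hA⟩ := exists_tv hF hee hκ
  have hA1 : A = 1 := by
    have : A ∈ (⊤ : Subgroup ↥(Cfsg.SU n F q)) := trivial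
    rw [hbot, Subgroup.mem_bot] at this
    exact this
  have h5 : av A e' = e' + (κ * Cfsg.hermForm n F q e' e) • e := by
    unfold av; rw [hA, ut_mulVec]
  rw [hA1, av_one, h1', mul_one] at h5
  have h6 : κ • e = 0 := by
    have := h5
    rwa [left_eq_add] at this
  rcases smul_eq_zero.mp h6 with h | h
  · exact hκ0 h
  · exact he0 h

/-- `PSU_n(q)` is simple for `n ≥ 3`, `(n, q) ≠ (3, 2)` -/
theorem isSimpleGroup_PSU (hF : Fintype.card F = q ^ 2) (hn : 3 ≤ n) (h32 : ¬ (n = 3 ∧ q = 2)) :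
    IsSimpleGroup (Cfsg.PSU n F q) :=
  Cfsg.Agent.Lib.Helper14.PSpSimple.isSimpleGroup_quotient_center (center_ne_top hF hn h32)
    (fun N hN => by
      have := hN
      exact normal_le_center_or_eq_top hF hn h32 N)

end Cfsg.Agent.Lib.Helper5.PSUSimple
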