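import Mathlib
import Cfsg.Agent.Lib.Helper5.LSubC

/-!
Unitary subfield subgroups (`F₀ ≤ F = F_{q²}` of odd prime degree, stable and not fixed by `x ↦ x^q`)
inside `GU_n(q) ⊓ SL_n`: shared vocabulary.  `TV`, `EM`, `LM` say that a subgroup `M` of `GL` contains the
unitary transvection, the Eichler (Siegel) element, resp. the Levi-type root element with the given
parameters; `Hsub` is the subfield subgroup inside `GU ⊓ SL`; `Dat` and `Ctx` bundle the standing
hypotheses.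
-/

set_option autoImplicit false
set_option linter.unusedSectionVars false
set_option linter.unusedVariables false
set_option linter.unusedSimpArgs false

namespace Cfsg.Agent.Lib.Helper5.USf
open Cfsg Matrix Cfsg.Agent.Lib.Helper5.SpMax Cfsg.Agent.Lib.Helper5.TMCalc
  Cfsg.Agent.Lib.Helper5.UForm Cfsg.Agent.Lib.Helper5.USub Cfsg.Agent.Lib.Helper5.HermBridge
  Cfsg.Agent.Lib.Helper5.SUMax

section Abs
variable {F : Type*} [Field F] {n : ℕ}

/-- `M` contains the transvection `x ↦ x + c f(x,v) v` -/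
def TV (f : (Fin n → F) → (Fin n → F) → F) (M : Subgroup (GL (Fin n) F)) (v : Fin n → F)
    (c : F) : Prop :=
  ∃ g ∈ M, ∀ x, (g : Matrix (Fin n) (Fin n) F) *ᵥ x = x + (c * f x v) • v

/-- `M` contains the Eichler element `x ↦ x + f(x,w) v - f(x,v) w - κ f(x,v) v` -/
def EM (f : (Fin n → F) → (Fin n → F) → F) (M : Subgroup (GL (Fin n) F)) (v w : Fin n → F)
    (κ : F) : Prop :=
  ∃ g ∈ M, ∀ x, (g : Matrix (Fin n) (Fin n) F) *ᵥ x = x + f x w • v - f x v • w - (κ * f x v) • v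

/-- `M` contains the root element `x ↦ x + c f(x,b) a - σ(c) f(x,a) b` -/
def LM (σ : F ≃+* F) (f : (Fin n → F) → (Fin n → F) → F) (M : Subgroup (GL (Fin n) F))
    (a b : Fin n → F) (c : F) : Prop :=
  ∃ g ∈ M, ∀ x, (g : Matrix (Fin n) (Fin n) F) *ᵥ x = x + (c * f x b) • a - (σ c * f x a) • b

variable {f : (Fin n → F) → (Fin n → F) → F} {σ : F ≃+* F} {M M' : Subgroup (GL (Fin n) F)}

lemma TV_mono (h : M ≤ M') {v : Fin n → F} {c : F} (hT : TV f M v c) : TV f M' v c := by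
  obtain ⟨g, hg, hgv⟩ := hT
  exact ⟨g, h hg, hgv⟩

lemma EM_mono (h : M ≤ M') {v w : Fin n → F} {κ : F} (hT : EM f M v w κ) : EM f M' v w κ := by
  obtain ⟨g, hg, hgv⟩ := hT
  exact ⟨g, h hg, hgv⟩

lemma LM_mono (h : M ≤ M') {a b : Fin n → F} {c : F} (hT : LM σ f M a b c) :
    LM σ f M' a b c := by
  obtain ⟨g, hg, hgv⟩ := hT
  exact ⟨g, h hg, hgv⟩

/-- pointwise equal formulas give the same membership -/
lemma EM_congr {v w v' w' : Fin n → F} {κ κ' : F}
    (h : ∀ x, x + f x w • v - f x v • w - (κ * f x v) • v =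
      x + f x w' • v' - f x v' • w' - (κ' * f x v') • v') (hT : EM f M v w κ) :
    EM f M v' w' κ' := by
  obtain ⟨g, hg, hgv⟩ := hT
  exact ⟨g, hg, fun x => by rw [hgv, h]⟩

lemma LM_congr {a b a' b' : Fin n → F} {c c' : F}
    (h : ∀ x, x + (c * f x b) • a - (σ c * f x a) • b =
      x + (c' * f x b') • a' - (σ c' * f x a') • b') (hT : LM σ f M a b c) :
    LM σ f M a' b' c' := by
  obtain ⟨g, hg, hgv⟩ := hT
  exact ⟨g, hg, fun x => by rw [hgv, h]⟩

lemma TV_congr {v v' : Fin n → F} {c c' : F}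
    (h : ∀ x, x + (c * f x v) • v = x + (c' * f x v') • v') (hT : TV f M v c) :
    TV f M v' c' := by
  obtain ⟨g, hg, hgv⟩ := hT
  exact ⟨g, hg, fun x => by rw [hgv, h]⟩

end Abs

section Conc
variable {F : Type*} [Field F] [Fintype F] {q n : ℕ}

/-- the subfield subgroup inside `GU ⊓ SL` -/
def Hsub (n q : ℕ) (F₀ : Subfield F) (P : GL (Fin n) F) : Subgroup (GL (Fin n) F) :=
  Cfsg.Geo.subfieldSubgroup F₀ P ⊓ (Cfsg.GU n F q ⊓ Cfsg.Geo.specialLinear (Fin n) F)

/-- the standing hypotheses on the rational structure -/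
structure Dat (hF : Fintype.card F = q ^ 2) (F₀ : Subfield F) (P : GL (Fin n) F) : Prop where
  form : Cfsg.Geo.IsFormRationalStructure (Cfsg.hermForm n F q) F₀ 1 P
  moved : ∃ θ ∈ F₀, frobQ hF θ ≠ θ

/-- the standing hypotheses on a proper overgroup `M` of the subfield group -/
structure Ctx (hF : Fintype.card F = q ^ 2) (F₀ : Subfield F) (P : GL (Fin n) F)
    (M : Subgroup (GL (Fin n) F)) : Prop where
  dat : Dat hF F₀ P
  le : Hsub n q F₀ P ≤ M
  leG : M ≤ Cfsg.GU n F q ⊓ Cfsg.Geo.specialLinear (Fin n) F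
  ne : ¬ Cfsg.GU n F q ⊓ Cfsg.Geo.specialLinear (Fin n) F ≤ M
  prime : (Module.finrank F₀ F).Prime
  three : 3 ≤ Module.finrank F₀ F

variable {hF : Fintype.card F = q ^ 2} {F₀ : Subfield F} {P : GL (Fin n) F}

lemma frob_mem (hF : Fintype.card F = q ^ 2) (F₀ : Subfield F) {x : F} (hx : x ∈ F₀) :
    frobQ hF x ∈ F₀ := by
  rw [frobQ_apply]
  exact F₀.pow_mem hx q

lemma isRat_eq {x : Fin n → F} (hx : IsRat F₀ P x) :
    (P : Matrix (Fin n) (Fin n) F) *ᵥ
      (((P⁻¹ : GL (Fin n) F) : Matrix (Fin n) (Fin n) F) *ᵥ x) = x := mul_inv_mulVec P x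

lemma Dat.form_mem (D : Dat hF F₀ P) {x y : Fin n → F} (hx : IsRat F₀ P x)
    (hy : IsRat F₀ P y) : Cfsg.hermForm n F q x y ∈ F₀ := by
  have h := D.form _ _ hx hy
  rwa [mul_inv_mulVec, mul_inv_mulVec, one_mul] at h

lemma Ctx.iso {M : Subgroup (GL (Fin n) F)} (h : Ctx hF F₀ P M) {g : GL (Fin n) F} (hg : g ∈ M)
    (x y : Fin n → F) :
    Cfsg.hermForm n F q ((g : Matrix (Fin n) (Fin n) F) *ᵥ x)
      ((g : Matrix (Fin n) (Fin n) F) *ᵥ y) = Cfsg.hermForm n F q x y :=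
  mem_GU.mp (h.leG hg).1 x y

end Conc

end Cfsg.Agent.Lib.Helper5.USf
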