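import Mathlib
import Cfsg.Agent.Lib.Helper5.USfDefs

/-!
S5658 leaf UA (helper23, for helper5): field facts for a subfield `F₀ ≤ F = F_{q²}` of odd degree
(`x ↦ x^q` stabilises `F₀` and does not fix it pointwise).
-/

set_option autoImplicit false
set_option linter.unusedSectionVars false
set_option linter.unusedVariables false

namespace Cfsg.Agent.Lib.Helper5.USf
open Cfsg Matrix Cfsg.Agent.Lib.Helper5.SpMax Cfsg.Agent.Lib.Helper5.TMCalc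
  Cfsg.Agent.Lib.Helper5.UForm Cfsg.Agent.Lib.Helper5.USub Cfsg.Agent.Lib.Helper5.HermBridge
  Cfsg.Agent.Lib.Helper5.SUMax

section UA
variable {F : Type*} [Field F] [Fintype F] {q : ℕ}

lemma ua_frobQ_inv (hF : Fintype.card F = q ^ 2) (a : F) : frobQ hF (frobQ hF a) = a :=
  pow_q_pow_q hF a

lemma ua_frobQ_ne_refl (hF : Fintype.card F = q ^ 2) : frobQ hF ≠ RingEquiv.refl F :=
  (herm_unitary (n := 1) hF).ne_refl

lemma ua_finrank_sub_of_card (F₀ : Subfield F) {r : ℕ}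
    (hcard : Fintype.card F = Nat.card F₀ ^ r) : Module.finrank F₀ F = r := by
  classical
  letI : Fintype F₀ := Fintype.ofFinite F₀
  have h1 := Module.card_eq_pow_finrank (K := F₀) (V := F)
  rw [hcard, Nat.card_eq_fintype_card] at h1
  have h2 : 2 ≤ Fintype.card F₀ := Fintype.one_lt_card
  exact (Nat.pow_right_injective h2 h1).symm

theorem exists_moved_sub (hF : Fintype.card F = q ^ 2) (F₀ : Subfield F) {r : ℕ} (hr : r.Prime)
    (hro : Odd r) (hcard : Fintype.card F = Nat.card F₀ ^ r) :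
    ∃ θ ∈ F₀, frobQ hF θ ≠ θ := by
  by_contra hcon
  push Not at hcon
  -- `x ↦ x^q` is an `F₀`-algebra automorphism of order two
  let τ : F ≃ₐ[F₀] F := AlgEquiv.ofRingEquiv (f := frobQ hF) (fun x => hcon x.1 x.2)
  have hτ : ∀ x, τ x = frobQ hF x := fun x => rfl
  have hτ1 : τ ≠ 1 := by
    intro h1
    obtain ⟨θ, hθ⟩ := exists_moved (ua_frobQ_ne_refl hF)
    apply hθ
    rw [← hτ, h1]; rfl
  have hτ2 : τ ^ 2 = 1 := by
    apply AlgEquiv.ext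
    intro x
    rw [pow_two, AlgEquiv.mul_apply, hτ, hτ, ua_frobQ_inv]; rfl
  have hord : orderOf τ = 2 := orderOf_eq_prime hτ2 hτ1
  have hdvd : orderOf τ ∣ Nat.card (F ≃ₐ[F₀] F) := orderOf_dvd_natCard τ
  rw [IsGalois.card_aut_eq_finrank, ua_finrank_sub_of_card F₀ hcard, hord] at hdvd
  exact (Nat.not_even_iff_odd.mpr hro) (even_iff_two_dvd.mpr hdvd)

theorem exists_skew_sub (hF : Fintype.card F = q ^ 2) (F₀ : Subfield F)
    (hθ : ∃ θ ∈ F₀, frobQ hF θ ≠ θ) : ∃ c₀ ∈ F₀, c₀ ≠ 0 ∧ frobQ hF c₀ = -c₀ := by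
  obtain ⟨θ, hθF, hθ⟩ := hθ
  refine ⟨θ - frobQ hF θ, F₀.sub_mem hθF (frob_mem hF F₀ hθF), sub_ne_zero.mpr (Ne.symm hθ), ?_⟩
  rw [map_sub, ua_frobQ_inv]; ring

theorem mem_of_twist (hF : Fintype.card F = q ^ 2) (F₀ : Subfield F)
    (hθ : ∃ θ ∈ F₀, frobQ hF θ ≠ θ) {x : F}
    (h : ∀ θ ∈ F₀, θ * x - frobQ hF (θ * x) ∈ F₀) : x ∈ F₀ := by
  obtain ⟨θ, hθF, hθ⟩ := hθ
  have hA := h 1 F₀.one_mem
  have hB := h θ hθF
  rw [one_mul] at hA
  rw [map_mul] at hB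
  have hσθ : frobQ hF θ ∈ F₀ := frob_mem hF F₀ hθF
  have h1 : (θ - frobQ hF θ) * x ∈ F₀ := by
    have := F₀.sub_mem hB (F₀.mul_mem hσθ hA)
    have e : θ * x - frobQ hF θ * frobQ hF x - frobQ hF θ * (x - frobQ hF x) =
        (θ - frobQ hF θ) * x := by ring
    rwa [e] at this
  have h0 : θ - frobQ hF θ ≠ 0 := sub_ne_zero.mpr (Ne.symm hθ)
  have h2 := F₀.mul_mem (F₀.inv_mem (F₀.sub_mem hθF hσθ)) h1
  rwa [← mul_assoc, inv_mul_cancel₀ h0, one_mul] at h2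

theorem skew_surj (hF : Fintype.card F = q ^ 2) {d : F} (hd : frobQ hF d = -d) :
    ∃ c : F, frobQ hF c - c = d := by
  obtain ⟨θ, hθ⟩ := exists_tr_ne (ua_frobQ_inv hF) (ua_frobQ_ne_refl hF)
  have hθ' : frobQ hF θ + θ ≠ 0 := by rwa [add_comm]
  refine ⟨-(d * θ) / (θ + frobQ hF θ), ?_⟩
  rw [map_div₀, map_neg, map_mul, map_add, ua_frobQ_inv, hd]
  field_simp
  ring

/-- an element of `F₀` with non-zero trace -/
lemma ua_exists_tr_ne_sub (hF : Fintype.card F = q ^ 2) (F₀ : Subfield F)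
    (hθ : ∃ θ ∈ F₀, frobQ hF θ ≠ θ) : ∃ θ ∈ F₀, θ + frobQ hF θ ≠ 0 := by
  obtain ⟨θ, hθF, hθ⟩ := hθ
  by_cases h2 : (2 : F) = 0
  · refine ⟨θ, hθF, fun h => hθ ?_⟩
    have h1 : frobQ hF θ = -θ := by linear_combination h
    rw [h1]
    linear_combination (-θ) * h2
  · refine ⟨1, F₀.one_mem, ?_⟩
    rw [map_one]
    intro h
    apply h2
    linear_combination h

theorem tr_surj_sub (hF : Fintype.card F = q ^ 2) (F₀ : Subfield F)
    (hθ : ∃ θ ∈ F₀, frobQ hF θ ≠ θ) {r : F} (hr : r ∈ F₀) (hfix : frobQ hF r = r) :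
    ∃ κ ∈ F₀, κ + frobQ hF κ = r := by
  obtain ⟨θ, hθF, hθ⟩ := ua_exists_tr_ne_sub hF F₀ hθ
  have hθ' : frobQ hF θ + θ ≠ 0 := by rwa [add_comm]
  refine ⟨r * θ / (θ + frobQ hF θ),
    F₀.div_mem (F₀.mul_mem hr hθF) (F₀.add_mem hθF (frob_mem hF F₀ hθF)), ?_⟩
  rw [map_div₀, map_mul, map_add, ua_frobQ_inv, hfix]
  field_simp
  ring

theorem norm_surj_sub (hF : Fintype.card F = q ^ 2) (F₀ : Subfield F)
    (hθ : ∃ θ ∈ F₀, frobQ hF θ ≠ θ) {r : F} (hr : r ∈ F₀) (hr0 : r ≠ 0)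
    (hfix : frobQ hF r = r) : ∃ l ∈ F₀, l * frobQ hF l = r := by
  classical
  letI : Fintype F₀ := Fintype.ofFinite F₀
  -- the restriction of `x ↦ x^q` to `F₀`
  let σ₀ : F₀ ≃+* F₀ :=
    { toFun := fun x => ⟨frobQ hF x.1, frob_mem hF F₀ x.2⟩
      invFun := fun x => ⟨frobQ hF x.1, frob_mem hF F₀ x.2⟩
      left_inv := fun x => Subtype.ext (ua_frobQ_inv hF x.1)
      right_inv := fun x => Subtype.ext (ua_frobQ_inv hF x.1)
      map_mul' := fun x y => Subtype.ext (map_mul (frobQ hF) x.1 y.1)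
      map_add' := fun x y => Subtype.ext (map_add (frobQ hF) x.1 y.1) }
  have hσ₀ : ∀ x : F₀, ((σ₀ x : F₀) : F) = frobQ hF x.1 := fun x => rfl
  have hinv : ∀ a : F₀, σ₀ (σ₀ a) = a := fun a => Subtype.ext (ua_frobQ_inv hF a.1)
  have hne : σ₀ ≠ RingEquiv.refl F₀ := by
    intro h
    obtain ⟨θ, hθF, hθ⟩ := hθ
    apply hθ
    have := congrArg (fun e : F₀ ≃+* F₀ => ((e ⟨θ, hθF⟩ : F₀) : F)) h
    simpa [hσ₀] using this
  obtain ⟨z, hz⟩ := norm_surj hinv hne (⟨r, hr⟩ : F₀)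
    (fun h => hr0 (congrArg Subtype.val h)) (Subtype.ext hfix)
  refine ⟨z.1, z.2, ?_⟩
  have := congrArg Subtype.val hz
  simpa [hσ₀] using this

end UA

end Cfsg.Agent.Lib.Helper5.USf
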