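import Mathlib
import Cfsg.Agent.Lib.Helper5.USfDefs

/-!
S5658 leaf UB (written by helper15 for helper5's market): calculus of Eichler elements, unitary
transvections and Levi-type root elements for an abstract unitary form, in the membership vocabulary
`TV`, `EM`, `LM` of `USfDefs`.
-/

set_option autoImplicit false
set_option linter.unusedSectionVars false
set_option linter.unusedVariables false
set_option linter.unusedSimpArgs false

namespace Cfsg.Agent.Lib.Helper5.USf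
open Cfsg Matrix Cfsg.Agent.Lib.Helper5.SpMax Cfsg.Agent.Lib.Helper5.TMCalc
  Cfsg.Agent.Lib.Helper5.UForm Cfsg.Agent.Lib.Helper5.USub Cfsg.Agent.Lib.Helper5.HermBridge
  Cfsg.Agent.Lib.Helper5.SUMax

section UB
variable {F : Type*} [Field F] {n : ℕ} {σ : F ≃+* F} {f : (Fin n → F) → (Fin n → F) → F}
  (hf : Cfsg.Geo.IsUnitaryForm σ f) {M : Subgroup (GL (Fin n) F)}
include hf

/-- the action of a product -/
private lemma mul_mv (g h : GL (Fin n) F) (x : Fin n → F) :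
    ((g * h : GL (Fin n) F) : Matrix (Fin n) (Fin n) F) *ᵥ x =
      (g : Matrix (Fin n) (Fin n) F) *ᵥ ((h : Matrix (Fin n) (Fin n) F) *ᵥ x) := by
  rw [Units.val_mul, Matrix.mulVec_mulVec]

/-- the inverse acts by `φ` if `g (φ x) = x` -/
private lemma inv_mv_of (g : GL (Fin n) F) (φ : (Fin n → F) → (Fin n → F))
    (h : ∀ x, (g : Matrix (Fin n) (Fin n) F) *ᵥ (φ x) = x) (x : Fin n → F) :
    ((g⁻¹ : GL (Fin n) F) : Matrix (Fin n) (Fin n) F) *ᵥ x = φ x := by
  conv_lhs => rw [← h x]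
  rw [inv_mul_mulVec]

/-- isometries: the inverse moves to the other side -/
private lemma iso_inv {h : GL (Fin n) F}
    (hiso : ∀ x y, f ((h : Matrix (Fin n) (Fin n) F) *ᵥ x) ((h : Matrix (Fin n) (Fin n) F) *ᵥ y) =
      f x y) (x w : Fin n → F) :
    f (((h⁻¹ : GL (Fin n) F) : Matrix (Fin n) (Fin n) F) *ᵥ x) w =
      f x ((h : Matrix (Fin n) (Fin n) F) *ᵥ w) := by
  rw [← hiso, mul_inv_mulVec]

theorem EM_mul {v w w' : Fin n → F} {κ κ' : F} (hvv : f v v = 0) (hwv : f w v = 0)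
    (hw'v : f w' v = 0) (h1 : EM f M v w κ) (h2 : EM f M v w' κ') :
    EM f M v (w + w') (κ + κ' + f w' w) := by
  obtain ⟨g, hgM, hg⟩ := h1
  obtain ⟨g', hg'M, hg'⟩ := h2
  refine ⟨g * g', M.mul_mem hgM hg'M, fun x => ?_⟩
  rw [mul_mv hf, hg, UEichler.E_apply_v hf hvv hw'v hg', UEichler.E_apply_w hf hvv hw'v hwv hg',
    hg' x, u_add_right hf]
  ext i
  simp only [Pi.add_apply, Pi.sub_apply, Pi.smul_apply, smul_eq_mul]
  ring

theorem EM_inv {v w : Fin n → F} {κ : F} (hvv : f v v = 0) (hwv : f w v = 0)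
    (h1 : EM f M v w κ) : EM f M v (-w) (f w w - κ) := by
  obtain ⟨g, hgM, hg⟩ := h1
  have hvw : f v w = 0 := u_symm_zero hf hwv
  refine ⟨g⁻¹, M.inv_mem hgM, ?_⟩
  apply inv_mv_of hf g
  intro x
  rw [hg]
  simp only [hf.add_left, u_sub_left hf, hf.smul_left, u_neg_left hf, u_neg_right hf, hvv, hwv, hvw,
    mul_zero, add_zero, sub_zero, neg_zero]
  ext i
  simp only [Pi.add_apply, Pi.sub_apply, Pi.smul_apply, Pi.neg_apply, smul_eq_mul]
  ring

theorem EM_conj {h : GL (Fin n) F} (hh : h ∈ M)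
    (hiso : ∀ x y, f ((h : Matrix (Fin n) (Fin n) F) *ᵥ x) ((h : Matrix (Fin n) (Fin n) F) *ᵥ y) =
      f x y) {v w : Fin n → F} {κ : F} (h1 : EM f M v w κ) :
    EM f M ((h : Matrix (Fin n) (Fin n) F) *ᵥ v) ((h : Matrix (Fin n) (Fin n) F) *ᵥ w) κ := by
  obtain ⟨g, hgM, hg⟩ := h1
  refine ⟨h * g * h⁻¹, M.mul_mem (M.mul_mem hh hgM) (M.inv_mem hh), fun x => ?_⟩
  rw [mul_mv hf, mul_mv hf, hg, iso_inv hf hiso, iso_inv hf hiso]
  simp only [Matrix.mulVec_add, Matrix.mulVec_sub, Matrix.mulVec_smul, mul_inv_mulVec]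

theorem EM_comm {v w w' : Fin n → F} {κ κ' : F} (hvv : f v v = 0) (hwv : f w v = 0)
    (hw'v : f w' v = 0) (h1 : EM f M v w κ) (h2 : EM f M v w' κ') :
    TV f M v (f w w' - f w' w) := by
  obtain ⟨g, hgM, hg⟩ := h1
  obtain ⟨g', hg'M, hg'⟩ := h2
  obtain ⟨t, -, ht⟩ := exists_rank_one ((f w w' - f w' w) • uL hf v) v
    (by rw [LinearMap.smul_apply, uL_apply, hvv, smul_zero])
  have ht' : ∀ x, (t : Matrix (Fin n) (Fin n) F) *ᵥ x = x + ((f w w' - f w' w) * f x v) • v := by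
    intro x
    rw [ht, LinearMap.smul_apply, uL_apply, smul_eq_mul]
  have hc := UEichler.E_comm hf hvv hwv hw'v hg hg' ht'
  have htM : t = g * g' * g⁻¹ * g'⁻¹ := by
    rw [hc]
    group
  refine ⟨t, ?_, ht'⟩
  rw [htM]
  exact M.mul_mem (M.mul_mem (M.mul_mem hgM hg'M) (M.inv_mem hgM)) (M.inv_mem hg'M)

theorem EM_zero_iff {v : Fin n → F} {κ : F} : EM f M v 0 κ ↔ TV f M v (-κ) := by
  have key : ∀ x, x + f x 0 • v - f x v • (0 : Fin n → F) - (κ * f x v) • v =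
      x + (-κ * f x v) • v := by
    intro x
    rw [u_zero_right hf, zero_smul, smul_zero, add_zero, sub_zero, neg_mul, neg_smul, sub_eq_add_neg]
  constructor
  · rintro ⟨g, hgM, hg⟩
    exact ⟨g, hgM, fun x => by rw [hg, key]⟩
  · rintro ⟨g, hgM, hg⟩
    exact ⟨g, hgM, fun x => by rw [hg, key]⟩

theorem EM_shift {v w : Fin n → F} {κ t : F} :
    EM f M v (w + t • v) κ ↔ EM f M v w (κ + t - σ t) := by
  have key : ∀ x, x + f x (w + t • v) • v - f x v • (w + t • v) - (κ * f x v) • v =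
      x + f x w • v - f x v • w - ((κ + t - σ t) * f x v) • v := by
    intro x
    rw [u_add_right hf, u_smul_right hf]
    ext i
    simp only [Pi.add_apply, Pi.sub_apply, Pi.smul_apply, smul_eq_mul]
    ring
  constructor
  · rintro ⟨g, hgM, hg⟩
    exact ⟨g, hgM, fun x => by rw [hg, key]⟩
  · rintro ⟨g, hgM, hg⟩
    exact ⟨g, hgM, fun x => by rw [hg, key]⟩

theorem TV_conj {h : GL (Fin n) F} (hh : h ∈ M)
    (hiso : ∀ x y, f ((h : Matrix (Fin n) (Fin n) F) *ᵥ x) ((h : Matrix (Fin n) (Fin n) F) *ᵥ y) =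
      f x y) {v : Fin n → F} {c : F} (h1 : TV f M v c) :
    TV f M ((h : Matrix (Fin n) (Fin n) F) *ᵥ v) c := by
  obtain ⟨g, hgM, hg⟩ := h1
  refine ⟨h * g * h⁻¹, M.mul_mem (M.mul_mem hh hgM) (M.inv_mem hh), fun x => ?_⟩
  rw [mul_mv hf, mul_mv hf, hg, iso_inv hf hiso]
  simp only [Matrix.mulVec_add, Matrix.mulVec_smul, mul_inv_mulVec]

theorem TV_smul {v : Fin n → F} {c ρ : F} : TV f M (ρ • v) c ↔ TV f M v (c * (ρ * σ ρ)) := by
  have key : ∀ x, x + (c * f x (ρ • v)) • (ρ • v) = x + (c * (ρ * σ ρ) * f x v) • v := by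
    intro x
    rw [u_smul_right hf, smul_smul]
    congr 2
    ring
  constructor
  · rintro ⟨g, hgM, hg⟩
    exact ⟨g, hgM, fun x => by rw [hg, key]⟩
  · rintro ⟨g, hgM, hg⟩
    exact ⟨g, hgM, fun x => by rw [hg, key]⟩

theorem TV_diff {a b : Fin n → F} {c μ : F} (hbb : f b b = 0) (hba : f b a = 0)
    (hc : σ c = -c) (h1 : TV f M b c) (h2 : TV f M (b + μ • a) c) :
    EM f M a (-(c * σ μ) • b) (-(c * μ * σ μ)) := by
  obtain ⟨t₁, ht₁M, ht₁⟩ := h1
  obtain ⟨t₂, ht₂M, ht₂⟩ := h2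
  have hinv : ∀ x, ((t₁⁻¹ : GL (Fin n) F) : Matrix (Fin n) (Fin n) F) *ᵥ x =
      x - (c * f x b) • b := by
    apply inv_mv_of hf t₁
    intro x
    rw [ht₁, u_sub_left hf, hf.smul_left, hbb, mul_zero, sub_zero]
    abel
  refine ⟨t₂ * t₁⁻¹, M.mul_mem ht₂M (M.inv_mem ht₁M), fun x => ?_⟩
  rw [mul_mv hf, ht₂, hinv]
  simp only [u_sub_left hf, hf.smul_left, u_add_right hf, u_smul_right hf, hbb, hba, mul_zero,
    add_zero, sub_zero, map_neg, map_mul, hf.involutive, hc]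
  ext i
  simp only [Pi.add_apply, Pi.sub_apply, Pi.smul_apply, Pi.neg_apply, smul_eq_mul]
  ring

theorem LM_iff_EM {a b : Fin n → F} {c : F} : LM σ f M a b c ↔ EM f M a (σ c • b) 0 := by
  have key : ∀ x, x + (c * f x b) • a - (σ c * f x a) • b =
      x + f x (σ c • b) • a - f x a • (σ c • b) - (0 * f x a) • a := by
    intro x
    rw [u_smul_right hf, hf.involutive, zero_mul, zero_smul, sub_zero, smul_smul, mul_comm (f x a)]
  constructor
  · rintro ⟨g, hgM, hg⟩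
    exact ⟨g, hgM, fun x => by rw [hg, key]⟩
  · rintro ⟨g, hgM, hg⟩
    exact ⟨g, hgM, fun x => by rw [hg, key]⟩

theorem LM_zero {a b : Fin n → F} : LM σ f M a b 0 := by
  refine ⟨1, M.one_mem, fun x => ?_⟩
  rw [Units.val_one, Matrix.one_mulVec, map_zero, zero_mul, zero_mul, zero_smul, zero_smul, add_zero,
    sub_zero]

theorem LM_add {a b : Fin n → F} {c c' : F} (haa : f a a = 0) (hbb : f b b = 0) (hab : f a b = 0)
    (h1 : LM σ f M a b c) (h2 : LM σ f M a b c') : LM σ f M a b (c + c') := by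
  obtain ⟨g, hgM, hg⟩ := h1
  obtain ⟨g', hg'M, hg'⟩ := h2
  have hba : f b a = 0 := u_symm_zero hf hab
  refine ⟨g * g', M.mul_mem hgM hg'M, fun x => ?_⟩
  rw [mul_mv hf, hg, hg']
  simp only [hf.add_left, u_sub_left hf, hf.smul_left, haa, hbb, hab, hba, mul_zero, add_zero,
    sub_zero, map_add]
  ext i
  simp only [Pi.add_apply, Pi.sub_apply, Pi.smul_apply, smul_eq_mul]
  ring

theorem LM_neg {a b : Fin n → F} {c : F} (haa : f a a = 0) (hbb : f b b = 0) (hab : f a b = 0)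
    (h1 : LM σ f M a b c) : LM σ f M a b (-c) := by
  obtain ⟨g, hgM, hg⟩ := h1
  have hba : f b a = 0 := u_symm_zero hf hab
  refine ⟨g⁻¹, M.inv_mem hgM, ?_⟩
  apply inv_mv_of hf g
  intro x
  rw [hg]
  simp only [hf.add_left, u_sub_left hf, hf.smul_left, haa, hbb, hab, hba, mul_zero, add_zero,
    sub_zero, map_neg]
  ext i
  simp only [Pi.add_apply, Pi.sub_apply, Pi.smul_apply, smul_eq_mul]
  ring

theorem LM_symm {a b : Fin n → F} {c : F} : LM σ f M a b c ↔ LM σ f M b a (-(σ c)) := by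
  have key : ∀ x, x + (c * f x b) • a - (σ c * f x a) • b =
      x + (-(σ c) * f x a) • b - (σ (-(σ c)) * f x b) • a := by
    intro x
    rw [map_neg, hf.involutive]
    ext i
    simp only [Pi.add_apply, Pi.sub_apply, Pi.smul_apply, smul_eq_mul]
    ring
  constructor
  · rintro ⟨g, hgM, hg⟩
    exact ⟨g, hgM, fun x => by rw [hg, key]⟩
  · rintro ⟨g, hgM, hg⟩
    exact ⟨g, hgM, fun x => by rw [hg, key]⟩

theorem LM_smul_left {a b : Fin n → F} {c μ : F} :
    LM σ f M (μ • a) b c ↔ LM σ f M a b (c * μ) := by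
  have key : ∀ x, x + (c * f x b) • (μ • a) - (σ c * f x (μ • a)) • b =
      x + (c * μ * f x b) • a - (σ (c * μ) * f x a) • b := by
    intro x
    rw [u_smul_right hf, map_mul]
    ext i
    simp only [Pi.add_apply, Pi.sub_apply, Pi.smul_apply, smul_eq_mul]
    ring
  constructor
  · rintro ⟨g, hgM, hg⟩
    exact ⟨g, hgM, fun x => by rw [hg, key]⟩
  · rintro ⟨g, hgM, hg⟩
    exact ⟨g, hgM, fun x => by rw [hg, key]⟩

theorem LM_smul_right {a b : Fin n → F} {c μ : F} :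
    LM σ f M a (μ • b) c ↔ LM σ f M a b (c * σ μ) := by
  have key : ∀ x, x + (c * f x (μ • b)) • a - (σ c * f x a) • (μ • b) =
      x + (c * σ μ * f x b) • a - (σ (c * σ μ) * f x a) • b := by
    intro x
    rw [u_smul_right hf, map_mul, hf.involutive]
    ext i
    simp only [Pi.add_apply, Pi.sub_apply, Pi.smul_apply, smul_eq_mul]
    ring
  constructor
  · rintro ⟨g, hgM, hg⟩
    exact ⟨g, hgM, fun x => by rw [hg, key]⟩
  · rintro ⟨g, hgM, hg⟩
    exact ⟨g, hgM, fun x => by rw [hg, key]⟩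

theorem LM_conj {h : GL (Fin n) F} (hh : h ∈ M)
    (hiso : ∀ x y, f ((h : Matrix (Fin n) (Fin n) F) *ᵥ x) ((h : Matrix (Fin n) (Fin n) F) *ᵥ y) =
      f x y) {a b : Fin n → F} {c : F} (h1 : LM σ f M a b c) :
    LM σ f M ((h : Matrix (Fin n) (Fin n) F) *ᵥ a) ((h : Matrix (Fin n) (Fin n) F) *ᵥ b) c := by
  obtain ⟨g, hgM, hg⟩ := h1
  refine ⟨h * g * h⁻¹, M.mul_mem (M.mul_mem hh hgM) (M.inv_mem hh), fun x => ?_⟩
  rw [mul_mv hf, mul_mv hf, hg, iso_inv hf hiso, iso_inv hf hiso]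
  simp only [Matrix.mulVec_add, Matrix.mulVec_sub, Matrix.mulVec_smul, mul_inv_mulVec]

theorem LM_cancel {a b e : Fin n → F} {c d : F} (hee : f e e = 0) (hea : f e a = 0)
    (hbe : f b e = 0) (hba : f b a = 0) (hbb : f b b = 0)
    (h1 : LM σ f M (e + c • a) b d) (h2 : LM σ f M e b (-d)) : LM σ f M a b (c * d) := by
  obtain ⟨g₁, hg₁M, hg₁⟩ := h1
  obtain ⟨g₂, hg₂M, hg₂⟩ := h2
  have heb : f e b = 0 := u_symm_zero hf hbe
  have hab : f a b = 0 := u_symm_zero hf hba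
  have hae : f a e = 0 := u_symm_zero hf hea
  refine ⟨g₂ * g₁, M.mul_mem hg₂M hg₁M, fun x => ?_⟩
  rw [mul_mv hf, hg₂, hg₁]
  simp only [hf.add_left, u_sub_left hf, hf.smul_left, u_add_right hf, u_smul_right hf, hee, hea,
    hbe, hba, hbb, heb, hab, hae, mul_zero, add_zero, sub_zero, map_neg, map_mul]
  ext i
  simp only [Pi.add_apply, Pi.sub_apply, Pi.smul_apply, smul_eq_mul]
  ring

theorem LM_comm_TV {a b b' : Fin n → F} {c c' : F} (haa : f a a = 0) (hba : f b a = 0)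
    (hb'a : f b' a = 0) (h1 : LM σ f M a b c) (h2 : LM σ f M a b' c') :
    TV f M a (σ c * c' * f b b' - c * σ c' * f b' b) := by
  have e1 := (LM_iff_EM hf).mp h1
  have e2 := (LM_iff_EM hf).mp h2
  have hwa : f (σ c • b) a = 0 := by rw [hf.smul_left, hba, mul_zero]
  have hw'a : f (σ c' • b') a = 0 := by rw [hf.smul_left, hb'a, mul_zero]
  have h3 := EM_comm hf haa hwa hw'a e1 e2
  have h4 : f (σ c • b) (σ c' • b') - f (σ c' • b') (σ c • b) =
      σ c * c' * f b b' - c * σ c' * f b' b := by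
    rw [hf.smul_left, hf.smul_left, u_smul_right hf, u_smul_right hf, hf.involutive, hf.involutive]
    ring
  rwa [h4] at h3

end UB

end Cfsg.Agent.Lib.Helper5.USf
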