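import Mathlib
import Cfsg.Agent.Lib.Helper5.USfDefs

/-!
Transfer between the rational vectors of a unitary rational structure `P` over a subfield `F₀`
(stable and not fixed by `x ↦ x^q`) and the space `F₀^n`: the map `io`, the restricted automorphism `sg`,
the restricted form `f0`, which is a non-degenerate unitary form over `F₀`.
-/

set_option autoImplicit false
set_option linter.unusedSectionVars false
set_option linter.unusedVariables false
set_option linter.unusedSimpArgs false

namespace Cfsg.Agent.Lib.Helper5.USf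
open Cfsg Matrix Cfsg.Agent.Lib.Helper5.SpMax Cfsg.Agent.Lib.Helper5.TMCalc
  Cfsg.Agent.Lib.Helper5.UForm Cfsg.Agent.Lib.Helper5.USub Cfsg.Agent.Lib.Helper5.HermBridge
  Cfsg.Agent.Lib.Helper5.SUMax Cfsg.Agent.Lib.Helper5.LSub

section Transfer
variable {F : Type*} [Field F] [Fintype F] {q n : ℕ} {hF : Fintype.card F = q ^ 2}
  {F₀ : Subfield F} {P : GL (Fin n) F}

/-- coordinates in `F₀` to rational vectors -/
def io (F₀ : Subfield F) (P : GL (Fin n) F) (u : Fin n → F₀) : Fin n → F :=
  (P : Matrix (Fin n) (Fin n) F) *ᵥ (fun i => (u i : F))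

lemma io_add (u v : Fin n → F₀) : io F₀ P (u + v) = io F₀ P u + io F₀ P v := by
  unfold io
  rw [← Matrix.mulVec_add]
  congr 1

lemma io_smul (c : F₀) (u : Fin n → F₀) : io F₀ P (c • u) = (c : F) • io F₀ P u := by
  unfold io
  rw [← Matrix.mulVec_smul]
  congr 1

lemma io_zero : io F₀ P (0 : Fin n → F₀) = 0 := by
  unfold io
  have : (fun i => (((0 : Fin n → F₀) i : F₀) : F)) = 0 := by
    funext i
    rfl
  rw [this, Matrix.mulVec_zero]

lemma io_neg (u : Fin n → F₀) : io F₀ P (-u) = -io F₀ P u := by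
  unfold io
  rw [← Matrix.mulVec_neg]
  congr 1

lemma io_sub (u v : Fin n → F₀) : io F₀ P (u - v) = io F₀ P u - io F₀ P v := by
  rw [sub_eq_add_neg, io_add, io_neg, ← sub_eq_add_neg]

lemma io_inj {u v : Fin n → F₀} (h : io F₀ P u = io F₀ P v) : u = v := by
  have h1 := mulVec_inj P h
  funext i
  exact Subtype.ext (congrFun h1 i)

lemma io_eq_zero {u : Fin n → F₀} (h : io F₀ P u = 0) : u = 0 := by
  apply io_inj (P := P)
  rw [h, io_zero]

lemma isRat_io (u : Fin n → F₀) : IsRat F₀ P (io F₀ P u) :=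
  isRat_mulVec (fun i => (u i).2)

lemma exists_io {x : Fin n → F} (hx : IsRat F₀ P x) : ∃ u : Fin n → F₀, io F₀ P u = x :=
  ⟨fun i => ⟨(((P⁻¹ : GL (Fin n) F) : Matrix (Fin n) (Fin n) F) *ᵥ x) i, hx i⟩,
    mul_inv_mulVec P x⟩

lemma io_single (j : Fin n) : io F₀ P (Pi.single j 1) = ev P j := by
  unfold io ev
  congr 1
  funext i
  by_cases h : i = j
  · subst h
    simp
  · simp [Pi.single_eq_of_ne h]

/-- the restriction of `x ↦ x^q` to `F₀` -/
noncomputable def sg (hF : Fintype.card F = q ^ 2) (F₀ : Subfield F) : F₀ ≃+* F₀ where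
  toFun x := ⟨frobQ hF x, frob_mem hF F₀ x.2⟩
  invFun x := ⟨frobQ hF x, frob_mem hF F₀ x.2⟩
  left_inv x := Subtype.ext (pow_q_pow_q hF x)
  right_inv x := Subtype.ext (pow_q_pow_q hF x)
  map_mul' x y := Subtype.ext (map_mul (frobQ hF) (x : F) (y : F))
  map_add' x y := Subtype.ext (map_add (frobQ hF) (x : F) (y : F))

lemma sg_coe (x : F₀) : ((sg hF F₀ x : F₀) : F) = frobQ hF (x : F) := rfl

/-- the restricted form -/
noncomputable def f0 (D : Dat hF F₀ P) (u v : Fin n → F₀) : F₀ :=
  ⟨Cfsg.hermForm n F q (io F₀ P u) (io F₀ P v), D.form_mem (isRat_io u) (isRat_io v)⟩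

lemma f0_coe (D : Dat hF F₀ P) (u v : Fin n → F₀) :
    ((f0 D u v : F₀) : F) = Cfsg.hermForm n F q (io F₀ P u) (io F₀ P v) := rfl

lemma form_ev_ne (hF : Fintype.card F = q ^ 2) (P : GL (Fin n) F) {v : Fin n → F} (hv : v ≠ 0) :
    ∃ j, Cfsg.hermForm n F q (ev P j) v ≠ 0 := by
  have hf := herm_unitary (n := n) hF
  by_contra hcon
  push Not at hcon
  obtain ⟨x, hx⟩ := (hf.nondegenerate v hv).1
  apply hx
  rw [← uL_apply hf, LSub.decomp P x, map_sum]
  apply Finset.sum_eq_zero
  intro j _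
  rw [map_smul, uL_apply, hcon j, smul_zero]

theorem f0_unitary (D : Dat hF F₀ P) : Cfsg.Geo.IsUnitaryForm (sg hF F₀) (f0 D) where
  ne_refl := by
    intro h
    obtain ⟨θ, hθ, hne⟩ := D.moved
    apply hne
    have h1 : sg hF F₀ ⟨θ, hθ⟩ = ⟨θ, hθ⟩ := by rw [h]; rfl
    exact congrArg Subtype.val h1
  involutive a := Subtype.ext (pow_q_pow_q hF a)
  add_left x y v := Subtype.ext (by
    have hf := herm_unitary (n := n) hF
    rw [f0_coe, io_add, hf.add_left]
    rfl)
  smul_left c x v := Subtype.ext (by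
    have hf := herm_unitary (n := n) hF
    rw [f0_coe, io_smul, hf.smul_left]
    rfl)
  herm v w := Subtype.ext (by
    have hf := herm_unitary (n := n) hF
    rw [f0_coe, hf.herm]
    rfl)
  nondegenerate := by
    have hf := herm_unitary (n := n) hF
    intro v hv
    have hv' : io F₀ P v ≠ 0 := fun h => hv (io_eq_zero h)
    obtain ⟨j, hj⟩ := form_ev_ne hF P hv'
    constructor
    · refine ⟨Pi.single j 1, fun h0 => hj ?_⟩
      have := congrArg Subtype.val h0
      rw [f0_coe, io_single] at this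
      exact this
    · refine ⟨Pi.single j 1, fun h0 => hj ?_⟩
      have := congrArg Subtype.val h0
      rw [f0_coe, io_single] at this
      exact u_symm_zero hf this

end Transfer

end Cfsg.Agent.Lib.Helper5.USf
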