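import Mathlib
import Cfsg.Agent.Lib.Helper5.USfDefs
import Cfsg.Agent.Lib.Helper5.UEichler

/-!
S5658 leaf UD (helper26): rational elements of the subfield group: rational transvections, Eichler
elements, Levi root elements, the involution-like elements `tau`, and moving one rational isotropic
point to another.
-/

set_option autoImplicit false
set_option linter.unusedSectionVars false
set_option linter.unusedVariables false
set_option linter.unusedSimpArgs false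

namespace Cfsg.Agent.Lib.Helper5.USf
open Cfsg Matrix Cfsg.Agent.Lib.Helper5.SpMax Cfsg.Agent.Lib.Helper5.TMCalc
  Cfsg.Agent.Lib.Helper5.UForm Cfsg.Agent.Lib.Helper5.USub Cfsg.Agent.Lib.Helper5.HermBridge
  Cfsg.Agent.Lib.Helper5.SUMax

section UD
variable {F : Type*} [Field F] [Fintype F] {q n : ℕ} {hF : Fintype.card F = q ^ 2}
  {F₀ : Subfield F} {P : GL (Fin n) F}

/-- an element of `GU ⊓ SL` mapping rational vectors to rational vectors is in `Hsub` -/
lemma ud_mem_Hsub (hn : 0 < n) {g : GL (Fin n) F}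
    (hG : g ∈ Cfsg.GU n F q ⊓ Cfsg.Geo.specialLinear (Fin n) F)
    (hr : ∀ x, IsRat F₀ P x → IsRat F₀ P ((g : Matrix (Fin n) (Fin n) F) *ᵥ x)) :
    g ∈ Hsub n q F₀ P := by
  refine Subgroup.mem_inf.mpr ⟨?_, hG⟩
  apply mem_subfield_of_maps hn g
  intro x hx
  exact ⟨1, _, hr x hx, by rw [one_smul]⟩

theorem rat_TV (hn : 0 < n) (D : Dat hF F₀ P) {a : Fin n → F} (ha : IsRat F₀ P a)
    (haa : Cfsg.hermForm n F q a a = 0) {c : F} (hc : c ∈ F₀) (hcs : frobQ hF c = -c) :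
    TV (Cfsg.hermForm n F q) (Hsub n q F₀ P) a c := by
  obtain ⟨g, hgG, hg⟩ := exists_tvg hF haa hcs
  refine ⟨g, ud_mem_Hsub hn hgG ?_, hg⟩
  intro x hx
  rw [hg]
  exact isRat_add hx (isRat_smul (F₀.mul_mem hc (D.form_mem hx ha)) ha)

theorem rat_EM (hn : 0 < n) (D : Dat hF F₀ P) {v w : Fin n → F} (hv : IsRat F₀ P v)
    (hw : IsRat F₀ P w) (hvv : Cfsg.hermForm n F q v v = 0) (hwv : Cfsg.hermForm n F q w v = 0)
    {κ : F} (hκ : κ ∈ F₀) (hκw : κ + frobQ hF κ = Cfsg.hermForm n F q w w) :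
    EM (Cfsg.hermForm n F q) (Hsub n q F₀ P) v w κ := by
  have hf := herm_unitary (n := n) hF
  obtain ⟨g, hgS, hg⟩ := Cfsg.Agent.Lib.Helper5.UEichler.exists_E hf hvv hwv κ
  have hgU : g ∈ Cfsg.GU n F q :=
    mem_GU.mpr (fun x y => Cfsg.Agent.Lib.Helper5.UEichler.E_isometry hf hvv hwv hκw hg x y)
  refine ⟨g, ud_mem_Hsub hn (Subgroup.mem_inf.mpr ⟨hgU, hgS⟩) ?_, hg⟩
  intro x hx
  rw [hg]
  exact isRat_sub (isRat_sub (isRat_add hx (isRat_smul (D.form_mem hx hw) hv))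
    (isRat_smul (D.form_mem hx hv) hw)) (isRat_smul (F₀.mul_mem hκ (D.form_mem hx hv)) hv)

theorem rat_LM (hn : 0 < n) (D : Dat hF F₀ P) {a b : Fin n → F} (ha : IsRat F₀ P a)
    (hb : IsRat F₀ P b) (haa : Cfsg.hermForm n F q a a = 0) (hbb : Cfsg.hermForm n F q b b = 0)
    (hab : Cfsg.hermForm n F q a b = 0) {c : F} (hc : c ∈ F₀) :
    LM (frobQ hF) (Cfsg.hermForm n F q) (Hsub n q F₀ P) a b c := by
  have hf := herm_unitary (n := n) hF
  have hba : Cfsg.hermForm n F q b a = 0 := u_symm_zero hf hab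
  have hσc : frobQ hF c ∈ F₀ := frob_mem hF F₀ hc
  have hw : IsRat F₀ P (frobQ hF c • b) := isRat_smul hσc hb
  have hwv : Cfsg.hermForm n F q (frobQ hF c • b) a = 0 := by
    rw [hf.smul_left, hba, mul_zero]
  have hww : (0 : F) + frobQ hF 0 = Cfsg.hermForm n F q (frobQ hF c • b) (frobQ hF c • b) := by
    rw [hf.smul_left, u_smul_right hf, hbb, mul_zero, mul_zero, map_zero, add_zero]
  obtain ⟨g, hgH, hg⟩ := rat_EM hn D ha hw haa hwv F₀.zero_mem hww
  refine ⟨g, hgH, fun x => ?_⟩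
  rw [hg, u_smul_right hf, hf.involutive, zero_mul, zero_smul, sub_zero, smul_smul,
    mul_comm (Cfsg.hermForm n F q x a)]

theorem exists_tau (hn : 0 < n) (D : Dat hF F₀ P) {u u' : Fin n → F} (hu : IsRat F₀ P u)
    (hu' : IsRat F₀ P u') (huu : Cfsg.hermForm n F q u u = 0)
    (hu'u' : Cfsg.hermForm n F q u' u' = 0) (h2 : Cfsg.hermForm n F q u u' = 2) :
    ∃ t ∈ Hsub n q F₀ P, ∀ x, (t : Matrix (Fin n) (Fin n) F) *ᵥ x =
      x - Cfsg.hermForm n F q x u' • u - Cfsg.hermForm n F q x u • u' := by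
  have hf := herm_unitary (n := n) hF
  have h2' : Cfsg.hermForm n F q u' u = 2 := by
    rw [hf.herm, h2, map_ofNat]
  -- the element of `SL`
  obtain ⟨t, htS, ht⟩ := Cfsg.Agent.Lib.Helper5.LSub.exists_rank_k
    (b := ![u, u']) (φ := ![-(uL hf u'), -(uL hf u)]) (by
      have : (1 + Matrix.of (fun l m => (![-(uL hf u'), -(uL hf u)] : Fin 2 → _) l
          ((![u, u'] : Fin 2 → _) m)) : Matrix (Fin 2) (Fin 2) F) = !![-1, 0; 0, -1] := by
        ext l m
        fin_cases l <;> fin_cases m <;>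
          simp [Matrix.add_apply, Matrix.one_apply, uL_apply, h2, h2', huu, hu'u'] <;> ring
      rw [this, Matrix.det_fin_two_of]
      ring)
  have htx : ∀ x, (t : Matrix (Fin n) (Fin n) F) *ᵥ x =
      x - Cfsg.hermForm n F q x u' • u - Cfsg.hermForm n F q x u • u' := by
    intro x
    rw [ht, Fin.sum_univ_two]
    simp only [Matrix.cons_val_zero, Matrix.cons_val_one, LinearMap.neg_apply, uL_apply,
      neg_smul]
    abel
  have htU : t ∈ Cfsg.GU n F q := by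
    rw [mem_GU]
    intro x y
    rw [htx x, htx y]
    simp only [hf.add_left, u_sub_left hf, hf.smul_left, u_add_right hf, u_sub_right hf,
      u_smul_right hf, huu, hu'u', h2, h2', mul_zero, zero_mul, add_zero, sub_zero,
      hf.herm u y, hf.herm u' y]
    ring
  refine ⟨t, ud_mem_Hsub hn (Subgroup.mem_inf.mpr ⟨htU, htS⟩) ?_, htx⟩
  intro x hx
  rw [htx]
  exact isRat_sub (isRat_sub hx (isRat_smul (D.form_mem hx hu') hu))
    (isRat_smul (D.form_mem hx hu) hu')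

theorem exists_rat_move (hn : 0 < n) (D : Dat hF F₀ P)
    (hc₀ : ∃ c₀ ∈ F₀, c₀ ≠ 0 ∧ frobQ hF c₀ = -c₀) {a b : Fin n → F} (ha : IsRat F₀ P a)
    (hb : IsRat F₀ P b) (haa : Cfsg.hermForm n F q a a = 0) (hbb : Cfsg.hermForm n F q b b = 0)
    (hab : Cfsg.hermForm n F q a b ≠ 0) :
    ∃ T ∈ Hsub n q F₀ P, ∃ μ ∈ F₀, μ ≠ 0 ∧ (T : Matrix (Fin n) (Fin n) F) *ᵥ a = μ • b ∧
      ∀ x, Cfsg.hermForm n F q x a = 0 → Cfsg.hermForm n F q x b = 0 →
        (T : Matrix (Fin n) (Fin n) F) *ᵥ x = x := by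
  have hf := herm_unitary (n := n) hF
  obtain ⟨c₀, hc₀F, hc₀0, hc₀s⟩ := hc₀
  set γ : F := Cfsg.hermForm n F q a b with hγ
  have hγF : γ ∈ F₀ := D.form_mem ha hb
  have hσγ0 : frobQ hF γ ≠ 0 := by rwa [Ne, map_eq_zero]
  have hσγF : frobQ hF γ ∈ F₀ := frob_mem hF F₀ hγF
  set μ : F := c₀ / frobQ hF γ with hμ
  have hμF : μ ∈ F₀ := F₀.div_mem hc₀F hσγF
  have hμ0 : μ ≠ 0 := div_ne_zero hc₀0 hσγ0
  have hσμ : frobQ hF μ = -c₀ / γ := by
    rw [hμ, map_div₀, hc₀s, hf.involutive]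
  have hba : Cfsg.hermForm n F q b a = frobQ hF γ := hf.herm b a
  set w : Fin n → F := a - μ • b with hw
  have hwr : IsRat F₀ P w := isRat_sub ha (isRat_smul hμF hb)
  have haw : Cfsg.hermForm n F q a w = c₀ := by
    rw [hw, u_sub_right hf, u_smul_right hf, haa, hσμ, ← hγ]
    field_simp
    ring
  have hbw : Cfsg.hermForm n F q b w = frobQ hF γ := by
    rw [hw, u_sub_right hf, u_smul_right hf, hbb, hba]
    ring
  have hww : Cfsg.hermForm n F q w w = 0 := by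
    have e : Cfsg.hermForm n F q w w = Cfsg.hermForm n F q a w - μ * Cfsg.hermForm n F q b w := by
      conv_lhs => rw [hw]
      rw [u_sub_left hf, hf.smul_left]
    rw [e, haw, hbw, hμ]
    field_simp
    ring
  set c : F := -1 / c₀ with hc
  have hcF : c ∈ F₀ := F₀.div_mem (F₀.neg_mem F₀.one_mem) hc₀F
  have hcs : frobQ hF c = -c := by
    rw [hc, map_div₀, map_neg, map_one, hc₀s]
    field_simp
  obtain ⟨T, hTH, hT⟩ := rat_TV hn D hwr hww hcF hcs
  refine ⟨T, hTH, μ, hμF, hμ0, ?_, ?_⟩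
  · rw [hT, haw, hc, hw]
    have : (-1 / c₀ * c₀ : F) = -1 := by field_simp
    rw [this]
    module
  · intro x hxa hxb
    have hxw : Cfsg.hermForm n F q x w = 0 := by
      rw [hw, u_sub_right hf, u_smul_right hf, hxa, hxb]
      ring
    rw [hT, hxw, mul_zero, zero_smul, add_zero]

end UD

end Cfsg.Agent.Lib.Helper5.USf
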