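import Mathlib
import Cfsg.Agent.Lib.Helper5.USfC

/-!
helper1 for helper5's S5658 market, leaf RG1: rational geometry of a unitary rational structure, part 1.
The lemmas of `Lib/Helper5/UForm.lean` are applied to the unitary form `f0 D` over the field `↥F₀`
and pushed along `io`.
-/

set_option autoImplicit false
set_option linter.unusedSectionVars false
set_option linter.unusedVariables false

namespace Cfsg.Agent.Lib.Helper5.USf
open Cfsg Matrix Cfsg.Agent.Lib.Helper5.SpMax Cfsg.Agent.Lib.Helper5.TMCalc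
  Cfsg.Agent.Lib.Helper5.UForm Cfsg.Agent.Lib.Helper5.USub Cfsg.Agent.Lib.Helper5.HermBridge
  Cfsg.Agent.Lib.Helper5.SUMax Cfsg.Agent.Lib.Helper5.LSub

section RG1abs
variable {K : Type*} [Field K] [Fintype K] {n : ℕ} {σ : K ≃+* K}
  {f : (Fin n → K) → (Fin n → K) → K}

/-- hyperbolic frames with prescribed first vector in a non-degenerate subspace -/
lemma rg1_frame (hf : Cfsg.Geo.IsUnitaryForm σ f) (k : ℕ) :
    ∀ (U : Submodule K (Fin n → K)), ND f U → 2 * (k + 1) ≤ Module.finrank K U →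
    ∀ e ∈ U, e ≠ 0 → f e e = 0 →
    ∃ fr : Fin (k + 1) → Bool → (Fin n → K), fr 0 true = e ∧ (∀ i s, fr i s ∈ U) ∧
      ∀ i j s t, f (fr i s) (fr j t) = if i = j ∧ s ≠ t then 1 else 0 := by
  induction k with
  | zero =>
    intro U hU hd e heU he0 hee
    obtain ⟨e', he'U, he'e', h1⟩ := exists_partner hf hU heU he0 hee
    have h1' : f e' e = 1 := by rw [hf.herm, h1, map_one]
    refine ⟨fun _ s => if s then e else e', by simp, ?_, ?_⟩
    · intro i s
      cases s <;> simp [heU, he'U]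
    · intro i j s t
      have hij : i = j := by
        apply Fin.ext
        have := i.2
        have := j.2
        omega
      cases s <;> cases t <;> simp [hij, hee, he'e', h1, h1']
  | succ k ih =>
    intro U hU hd e heU he0 hee
    obtain ⟨e', he'U, he'e', h1⟩ := exists_partner hf hU heU he0 hee
    have h1' : f e' e = 1 := by rw [hf.herm, h1, map_one]
    have hU' := ND_hyp hf hU heU he'U hee he'e' h1
    have hd1 := finrank_inf_pp hf U e
    have hd2 := finrank_inf_pp hf (U ⊓ pp hf e) e'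
    obtain ⟨e₂, he₂U', he₂0, he₂e₂⟩ := exists_iso hf hU' (by omega)
    obtain ⟨fr', hfr0, hfrU, hfr⟩ := ih _ hU' (by omega) e₂ he₂U' he₂0 he₂e₂
    have hperp : ∀ j t, f (fr' j t) e = 0 ∧ f (fr' j t) e' = 0 := by
      intro j t
      obtain ⟨h2, h3⟩ := Submodule.mem_inf.mp (hfrU j t)
      obtain ⟨_, h4⟩ := Submodule.mem_inf.mp h2
      rw [mem_pp] at h3 h4
      exact ⟨h4, h3⟩
    have hleU : ∀ j t, fr' j t ∈ U := fun j t =>
      (Submodule.mem_inf.mp (Submodule.mem_inf.mp (hfrU j t)).1).1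
    refine ⟨(Fin.cons (fun s => if s then e else e') fr' :
      Fin (k + 1 + 1) → Bool → (Fin n → K)), by simp, ?_, ?_⟩
    · intro i s
      refine Fin.cases ?_ (fun i' => ?_) i
      · cases s <;> simp [heU, he'U]
      · simpa using hleU i' s
    · intro i j s t
      refine Fin.cases ?_ (fun i' => ?_) i <;> refine Fin.cases ?_ (fun j' => ?_) j
      · cases s <;> cases t <;> simp [hee, he'e', h1, h1']
      · have h0 : (0 : Fin (k + 1 + 1)) ≠ j'.succ := (Fin.succ_ne_zero j').symm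
        cases s
        · simpa [h0] using u_symm_zero hf (hperp j' t).2
        · simpa [h0] using u_symm_zero hf (hperp j' t).1
      · have h0 : i'.succ ≠ (0 : Fin (k + 1 + 1)) := Fin.succ_ne_zero i'
        cases t
        · simpa [h0] using (hperp i' s).2
        · simpa [h0] using (hperp i' s).1
      · simpa [Fin.succ_inj] using hfr i' j' s t

/-- a subspace of dimension at least two (degenerate or not) contains a non-zero isotropic vector -/
lemma rg1_exists_iso_any (hf : Cfsg.Geo.IsUnitaryForm σ f) {U : Submodule K (Fin n → K)}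
    (hd : 2 ≤ Module.finrank K U) : ∃ e ∈ U, e ≠ 0 ∧ f e e = 0 := by
  by_cases hU : ND f U
  · exact exists_iso hf hU hd
  · unfold ND at hU
    push Not at hU
    obtain ⟨u, huU, hu0, hu⟩ := hU
    exact ⟨u, huU, hu0, hu u huU⟩

lemma rg1_finrank_top : Module.finrank K (⊤ : Submodule K (Fin n → K)) = n := by
  rw [finrank_top, Module.finrank_fintype_fun_eq_card, Fintype.card_fin]

end RG1abs

section RG1
variable {F : Type*} [Field F] [Fintype F] {q n : ℕ} {hF : Fintype.card F = q ^ 2}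
  {F₀ : Subfield F} {P : GL (Fin n) F}

lemma rg1_f0_eq_zero (D : Dat hF F₀ P) {u v : Fin n → F₀}
    (h : Cfsg.hermForm n F q (io F₀ P u) (io F₀ P v) = 0) : f0 D u v = 0 :=
  Subtype.ext (by rw [f0_coe, h]; rfl)

lemma rg1_of_f0_eq_zero (D : Dat hF F₀ P) {u v : Fin n → F₀} (h : f0 D u v = 0) :
    Cfsg.hermForm n F q (io F₀ P u) (io F₀ P v) = 0 := by
  rw [← f0_coe D, h]; rfl

lemma rg1_of_f0_eq_one (D : Dat hF F₀ P) {u v : Fin n → F₀} (h : f0 D u v = 1) :
    Cfsg.hermForm n F q (io F₀ P u) (io F₀ P v) = 1 := by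
  rw [← f0_coe D, h]; rfl

lemma rg1_io_ne_zero {u : Fin n → F₀} (h : u ≠ 0) : io F₀ P u ≠ 0 := fun h0 => h (io_eq_zero h0)

lemma rg1_ne_zero_of_io {u : Fin n → F₀} (h : io F₀ P u ≠ 0) : u ≠ 0 := by
  intro h0
  apply h
  rw [h0, io_zero]

theorem exists_rat_partner (D : Dat hF F₀ P) {a : Fin n → F} (ha : IsRat F₀ P a) (ha0 : a ≠ 0)
    (haa : Cfsg.hermForm n F q a a = 0) :
    ∃ a₁, IsRat F₀ P a₁ ∧ Cfsg.hermForm n F q a₁ a₁ = 0 ∧ Cfsg.hermForm n F q a a₁ = 1 := by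
  classical
  let _ : Fintype ↥F₀ := Fintype.ofFinite _
  have hf0 := f0_unitary D
  obtain ⟨u, rfl⟩ := exists_io ha
  obtain ⟨e', -, he'e', h1⟩ := exists_partner hf0 (ND_top hf0) (Submodule.mem_top (x := u))
    (rg1_ne_zero_of_io ha0) (rg1_f0_eq_zero D haa)
  exact ⟨io F₀ P e', isRat_io e', rg1_of_f0_eq_zero D he'e', rg1_of_f0_eq_one D h1⟩

theorem exists_rat_iso (D : Dat hF F₀ P) (hn : 2 ≤ n) :
    ∃ a, IsRat F₀ P a ∧ a ≠ 0 ∧ Cfsg.hermForm n F q a a = 0 := by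
  classical
  let _ : Fintype ↥F₀ := Fintype.ofFinite _
  have hf0 := f0_unitary D
  obtain ⟨e, -, he0, hee⟩ := exists_iso hf0 (ND_top hf0) (by rw [rg1_finrank_top]; exact hn)
  exact ⟨io F₀ P e, isRat_io e, rg1_io_ne_zero he0, rg1_of_f0_eq_zero D hee⟩

/-- rational hyperbolic frames with prescribed first vector -/
theorem exists_rat_frame (D : Dat hF F₀ P) (k : ℕ) (hk : 2 * (k + 1) ≤ n) {a : Fin n → F}
    (ha : IsRat F₀ P a) (ha0 : a ≠ 0) (haa : Cfsg.hermForm n F q a a = 0) :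
    ∃ fr : Fin (k + 1) → Bool → (Fin n → F), fr 0 true = a ∧ (∀ i s, IsRat F₀ P (fr i s)) ∧
      ∀ i j s t, Cfsg.hermForm n F q (fr i s) (fr j t) = if i = j ∧ s ≠ t then 1 else 0 := by
  classical
  let _ : Fintype ↥F₀ := Fintype.ofFinite _
  have hf0 := f0_unitary D
  obtain ⟨u, rfl⟩ := exists_io ha
  obtain ⟨fr, hfr0, -, hfr⟩ := rg1_frame hf0 k ⊤ (ND_top hf0)
    (by rw [rg1_finrank_top]; exact hk) u Submodule.mem_top (rg1_ne_zero_of_io ha0)
    (rg1_f0_eq_zero D haa)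
  refine ⟨fun i s => io F₀ P (fr i s), by show io F₀ P (fr 0 true) = _; rw [hfr0],
    fun i s => isRat_io _, ?_⟩
  intro i j s t
  show Cfsg.hermForm n F q (io F₀ P (fr i s)) (io F₀ P (fr j t)) = _
  rw [← f0_coe D, hfr i j s t]
  split_ifs <;> rfl

theorem exists_rat_common_perp (D : Dat hF F₀ P) (hn : 4 ≤ n) {x y : Fin n → F}
    (hx : IsRat F₀ P x) (hy : IsRat F₀ P y) :
    ∃ z, IsRat F₀ P z ∧ z ≠ 0 ∧ Cfsg.hermForm n F q z z = 0 ∧ Cfsg.hermForm n F q z x = 0 ∧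
      Cfsg.hermForm n F q z y = 0 := by
  classical
  let _ : Fintype ↥F₀ := Fintype.ofFinite _
  have hf0 := f0_unitary D
  obtain ⟨u, rfl⟩ := exists_io hx
  obtain ⟨v, rfl⟩ := exists_io hy
  have hd1 := finrank_inf_pp hf0 ⊤ u
  have hd2 := finrank_inf_pp hf0 (⊤ ⊓ pp hf0 u) v
  rw [rg1_finrank_top] at hd1
  obtain ⟨e, heU, he0, hee⟩ := rg1_exists_iso_any hf0 (U := ⊤ ⊓ pp hf0 u ⊓ pp hf0 v) (by omega)
  obtain ⟨h1, h2⟩ := Submodule.mem_inf.mp heU
  obtain ⟨-, h3⟩ := Submodule.mem_inf.mp h1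
  rw [mem_pp] at h2 h3
  exact ⟨io F₀ P e, isRat_io e, rg1_io_ne_zero he0, rg1_of_f0_eq_zero D hee,
    rg1_of_f0_eq_zero D h3, rg1_of_f0_eq_zero D h2⟩

theorem exists_rat_iso_comb2 (D : Dat hF F₀ P) {d₁ d₂ : Fin n → F} (h₁ : IsRat F₀ P d₁)
    (h₂ : IsRat F₀ P d₂) (hind : ∀ s t : F, s • d₁ + t • d₂ = 0 → s = 0 ∧ t = 0) :
    ∃ α ∈ F₀, ∃ β ∈ F₀, α • d₁ + β • d₂ ≠ 0 ∧
      Cfsg.hermForm n F q (α • d₁ + β • d₂) (α • d₁ + β • d₂) = 0 := by
  classical
  let _ : Fintype ↥F₀ := Fintype.ofFinite _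
  have hf0 := f0_unitary D
  obtain ⟨u₁, rfl⟩ := exists_io h₁
  obtain ⟨u₂, rfl⟩ := exists_io h₂
  have hli : LinearIndependent ↥F₀ ![u₁, u₂] := by
    rw [LinearIndependent.pair_iff]
    intro s t hst
    have h3 : (s : F) • io F₀ P u₁ + (t : F) • io F₀ P u₂ = 0 := by
      rw [← io_smul, ← io_smul, ← io_add, hst, io_zero]
    obtain ⟨hs, ht⟩ := hind _ _ h3
    exact ⟨Subtype.ext hs, Subtype.ext ht⟩
  have hfr := finrank_span_eq_card hli
  rw [Fintype.card_fin] at hfr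
  obtain ⟨e, heU, he0, hee⟩ := rg1_exists_iso_any hf0
    (U := Submodule.span ↥F₀ (Set.range ![u₁, u₂])) (by omega)
  obtain ⟨c, hc⟩ := (Submodule.mem_span_range_iff_exists_fun ↥F₀).mp heU
  rw [Fin.sum_univ_two] at hc
  simp only [Matrix.cons_val_zero, Matrix.cons_val_one] at hc
  have he : ((c 0 : F₀) : F) • io F₀ P u₁ + ((c 1 : F₀) : F) • io F₀ P u₂ = io F₀ P e := by
    rw [← io_smul, ← io_smul, ← io_add, hc]
  refine ⟨(c 0 : F₀), (c 0).2, (c 1 : F₀), (c 1).2, ?_, ?_⟩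
  · rw [he]; exact rg1_io_ne_zero he0
  · rw [he]; exact rg1_of_f0_eq_zero D hee

/-- a vector whose form values against all rational vectors are in `F₀` is rational -/
theorem isRat_of_form_mem (D : Dat hF F₀ P) {w : Fin n → F}
    (h : ∀ y, IsRat F₀ P y → Cfsg.hermForm n F q w y ∈ F₀) : IsRat F₀ P w := by
  classical
  let _ : Fintype ↥F₀ := Fintype.ofFinite _
  have hf0 := f0_unitary D
  have hf := herm_unitary (n := n) hF
  have hmem : ∀ u : Fin n → F₀, Cfsg.hermForm n F q (io F₀ P u) w ∈ F₀ := by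
    intro u
    rw [hf.herm]
    exact frob_mem hF F₀ (h _ (isRat_io u))
  let s : (Fin n → F₀) →ₗ[F₀] F₀ :=
    { toFun := fun u => ⟨Cfsg.hermForm n F q (io F₀ P u) w, hmem u⟩
      map_add' := fun u v => Subtype.ext (by
        show Cfsg.hermForm n F q (io F₀ P (u + v)) w = _
        rw [io_add, hf.add_left]; rfl)
      map_smul' := fun c u => Subtype.ext (by
        show Cfsg.hermForm n F q (io F₀ P (c • u)) w = _
        rw [io_smul, hf.smul_left]; rfl) }
  obtain ⟨b, hb⟩ := exists_repr hf0 s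
  have hzero : w - io F₀ P b = 0 := by
    by_contra hne
    obtain ⟨j, hj⟩ := form_ev_ne hF P hne
    apply hj
    rw [u_sub_right hf, ← io_single (F₀ := F₀), ← f0_coe D, ← hb (Pi.single j 1)]
    show Cfsg.hermForm n F q (io F₀ P (Pi.single j 1)) w -
      Cfsg.hermForm n F q (io F₀ P (Pi.single j 1)) w = 0
    rw [sub_self]
  rw [sub_eq_zero.mp hzero]
  exact isRat_io b

omit [Fintype F] in
theorem coeff_mem_of_isRat_smul {l : F} {r : Fin n → F} (hr : IsRat F₀ P r) (hr0 : r ≠ 0)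
    (h : IsRat F₀ P (l • r)) : l ∈ F₀ := by
  obtain ⟨i, hi⟩ : ∃ i, (((P⁻¹ : GL (Fin n) F) : Matrix (Fin n) (Fin n) F) *ᵥ r) i ≠ 0 := by
    by_contra hcon
    push Not at hcon
    apply hr0
    have h1 := mul_inv_mulVec P r
    have h2 : ((P⁻¹ : GL (Fin n) F) : Matrix (Fin n) (Fin n) F) *ᵥ r = 0 := funext hcon
    rw [h2, Matrix.mulVec_zero] at h1
    exact h1.symm
  have h1 := h i
  rw [Matrix.mulVec_smul, Pi.smul_apply, smul_eq_mul] at h1
  have h2 := F₀.mul_mem h1 (F₀.inv_mem (hr i))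
  rwa [mul_assoc, mul_inv_cancel₀ hi, mul_one] at h2

omit [Fintype F] in
/-- a rational linear map with non-trivial kernel has a non-zero rational kernel vector
(copy of the proof of `LSub.exists_rat_fixed` in Lib/Helper5/LSubC.lean) -/
theorem exists_rat_ker (L : (Fin n → F) →ₗ[F] (Fin n → F))
    (hL : ∀ x, IsRat F₀ P x → IsRat F₀ P (L x)) {v₀ : Fin n → F} (hv₀ : v₀ ≠ 0) (h : L v₀ = 0) :
    ∃ a, IsRat F₀ P a ∧ a ≠ 0 ∧ L a = 0 := by
  classical
  have hent : ∀ l m, cf P l (L (ev P m)) ∈ F₀ := fun l m =>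
    isRat_cf (hL _ (isRat_ev P m)) l
  obtain ⟨D₀, hD₀⟩ : ∃ D₀ : Matrix (Fin n) (Fin n) F₀,
      D₀ = Matrix.of (fun l m => (⟨cf P l (L (ev P m)), hent l m⟩ : F₀)) := ⟨_, rfl⟩
  obtain ⟨D, hD⟩ : ∃ D : Matrix (Fin n) (Fin n) F, D = D₀.map (F₀.subtype) := ⟨_, rfl⟩
  have hDlm : ∀ l m, D l m = cf P l (L (ev P m)) := by
    intro l m
    rw [hD, Matrix.map_apply, hD₀, Matrix.of_apply]
    rfl
  have hDv : ∀ v, D *ᵥ (((P⁻¹ : GL (Fin n) F) : Matrix (Fin n) (Fin n) F) *ᵥ v) =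
      ((P⁻¹ : GL (Fin n) F) : Matrix (Fin n) (Fin n) F) *ᵥ (L v) := by
    intro v
    funext l
    change ∑ m, D l m * (((P⁻¹ : GL (Fin n) F) : Matrix (Fin n) (Fin n) F) *ᵥ v) m = _
    rw [← cf_apply, lin_decomp P L v, map_sum]
    apply Finset.sum_congr rfl
    intro m _
    rw [hDlm, map_smul, smul_eq_mul, ← cf_apply, mul_comm]
  have hdet : D.det = 0 := by
    apply Matrix.exists_mulVec_eq_zero_iff.mp
    refine ⟨((P⁻¹ : GL (Fin n) F) : Matrix (Fin n) (Fin n) F) *ᵥ v₀, ?_, ?_⟩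
    · intro h0
      apply hv₀
      have := mul_inv_mulVec P v₀
      rw [h0, Matrix.mulVec_zero] at this
      exact this.symm
    · rw [hDv, h, Matrix.mulVec_zero]
  have hdet0 : D₀.det = 0 := by
    have h1 : D.det = F₀.subtype D₀.det := by
      rw [hD]
      exact (RingHom.map_det F₀.subtype D₀).symm
    rw [hdet] at h1
    apply Subtype.ext
    exact h1.symm
  obtain ⟨w₀, hw₀, hDw⟩ := Matrix.exists_mulVec_eq_zero_iff.mpr hdet0
  obtain ⟨w, hw⟩ : ∃ w : Fin n → F, w = fun m => (w₀ m : F) := ⟨_, rfl⟩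
  have hDw' : D *ᵥ w = 0 := by
    funext l
    have h3 : F₀.subtype ((D₀ *ᵥ w₀) l) = ∑ m, D l m * w m := by
      change F₀.subtype (∑ m, D₀ l m * w₀ m) = _
      rw [map_sum]
      apply Finset.sum_congr rfl
      intro m _
      rw [map_mul, hD, Matrix.map_apply, hw]
      rfl
    change ∑ m, D l m * w m = 0
    rw [← h3, hDw]
    rfl
  refine ⟨(P : Matrix (Fin n) (Fin n) F) *ᵥ w,
    isRat_mulVec (fun i => by rw [hw]; exact (w₀ i).2), ?_, ?_⟩
  · intro h0
    apply hw₀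
    have h4 := inv_mul_mulVec P w
    rw [h0, Matrix.mulVec_zero] at h4
    funext m
    apply Subtype.ext
    have h5 := congrFun h4 m
    rw [hw] at h5
    exact h5.symm
  · have h5 := hDv ((P : Matrix (Fin n) (Fin n) F) *ᵥ w)
    rw [inv_mul_mulVec, hDw'] at h5
    have h7 := mul_inv_mulVec P (L ((P : Matrix (Fin n) (Fin n) F) *ᵥ w))
    rw [← h5, Matrix.mulVec_zero] at h7
    exact h7.symm

end RG1

end Cfsg.Agent.Lib.Helper5.USf
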