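import Mathlib
import Cfsg.Agent.Lib.Helper5.USfC

/-!
S5658 leaf RG2 (helper23, for helper5): rational geometry, part 2.  The lemmas of `UForm` applied to the
unitary form `f0 D` over the field `↥F₀`, pushed along `io`.
-/

set_option autoImplicit false
set_option linter.unusedSectionVars false
set_option linter.unusedVariables false

namespace Cfsg.Agent.Lib.Helper5.USf
open Cfsg Matrix Cfsg.Agent.Lib.Helper5.SpMax Cfsg.Agent.Lib.Helper5.TMCalc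
  Cfsg.Agent.Lib.Helper5.UForm Cfsg.Agent.Lib.Helper5.USub Cfsg.Agent.Lib.Helper5.HermBridge
  Cfsg.Agent.Lib.Helper5.SUMax Cfsg.Agent.Lib.Helper5.LSub

section RG2
variable {F : Type*} [Field F] [Fintype F] {q n : ℕ} {hF : Fintype.card F = q ^ 2}
  {F₀ : Subfield F} {P : GL (Fin n) F}

lemma rg2_f0_eq_zero (D : Dat hF F₀ P) (u v : Fin n → F₀) :
    f0 D u v = 0 ↔ Cfsg.hermForm n F q (io F₀ P u) (io F₀ P v) = 0 := by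
  rw [← f0_coe D u v]
  exact ⟨fun h => by rw [h]; rfl, fun h => Subtype.ext h⟩

lemma rg2_f0_eq_one (D : Dat hF F₀ P) (u v : Fin n → F₀) :
    f0 D u v = 1 ↔ Cfsg.hermForm n F q (io F₀ P u) (io F₀ P v) = 1 := by
  rw [← f0_coe D u v]
  exact ⟨fun h => by rw [h]; rfl, fun h => Subtype.ext h⟩

lemma rg2_finrank_top : Module.finrank F₀ (⊤ : Submodule F₀ (Fin n → F₀)) = n := by
  rw [finrank_top, Module.finrank_fin_fun]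

/-- every rational vector is a sum of three rational isotropic vectors -/
theorem exists_rat_decomp (D : Dat hF F₀ P) (hn : 3 ≤ n) {y : Fin n → F} (hy : IsRat F₀ P y) :
    ∃ b₁ b₂ b₃, IsRat F₀ P b₁ ∧ IsRat F₀ P b₂ ∧ IsRat F₀ P b₃ ∧
      Cfsg.hermForm n F q b₁ b₁ = 0 ∧ Cfsg.hermForm n F q b₂ b₂ = 0 ∧
      Cfsg.hermForm n F q b₃ b₃ = 0 ∧ y = b₁ + b₂ + b₃ := by
  classical
  letI : Fintype F₀ := Fintype.ofFinite F₀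
  have hf₀ := f0_unitary D
  obtain ⟨u, rfl⟩ := exists_io hy
  obtain ⟨b₁, -, b₂, -, b₃, -, h1, h2, h3, hsum⟩ :=
    exists_iso_decomp hf₀ (ND_top hf₀) (by rw [rg2_finrank_top]; exact hn)
      (Submodule.mem_top : u ∈ (⊤ : Submodule F₀ (Fin n → F₀)))
  refine ⟨io F₀ P b₁, io F₀ P b₂, io F₀ P b₃, isRat_io _, isRat_io _, isRat_io _,
    (rg2_f0_eq_zero D _ _).mp h1, (rg2_f0_eq_zero D _ _).mp h2, (rg2_f0_eq_zero D _ _).mp h3, ?_⟩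
  rw [hsum, io_add, io_add]

/-- `v` arbitrary (not necessarily rational) -/
theorem exists_rat_iso_ne (D : Dat hF F₀ P) (hn : 3 ≤ n) {v : Fin n → F} (hv : v ≠ 0) :
    ∃ a, IsRat F₀ P a ∧ Cfsg.hermForm n F q a a = 0 ∧ Cfsg.hermForm n F q v a ≠ 0 := by
  have hf := herm_unitary (n := n) hF
  by_contra hcon
  push Not at hcon
  obtain ⟨j, hj⟩ := form_ev_ne hF P hv
  apply u_symm_ne hf hj
  have hr : IsRat F₀ P (ev P j) := by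
    rw [← io_single (F₀ := F₀)]; exact isRat_io _
  obtain ⟨b₁, b₂, b₃, r1, r2, r3, h1, h2, h3, hsum⟩ := exists_rat_decomp D hn hr
  rw [hsum, u_add_right hf, u_add_right hf, hcon b₁ r1 h1, hcon b₂ r2 h2, hcon b₃ r3 h3]
  simp

/-- `p₁ p₂` arbitrary (not necessarily rational) -/
theorem exists_rat_iso_ne2 (D : Dat hF F₀ P) (hn : 3 ≤ n) {p₁ p₂ : Fin n → F} (h₁ : p₁ ≠ 0)
    (h₂ : p₂ ≠ 0) :
    ∃ w, IsRat F₀ P w ∧ Cfsg.hermForm n F q w w = 0 ∧ Cfsg.hermForm n F q w p₁ ≠ 0 ∧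
      Cfsg.hermForm n F q w p₂ ≠ 0 := by
  classical
  letI : Fintype F₀ := Fintype.ofFinite F₀
  have hf := herm_unitary (n := n) hF
  have hf₀ := f0_unitary D
  obtain ⟨w₁, r1, hw₁, hw₁p⟩ := exists_rat_iso_ne D hn h₁
  obtain ⟨w₂, r2, hw₂, hw₂p⟩ := exists_rat_iso_ne D hn h₂
  have hw₁p' := u_symm_ne hf hw₁p
  have hw₂p' := u_symm_ne hf hw₂p
  by_cases h12 : Cfsg.hermForm n F q w₁ p₂ ≠ 0
  · exact ⟨w₁, r1, hw₁, hw₁p', h12⟩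
  rw [not_not] at h12
  by_cases h21 : Cfsg.hermForm n F q w₂ p₁ ≠ 0
  · exact ⟨w₂, r2, hw₂, h21, hw₂p'⟩
  rw [not_not] at h21
  obtain ⟨u₁, rfl⟩ := exists_io r1
  obtain ⟨u₂, rfl⟩ := exists_io r2
  obtain ⟨l, hl0, hl⟩ := exists_iso_comb hf₀ ((rg2_f0_eq_zero D _ _).mpr hw₁)
    ((rg2_f0_eq_zero D _ _).mpr hw₂)
  have hl0' : (l : F) ≠ 0 := fun h => hl0 (Subtype.ext h)
  refine ⟨io F₀ P (u₁ + l • u₂), isRat_io _, (rg2_f0_eq_zero D _ _).mp hl, ?_, ?_⟩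
  · rw [io_add, io_smul, hf.add_left, hf.smul_left, h21, mul_zero, add_zero]
    exact hw₁p'
  · rw [io_add, io_smul, hf.add_left, hf.smul_left, h12, zero_add]
    exact mul_ne_zero hl0' hw₂p'

/-- the non-degenerate complement of a rational hyperbolic pair, over `F₀` -/
lemma rg2_perp (D : Dat hF F₀ P) (hn : 5 ≤ n) {e e' : Fin n → F₀}
    (hee : f0 D e e = 0) (he'e' : f0 D e' e' = 0) (h1 : f0 D e e' = 1) :
    ND (f0 D) (⊤ ⊓ pp (f0_unitary D) e ⊓ pp (f0_unitary D) e') ∧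
      3 ≤ Module.finrank F₀ ↥(⊤ ⊓ pp (f0_unitary D) e ⊓ pp (f0_unitary D) e' :
        Submodule F₀ (Fin n → F₀)) := by
  have hf₀ := f0_unitary D
  refine ⟨ND_hyp hf₀ (ND_top hf₀) Submodule.mem_top Submodule.mem_top hee he'e' h1, ?_⟩
  have h2 := finrank_inf_pp hf₀ (⊤ : Submodule F₀ (Fin n → F₀)) e
  have h3 := finrank_inf_pp hf₀ (⊤ ⊓ pp hf₀ e : Submodule F₀ (Fin n → F₀)) e'
  rw [rg2_finrank_top] at h2
  omega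

/-- the same inside the orthogonal complement of a rational hyperbolic pair -/
theorem exists_rat_decomp_perp (D : Dat hF F₀ P) (hn : 5 ≤ n) {a a₁ : Fin n → F}
    (ha : IsRat F₀ P a) (ha₁ : IsRat F₀ P a₁) (haa : Cfsg.hermForm n F q a a = 0)
    (ha₁a₁ : Cfsg.hermForm n F q a₁ a₁ = 0) (h1 : Cfsg.hermForm n F q a a₁ = 1)
    {y : Fin n → F} (hy : IsRat F₀ P y) (hya : Cfsg.hermForm n F q y a = 0)
    (hya₁ : Cfsg.hermForm n F q y a₁ = 0) :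
    ∃ b₁ b₂ b₃, (IsRat F₀ P b₁ ∧ Cfsg.hermForm n F q b₁ b₁ = 0 ∧
        Cfsg.hermForm n F q b₁ a = 0 ∧ Cfsg.hermForm n F q b₁ a₁ = 0) ∧
      (IsRat F₀ P b₂ ∧ Cfsg.hermForm n F q b₂ b₂ = 0 ∧
        Cfsg.hermForm n F q b₂ a = 0 ∧ Cfsg.hermForm n F q b₂ a₁ = 0) ∧
      (IsRat F₀ P b₃ ∧ Cfsg.hermForm n F q b₃ b₃ = 0 ∧
        Cfsg.hermForm n F q b₃ a = 0 ∧ Cfsg.hermForm n F q b₃ a₁ = 0) ∧
      y = b₁ + b₂ + b₃ := by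
  classical
  letI : Fintype F₀ := Fintype.ofFinite F₀
  have hf₀ := f0_unitary D
  obtain ⟨e, rfl⟩ := exists_io ha
  obtain ⟨e', rfl⟩ := exists_io ha₁
  obtain ⟨u, rfl⟩ := exists_io hy
  obtain ⟨hND, hd⟩ := rg2_perp D hn ((rg2_f0_eq_zero D _ _).mpr haa)
    ((rg2_f0_eq_zero D _ _).mpr ha₁a₁) ((rg2_f0_eq_one D _ _).mpr h1)
  have huU : u ∈ (⊤ ⊓ pp hf₀ e ⊓ pp hf₀ e' : Submodule F₀ (Fin n → F₀)) :=
    Submodule.mem_inf.mpr ⟨Submodule.mem_inf.mpr ⟨Submodule.mem_top,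
      (mem_pp hf₀).mpr ((rg2_f0_eq_zero D _ _).mpr hya)⟩,
      (mem_pp hf₀).mpr ((rg2_f0_eq_zero D _ _).mpr hya₁)⟩
  obtain ⟨b₁, m1, b₂, m2, b₃, m3, i1, i2, i3, hsum⟩ := exists_iso_decomp hf₀ hND hd huU
  have key : ∀ b : Fin n → F₀, b ∈ (⊤ ⊓ pp hf₀ e ⊓ pp hf₀ e' : Submodule F₀ (Fin n → F₀)) →
      f0 D b b = 0 → (IsRat F₀ P (io F₀ P b) ∧
        Cfsg.hermForm n F q (io F₀ P b) (io F₀ P b) = 0 ∧
        Cfsg.hermForm n F q (io F₀ P b) (io F₀ P e) = 0 ∧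
        Cfsg.hermForm n F q (io F₀ P b) (io F₀ P e') = 0) := by
    intro b hb hbb
    obtain ⟨hb1, hb2⟩ := Submodule.mem_inf.mp hb
    obtain ⟨-, hb3⟩ := Submodule.mem_inf.mp hb1
    exact ⟨isRat_io _, (rg2_f0_eq_zero D _ _).mp hbb,
      (rg2_f0_eq_zero D _ _).mp ((mem_pp hf₀).mp hb3),
      (rg2_f0_eq_zero D _ _).mp ((mem_pp hf₀).mp hb2)⟩
  refine ⟨io F₀ P b₁, io F₀ P b₂, io F₀ P b₃, key b₁ m1 i1, key b₂ m2 i2, key b₃ m3 i3, ?_⟩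
  rw [hsum, io_add, io_add]

theorem exists_rat_iso_ne2_perp (D : Dat hF F₀ P) (hn : 5 ≤ n) {a a₁ : Fin n → F}
    (ha : IsRat F₀ P a) (ha₁ : IsRat F₀ P a₁) (haa : Cfsg.hermForm n F q a a = 0)
    (ha₁a₁ : Cfsg.hermForm n F q a₁ a₁ = 0) (h1 : Cfsg.hermForm n F q a a₁ = 1)
    {p₁ p₂ : Fin n → F} (hp₁ : IsRat F₀ P p₁) (hp₂ : IsRat F₀ P p₂) (hp₁0 : p₁ ≠ 0) (hp₂0 : p₂ ≠ 0)
    (hp₁a : Cfsg.hermForm n F q p₁ a = 0) (hp₁a₁ : Cfsg.hermForm n F q p₁ a₁ = 0)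
    (hp₂a : Cfsg.hermForm n F q p₂ a = 0) (hp₂a₁ : Cfsg.hermForm n F q p₂ a₁ = 0) :
    ∃ z, IsRat F₀ P z ∧ Cfsg.hermForm n F q z z = 0 ∧ Cfsg.hermForm n F q z a = 0 ∧
      Cfsg.hermForm n F q z a₁ = 0 ∧ Cfsg.hermForm n F q z p₁ ≠ 0 ∧
      Cfsg.hermForm n F q z p₂ ≠ 0 := by
  classical
  letI : Fintype F₀ := Fintype.ofFinite F₀
  have hf₀ := f0_unitary D
  obtain ⟨e, rfl⟩ := exists_io ha
  obtain ⟨e', rfl⟩ := exists_io ha₁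
  obtain ⟨u₁, rfl⟩ := exists_io hp₁
  obtain ⟨u₂, rfl⟩ := exists_io hp₂
  obtain ⟨hND, hd⟩ := rg2_perp D hn ((rg2_f0_eq_zero D _ _).mpr haa)
    ((rg2_f0_eq_zero D _ _).mpr ha₁a₁) ((rg2_f0_eq_one D _ _).mpr h1)
  have hu₁0 : u₁ ≠ 0 := fun h => hp₁0 (by rw [h, io_zero])
  have hu₂0 : u₂ ≠ 0 := fun h => hp₂0 (by rw [h, io_zero])
  have hu₁U : u₁ ∈ (⊤ ⊓ pp hf₀ e ⊓ pp hf₀ e' : Submodule F₀ (Fin n → F₀)) :=
    Submodule.mem_inf.mpr ⟨Submodule.mem_inf.mpr ⟨Submodule.mem_top,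
      (mem_pp hf₀).mpr ((rg2_f0_eq_zero D _ _).mpr hp₁a)⟩,
      (mem_pp hf₀).mpr ((rg2_f0_eq_zero D _ _).mpr hp₁a₁)⟩
  have hu₂U : u₂ ∈ (⊤ ⊓ pp hf₀ e ⊓ pp hf₀ e' : Submodule F₀ (Fin n → F₀)) :=
    Submodule.mem_inf.mpr ⟨Submodule.mem_inf.mpr ⟨Submodule.mem_top,
      (mem_pp hf₀).mpr ((rg2_f0_eq_zero D _ _).mpr hp₂a)⟩,
      (mem_pp hf₀).mpr ((rg2_f0_eq_zero D _ _).mpr hp₂a₁)⟩
  obtain ⟨w, hwU, hww, hw1, hw2⟩ := exists_iso_ne2 hf₀ hND hd u₁ u₂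
    (hND u₁ hu₁U hu₁0) (hND u₂ hu₂U hu₂0)
  obtain ⟨hw3, hw4⟩ := Submodule.mem_inf.mp hwU
  obtain ⟨-, hw5⟩ := Submodule.mem_inf.mp hw3
  refine ⟨io F₀ P w, isRat_io _, (rg2_f0_eq_zero D _ _).mp hww,
    (rg2_f0_eq_zero D _ _).mp ((mem_pp hf₀).mp hw5),
    (rg2_f0_eq_zero D _ _).mp ((mem_pp hf₀).mp hw4), ?_, ?_⟩
  · exact fun h => hw1 ((rg2_f0_eq_zero D _ _).mpr h)
  · exact fun h => hw2 ((rg2_f0_eq_zero D _ _).mpr h)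

end RG2

end Cfsg.Agent.Lib.Helper5.USf
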