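import Mathlib
import Cfsg.Agent.Lib.Helper5.USfA
import Cfsg.Agent.Lib.Helper5.USfB
import Cfsg.Agent.Lib.Helper5.USfC
import Cfsg.Agent.Lib.Helper5.USfD
import Cfsg.Agent.Lib.Helper5.USfR1
import Cfsg.Agent.Lib.Helper5.USfR2

/-!
Unitary subfield subgroups: the coefficient algebra of the root elements of an overgroup `M` attached to
a rational hyperbolic frame, and the proof that a non-rational coefficient forces `M ≥ GU ⊓ SL`.
-/

set_option autoImplicit false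
set_option linter.unusedSectionVars false
set_option linter.unusedVariables false
set_option linter.unusedSimpArgs false

namespace Cfsg.Agent.Lib.Helper5.USf
open Cfsg Matrix Cfsg.Agent.Lib.Helper5.SpMax Cfsg.Agent.Lib.Helper5.TMCalc
  Cfsg.Agent.Lib.Helper5.UForm Cfsg.Agent.Lib.Helper5.USub Cfsg.Agent.Lib.Helper5.HermBridge
  Cfsg.Agent.Lib.Helper5.SUMax Cfsg.Agent.Lib.Helper5.LSub

section Engine
variable {F : Type*} [Field F] [Fintype F] {q n : ℕ} {hF : Fintype.card F = q ^ 2}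
  {F₀ : Subfield F} {P : GL (Fin n) F} {M : Subgroup (GL (Fin n) F)}

/-- the hypotheses needed for the generation part -/
structure Ctx0 (hF : Fintype.card F = q ^ 2) (F₀ : Subfield F) (P : GL (Fin n) F)
    (M : Subgroup (GL (Fin n) F)) : Prop where
  dat : Dat hF F₀ P
  le : Hsub n q F₀ P ≤ M
  leG : M ≤ Cfsg.GU n F q ⊓ Cfsg.Geo.specialLinear (Fin n) F

lemma Ctx.toCtx0 (h : Ctx hF F₀ P M) : Ctx0 hF F₀ P M := ⟨h.dat, h.le, h.leG⟩

lemma Ctx0.iso (h : Ctx0 hF F₀ P M) {g : GL (Fin n) F} (hg : g ∈ M) (x y : Fin n → F) :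
    Cfsg.hermForm n F q ((g : Matrix (Fin n) (Fin n) F) *ᵥ x)
      ((g : Matrix (Fin n) (Fin n) F) *ᵥ y) = Cfsg.hermForm n F q x y :=
  mem_GU.mp (h.leG hg).1 x y

lemma Ctx0.skew (h : Ctx0 hF F₀ P M) : ∃ c₀ ∈ F₀, c₀ ≠ 0 ∧ frobQ hF c₀ = -c₀ :=
  exists_skew_sub hF F₀ h.dat.moved

/-- a rational hyperbolic frame -/
structure Frame (hF : Fintype.card F = q ^ 2) (F₀ : Subfield F) (P : GL (Fin n) F) {k : ℕ}
    (fr : Fin k → Bool → (Fin n → F)) : Prop where
  rat : ∀ i s, IsRat F₀ P (fr i s)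
  gram : ∀ i j s t, Cfsg.hermForm n F q (fr i s) (fr j t) = if i = j ∧ s ≠ t then 1 else 0

section FrameLemmas
variable {k : ℕ} {fr : Fin k → Bool → (Fin n → F)} (Fr : Frame hF F₀ P fr)
include Fr

lemma Frame.iso (i : Fin k) (s : Bool) : Cfsg.hermForm n F q (fr i s) (fr i s) = 0 := by
  rw [Fr.gram, if_neg]
  rintro ⟨-, h⟩
  exact h rfl

lemma Frame.orth {i j : Fin k} (hij : i ≠ j) (s t : Bool) :
    Cfsg.hermForm n F q (fr i s) (fr j t) = 0 := by
  rw [Fr.gram, if_neg]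
  rintro ⟨h, -⟩
  exact hij h

lemma Frame.pair (i : Fin k) (s : Bool) : Cfsg.hermForm n F q (fr i s) (fr i (!s)) = 1 := by
  rw [Fr.gram, if_pos]
  exact ⟨rfl, by cases s <;> simp⟩

lemma Frame.ne_zero (i : Fin k) (s : Bool) : fr i s ≠ 0 := by
  have hf := herm_unitary (n := n) hF
  intro h0
  have h1 := Fr.pair i s
  rw [h0, u_zero_left hf] at h1
  exact zero_ne_one h1

end FrameLemmas

/-- multiplicativity of the coefficients of root elements -/
lemma LM_mul (h : Ctx0 hF F₀ P M) {a b e e' : Fin n → F}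
    (hbb : Cfsg.hermForm n F q b b = 0) (hee : Cfsg.hermForm n F q e e = 0)
    (hee' : Cfsg.hermForm n F q e e' = 1) (hab : Cfsg.hermForm n F q a b = 0)
    (hae : Cfsg.hermForm n F q a e = 0) (hbe : Cfsg.hermForm n F q b e = 0)
    (hbe' : Cfsg.hermForm n F q b e' = 0) {c d : F}
    (h1 : LM (frobQ hF) (Cfsg.hermForm n F q) M a e' c)
    (h2 : LM (frobQ hF) (Cfsg.hermForm n F q) M e b d) :
    LM (frobQ hF) (Cfsg.hermForm n F q) M a b (c * d) := by
  have hf := herm_unitary (n := n) hF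
  obtain ⟨g₁, hg₁M, hg₁⟩ := h1
  have hiso := h.iso hg₁M
  have hea : Cfsg.hermForm n F q e a = 0 := u_symm_zero hf hae
  have hba : Cfsg.hermForm n F q b a = 0 := u_symm_zero hf hab
  have heb : Cfsg.hermForm n F q e b = 0 := u_symm_zero hf hbe
  have e1 : (g₁ : Matrix (Fin n) (Fin n) F) *ᵥ e = e + c • a := by
    rw [hg₁, hee', hea, mul_one, mul_zero, zero_smul, sub_zero]
  have e2 : (g₁ : Matrix (Fin n) (Fin n) F) *ᵥ b = b := by
    rw [hg₁, hbe', hba, mul_zero, mul_zero, zero_smul, zero_smul, add_zero, sub_zero]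
  have h3 := LM_conj hf hg₁M hiso h2
  rw [e1, e2] at h3
  have h4 := LM_neg hf hee hbb heb h2
  exact LM_cancel hf hee hea hbe hba hbb h3 h4

/-- coefficients of the root elements of `M` at the positions of a frame -/
def CsetU (hF : Fintype.card F = q ^ 2) (M : Subgroup (GL (Fin n) F))
    (fr : Fin 3 → Bool → (Fin n → F)) : Set F :=
  {c | ∀ i j s t, i ≠ j → LM (frobQ hF) (Cfsg.hermForm n F q) M (fr i s) (fr j t) c}

variable {fr : Fin 3 → Bool → (Fin n → F)}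

lemma rat_LM_frame (hn : 0 < n) (h : Ctx0 hF F₀ P M) (Fr : Frame hF F₀ P fr) {i j : Fin 3}
    (hij : i ≠ j) (s t : Bool) {c : F} (hc : c ∈ F₀) :
    LM (frobQ hF) (Cfsg.hermForm n F q) M (fr i s) (fr j t) c :=
  LM_mono h.le (rat_LM hn h.dat (Fr.rat i s) (Fr.rat j t) (Fr.iso i s) (Fr.iso j t)
    (Fr.orth hij s t) hc)

/-- the coefficients form a subalgebra over `F₀` -/
def CalgU (hn : 0 < n) (h : Ctx0 hF F₀ P M) (Fr : Frame hF F₀ P fr) : Subalgebra F₀ F where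
  carrier := CsetU hF M fr
  mul_mem' := by
    intro c d hc hd i j s t hij
    obtain ⟨k, hki, hkj⟩ := exists_ne2 (n := 3) le_rfl i j
    exact LM_mul h (Fr.iso j t) (Fr.iso k true) (Fr.pair k true) (Fr.orth hij s t)
      (Fr.orth (Ne.symm hki) s true) (Fr.orth (Ne.symm hkj) t true)
      (Fr.orth (Ne.symm hkj) t false) (hc i k s false (Ne.symm hki)) (hd k j true t hkj)
  one_mem' := fun i j s t hij => rat_LM_frame hn h Fr hij s t F₀.one_mem
  add_mem' := by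
    intro c d hc hd i j s t hij
    exact LM_add (herm_unitary (n := n) hF) (Fr.iso i s) (Fr.iso j t) (Fr.orth hij s t)
      (hc i j s t hij) (hd i j s t hij)
  zero_mem' := fun i j s t hij => LM_zero (herm_unitary (n := n) hF)
  algebraMap_mem' := fun c i j s t hij => rat_LM_frame hn h Fr hij s t c.2

lemma move1 (hn : 0 < n) (h : Ctx0 hF F₀ P M) (Fr : Frame hF F₀ P fr) {i j k : Fin 3}
    (hij : i ≠ j) (hki : k ≠ i) (hkj : k ≠ j) {s t : Bool} {c : F}
    (hL : LM (frobQ hF) (Cfsg.hermForm n F q) M (fr i s) (fr j t) c) (s' : Bool) :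
    LM (frobQ hF) (Cfsg.hermForm n F q) M (fr k s') (fr j t) c := by
  have h1 := rat_LM_frame hn h Fr hki s' (!s) F₀.one_mem
  have := LM_mul h (Fr.iso j t) (Fr.iso i s) (Fr.pair i s) (Fr.orth hkj s' t)
    (Fr.orth hki s' s) (Fr.orth (Ne.symm hij) t s) (Fr.orth (Ne.symm hij) t (!s)) h1 hL
  rwa [one_mul] at this

lemma move2 (hn : 0 < n) (h : Ctx0 hF F₀ P M) (Fr : Frame hF F₀ P fr) {i j k : Fin 3}
    (hij : i ≠ j) (hki : k ≠ i) (hkj : k ≠ j) {s t : Bool} {c : F}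
    (hL : LM (frobQ hF) (Cfsg.hermForm n F q) M (fr i s) (fr j t) c) (t' : Bool) :
    LM (frobQ hF) (Cfsg.hermForm n F q) M (fr i s) (fr k t') c := by
  have hf := herm_unitary (n := n) hF
  have h1 := (LM_symm hf).mp hL
  have h2 := move1 hn h Fr (Ne.symm hij) hkj hki h1 t'
  have h3 := (LM_symm hf).mp h2
  rwa [map_neg, hf.involutive, neg_neg] at h3

lemma slot1 (hn : 0 < n) (h : Ctx0 hF F₀ P M) (Fr : Frame hF F₀ P fr) {i j : Fin 3}
    (hij : i ≠ j) {s t : Bool} {c : F}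
    (hL : LM (frobQ hF) (Cfsg.hermForm n F q) M (fr i s) (fr j t) c) {x : Fin 3} (hxj : x ≠ j)
    (s' : Bool) : LM (frobQ hF) (Cfsg.hermForm n F q) M (fr x s') (fr j t) c := by
  by_cases hxi : x = i
  · obtain ⟨k, hki, hkj⟩ := exists_ne2 (n := 3) le_rfl i j
    have h1 := move1 hn h Fr hij hki hkj hL true
    rw [hxi]
    exact move1 hn h Fr hkj (Ne.symm hki) hij h1 s'
  · exact move1 hn h Fr hij hxi hxj hL s'

lemma slot2 (hn : 0 < n) (h : Ctx0 hF F₀ P M) (Fr : Frame hF F₀ P fr) {i j : Fin 3}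
    (hij : i ≠ j) {s t : Bool} {c : F}
    (hL : LM (frobQ hF) (Cfsg.hermForm n F q) M (fr i s) (fr j t) c) {y : Fin 3} (hyi : y ≠ i)
    (t' : Bool) : LM (frobQ hF) (Cfsg.hermForm n F q) M (fr i s) (fr y t') c := by
  by_cases hyj : y = j
  · obtain ⟨k, hki, hkj⟩ := exists_ne2 (n := 3) le_rfl i j
    have h1 := move2 hn h Fr hij hki hkj hL true
    rw [hyj]
    exact move2 hn h Fr (Ne.symm hki) (Ne.symm hij) (Ne.symm hkj) h1 t'
  · exact move2 hn h Fr hij hyi hyj hL t'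

/-- one root element with coefficient `c` at a frame position gives all of them -/
lemma spreadU (hn : 0 < n) (h : Ctx0 hF F₀ P M) (Fr : Frame hF F₀ P fr) {i j : Fin 3}
    (hij : i ≠ j) {s t : Bool} {c : F}
    (hL : LM (frobQ hF) (Cfsg.hermForm n F q) M (fr i s) (fr j t) c) : c ∈ CsetU hF M fr := by
  intro i' j' s' t' hij'
  obtain ⟨x, hxj, hxj'⟩ := exists_ne2 (n := 3) le_rfl j j'
  have h1 := slot1 hn h Fr hij hL hxj true
  have h2 := slot2 hn h Fr hxj h1 (Ne.symm hxj') t'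
  exact slot1 hn h Fr hxj' h2 hij' s'

end Engine

section Gen
variable {F : Type*} [Field F] [Fintype F] {q n : ℕ} {hF : Fintype.card F = q ^ 2}
  {F₀ : Subfield F} {P : GL (Fin n) F} {M : Subgroup (GL (Fin n) F)}

lemma zero_mem_Sset : (0 : Fin n → F) ∈ Sset hF M := by
  intro c hc g hg
  have : g = 1 := by
    apply Units.ext
    apply mat_eq_of_mulVec
    intro x
    rw [hg, smul_zero, add_zero, Units.val_one, Matrix.one_mulVec]
  rw [this]
  exact M.one_mem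

lemma mem_Sset_of_TV {v : Fin n → F}
    (hT : ∀ c, frobQ hF c = -c → TV (Cfsg.hermForm n F q) M v c) : v ∈ Sset hF M := by
  intro c hc g hg
  obtain ⟨g', hg'M, hg'⟩ := hT c hc
  have : g = g' := Units.ext (mat_eq_of_mulVec (fun x => by rw [hg, hg']))
  rw [this]
  exact hg'M

lemma TV_of_mem_Sset {v : Fin n → F} (hv : v ∈ Sset hF M)
    (hvv : Cfsg.hermForm n F q v v = 0) {c : F} (hc : frobQ hF c = -c) :
    TV (Cfsg.hermForm n F q) M v c := by
  obtain ⟨g, hgG, hg⟩ := exists_tvg hF hvv hc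
  exact ⟨g, hv c hc g hg, hg⟩

variable {fr : Fin 3 → Bool → (Fin n → F)}

lemma e1_mem_Sset (Fr : Frame hF F₀ P fr) (hall : ∀ c, c ∈ CsetU hF M fr) :
    fr 0 true ∈ Sset hF M := by
  have hf := herm_unitary (n := n) hF
  apply mem_Sset_of_TV
  intro c hc
  obtain ⟨c', hc'⟩ := skew_surj hF hc
  have h1 := hall c' 0 1 true false (by decide)
  have h2 := hall 1 0 1 true true (by decide)
  have h3 := LM_comm_TV hf (Fr.iso 0 true) (Fr.orth (by decide : (1 : Fin 3) ≠ 0) false true)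
    (Fr.orth (by decide : (1 : Fin 3) ≠ 0) true true) h1 h2
  have e1 : Cfsg.hermForm n F q (fr 1 false) (fr 1 true) = 1 := Fr.pair 1 false
  have e2 : Cfsg.hermForm n F q (fr 1 true) (fr 1 false) = 1 := Fr.pair 1 true
  have e3 : frobQ hF c' * 1 * Cfsg.hermForm n F q (fr 1 false) (fr 1 true) -
      c' * frobQ hF 1 * Cfsg.hermForm n F q (fr 1 true) (fr 1 false) = c := by
    rw [e1, e2, map_one]
    linear_combination hc'
  rwa [e3] at h3

lemma Sset_move (hn : 0 < n) (h : Ctx0 hF F₀ P M) {a b : Fin n → F} (ha : IsRat F₀ P a)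
    (hb : IsRat F₀ P b) (haa : Cfsg.hermForm n F q a a = 0) (hbb : Cfsg.hermForm n F q b b = 0)
    (hab : Cfsg.hermForm n F q a b ≠ 0) (haS : a ∈ Sset hF M) : b ∈ Sset hF M := by
  obtain ⟨T, hTH, μ, hμ, hμ0, hTa, -⟩ := exists_rat_move hn h.dat h.skew ha hb haa hbb hab
  have hTM := h.le hTH
  have h1 := Sset_mulVec_mem hF hTM (h.leG hTM).1 haS
  rw [hTa] at h1
  have h2 := Sset_smul hF h1 μ⁻¹
  rwa [smul_smul, inv_mul_cancel₀ hμ0, one_smul] at h2

lemma Sset_rat (hn : 3 ≤ n) (h : Ctx0 hF F₀ P M) {a : Fin n → F} (ha : IsRat F₀ P a)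
    (ha0 : a ≠ 0) (haa : Cfsg.hermForm n F q a a = 0) (haS : a ∈ Sset hF M) {b : Fin n → F}
    (hb : IsRat F₀ P b) (hbb : Cfsg.hermForm n F q b b = 0) : b ∈ Sset hF M := by
  have hf := herm_unitary (n := n) hF
  by_cases hb0 : b = 0
  · rw [hb0]
    exact zero_mem_Sset
  by_cases hab : Cfsg.hermForm n F q a b = 0
  · obtain ⟨w, hw, hww, hwa, hwb⟩ := exists_rat_iso_ne2 h.dat hn ha0 hb0
    have h1 := Sset_move (by omega) h ha hw haa hww (u_symm_ne hf hwa) haS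
    exact Sset_move (by omega) h hw hb hww hbb hwb h1
  · exact Sset_move (by omega) h ha hb haa hbb hab haS

lemma LM_step (hn : 0 < n) (h : Ctx0 hF F₀ P M) {e x b : Fin n → F} (hx : IsRat F₀ P x)
    (hb : IsRat F₀ P b) (hxx : Cfsg.hermForm n F q x x = 0) (hbb : Cfsg.hermForm n F q b b = 0)
    (hex : Cfsg.hermForm n F q e x = 0) (heb : Cfsg.hermForm n F q e b = 0)
    (hxb : Cfsg.hermForm n F q x b ≠ 0)
    (hL : ∀ c, LM (frobQ hF) (Cfsg.hermForm n F q) M e x c) (c : F) :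
    LM (frobQ hF) (Cfsg.hermForm n F q) M e b c := by
  have hf := herm_unitary (n := n) hF
  obtain ⟨T, hTH, μ, hμ, hμ0, hTx, hTfix⟩ := exists_rat_move hn h.dat h.skew hx hb hxx hbb hxb
  have hTM := h.le hTH
  have h1 := LM_conj hf hTM (h.iso hTM) (hL (c / frobQ hF μ))
  rw [hTfix e hex heb, hTx] at h1
  have h2 := (LM_smul_right hf).mp h1
  have hσμ : frobQ hF μ ≠ 0 := by rwa [Ne, map_eq_zero]
  rwa [div_mul_cancel₀ _ hσμ] at h2

lemma LM_e1_all (hn : 5 ≤ n) (h : Ctx0 hF F₀ P M) (Fr : Frame hF F₀ P fr)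
    (hall : ∀ c, c ∈ CsetU hF M fr) {b : Fin n → F} (hb : IsRat F₀ P b)
    (hbb : Cfsg.hermForm n F q b b = 0) (hbe : Cfsg.hermForm n F q b (fr 0 true) = 0)
    (hbf : Cfsg.hermForm n F q b (fr 0 false) = 0) (c : F) :
    LM (frobQ hF) (Cfsg.hermForm n F q) M (fr 0 true) b c := by
  have hf := herm_unitary (n := n) hF
  by_cases hb0 : b = 0
  · refine LM_congr (fun x => ?_) (LM_zero hf (M := M) (a := fr 0 true) (b := b))
    rw [hb0, u_zero_right hf, mul_zero, mul_zero, zero_smul, smul_zero, smul_zero]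
  have h10 : (1 : Fin 3) ≠ 0 := by decide
  have h01 : (0 : Fin 3) ≠ 1 := by decide
  have hL : ∀ c, LM (frobQ hF) (Cfsg.hermForm n F q) M (fr 0 true) (fr 1 true) c :=
    fun c => hall c 0 1 true true h01
  by_cases h2b : Cfsg.hermForm n F q (fr 1 true) b = 0
  · obtain ⟨z, hz, hzz, hze, hzf, hz2, hzb⟩ := exists_rat_iso_ne2_perp h.dat hn (Fr.rat 0 true)
      (Fr.rat 0 false) (Fr.iso 0 true) (Fr.iso 0 false) (Fr.pair 0 true) (Fr.rat 1 true) hb
      (Fr.ne_zero 1 true) hb0 (Fr.orth h10 true true) (Fr.orth h10 true false) hbe hbf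
    have hLz : ∀ c, LM (frobQ hF) (Cfsg.hermForm n F q) M (fr 0 true) z c :=
      LM_step (by omega) h (Fr.rat 1 true) hz (Fr.iso 1 true) hzz (Fr.orth h01 true true)
        (u_symm_zero hf hze) (u_symm_ne hf hz2) hL
    exact LM_step (by omega) h hz hb hzz hbb (u_symm_zero hf hze) (u_symm_zero hf hbe) hzb hLz c
  · exact LM_step (by omega) h (Fr.rat 1 true) hb (Fr.iso 1 true) hbb (Fr.orth h01 true true)
      (u_symm_zero hf hbe) h2b hL c

/-- Eichler elements with centre `e` and second parameter `w`, for some admissible `κ` -/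
def QE (hF : Fintype.card F = q ^ 2) (M : Subgroup (GL (Fin n) F)) (e w : Fin n → F) : Prop :=
  ∃ κ, κ + frobQ hF κ = Cfsg.hermForm n F q w w ∧ EM (Cfsg.hermForm n F q) M e w κ

lemma QE_add {e w w' : Fin n → F} (hee : Cfsg.hermForm n F q e e = 0)
    (hw : Cfsg.hermForm n F q w e = 0) (hw' : Cfsg.hermForm n F q w' e = 0)
    (h1 : QE hF M e w) (h2 : QE hF M e w') : QE hF M e (w + w') := by
  have hf := herm_unitary (n := n) hF
  obtain ⟨κ, hκ, hE⟩ := h1
  obtain ⟨κ', hκ', hE'⟩ := h2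
  refine ⟨κ + κ' + Cfsg.hermForm n F q w' w, ?_, EM_mul hf hee hw hw' hE hE'⟩
  have e1 : frobQ hF (Cfsg.hermForm n F q w' w) = Cfsg.hermForm n F q w w' :=
    (hf.herm w w').symm
  rw [map_add, map_add, e1, hf.add_left, u_add_right hf, u_add_right hf]
  linear_combination hκ + hκ'

lemma QE_zero {e : Fin n → F} : QE hF M e 0 := by
  have hf := herm_unitary (n := n) hF
  refine ⟨0, ?_, 1, M.one_mem, fun x => ?_⟩
  · rw [map_zero, add_zero, u_zero_left hf]
  · rw [Units.val_one, Matrix.one_mulVec, u_zero_right hf, zero_smul, smul_zero, zero_mul,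
      zero_smul, add_zero, sub_zero, sub_zero]

lemma QE_sum {κι : Type*} {e : Fin n → F} (hee : Cfsg.hermForm n F q e e = 0) (S : Finset κι)
    (w : κι → (Fin n → F)) (hw : ∀ j ∈ S, Cfsg.hermForm n F q (w j) e = 0)
    (hQ : ∀ j ∈ S, QE hF M e (w j)) :
    Cfsg.hermForm n F q (∑ j ∈ S, w j) e = 0 ∧ QE hF M e (∑ j ∈ S, w j) := by
  classical
  have hf := herm_unitary (n := n) hF
  induction S using Finset.induction_on with
  | empty =>
    rw [Finset.sum_empty]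
    exact ⟨u_zero_left hf e, QE_zero⟩
  | insert a S ha ih =>
    obtain ⟨ih1, ih2⟩ := ih (fun j hj => hw j (Finset.mem_insert_of_mem hj))
      (fun j hj => hQ j (Finset.mem_insert_of_mem hj))
    rw [Finset.sum_insert ha]
    refine ⟨?_, QE_add hee (hw a (Finset.mem_insert_self a S)) ih1
      (hQ a (Finset.mem_insert_self a S)) ih2⟩
    rw [hf.add_left, hw a (Finset.mem_insert_self a S), ih1, add_zero]

lemma QE_rat (hn : 5 ≤ n) (h : Ctx0 hF F₀ P M) (Fr : Frame hF F₀ P fr)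
    (hall : ∀ c, c ∈ CsetU hF M fr) {b : Fin n → F} (hb : IsRat F₀ P b)
    (hbb : Cfsg.hermForm n F q b b = 0) (hbe : Cfsg.hermForm n F q b (fr 0 true) = 0)
    (hbf : Cfsg.hermForm n F q b (fr 0 false) = 0) (c : F) : QE hF M (fr 0 true) (c • b) := by
  have hf := herm_unitary (n := n) hF
  refine ⟨0, ?_, ?_⟩
  · rw [map_zero, add_zero, hf.smul_left, u_smul_right hf, hbb, mul_zero, mul_zero]
  · have := (LM_iff_EM hf).mp (LM_e1_all hn h Fr hall hb hbb hbe hbf (frobQ hF c))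
    rwa [hf.involutive] at this

lemma QE_perp (hn : 5 ≤ n) (h : Ctx0 hF F₀ P M) (Fr : Frame hF F₀ P fr)
    (hall : ∀ c, c ∈ CsetU hF M fr) {w : Fin n → F}
    (hwe : Cfsg.hermForm n F q w (fr 0 true) = 0) (hwf : Cfsg.hermForm n F q w (fr 0 false) = 0) :
    QE hF M (fr 0 true) w := by
  have hf := herm_unitary (n := n) hF
  have hfe : Cfsg.hermForm n F q (fr 0 false) (fr 0 true) = 1 := Fr.pair 0 false
  have hef : Cfsg.hermForm n F q (fr 0 true) (fr 0 false) = 1 := Fr.pair 0 true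
  obtain ⟨π, hπ⟩ : ∃ π : (Fin n → F) →ₗ[F] (Fin n → F), π = LinearMap.id -
      (uL hf (fr 0 false)).smulRight (fr 0 true) - (uL hf (fr 0 true)).smulRight (fr 0 false) :=
    ⟨_, rfl⟩
  have hπv : ∀ y, π y = y - Cfsg.hermForm n F q y (fr 0 false) • fr 0 true -
      Cfsg.hermForm n F q y (fr 0 true) • fr 0 false := by
    intro y
    rw [hπ]
    simp only [LinearMap.sub_apply, LinearMap.id_apply, LinearMap.smulRight_apply, uL_apply]
  have hπw : π w = w := by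
    rw [hπv, hwe, hwf, zero_smul, zero_smul, sub_zero, sub_zero]
  have hπe : ∀ y, Cfsg.hermForm n F q (π y) (fr 0 true) = 0 := by
    intro y
    rw [hπv, u_sub_left hf, u_sub_left hf, hf.smul_left, hf.smul_left, Fr.iso 0 true, hfe]
    ring
  have hπf : ∀ y, Cfsg.hermForm n F q (π y) (fr 0 false) = 0 := by
    intro y
    rw [hπv, u_sub_left hf, u_sub_left hf, hf.smul_left, hf.smul_left, Fr.iso 0 false, hef]
    ring
  have hπR : ∀ y, IsRat F₀ P y → IsRat F₀ P (π y) := by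
    intro y hy
    rw [hπv]
    exact isRat_sub (isRat_sub hy (isRat_smul (h.dat.form_mem hy (Fr.rat 0 false)) (Fr.rat 0 true)))
      (isRat_smul (h.dat.form_mem hy (Fr.rat 0 true)) (Fr.rat 0 false))
  have hdec : w = ∑ j, cf P j w • π (ev P j) := by
    conv_lhs => rw [← hπw]
    exact lin_decomp P π w
  have hterm : ∀ j, Cfsg.hermForm n F q (cf P j w • π (ev P j)) (fr 0 true) = 0 ∧
      QE hF M (fr 0 true) (cf P j w • π (ev P j)) := by
    intro j
    obtain ⟨b₁, b₂, b₃, ⟨h1R, h1i, h1e, h1f⟩, ⟨h2R, h2i, h2e, h2f⟩, ⟨h3R, h3i, h3e, h3f⟩, hsum⟩ :=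
      exists_rat_decomp_perp h.dat hn (Fr.rat 0 true) (Fr.rat 0 false) (Fr.iso 0 true)
        (Fr.iso 0 false) hef (hπR _ (isRat_ev P j)) (hπe _) (hπf _)
    refine ⟨by rw [hf.smul_left, hπe, mul_zero], ?_⟩
    rw [hsum, smul_add, smul_add]
    have q1 := QE_rat hn h Fr hall h1R h1i h1e h1f (cf P j w)
    have q2 := QE_rat hn h Fr hall h2R h2i h2e h2f (cf P j w)
    have q3 := QE_rat hn h Fr hall h3R h3i h3e h3f (cf P j w)
    have z1 : Cfsg.hermForm n F q (cf P j w • b₁) (fr 0 true) = 0 := by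
      rw [hf.smul_left, h1e, mul_zero]
    have z2 : Cfsg.hermForm n F q (cf P j w • b₂) (fr 0 true) = 0 := by
      rw [hf.smul_left, h2e, mul_zero]
    have z3 : Cfsg.hermForm n F q (cf P j w • b₃) (fr 0 true) = 0 := by
      rw [hf.smul_left, h3e, mul_zero]
    have z12 : Cfsg.hermForm n F q (cf P j w • b₁ + cf P j w • b₂) (fr 0 true) = 0 := by
      rw [hf.add_left, z1, z2, add_zero]
    exact QE_add (Fr.iso 0 true) z12 z3 (QE_add (Fr.iso 0 true) z1 z2 q1 q2) q3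
  rw [hdec]
  exact (QE_sum (Fr.iso 0 true) Finset.univ _ (fun j _ => (hterm j).1)
    (fun j _ => (hterm j).2)).2

lemma EM_perp_all (hn : 5 ≤ n) (h : Ctx0 hF F₀ P M) (Fr : Frame hF F₀ P fr)
    (hall : ∀ c, c ∈ CsetU hF M fr) {w : Fin n → F}
    (hwe : Cfsg.hermForm n F q w (fr 0 true) = 0) (hwf : Cfsg.hermForm n F q w (fr 0 false) = 0)
    {κ : F} (hκ : κ + frobQ hF κ = Cfsg.hermForm n F q w w) :
    EM (Cfsg.hermForm n F q) M (fr 0 true) w κ := by
  have hf := herm_unitary (n := n) hF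
  obtain ⟨κ₀, hκ₀, hE⟩ := QE_perp hn h Fr hall hwe hwf
  have hS : fr 0 true ∈ Sset hF M := e1_mem_Sset Fr hall
  have hδ : frobQ hF (-(κ - κ₀)) = -(-(κ - κ₀)) := by
    rw [map_neg, map_sub]
    linear_combination hκ₀ - hκ
  have hT := TV_of_mem_Sset hS (Fr.iso 0 true) hδ
  have hE0 := (EM_zero_iff hf).mpr hT
  have hm := EM_mul hf (Fr.iso 0 true) hwe (u_zero_left hf _) hE hE0
  have e1 : κ₀ + (κ - κ₀) + Cfsg.hermForm n F q 0 w = κ := by
    rw [u_zero_left hf]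
    ring
  rwa [add_zero, e1] at hm

lemma Sset_of_ne (hn : 5 ≤ n) (h : Ctx0 hF F₀ P M) (Fr : Frame hF F₀ P fr)
    (hall : ∀ c, c ∈ CsetU hF M fr) {v : Fin n → F} (hvv : Cfsg.hermForm n F q v v = 0)
    (hve : Cfsg.hermForm n F q v (fr 0 true) ≠ 0) : v ∈ Sset hF M := by
  have hf := herm_unitary (n := n) hF
  have hfe : Cfsg.hermForm n F q (fr 0 false) (fr 0 true) = 1 := Fr.pair 0 false
  have hef : Cfsg.hermForm n F q (fr 0 true) (fr 0 false) = 1 := Fr.pair 0 true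
  obtain ⟨v', hv'⟩ : ∃ v' : Fin n → F, v' = (Cfsg.hermForm n F q v (fr 0 true))⁻¹ • v := ⟨_, rfl⟩
  have h1 : Cfsg.hermForm n F q v' (fr 0 true) = 1 := by
    rw [hv', hf.smul_left, inv_mul_cancel₀ hve]
  have hv'v' : Cfsg.hermForm n F q v' v' = 0 := by
    rw [hv', hf.smul_left, u_smul_right hf, hvv, mul_zero, mul_zero]
  obtain ⟨x, hx⟩ : ∃ x : F, x = Cfsg.hermForm n F q v' (fr 0 false) := ⟨_, rfl⟩
  obtain ⟨u, hu⟩ : ∃ u : Fin n → F, u = v' - x • fr 0 true - fr 0 false := ⟨_, rfl⟩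
  have hue : Cfsg.hermForm n F q u (fr 0 true) = 0 := by
    rw [hu, u_sub_left hf, u_sub_left hf, hf.smul_left, h1, Fr.iso 0 true, hfe]
    ring
  have huf : Cfsg.hermForm n F q u (fr 0 false) = 0 := by
    rw [hu, u_sub_left hf, u_sub_left hf, hf.smul_left, ← hx, hef, Fr.iso 0 false]
    ring
  have h1' : Cfsg.hermForm n F q (fr 0 true) v' = 1 := by
    rw [hf.herm, h1, map_one]
  have hx' : Cfsg.hermForm n F q (fr 0 false) v' = frobQ hF x := by
    rw [hf.herm, ← hx]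
  have huu : Cfsg.hermForm n F q u u = -(x + frobQ hF x) := by
    rw [hu]
    simp only [u_sub_left hf, u_sub_right hf, hf.smul_left, u_smul_right hf, hv'v', h1, ← hx, h1',
      hx', Fr.iso 0 true, Fr.iso 0 false, hef, hfe]
    ring
  have hE := EM_perp_all hn h Fr hall (w := -u) (κ := -x)
    (by rw [u_neg_left hf, hue, neg_zero]) (by rw [u_neg_left hf, huf, neg_zero])
    (by rw [u_neg_left hf, u_neg_right hf, huu, map_neg]; ring)
  obtain ⟨g, hgM, hg⟩ := hE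
  have hfu : Cfsg.hermForm n F q (fr 0 false) u = 0 := u_symm_zero hf huf
  have hgf : (g : Matrix (Fin n) (Fin n) F) *ᵥ fr 0 false = v' := by
    rw [hg, u_neg_right hf, hfu, hfe, hu]
    module
  have hf₁S : fr 0 false ∈ Sset hF M :=
    Sset_rat (by omega) h (Fr.rat 0 true) (Fr.ne_zero 0 true) (Fr.iso 0 true)
      (e1_mem_Sset Fr hall) (Fr.rat 0 false) (Fr.iso 0 false)
  have h2 := Sset_mulVec_mem hF hgM (h.leG hgM).1 hf₁S
  rw [hgf] at h2
  have h3 := Sset_smul hF h2 (Cfsg.hermForm n F q v (fr 0 true))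
  rwa [hv', smul_smul, mul_inv_cancel₀ hve, one_smul] at h3

/-- if all coefficients occur, `M` contains `GU ⊓ SL` -/
theorem le_of_Cset_top (hn : 5 ≤ n) (h : Ctx0 hF F₀ P M) (Fr : Frame hF F₀ P fr)
    (hall : ∀ c, c ∈ CsetU hF M fr) :
    Cfsg.GU n F q ⊓ Cfsg.Geo.specialLinear (Fin n) F ≤ M := by
  have hf := herm_unitary (n := n) hF
  apply le_of_forall_mem_Sset hF (by omega) (by omega) M
  intro v hvv
  by_cases hv0 : v = 0
  · rw [hv0]
    exact zero_mem_Sset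
  obtain ⟨w, hw, hww, hwv, hwe⟩ := exists_rat_iso_ne2 h.dat (by omega) hv0 (Fr.ne_zero 0 true)
  obtain ⟨T, hTH, μ, hμ, hμ0, hTe, -⟩ := exists_rat_move (by omega) h.dat h.skew (Fr.rat 0 true) hw
    (Fr.iso 0 true) hww (u_symm_ne hf hwe)
  have hTM := h.le hTH
  obtain ⟨v₁, hv₁⟩ : ∃ v₁ : Fin n → F,
      v₁ = ((T⁻¹ : GL (Fin n) F) : Matrix (Fin n) (Fin n) F) *ᵥ v := ⟨_, rfl⟩
  have hTv₁ : (T : Matrix (Fin n) (Fin n) F) *ᵥ v₁ = v := by
    rw [hv₁, mul_inv_mulVec]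
  have hσμ : frobQ hF μ ≠ 0 := by rwa [Ne, map_eq_zero]
  have h1 : Cfsg.hermForm n F q v₁ (fr 0 true) ≠ 0 := by
    have e := h.iso hTM v₁ (fr 0 true)
    rw [hTv₁, hTe, u_smul_right hf] at e
    rw [← e]
    exact mul_ne_zero hσμ (u_symm_ne hf hwv)
  have hv₁v₁ : Cfsg.hermForm n F q v₁ v₁ = 0 := by
    have e := h.iso hTM v₁ v₁
    rw [hTv₁] at e
    rw [← e]
    exact hvv
  have h2 := Sset_of_ne hn h Fr hall hv₁v₁ h1
  have h3 := Sset_mulVec_mem hF hTM (h.leG hTM).1 h2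
  rwa [hTv₁] at h3

/-- under the standing hypotheses the coefficients at a frame are rational -/
lemma Cset_sub (hn : 5 ≤ n) (h : Ctx hF F₀ P M) (Fr : Frame hF F₀ P fr) {c : F}
    (hc : c ∈ CsetU hF M fr) : c ∈ F₀ := by
  have hn0 : 0 < n := by omega
  have := Subalgebra.isSimpleOrder_of_finrank_prime F₀ F h.prime
  have hc' : c ∈ CalgU hn0 h.toCtx0 Fr := hc
  rcases eq_bot_or_eq_top (CalgU hn0 h.toCtx0 Fr) with hbot | htop
  · rw [hbot, Algebra.mem_bot] at hc'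
    obtain ⟨c₀, rfl⟩ := hc'
    exact c₀.2
  · exfalso
    apply h.ne
    apply le_of_Cset_top hn h.toCtx0 Fr
    intro d
    have hd : d ∈ CalgU hn0 h.toCtx0 Fr := by
      rw [htop]
      exact Algebra.mem_top
    exact hd

end Gen

end Cfsg.Agent.Lib.Helper5.USf
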