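import Mathlib
import Cfsg.Agent.Lib.Helper5.USfE

/-!
Unitary subfield subgroups: for a proper overgroup `M` not containing `GU ⊓ SL`, transvections at rational
centres have rational parameters (`nlong`), Eichler elements at rational centres have rational second
parameter (`nshort`), isotropic centres orthogonal to a rational isotropic vector are rational points
(`cgen`), and an element of `M` mapping a rational isotropic vector to a vector orthogonal to a rational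
isotropic vector lies in the subfield group (`key`).
-/

set_option autoImplicit false
set_option linter.unusedSectionVars false
set_option linter.unusedVariables false
set_option linter.unusedSimpArgs false

namespace Cfsg.Agent.Lib.Helper5.USf
open Cfsg Matrix Cfsg.Agent.Lib.Helper5.SpMax Cfsg.Agent.Lib.Helper5.TMCalc
  Cfsg.Agent.Lib.Helper5.UForm Cfsg.Agent.Lib.Helper5.USub Cfsg.Agent.Lib.Helper5.HermBridge
  Cfsg.Agent.Lib.Helper5.SUMax Cfsg.Agent.Lib.Helper5.LSub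

section KeyL
variable {F : Type*} [Field F] [Fintype F] {q n : ℕ} {hF : Fintype.card F = q ^ 2}
  {F₀ : Subfield F} {P : GL (Fin n) F} {M : Subgroup (GL (Fin n) F)}

theorem nlong (hn : 6 ≤ n) (h : Ctx hF F₀ P M) {a : Fin n → F} (ha : IsRat F₀ P a) (ha0 : a ≠ 0)
    (haa : Cfsg.hermForm n F q a a = 0) {d : F} (hd : frobQ hF d = -d)
    (hT : TV (Cfsg.hermForm n F q) M a d) : d ∈ F₀ := by
  have hf := herm_unitary (n := n) hF
  have hn0 : 0 < n := by omega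
  obtain ⟨fr, hfr0, hrat, hgram⟩ := exists_rat_frame h.dat 2 (by omega) ha ha0 haa
  have Fr : Frame hF F₀ P fr := ⟨hrat, hgram⟩
  rw [← hfr0] at hT
  have h01 : (0 : Fin 3) ≠ 1 := by decide
  have h10 : (1 : Fin 3) ≠ 0 := by decide
  have h20 : (2 : Fin 3) ≠ 0 := by decide
  have h02 : (0 : Fin 3) ≠ 2 := by decide
  have h12 : (1 : Fin 3) ≠ 2 := by decide
  have p0 : Cfsg.hermForm n F q (fr 0 true) (fr 0 false) = 1 := Fr.pair 0 true
  obtain ⟨g₁, hg₁M, hg₁⟩ := rat_LM_frame hn0 h.toCtx0 Fr h10 true false F₀.one_mem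
  have e1 : (g₁ : Matrix (Fin n) (Fin n) F) *ᵥ fr 0 true = fr 0 true + (1 : F) • fr 1 true := by
    rw [hg₁, p0, Fr.orth h01 true true, mul_one, mul_zero, zero_smul, sub_zero]
  have h2 := TV_conj hf hg₁M (h.iso hg₁M) hT
  rw [e1] at h2
  have hu := TV_diff hf (Fr.iso 0 true) (Fr.orth h01 true true) hd hT h2
  simp only [map_one, mul_one] at hu
  obtain ⟨g₂, hg₂M, hg₂⟩ := rat_LM_frame hn0 h.toCtx0 Fr h20 true false F₀.one_mem
  have e2 : (g₂ : Matrix (Fin n) (Fin n) F) *ᵥ fr 1 true = fr 1 true := by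
    rw [hg₂, Fr.orth h10 true false, Fr.orth h12 true true, mul_zero, mul_zero, zero_smul,
      zero_smul, add_zero, sub_zero]
  have e3 : (g₂ : Matrix (Fin n) (Fin n) F) *ᵥ fr 0 true = fr 0 true + fr 2 true := by
    rw [hg₂, p0, Fr.orth h02 true true, mul_one, mul_zero, one_smul, zero_smul, sub_zero]
  have e4 : (g₂ : Matrix (Fin n) (Fin n) F) *ᵥ (-d • fr 0 true) =
      -d • (fr 0 true + fr 2 true) := by
    rw [Matrix.mulVec_smul, e3]
  have hu' := EM_conj hf hg₂M (h.iso hg₂M) hu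
  rw [e2, e4] at hu'
  have z1 : Cfsg.hermForm n F q (-d • fr 0 true) (fr 1 true) = 0 := by
    rw [hf.smul_left, Fr.orth h01 true true, mul_zero]
  have hui := EM_inv hf (Fr.iso 1 true) z1 hu
  have z2 : Cfsg.hermForm n F q (-d • (fr 0 true + fr 2 true)) (fr 1 true) = 0 := by
    rw [hf.smul_left, hf.add_left, Fr.orth h01 true true,
      Fr.orth (by decide : (2 : Fin 3) ≠ 1) true true, add_zero, mul_zero]
  have z3 : Cfsg.hermForm n F q (-(-d • fr 0 true)) (fr 1 true) = 0 := by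
    rw [u_neg_left hf, z1, neg_zero]
  have hm := EM_mul hf (Fr.iso 1 true) z2 z3 hu' hui
  have w1 : -d • (fr 0 true + fr 2 true) + -(-d • fr 0 true) = frobQ hF d • fr 2 true := by
    rw [hd]
    module
  have k1 : -d + (Cfsg.hermForm n F q (-d • fr 0 true) (-d • fr 0 true) - -d) +
      Cfsg.hermForm n F q (-(-d • fr 0 true)) (-d • (fr 0 true + fr 2 true)) = 0 := by
    simp only [hf.smul_left, u_smul_right hf, u_neg_left hf, u_add_right hf, Fr.iso 0 true,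
      Fr.orth h02 true true]
    ring
  rw [w1, k1] at hm
  have hL := (LM_iff_EM hf).mpr hm
  exact Cset_sub (by omega) h Fr (spreadU hn0 h.toCtx0 Fr h12 hL)

theorem nshort (hn : 6 ≤ n) (h : Ctx hF F₀ P M) {a a₁ : Fin n → F} (ha : IsRat F₀ P a)
    (ha₁ : IsRat F₀ P a₁) (ha0 : a ≠ 0) (haa : Cfsg.hermForm n F q a a = 0)
    (h1 : Cfsg.hermForm n F q a a₁ = 1) {w : Fin n → F} (hwa : Cfsg.hermForm n F q w a = 0)
    (hwa₁ : Cfsg.hermForm n F q w a₁ = 0) {κ : F} (hE : EM (Cfsg.hermForm n F q) M a w κ) :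
    IsRat F₀ P w := by
  have hf := herm_unitary (n := n) hF
  have h1' : Cfsg.hermForm n F q a₁ a = 1 := by rw [hf.herm, h1, map_one]
  have claim : ∀ w', IsRat F₀ P w' → Cfsg.hermForm n F q w' a = 0 →
      Cfsg.hermForm n F q w' w ∈ F₀ := by
    intro w' hw' hw'a
    apply mem_of_twist hF F₀ h.dat.moved
    intro θ hθ
    have hw₃ : IsRat F₀ P (θ • w') := isRat_smul hθ hw'
    have hw₃a : Cfsg.hermForm n F q (θ • w') a = 0 := by rw [hf.smul_left, hw'a, mul_zero]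
    obtain ⟨κ₃, hκ₃, hκ₃'⟩ := tr_surj_sub hF F₀ h.dat.moved (h.dat.form_mem hw₃ hw₃)
      (u_self_fixed hf _)
    have hE₃ := EM_mono h.le (rat_EM (by omega) h.dat ha hw₃ haa hw₃a hκ₃ hκ₃')
    have hT := EM_comm hf haa hwa hw₃a hE hE₃
    have hsk : frobQ hF (Cfsg.hermForm n F q w (θ • w') - Cfsg.hermForm n F q (θ • w') w) =
        -(Cfsg.hermForm n F q w (θ • w') - Cfsg.hermForm n F q (θ • w') w) := by
      rw [map_sub, ← hf.herm, ← hf.herm]
      ring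
    have hmem := nlong hn h ha ha0 haa hsk hT
    have e1 : Cfsg.hermForm n F q (θ • w') w = θ * Cfsg.hermForm n F q w' w := hf.smul_left _ _ _
    have e2 : Cfsg.hermForm n F q w (θ • w') = frobQ hF (θ * Cfsg.hermForm n F q w' w) := by
      rw [hf.herm, e1]
    rw [e1, e2] at hmem
    have := F₀.neg_mem hmem
    rwa [neg_sub] at this
  apply isRat_of_form_mem h.dat
  intro y hy
  have hya : Cfsg.hermForm n F q y a ∈ F₀ := h.dat.form_mem hy ha
  have hw' : IsRat F₀ P (y - Cfsg.hermForm n F q y a • a₁) := isRat_sub hy (isRat_smul hya ha₁)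
  have hw'a : Cfsg.hermForm n F q (y - Cfsg.hermForm n F q y a • a₁) a = 0 := by
    rw [u_sub_left hf, hf.smul_left, h1', mul_one, sub_self]
  have c1 := claim _ hw' hw'a
  have e : Cfsg.hermForm n F q w y =
      frobQ hF (Cfsg.hermForm n F q (y - Cfsg.hermForm n F q y a • a₁) w) := by
    rw [← hf.herm, u_sub_right hf, u_smul_right hf, hwa₁, mul_zero, sub_zero]
  rw [e]
  exact frob_mem hF F₀ c1

theorem cgen (hn : 6 ≤ n) (h : Ctx hF F₀ P M) {b : Fin n → F}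
    (hbb : Cfsg.hermForm n F q b b = 0)
    (hS : ∀ c ∈ F₀, frobQ hF c = -c → TV (Cfsg.hermForm n F q) M b c) {a : Fin n → F}
    (ha : IsRat F₀ P a) (ha0 : a ≠ 0) (haa : Cfsg.hermForm n F q a a = 0)
    (hba : Cfsg.hermForm n F q b a = 0) :
    ∃ (l : F) (r : Fin n → F), IsRat F₀ P r ∧ b = l • r := by
  have hf := herm_unitary (n := n) hF
  have hn0 : 0 < n := by omega
  obtain ⟨a₁, ha₁, ha₁a₁, h1⟩ := exists_rat_partner h.dat ha ha0 haa
  have h1' : Cfsg.hermForm n F q a₁ a = 1 := by rw [hf.herm, h1, map_one]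
  have hab : Cfsg.hermForm n F q a b = 0 := u_symm_zero hf hba
  obtain ⟨c₀, hc₀, hc₀0, hc₀s⟩ := h.toCtx0.skew
  obtain ⟨β, hβ⟩ : ∃ β : F, β = Cfsg.hermForm n F q b a₁ := ⟨_, rfl⟩
  obtain ⟨b₀, hb₀⟩ : ∃ b₀ : Fin n → F, b₀ = b - β • a := ⟨_, rfl⟩
  have hb₀a : Cfsg.hermForm n F q b₀ a = 0 := by
    rw [hb₀, u_sub_left hf, hf.smul_left, hba, haa]
    ring
  have hb₀a₁ : Cfsg.hermForm n F q b₀ a₁ = 0 := by
    rw [hb₀, u_sub_left hf, hf.smul_left, ← hβ, h1]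
    ring
  have hbeq : b = b₀ + β • a := by
    rw [hb₀]
    abel
  by_cases hb₀0 : b₀ = 0
  · exact ⟨β, a, ha, by rw [hbeq, hb₀0, zero_add]⟩
  have hb₀b₀ : Cfsg.hermForm n F q b₀ b₀ = 0 := by
    rw [hb₀]
    simp only [u_sub_left hf, u_sub_right hf, hf.smul_left, u_smul_right hf, hbb, hba, hab, haa]
    ring
  have star : ∀ w, IsRat F₀ P w → Cfsg.hermForm n F q w a = 0 →
      IsRat F₀ P (frobQ hF (Cfsg.hermForm n F q b₀ w) • b₀) := by
    intro w hw hwa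
    have haw : Cfsg.hermForm n F q a w = 0 := u_symm_zero hf hwa
    obtain ⟨κ, hκ, hκ'⟩ := tr_surj_sub hF F₀ h.dat.moved (h.dat.form_mem hw hw)
      (u_self_fixed hf w)
    obtain ⟨g, hgH, hg⟩ := rat_EM hn0 h.dat ha hw haa hwa hκ hκ'
    have hgM := h.le hgH
    have hgb : (g : Matrix (Fin n) (Fin n) F) *ᵥ b = b + Cfsg.hermForm n F q b w • a := by
      rw [hg, hba, mul_zero, zero_smul, zero_smul, sub_zero, sub_zero]
    have hT := TV_conj hf hgM (h.iso hgM) (hS c₀ hc₀ hc₀s)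
    rw [hgb] at hT
    have hE := TV_diff hf hbb hba hc₀s (hS c₀ hc₀ hc₀s) hT
    have hμ : Cfsg.hermForm n F q b w = Cfsg.hermForm n F q b₀ w := by
      rw [hbeq, hf.add_left, hf.smul_left, haw, mul_zero, add_zero]
    rw [hμ] at hE
    have hsh : -(c₀ * frobQ hF (Cfsg.hermForm n F q b₀ w)) • b =
        -(c₀ * frobQ hF (Cfsg.hermForm n F q b₀ w)) • b₀ +
          (-(c₀ * frobQ hF (Cfsg.hermForm n F q b₀ w)) * β) • a := by
      rw [hbeq, smul_add, smul_smul]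
    rw [hsh] at hE
    have hE' := (EM_shift hf).mp hE
    have hR := nshort hn h ha ha₁ ha0 haa h1
      (w := -(c₀ * frobQ hF (Cfsg.hermForm n F q b₀ w)) • b₀)
      (by rw [hf.smul_left, hb₀a, mul_zero]) (by rw [hf.smul_left, hb₀a₁, mul_zero]) hE'
    have e : frobQ hF (Cfsg.hermForm n F q b₀ w) • b₀ =
        (-c₀⁻¹) • (-(c₀ * frobQ hF (Cfsg.hermForm n F q b₀ w)) • b₀) := by
      rw [smul_smul]
      congr 1
      field_simp
    rw [e]
    exact isRat_smul (F₀.neg_mem (F₀.inv_mem hc₀)) hR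
  obtain ⟨y, hy, hyy, hb₀y⟩ := exists_rat_iso_ne h.dat (by omega) hb₀0
  obtain ⟨w₀, hw₀⟩ : ∃ w₀ : Fin n → F, w₀ = y - Cfsg.hermForm n F q y a • a₁ := ⟨_, rfl⟩
  have hw₀R : IsRat F₀ P w₀ := by
    rw [hw₀]
    exact isRat_sub hy (isRat_smul (h.dat.form_mem hy ha) ha₁)
  have hw₀a : Cfsg.hermForm n F q w₀ a = 0 := by
    rw [hw₀, u_sub_left hf, hf.smul_left, h1', mul_one, sub_self]
  have hμ₀ : Cfsg.hermForm n F q b₀ w₀ = Cfsg.hermForm n F q b₀ y := by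
    rw [hw₀, u_sub_right hf, u_smul_right hf, hb₀a₁, mul_zero, sub_zero]
  obtain ⟨μ₀, hμ₀def⟩ : ∃ μ₀ : F, μ₀ = Cfsg.hermForm n F q b₀ w₀ := ⟨_, rfl⟩
  have hμ₀0 : μ₀ ≠ 0 := by
    rw [hμ₀def, hμ₀]
    exact hb₀y
  have hσμ₀ : frobQ hF μ₀ ≠ 0 := by rwa [Ne, map_eq_zero]
  obtain ⟨b'', hb''⟩ : ∃ b'' : Fin n → F, b'' = frobQ hF μ₀ • b₀ := ⟨_, rfl⟩
  have hb''R : IsRat F₀ P b'' := by
    rw [hb'', hμ₀def]
    exact star w₀ hw₀R hw₀a
  have hb''0 : b'' ≠ 0 := by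
    rw [hb'']
    exact smul_ne_zero hσμ₀ hb₀0
  have hb''a : Cfsg.hermForm n F q b'' a = 0 := by rw [hb'', hf.smul_left, hb₀a, mul_zero]
  have hb''a₁ : Cfsg.hermForm n F q b'' a₁ = 0 := by rw [hb'', hf.smul_left, hb₀a₁, mul_zero]
  have hb''b'' : Cfsg.hermForm n F q b'' b'' = 0 := by
    rw [hb'', hf.smul_left, u_smul_right hf, hb₀b₀, mul_zero, mul_zero]
  obtain ⟨ρ, hρ⟩ : ∃ ρ : F, ρ = (frobQ hF μ₀)⁻¹ := ⟨_, rfl⟩
  have hρ0 : ρ ≠ 0 := by
    rw [hρ]
    exact inv_ne_zero hσμ₀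
  have hσρ0 : frobQ hF ρ ≠ 0 := by rwa [Ne, map_eq_zero]
  have hb₀ρ : b₀ = ρ • b'' := by
    rw [hb'', hρ, smul_smul, inv_mul_cancel₀ hσμ₀, one_smul]
  obtain ⟨θ₀, hθ₀⟩ : ∃ θ₀ : F, θ₀ = Cfsg.hermForm n F q b'' w₀ := ⟨_, rfl⟩
  have hθ₀m : θ₀ ∈ F₀ := by
    rw [hθ₀]
    exact h.dat.form_mem hb''R hw₀R
  have hμθ : μ₀ = ρ * θ₀ := by
    rw [hμ₀def, hθ₀, hb₀ρ, hf.smul_left]
  have hN : ρ * frobQ hF ρ = (frobQ hF θ₀)⁻¹ := by
    have e1 : frobQ hF μ₀ = frobQ hF ρ * frobQ hF θ₀ := by rw [hμθ, map_mul]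
    have e2 : ρ * frobQ hF μ₀ = 1 := by rw [hρ, inv_mul_cancel₀ hσμ₀]
    rw [e1] at e2
    apply eq_inv_of_mul_eq_one_left
    rw [mul_assoc]
    exact e2
  obtain ⟨N, hNdef⟩ : ∃ N : F, N = ρ * frobQ hF ρ := ⟨_, rfl⟩
  have hNm : N ∈ F₀ := by
    rw [hNdef, hN]
    exact F₀.inv_mem (frob_mem hF F₀ hθ₀m)
  have hN0 : N ≠ 0 := by
    rw [hNdef]
    exact mul_ne_zero hρ0 hσρ0
  have hNfix : frobQ hF N = N := by
    rw [hNdef, map_mul, hf.involutive, mul_comm]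
  obtain ⟨ν, hν⟩ : ∃ ν : F, ν = β / ρ := ⟨_, rfl⟩
  have hρν : ρ * ν = β := by
    rw [hν]
    field_simp
  have hbρ : b = ρ • (b'' + ν • a) := by
    rw [smul_add, smul_smul, hρν, ← hb₀ρ]
    exact hbeq
  obtain ⟨c', hc'⟩ : ∃ c' : F, c' = c₀ * N := ⟨_, rfl⟩
  have hc'm : c' ∈ F₀ := by
    rw [hc']
    exact F₀.mul_mem hc₀ hNm
  have hc'0 : c' ≠ 0 := by
    rw [hc']
    exact mul_ne_zero hc₀0 hN0
  have hc's : frobQ hF c' = -c' := by
    rw [hc', map_mul, hc₀s, hNfix]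
    ring
  have hT1 : TV (Cfsg.hermForm n F q) M (b'' + ν • a) c' := by
    have h0 := hS c₀ hc₀ hc₀s
    rw [hbρ] at h0
    have h2 := (TV_smul hf).mp h0
    rwa [← hNdef, ← hc'] at h2
  have hT0 : TV (Cfsg.hermForm n F q) M b'' c' :=
    TV_mono h.le (rat_TV hn0 h.dat hb''R hb''b'' hc'm hc's)
  have hE2 := TV_diff hf hb''b'' hb''a hc's hT0 hT1
  have hR2 := nshort hn h ha ha₁ ha0 haa h1 (w := -(c' * frobQ hF ν) • b'')
    (by rw [hf.smul_left, hb''a, mul_zero]) (by rw [hf.smul_left, hb''a₁, mul_zero]) hE2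
  have hcoef := coeff_mem_of_isRat_smul hb''R hb''0 hR2
  have hσν : frobQ hF ν ∈ F₀ := by
    have e : frobQ hF ν = (-(c' * frobQ hF ν)) * (-c'⁻¹) := by
      field_simp
    rw [e]
    exact F₀.mul_mem hcoef (F₀.neg_mem (F₀.inv_mem hc'm))
  have hνm : ν ∈ F₀ := by
    have := frob_mem hF F₀ hσν
    rwa [hf.involutive] at this
  exact ⟨ρ, b'' + ν • a, isRat_add hb''R (isRat_smul hνm ha), hbρ⟩

theorem l5 (hn : 6 ≤ n) (h : Ctx hF F₀ P M) {g : GL (Fin n) F} (hg : g ∈ M) {a : Fin n → F}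
    (ha : IsRat F₀ P a) (ha0 : a ≠ 0) (haa : Cfsg.hermForm n F q a a = 0) {l : F}
    {a₁ : Fin n → F} (ha₁ : IsRat F₀ P a₁)
    (hga : (g : Matrix (Fin n) (Fin n) F) *ᵥ a = l • a₁) :
    g ∈ Cfsg.Geo.subfieldSubgroup F₀ P := by
  have hf := herm_unitary (n := n) hF
  have hn0 : 0 < n := by omega
  have hiso := h.iso hg
  have hg0 : ∀ x : Fin n → F, x ≠ 0 → (g : Matrix (Fin n) (Fin n) F) *ᵥ x ≠ 0 := by
    intro x hx h0
    apply hx
    have := inv_mul_mulVec g x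
    rw [h0, Matrix.mulVec_zero] at this
    exact this.symm
  have hσ0 : ∀ c : F, c ≠ 0 → frobQ hF c ≠ 0 := fun c hc => by rwa [Ne, map_eq_zero]
  have hStep : ∀ x y : Fin n → F, IsRat F₀ P x → x ≠ 0 → Cfsg.hermForm n F q x x = 0 →
      (∃ (lx : F) (rx : Fin n → F), IsRat F₀ P rx ∧
        (g : Matrix (Fin n) (Fin n) F) *ᵥ x = lx • rx) →
      IsRat F₀ P y → Cfsg.hermForm n F q y y = 0 → Cfsg.hermForm n F q y x = 0 →
      ∃ (ly : F) (ry : Fin n → F), IsRat F₀ P ry ∧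
        (g : Matrix (Fin n) (Fin n) F) *ᵥ y = ly • ry := by
    rintro x y hx hx0 hxx ⟨lx, rx, hrx, hgx⟩ hy hyy hyx
    have hgx0 := hg0 x hx0
    have hlx0 : lx ≠ 0 := by
      rintro rfl
      rw [zero_smul] at hgx
      exact hgx0 hgx
    have hrx0 : rx ≠ 0 := by
      rintro rfl
      rw [smul_zero] at hgx
      exact hgx0 hgx
    have hrxrx : Cfsg.hermForm n F q rx rx = 0 := by
      have e := hiso x x
      rw [hgx, hf.smul_left, u_smul_right hf, hxx] at e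
      rcases mul_eq_zero.mp e with h' | h'
      · exact absurd h' hlx0
      · rcases mul_eq_zero.mp h' with h'' | h''
        · exact absurd h'' (hσ0 lx hlx0)
        · exact h''
    have hperp : Cfsg.hermForm n F q ((g : Matrix (Fin n) (Fin n) F) *ᵥ y) rx = 0 := by
      have e := hiso y x
      rw [hgx, u_smul_right hf, hyx] at e
      rcases mul_eq_zero.mp e with h' | h'
      · exact absurd h' (hσ0 lx hlx0)
      · exact h'
    apply cgen hn h (b := (g : Matrix (Fin n) (Fin n) F) *ᵥ y) (by rw [hiso, hyy]) ?_ hrx hrx0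
      hrxrx hperp
    intro c hc hcs
    exact TV_conj hf hg hiso (TV_mono h.le (rat_TV hn0 h.dat hy hyy hc hcs))
  have hAll : ∀ y : Fin n → F, IsRat F₀ P y → Cfsg.hermForm n F q y y = 0 →
      ∃ (ly : F) (ry : Fin n → F), IsRat F₀ P ry ∧
        (g : Matrix (Fin n) (Fin n) F) *ᵥ y = ly • ry := by
    intro y hy hyy
    obtain ⟨z, hz, hz0, hzz, hza, hzy⟩ := exists_rat_common_perp h.dat (by omega) ha hy
    have hPz := hStep a z ha ha0 haa ⟨l, a₁, ha₁, hga⟩ hz hzz hza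
    exact hStep z y hz hz0 hzz hPz hy hyy (u_symm_zero hf hzy)
  have hl0 : l ≠ 0 := by
    rintro rfl
    rw [zero_smul] at hga
    exact hg0 a ha0 hga
  have hRat : ∀ x : Fin n → F, IsRat F₀ P x → Cfsg.hermForm n F q x x = 0 →
      ∃ r : Fin n → F, IsRat F₀ P r ∧ (g : Matrix (Fin n) (Fin n) F) *ᵥ x = l • r := by
    intro x hx hxx
    by_cases hx0 : x = 0
    · exact ⟨0, isRat_zero, by rw [hx0, Matrix.mulVec_zero, smul_zero]⟩
    obtain ⟨lx, rx, hrx, hgx⟩ := hAll x hx hxx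
    obtain ⟨y, hy, hyy, hya, hyx⟩ := exists_rat_iso_ne2 h.dat (by omega) ha0 hx0
    obtain ⟨ly, ry, hry, hgy⟩ := hAll y hy hyy
    have e1 := hiso a y
    rw [hga, hgy, hf.smul_left, u_smul_right hf] at e1
    have e2 := hiso x y
    rw [hgx, hgy, hf.smul_left, u_smul_right hf] at e2
    have hay : Cfsg.hermForm n F q a y ≠ 0 := u_symm_ne hf hya
    have hxy : Cfsg.hermForm n F q x y ≠ 0 := u_symm_ne hf hyx
    have hB0 : Cfsg.hermForm n F q rx ry ≠ 0 := by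
      intro h0
      rw [h0, mul_zero, mul_zero] at e2
      exact hxy e2.symm
    have hmem : lx / l ∈ F₀ := by
      have e3 : lx / l = (Cfsg.hermForm n F q x y * Cfsg.hermForm n F q a₁ ry) /
          (Cfsg.hermForm n F q a y * Cfsg.hermForm n F q rx ry) := by
        rw [div_eq_div_iff hl0 (mul_ne_zero hay hB0)]
        linear_combination (-(lx * Cfsg.hermForm n F q rx ry)) * e1 +
          (Cfsg.hermForm n F q a₁ ry * l) * e2
      rw [e3]
      exact F₀.div_mem (F₀.mul_mem (h.dat.form_mem hx hy) (h.dat.form_mem ha₁ hry))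
        (F₀.mul_mem (h.dat.form_mem ha hy) (h.dat.form_mem hrx hry))
    refine ⟨(lx / l) • rx, isRat_smul hmem hrx, ?_⟩
    rw [hgx, smul_smul, mul_div_cancel₀ _ hl0]
  apply mem_subfield_of_maps hn0 g
  intro x hx
  obtain ⟨b₁, b₂, b₃, h1R, h2R, h3R, h1i, h2i, h3i, hsum⟩ := exists_rat_decomp h.dat (by omega) hx
  obtain ⟨r₁, hr₁, e₁⟩ := hRat b₁ h1R h1i
  obtain ⟨r₂, hr₂, e₂⟩ := hRat b₂ h2R h2i
  obtain ⟨r₃, hr₃, e₃⟩ := hRat b₃ h3R h3i
  refine ⟨l, r₁ + r₂ + r₃, isRat_add (isRat_add hr₁ hr₂) hr₃, ?_⟩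
  rw [hsum, Matrix.mulVec_add, Matrix.mulVec_add, e₁, e₂, e₃, smul_add, smul_add]

/-- an element of `M` mapping a rational isotropic vector to a vector orthogonal to a rational
isotropic vector lies in the subfield group -/
theorem key (hn : 6 ≤ n) (h : Ctx hF F₀ P M) {g : GL (Fin n) F} (hg : g ∈ M) {u a : Fin n → F}
    (hu : IsRat F₀ P u) (hu0 : u ≠ 0) (huu : Cfsg.hermForm n F q u u = 0) (ha : IsRat F₀ P a)
    (ha0 : a ≠ 0) (haa : Cfsg.hermForm n F q a a = 0)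
    (hperp : Cfsg.hermForm n F q ((g : Matrix (Fin n) (Fin n) F) *ᵥ u) a = 0) :
    g ∈ Cfsg.Geo.subfieldSubgroup F₀ P := by
  have hf := herm_unitary (n := n) hF
  have hiso := h.iso hg
  obtain ⟨l, r, hr, hgu⟩ := cgen hn h (b := (g : Matrix (Fin n) (Fin n) F) *ᵥ u)
    (by rw [hiso, huu])
    (fun c hc hcs => TV_conj hf hg hiso (TV_mono h.le (rat_TV (by omega) h.dat hu huu hc hcs)))
    ha ha0 haa hperp
  exact l5 hn h hg hu hu0 huu hr hgu

end KeyL

end Cfsg.Agent.Lib.Helper5.USf
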