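import Mathlib
import Cfsg.Agent.Lib.Helper5.USfF

/-!
Unitary subfield subgroups: the dihedral trick.  Two non-conjugate rational involution-like elements `t`,
`t'`; for `g ∈ M` the group generated by `t` and `g t' g⁻¹` contains a central involution `z`, which lies in
the subfield group together with `g⁻¹ z g`; fixed vectors then give a rational isotropic vector mapped by
`g` into a proper rational subspace, and the key lemma applies.  Maximality of the subfield group.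
-/

set_option autoImplicit false
set_option linter.unusedSectionVars false
set_option linter.unusedVariables false
set_option linter.unusedSimpArgs false

namespace Cfsg.Agent.Lib.Helper5.USf
open Cfsg Matrix Cfsg.Agent.Lib.Helper5.SpMax Cfsg.Agent.Lib.Helper5.TMCalc
  Cfsg.Agent.Lib.Helper5.UForm Cfsg.Agent.Lib.Helper5.USub Cfsg.Agent.Lib.Helper5.HermBridge
  Cfsg.Agent.Lib.Helper5.SUMax Cfsg.Agent.Lib.Helper5.LSub Cfsg.Agent.Lib.Helper5.SUGen

section Hard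
variable {F : Type*} [Field F] [Fintype F] {q n : ℕ} {hF : Fintype.card F = q ^ 2}
  {F₀ : Subfield F} {P : GL (Fin n) F} {M : Subgroup (GL (Fin n) F)}

section FrameSums
variable {k : ℕ} {fr : Fin k → Bool → (Fin n → F)} (Fr : Frame hF F₀ P fr)
include Fr

lemma Frame.gram2 (i j a b : Fin k) (s t s' t' : Bool) :
    Cfsg.hermForm n F q (fr i s + fr j t) (fr a s' + fr b t') =
      ((if i = a ∧ s ≠ s' then (1 : F) else 0) + (if i = b ∧ s ≠ t' then 1 else 0)) +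
        ((if j = a ∧ t ≠ s' then 1 else 0) + (if j = b ∧ t ≠ t' then 1 else 0)) := by
  have hf := herm_unitary (n := n) hF
  rw [hf.add_left, u_add_right hf, u_add_right hf, Fr.gram, Fr.gram, Fr.gram, Fr.gram]

lemma Frame.gramL (i j a : Fin k) (s t s' : Bool) :
    Cfsg.hermForm n F q (fr i s + fr j t) (fr a s') =
      (if i = a ∧ s ≠ s' then (1 : F) else 0) + (if j = a ∧ t ≠ s' then 1 else 0) := by
  have hf := herm_unitary (n := n) hF
  rw [hf.add_left, Fr.gram, Fr.gram]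

lemma Frame.gramR (a i j : Fin k) (s' s t : Bool) :
    Cfsg.hermForm n F q (fr a s') (fr i s + fr j t) =
      (if a = i ∧ s' ≠ s then (1 : F) else 0) + (if a = j ∧ s' ≠ t then 1 else 0) := by
  have hf := herm_unitary (n := n) hF
  rw [u_add_right hf, Fr.gram, Fr.gram]

end FrameSums

lemma tau_sq (hF : Fintype.card F = q ^ 2) {t : GL (Fin n) F} {u u' : Fin n → F} (huu : Cfsg.hermForm n F q u u = 0)
    (hu'u' : Cfsg.hermForm n F q u' u' = 0) (h2 : Cfsg.hermForm n F q u u' = 2)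
    (h2' : Cfsg.hermForm n F q u' u = 2)
    (ht : ∀ x, (t : Matrix (Fin n) (Fin n) F) *ᵥ x =
      x - Cfsg.hermForm n F q x u' • u - Cfsg.hermForm n F q x u • u') : t * t = 1 := by
  have hf := herm_unitary (n := n) hF
  apply Units.ext
  apply mat_eq_of_mulVec
  intro x
  rw [Units.val_mul, ← Matrix.mulVec_mulVec, Units.val_one, Matrix.one_mulVec,
    ht ((t : Matrix (Fin n) (Fin n) F) *ᵥ x)]
  have e1 : Cfsg.hermForm n F q ((t : Matrix (Fin n) (Fin n) F) *ᵥ x) u' =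
      -Cfsg.hermForm n F q x u' := by
    rw [ht, u_sub_left hf, u_sub_left hf, hf.smul_left, hf.smul_left, h2, hu'u']
    ring
  have e2 : Cfsg.hermForm n F q ((t : Matrix (Fin n) (Fin n) F) *ᵥ x) u =
      -Cfsg.hermForm n F q x u := by
    rw [ht, u_sub_left hf, u_sub_left hf, hf.smul_left, hf.smul_left, h2', huu]
    ring
  rw [e1, e2, ht x]
  module

/-- a unitary rational-acting element whose fixed space meets every hyperplane fixes a non-zero
rational isotropic vector -/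
lemma exists_rat_iso_fixed (D : Dat hF F₀ P) {z : GL (Fin n) F}
    (hzU : ∀ x y, Cfsg.hermForm n F q ((z : Matrix (Fin n) (Fin n) F) *ᵥ x)
      ((z : Matrix (Fin n) (Fin n) F) *ᵥ y) = Cfsg.hermForm n F q x y)
    (hzr : ∀ x, IsRat F₀ P x → IsRat F₀ P ((z : Matrix (Fin n) (Fin n) F) *ᵥ x))
    (hfix : ∀ ψ : (Fin n → F) →ₗ[F] F, ∃ v : Fin n → F, v ≠ 0 ∧
      (z : Matrix (Fin n) (Fin n) F) *ᵥ v = v ∧ ψ v = 0) :
    ∃ a, IsRat F₀ P a ∧ a ≠ 0 ∧ Cfsg.hermForm n F q a a = 0 ∧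
      (z : Matrix (Fin n) (Fin n) F) *ᵥ a = a := by
  have hf := herm_unitary (n := n) hF
  obtain ⟨v₀, hv₀, hzv₀, -⟩ := hfix 0
  obtain ⟨a₁, ha₁R, ha₁0, ha₁fix⟩ := exists_rat_fixed hzr hv₀ hzv₀
  by_cases ha₁a₁ : Cfsg.hermForm n F q a₁ a₁ = 0
  · exact ⟨a₁, ha₁R, ha₁0, ha₁a₁, ha₁fix⟩
  obtain ⟨v₁, hv₁, hzv₁, hψ⟩ := hfix (uL hf a₁)
  rw [uL_apply] at hψ
  obtain ⟨L, hL⟩ : ∃ L : (Fin n → F) →ₗ[F] (Fin n → F),
      L = (Matrix.toLin' (z : Matrix (Fin n) (Fin n) F) - LinearMap.id) +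
        (uL hf a₁).smulRight a₁ := ⟨_, rfl⟩
  have hLv : ∀ x, L x = (z : Matrix (Fin n) (Fin n) F) *ᵥ x - x +
      Cfsg.hermForm n F q x a₁ • a₁ := by
    intro x
    rw [hL]
    simp only [LinearMap.add_apply, LinearMap.sub_apply, Matrix.toLin'_apply, LinearMap.id_apply,
      LinearMap.smulRight_apply, uL_apply]
  have hLR : ∀ x, IsRat F₀ P x → IsRat F₀ P (L x) := by
    intro x hx
    rw [hLv]
    exact isRat_add (isRat_sub (hzr x hx) hx) (isRat_smul (D.form_mem hx ha₁R) ha₁R)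
  have hLv₁ : L v₁ = 0 := by rw [hLv, hzv₁, sub_self, hψ, zero_smul, add_zero]
  obtain ⟨a₂, ha₂R, ha₂0, hLa₂⟩ := exists_rat_ker L hLR hv₁ hLv₁
  rw [hLv] at hLa₂
  have h21 : Cfsg.hermForm n F q a₂ a₁ = 0 := by
    have e := congrArg (fun x => Cfsg.hermForm n F q x a₁) hLa₂
    simp only [hf.add_left, u_sub_left hf, hf.smul_left, u_zero_left hf] at e
    have e' := hzU a₂ a₁
    rw [ha₁fix] at e'
    rw [e'] at e
    have e'' : Cfsg.hermForm n F q a₂ a₁ * Cfsg.hermForm n F q a₁ a₁ = 0 := by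
      linear_combination e
    rcases mul_eq_zero.mp e'' with h' | h'
    · exact h'
    · exact absurd h' ha₁a₁
  have ha₂fix : (z : Matrix (Fin n) (Fin n) F) *ᵥ a₂ = a₂ := by
    rw [h21, zero_smul, add_zero] at hLa₂
    exact sub_eq_zero.mp hLa₂
  have hind : ∀ s t : F, s • a₁ + t • a₂ = 0 → s = 0 ∧ t = 0 := by
    intro s t hst
    have e := congrArg (fun x => Cfsg.hermForm n F q x a₁) hst
    simp only [hf.add_left, hf.smul_left, h21, u_zero_left hf, mul_zero, add_zero] at e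
    have hs : s = 0 := by
      rcases mul_eq_zero.mp e with h' | h'
      · exact h'
      · exact absurd h' ha₁a₁
    refine ⟨hs, ?_⟩
    rw [hs, zero_smul, zero_add] at hst
    rcases smul_eq_zero.mp hst with h' | h'
    · exact h'
    · exact absurd h' ha₂0
  obtain ⟨α, hα, β, hβ, hne, hiso⟩ := exists_rat_iso_comb2 D ha₁R ha₂R hind
  refine ⟨α • a₁ + β • a₂, isRat_add (isRat_smul hα ha₁R) (isRat_smul hβ ha₂R), hne, hiso, ?_⟩
  rw [Matrix.mulVec_add, Matrix.mulVec_smul, Matrix.mulVec_smul, ha₁fix, ha₂fix]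

/-- a non-trivial rational-acting element of `GU ⊓ SL` moves some rational vector by a non-zero
isotropic vector -/
lemma exists_rat_iso_im (D : Dat hF F₀ P) {z : GL (Fin n) F}
    (hzG : z ∈ Cfsg.GU n F q ⊓ Cfsg.Geo.specialLinear (Fin n) F)
    (hzr : ∀ x, IsRat F₀ P x → IsRat F₀ P ((z : Matrix (Fin n) (Fin n) F) *ᵥ x)) (hz1 : z ≠ 1) :
    ∃ y, IsRat F₀ P y ∧ (z : Matrix (Fin n) (Fin n) F) *ᵥ y - y ≠ 0 ∧
      Cfsg.hermForm n F q ((z : Matrix (Fin n) (Fin n) F) *ᵥ y - y)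
        ((z : Matrix (Fin n) (Fin n) F) *ᵥ y - y) = 0 := by
  have hf := herm_unitary (n := n) hF
  have hzU := mem_GU.mp hzG.1
  have hdet : (z : Matrix (Fin n) (Fin n) F).det = 1 := by
    have h1 := congrArg Units.val (MonoidHom.mem_ker.mp hzG.2)
    simpa using h1
  obtain ⟨j, hj⟩ : ∃ j, (z : Matrix (Fin n) (Fin n) F) *ᵥ ev P j - ev P j ≠ 0 := by
    by_contra hcon
    push Not at hcon
    apply hz1
    apply Units.ext
    apply mat_eq_of_mulVec
    intro v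
    rw [Units.val_one, Matrix.one_mulVec]
    have e := lin_decomp P (Matrix.toLin' (z : Matrix (Fin n) (Fin n) F)) v
    rw [Matrix.toLin'_apply] at e
    rw [e]
    conv_rhs => rw [LSub.decomp P v]
    apply Finset.sum_congr rfl
    intro m _
    rw [Matrix.toLin'_apply, sub_eq_zero.mp (hcon m)]
  obtain ⟨d₁, hd₁def⟩ : ∃ d₁ : Fin n → F,
      d₁ = (z : Matrix (Fin n) (Fin n) F) *ᵥ ev P j - ev P j := ⟨_, rfl⟩
  have hd₁0 : d₁ ≠ 0 := by rw [hd₁def]; exact hj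
  have hd₁R : IsRat F₀ P d₁ := by
    rw [hd₁def]
    exact isRat_sub (hzr _ (isRat_ev P j)) (isRat_ev P j)
  by_cases hd₁ : Cfsg.hermForm n F q d₁ d₁ = 0
  · refine ⟨ev P j, isRat_ev P j, hj, ?_⟩
    rw [← hd₁def]
    exact hd₁
  by_cases hex : ∃ y, IsRat F₀ P y ∧ ∀ c : F, (z : Matrix (Fin n) (Fin n) F) *ᵥ y - y ≠ c • d₁
  · obtain ⟨y, hy, hyc⟩ := hex
    obtain ⟨d₂, hd₂def⟩ : ∃ d₂ : Fin n → F, d₂ = (z : Matrix (Fin n) (Fin n) F) *ᵥ y - y :=
      ⟨_, rfl⟩
    have hd₂R : IsRat F₀ P d₂ := by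
      rw [hd₂def]
      exact isRat_sub (hzr _ hy) hy
    have hind : ∀ s t : F, s • d₁ + t • d₂ = 0 → s = 0 ∧ t = 0 := by
      intro s t hst
      have ht : t = 0 := by
        by_contra ht
        apply hyc (-(s / t))
        rw [← hd₂def]
        have e1 : t • d₂ = -(s • d₁) := eq_neg_of_add_eq_zero_right hst
        calc d₂ = t⁻¹ • (t • d₂) := by rw [smul_smul, inv_mul_cancel₀ ht, one_smul]
          _ = -(s / t) • d₁ := by
            rw [e1, smul_neg, smul_smul, neg_smul]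
            congr 2
            field_simp
      refine ⟨?_, ht⟩
      rw [ht, zero_smul, add_zero] at hst
      rcases smul_eq_zero.mp hst with h' | h'
      · exact h'
      · exact absurd h' hd₁0
    obtain ⟨α, hα, β, hβ, hne, hiso⟩ := exists_rat_iso_comb2 D hd₁R hd₂R hind
    have e : (z : Matrix (Fin n) (Fin n) F) *ᵥ (α • ev P j + β • y) - (α • ev P j + β • y) =
        α • d₁ + β • d₂ := by
      rw [Matrix.mulVec_add, Matrix.mulVec_smul, Matrix.mulVec_smul, hd₁def, hd₂def]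
      module
    refine ⟨α • ev P j + β • y, isRat_add (isRat_smul hα (isRat_ev P j)) (isRat_smul hβ hy), ?_, ?_⟩
    · rw [e]
      exact hne
    · rw [e]
      exact hiso
  · exfalso
    push Not at hex
    obtain ⟨φ, hφ⟩ : ∃ φ : (Fin n → F) →ₗ[F] F, φ = (Cfsg.hermForm n F q d₁ d₁)⁻¹ •
        ((uL hf d₁) ∘ₗ (Matrix.toLin' (z : Matrix (Fin n) (Fin n) F) - LinearMap.id)) := ⟨_, rfl⟩
    have hφv : ∀ x, φ x = (Cfsg.hermForm n F q d₁ d₁)⁻¹ *
        Cfsg.hermForm n F q ((z : Matrix (Fin n) (Fin n) F) *ᵥ x - x) d₁ := by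
      intro x
      rw [hφ]
      simp only [LinearMap.smul_apply, LinearMap.comp_apply, LinearMap.sub_apply,
        Matrix.toLin'_apply, LinearMap.id_apply, uL_apply, smul_eq_mul]
    have hrat : ∀ y, IsRat F₀ P y → (z : Matrix (Fin n) (Fin n) F) *ᵥ y - y = φ y • d₁ := by
      intro y hy
      obtain ⟨c, hc⟩ := hex y hy
      rw [hφv, hc, hf.smul_left]
      congr 1
      field_simp
    have hall : ∀ x, (z : Matrix (Fin n) (Fin n) F) *ᵥ x = x + φ x • d₁ := by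
      intro x
      obtain ⟨Λ, hΛ⟩ : ∃ Λ : (Fin n → F) →ₗ[F] (Fin n → F),
          Λ = Matrix.toLin' (z : Matrix (Fin n) (Fin n) F) - LinearMap.id - φ.smulRight d₁ :=
        ⟨_, rfl⟩
      have hΛv : ∀ x, Λ x = (z : Matrix (Fin n) (Fin n) F) *ᵥ x - x - φ x • d₁ := by
        intro x
        rw [hΛ]
        simp only [LinearMap.sub_apply, Matrix.toLin'_apply, LinearMap.id_apply,
          LinearMap.smulRight_apply]
      have hΛ0 : Λ x = 0 := by
        rw [lin_decomp P Λ x]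
        apply Finset.sum_eq_zero
        intro m _
        rw [hΛv, hrat _ (isRat_ev P m), sub_self, smul_zero]
      rw [hΛv] at hΛ0
      have e := sub_eq_zero.mp hΛ0
      rw [← e]
      abel
    obtain ⟨r, hr⟩ : ∃ r : Fin n → F, r = fun j => φ (Pi.single j 1) := ⟨_, rfl⟩
    have hdot : ∀ x : Fin n → F, r ⬝ᵥ x = φ x := by
      intro x
      rw [lin_apply φ x, hr]
      unfold dotProduct
      apply Finset.sum_congr rfl
      intro c _
      rw [mul_comm]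
    have hmat : (z : Matrix (Fin n) (Fin n) F) = 1 + Matrix.vecMulVec d₁ r := by
      apply mat_eq_of_mulVec
      intro x
      rw [hall, Matrix.add_mulVec, Matrix.one_mulVec, Matrix.vecMulVec_mulVec, hdot]
      congr 1
      ext i
      simp only [Pi.smul_apply, smul_eq_mul, MulOpposite.smul_eq_mul_unop, MulOpposite.unop_op]
      ring
    have hφd : φ d₁ = 0 := by
      rw [hmat, det_rank_one, hdot] at hdet
      linear_combination hdet
    have hzd : (z : Matrix (Fin n) (Fin n) F) *ᵥ d₁ = d₁ := by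
      rw [hall, hφd, zero_smul, add_zero]
    have hφ0 : ∀ x, φ x = 0 := by
      intro x
      have e := hzU x d₁
      rw [hzd, hall x, hf.add_left, hf.smul_left] at e
      have e' : φ x * Cfsg.hermForm n F q d₁ d₁ = 0 := by linear_combination e
      rcases mul_eq_zero.mp e' with h' | h'
      · exact h'
      · exact absurd h' hd₁
    apply hj
    rw [hall, hφ0, zero_smul, add_zero, sub_self]

/-- the dihedral trick: every element of a proper overgroup lies in the subfield group -/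
theorem hard (hn : 13 ≤ n) (h : Ctx hF F₀ P M) {g : GL (Fin n) F} (hg : g ∈ M) :
    g ∈ Cfsg.Geo.subfieldSubgroup F₀ P := by
  classical
  have hf := herm_unitary (n := n) hF
  have hn0 : 0 < n := by omega
  obtain ⟨a₀, ha₀R, ha₀0, ha₀a₀⟩ := exists_rat_iso h.dat (by omega)
  obtain ⟨fr, -, hrat, hgram⟩ := exists_rat_frame h.dat 4 (by omega) ha₀R ha₀0 ha₀a₀
  have Fr : Frame hF F₀ P fr := ⟨hrat, hgram⟩
  obtain ⟨u₁, hu₁⟩ : ∃ u₁ : Fin n → F, u₁ = fr 0 true + fr 1 true := ⟨_, rfl⟩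
  obtain ⟨u₁', hu₁'⟩ : ∃ u₁' : Fin n → F, u₁' = fr 0 false + fr 1 false := ⟨_, rfl⟩
  obtain ⟨u₂, hu₂⟩ : ∃ u₂ : Fin n → F, u₂ = fr 2 true + fr 3 true := ⟨_, rfl⟩
  obtain ⟨u₂', hu₂'⟩ : ∃ u₂' : Fin n → F, u₂' = fr 2 false + fr 3 false := ⟨_, rfl⟩
  have hu₁R : IsRat F₀ P u₁ := by rw [hu₁]; exact isRat_add (Fr.rat _ _) (Fr.rat _ _)
  have hu₁'R : IsRat F₀ P u₁' := by rw [hu₁']; exact isRat_add (Fr.rat _ _) (Fr.rat _ _)
  have hu₂R : IsRat F₀ P u₂ := by rw [hu₂]; exact isRat_add (Fr.rat _ _) (Fr.rat _ _)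
  have hu₂'R : IsRat F₀ P u₂' := by rw [hu₂']; exact isRat_add (Fr.rat _ _) (Fr.rat _ _)
  -- Gram values
  have G11 : Cfsg.hermForm n F q u₁ u₁ = 0 := by rw [hu₁, Fr.gram2]; simp
  have G1'1' : Cfsg.hermForm n F q u₁' u₁' = 0 := by rw [hu₁', Fr.gram2]; simp
  have G11' : Cfsg.hermForm n F q u₁ u₁' = 2 := by rw [hu₁, hu₁', Fr.gram2]; simp <;> norm_num
  have G1'1 : Cfsg.hermForm n F q u₁' u₁ = 2 := by rw [hu₁, hu₁', Fr.gram2]; simp <;> norm_num
  have G22 : Cfsg.hermForm n F q u₂ u₂ = 0 := by rw [hu₂, Fr.gram2]; simp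
  have G2'2' : Cfsg.hermForm n F q u₂' u₂' = 0 := by rw [hu₂', Fr.gram2]; simp
  have G22' : Cfsg.hermForm n F q u₂ u₂' = 2 := by rw [hu₂, hu₂', Fr.gram2]; simp <;> norm_num
  have G2'2 : Cfsg.hermForm n F q u₂' u₂ = 2 := by rw [hu₂, hu₂', Fr.gram2]; simp <;> norm_num
  have G12 : Cfsg.hermForm n F q u₁ u₂ = 0 := by rw [hu₁, hu₂, Fr.gram2]; simp
  have G12' : Cfsg.hermForm n F q u₁ u₂' = 0 := by rw [hu₁, hu₂', Fr.gram2]; simp
  have G1'2 : Cfsg.hermForm n F q u₁' u₂ = 0 := by rw [hu₁', hu₂, Fr.gram2]; simp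
  have G1'2' : Cfsg.hermForm n F q u₁' u₂' = 0 := by rw [hu₁', hu₂', Fr.gram2]; simp
  have G21 : Cfsg.hermForm n F q u₂ u₁ = 0 := by rw [hu₁, hu₂, Fr.gram2]; simp
  have G21' : Cfsg.hermForm n F q u₂ u₁' = 0 := by rw [hu₁', hu₂, Fr.gram2]; simp
  have G2'1 : Cfsg.hermForm n F q u₂' u₁ = 0 := by rw [hu₁, hu₂', Fr.gram2]; simp
  have G2'1' : Cfsg.hermForm n F q u₂' u₁' = 0 := by rw [hu₁', hu₂', Fr.gram2]; simp
  have G15 : Cfsg.hermForm n F q u₁ (fr 4 true) = 0 := by rw [hu₁, Fr.gramL]; simp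
  have G1'5 : Cfsg.hermForm n F q u₁' (fr 4 true) = 0 := by rw [hu₁', Fr.gramL]; simp
  have G25 : Cfsg.hermForm n F q u₂ (fr 4 true) = 0 := by rw [hu₂, Fr.gramL]; simp
  have G2'5 : Cfsg.hermForm n F q u₂' (fr 4 true) = 0 := by rw [hu₂', Fr.gramL]; simp
  -- values against the dual vectors
  have A1 : Cfsg.hermForm n F q u₁ (fr 0 false) = 1 := by rw [hu₁, Fr.gramL]; simp
  have A2 : Cfsg.hermForm n F q u₁' (fr 0 false) = 0 := by rw [hu₁', Fr.gramL]; simp
  have A3 : Cfsg.hermForm n F q u₂ (fr 0 false) = 0 := by rw [hu₂, Fr.gramL]; simp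
  have A4 : Cfsg.hermForm n F q u₂' (fr 0 false) = 0 := by rw [hu₂', Fr.gramL]; simp
  have B1 : Cfsg.hermForm n F q u₁ (fr 0 true) = 0 := by rw [hu₁, Fr.gramL]; simp
  have B2 : Cfsg.hermForm n F q u₁' (fr 0 true) = 1 := by rw [hu₁', Fr.gramL]; simp
  have B3 : Cfsg.hermForm n F q u₂ (fr 0 true) = 0 := by rw [hu₂, Fr.gramL]; simp
  have B4 : Cfsg.hermForm n F q u₂' (fr 0 true) = 0 := by rw [hu₂', Fr.gramL]; simp
  have C1 : Cfsg.hermForm n F q u₁ (fr 2 false) = 0 := by rw [hu₁, Fr.gramL]; simp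
  have C2 : Cfsg.hermForm n F q u₁' (fr 2 false) = 0 := by rw [hu₁', Fr.gramL]; simp
  have C3 : Cfsg.hermForm n F q u₂ (fr 2 false) = 1 := by rw [hu₂, Fr.gramL]; simp
  have C4 : Cfsg.hermForm n F q u₂' (fr 2 false) = 0 := by rw [hu₂', Fr.gramL]; simp
  have D1 : Cfsg.hermForm n F q u₁ (fr 2 true) = 0 := by rw [hu₁, Fr.gramL]; simp
  have D2 : Cfsg.hermForm n F q u₁' (fr 2 true) = 0 := by rw [hu₁', Fr.gramL]; simp
  have D3 : Cfsg.hermForm n F q u₂ (fr 2 true) = 0 := by rw [hu₂, Fr.gramL]; simp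
  have D4 : Cfsg.hermForm n F q u₂' (fr 2 true) = 1 := by rw [hu₂', Fr.gramL]; simp
  have E1 : Cfsg.hermForm n F q (fr 0 true) u₁' = 1 := by rw [hu₁', Fr.gramR]; simp
  have E2 : Cfsg.hermForm n F q (fr 0 true) u₁ = 0 := by rw [hu₁, Fr.gramR]; simp
  have E3 : Cfsg.hermForm n F q (fr 0 true) u₂' = 0 := by rw [hu₂', Fr.gramR]; simp
  have E4 : Cfsg.hermForm n F q (fr 0 true) u₂ = 0 := by rw [hu₂, Fr.gramR]; simp
  -- the two involutions
  obtain ⟨t, htH, ht⟩ := exists_tau hn0 h.dat hu₁R hu₁'R G11 G1'1' G11'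
  obtain ⟨t₂, ht₂H, ht₂⟩ := exists_tau hn0 h.dat hu₂R hu₂'R G22 G2'2' G22'
  obtain ⟨t', ht'def⟩ : ∃ t' : GL (Fin n) F, t' = t * t₂ := ⟨_, rfl⟩
  have htM : t ∈ M := h.le htH
  have ht'M : t' ∈ M := by
    rw [ht'def]
    exact M.mul_mem htM (h.le ht₂H)
  have ht' : ∀ x, (t' : Matrix (Fin n) (Fin n) F) *ᵥ x =
      x - Cfsg.hermForm n F q x u₁' • u₁ - Cfsg.hermForm n F q x u₁ • u₁' -
        Cfsg.hermForm n F q x u₂' • u₂ - Cfsg.hermForm n F q x u₂ • u₂' := by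
    intro x
    rw [ht'def, Units.val_mul, ← Matrix.mulVec_mulVec, ht, ht₂]
    simp only [u_sub_left hf, hf.smul_left, G21', G2'1', G21, G2'1, mul_zero, sub_zero]
    abel
  have htt : t * t = 1 := tau_sq hF G11 G1'1' G11' G1'1 ht
  have ht't' : t' * t' = 1 := by
    apply Units.ext
    apply mat_eq_of_mulVec
    intro x
    rw [Units.val_mul, ← Matrix.mulVec_mulVec, Units.val_one, Matrix.one_mulVec,
      ht' ((t' : Matrix (Fin n) (Fin n) F) *ᵥ x)]
    have e1 : Cfsg.hermForm n F q ((t' : Matrix (Fin n) (Fin n) F) *ᵥ x) u₁' =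
        -Cfsg.hermForm n F q x u₁' := by
      rw [ht']
      simp only [u_sub_left hf, hf.smul_left, G11', G1'1', G21', G2'1']
      ring
    have e2 : Cfsg.hermForm n F q ((t' : Matrix (Fin n) (Fin n) F) *ᵥ x) u₁ =
        -Cfsg.hermForm n F q x u₁ := by
      rw [ht']
      simp only [u_sub_left hf, hf.smul_left, G11, G1'1, G21, G2'1]
      ring
    have e3 : Cfsg.hermForm n F q ((t' : Matrix (Fin n) (Fin n) F) *ᵥ x) u₂' =
        -Cfsg.hermForm n F q x u₂' := by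
      rw [ht']
      simp only [u_sub_left hf, hf.smul_left, G12', G1'2', G22', G2'2']
      ring
    have e4 : Cfsg.hermForm n F q ((t' : Matrix (Fin n) (Fin n) F) *ᵥ x) u₂ =
        -Cfsg.hermForm n F q x u₂ := by
      rw [ht']
      simp only [u_sub_left hf, hf.smul_left, G12, G1'2, G22, G2'2]
      ring
    rw [e1, e2, e3, e4, ht' x]
    module
  -- functionals
  obtain ⟨φ, hφ⟩ : ∃ φ : Fin 2 → ((Fin n → F) →ₗ[F] F), φ = ![uL hf u₁', uL hf u₁] := ⟨_, rfl⟩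
  obtain ⟨φ', hφ'⟩ : ∃ φ' : Fin 4 → ((Fin n → F) →ₗ[F] F),
      φ' = ![uL hf u₁', uL hf u₁, uL hf u₂', uL hf u₂] := ⟨_, rfl⟩
  have hφ0 : ∀ v, φ 0 v = Cfsg.hermForm n F q v u₁' := fun v => by rw [hφ]; rfl
  have hφ1 : ∀ v, φ 1 v = Cfsg.hermForm n F q v u₁ := fun v => by rw [hφ]; rfl
  have hφ'0 : ∀ v, φ' 0 v = Cfsg.hermForm n F q v u₁' := fun v => by rw [hφ']; rfl
  have hφ'1 : ∀ v, φ' 1 v = Cfsg.hermForm n F q v u₁ := fun v => by rw [hφ']; rfl
  have hφ'2 : ∀ v, φ' 2 v = Cfsg.hermForm n F q v u₂' := fun v => by rw [hφ']; rfl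
  have hφ'3 : ∀ v, φ' 3 v = Cfsg.hermForm n F q v u₂ := fun v => by rw [hφ']; rfl
  have ht_fix : ∀ v, (∀ l, φ l v = 0) → (t : Matrix (Fin n) (Fin n) F) *ᵥ v = v := by
    intro v hv
    have h0 := hv 0
    have h1 := hv 1
    rw [hφ0] at h0
    rw [hφ1] at h1
    rw [ht, h0, h1, zero_smul, zero_smul, sub_zero, sub_zero]
  have ht'_fix : ∀ v, (∀ l, φ' l v = 0) → (t' : Matrix (Fin n) (Fin n) F) *ᵥ v = v := by
    intro v hv
    have h0 := hv 0
    have h1 := hv 1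
    have h2 := hv 2
    have h3 := hv 3
    rw [hφ'0] at h0
    rw [hφ'1] at h1
    rw [hφ'2] at h2
    rw [hφ'3] at h3
    rw [ht', h0, h1, h2, h3, zero_smul, zero_smul, zero_smul, zero_smul, sub_zero, sub_zero,
      sub_zero, sub_zero]
  have ht'_imp : ∀ v, (t' : Matrix (Fin n) (Fin n) F) *ᵥ v = v → ∀ l, φ' l v = 0 := by
    intro v hv
    rw [ht'] at hv
    have hz : Cfsg.hermForm n F q v u₁' • u₁ + Cfsg.hermForm n F q v u₁ • u₁' +
        Cfsg.hermForm n F q v u₂' • u₂ + Cfsg.hermForm n F q v u₂ • u₂' = 0 := by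
      have e : Cfsg.hermForm n F q v u₁' • u₁ + Cfsg.hermForm n F q v u₁ • u₁' +
          Cfsg.hermForm n F q v u₂' • u₂ + Cfsg.hermForm n F q v u₂ • u₂' =
          v - (v - Cfsg.hermForm n F q v u₁' • u₁ - Cfsg.hermForm n F q v u₁ • u₁' -
            Cfsg.hermForm n F q v u₂' • u₂ - Cfsg.hermForm n F q v u₂ • u₂') := by abel
      rw [e, hv, sub_self]
    have d1 := congrArg (fun w => Cfsg.hermForm n F q w (fr 0 false)) hz
    simp only [hf.add_left, hf.smul_left, u_zero_left hf, A1, A2, A3, A4, mul_zero, mul_one,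
      add_zero] at d1
    have d2 := congrArg (fun w => Cfsg.hermForm n F q w (fr 0 true)) hz
    simp only [hf.add_left, hf.smul_left, u_zero_left hf, B1, B2, B3, B4, mul_zero, mul_one,
      add_zero, zero_add] at d2
    have d3 := congrArg (fun w => Cfsg.hermForm n F q w (fr 2 false)) hz
    simp only [hf.add_left, hf.smul_left, u_zero_left hf, C1, C2, C3, C4, mul_zero, mul_one,
      add_zero, zero_add] at d3
    have d4 := congrArg (fun w => Cfsg.hermForm n F q w (fr 2 true)) hz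
    simp only [hf.add_left, hf.smul_left, u_zero_left hf, D1, D2, D3, D4, mul_zero, mul_one,
      add_zero, zero_add] at d4
    have a0 : φ' 0 v = 0 := by rw [hφ'0]; exact d1
    have a1 : φ' 1 v = 0 := by rw [hφ'1]; exact d2
    have a2 : φ' 2 v = 0 := by rw [hφ'2]; exact d3
    have a3 : φ' 3 v = 0 := by rw [hφ'3]; exact d4
    intro l
    fin_cases l
    · exact a0
    · exact a1
    · exact a2
    · exact a3
  obtain ⟨dv, hdv⟩ : ∃ dv : Fin 4 → (Fin n → F),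
      dv = ![fr 0 true, fr 0 false, fr 2 true, fr 2 false] := ⟨_, rfl⟩
  have hdual : ∀ l m, φ' l (dv m) = if l = m then 1 else 0 := by
    intro l m
    fin_cases l <;> fin_cases m <;>
      simp [hφ', hdv, uL_apply, hu₁, hu₁', hu₂, hu₂', Fr.gramR]
  -- the conjugate involution
  obtain ⟨j, hj⟩ : ∃ j : GL (Fin n) F, j = g * t' * g⁻¹ := ⟨_, rfl⟩
  have hjM : j ∈ M := by
    rw [hj]
    exact M.mul_mem (M.mul_mem hg ht'M) (M.inv_mem hg)
  have hjj : j * j = 1 := by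
    rw [hj]
    calc g * t' * g⁻¹ * (g * t' * g⁻¹) = g * (t' * t') * g⁻¹ := by group
      _ = 1 := by rw [ht't', mul_one, mul_inv_cancel]
  rcases dihedral t j htt hjj with ⟨w, hw⟩ | ⟨m, hz1, hzz, hzt, hzj⟩
  · exfalso
    have hx : t * (w⁻¹ * g) = (w⁻¹ * g) * t' := by
      rw [hj] at hw
      have e : t = w⁻¹ * (g * t' * g⁻¹) * w := by
        rw [← hw]
        group
      calc t * (w⁻¹ * g) = w⁻¹ * (g * t' * g⁻¹) * w * (w⁻¹ * g) := by rw [← e]
        _ = (w⁻¹ * g) * t' := by group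
    exact not_conj (k := 2) (k' := 4) (by norm_num) (by omega) φ φ' dv hdual t t' (w⁻¹ * g)
      ht_fix ht'_imp hx
  · obtain ⟨z, hz⟩ : ∃ z : GL (Fin n) F, z = (t * j) ^ m := ⟨_, rfl⟩
    rw [← hz] at hz1 hzz hzt hzj
    have hzM : z ∈ M := by
      rw [hz]
      exact M.pow_mem (M.mul_mem htM hjM) m
    have hu₁0 : u₁ ≠ 0 := by
      intro h0
      rw [h0, u_zero_left hf] at A1
      exact zero_ne_one A1
    obtain ⟨cv, hcv⟩ : ∃ cv : Fin n → F, cv = -(fr 0 true) := ⟨_, rfl⟩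
    have htc : (t : Matrix (Fin n) (Fin n) F) *ᵥ cv - cv = u₁ := by
      rw [ht, hcv, u_neg_left hf, u_neg_left hf, E1, E2]
      module
    have ht'c : (t' : Matrix (Fin n) (Fin n) F) *ᵥ cv - cv = u₁ := by
      rw [ht', hcv, u_neg_left hf, u_neg_left hf, u_neg_left hf, u_neg_left hf, E1, E2, E3, E4]
      module
    have hzu₁ : (z : Matrix (Fin n) (Fin n) F) *ᵥ u₁ =
        (t : Matrix (Fin n) (Fin n) F) *ᵥ ((z : Matrix (Fin n) (Fin n) F) *ᵥ cv) -
          (z : Matrix (Fin n) (Fin n) F) *ᵥ cv := by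
      rw [← htc, Matrix.mulVec_sub, Matrix.mulVec_mulVec, ← Units.val_mul, hzt, Units.val_mul,
        ← Matrix.mulVec_mulVec]
    have hzperp : Cfsg.hermForm n F q ((z : Matrix (Fin n) (Fin n) F) *ᵥ u₁) (fr 4 true) = 0 := by
      rw [hzu₁, ht]
      simp only [u_sub_left hf, hf.smul_left, G15, G1'5, mul_zero, sub_zero, sub_self]
    have hzS : z ∈ Cfsg.Geo.subfieldSubgroup F₀ P :=
      key (by omega) h hzM hu₁R hu₁0 G11 (Fr.rat 4 true) (Fr.ne_zero 4 true) (Fr.iso 4 true) hzperp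
    obtain ⟨z', hz'⟩ : ∃ z' : GL (Fin n) F, z' = g⁻¹ * z * g := ⟨_, rfl⟩
    have hz'M : z' ∈ M := by
      rw [hz']
      exact M.mul_mem (M.mul_mem (M.inv_mem hg) hzM) hg
    have hz'z' : z' * z' = 1 := by
      rw [hz']
      calc g⁻¹ * z * g * (g⁻¹ * z * g) = g⁻¹ * (z * z) * g := by group
        _ = 1 := by rw [hzz, mul_one, inv_mul_cancel]
    have hz't' : z' * t' = t' * z' := by
      rw [hj] at hzj
      rw [hz']
      calc g⁻¹ * z * g * t' = g⁻¹ * (z * (g * t' * g⁻¹)) * g := by group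
        _ = g⁻¹ * ((g * t' * g⁻¹) * z) * g := by rw [hzj]
        _ = t' * (g⁻¹ * z * g) := by group
    have hz'u₁ : (z' : Matrix (Fin n) (Fin n) F) *ᵥ u₁ =
        (t' : Matrix (Fin n) (Fin n) F) *ᵥ ((z' : Matrix (Fin n) (Fin n) F) *ᵥ cv) -
          (z' : Matrix (Fin n) (Fin n) F) *ᵥ cv := by
      rw [← ht'c, Matrix.mulVec_sub, Matrix.mulVec_mulVec, ← Units.val_mul, hz't', Units.val_mul,
        ← Matrix.mulVec_mulVec]
    have hz'perp : Cfsg.hermForm n F q ((z' : Matrix (Fin n) (Fin n) F) *ᵥ u₁) (fr 4 true) = 0 := by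
      rw [hz'u₁, ht']
      simp only [u_sub_left hf, hf.smul_left, G15, G1'5, G25, G2'5, mul_zero, sub_zero, sub_self]
    have hz'S : z' ∈ Cfsg.Geo.subfieldSubgroup F₀ P :=
      key (by omega) h hz'M hu₁R hu₁0 G11 (Fr.rat 4 true) (Fr.ne_zero 4 true) (Fr.iso 4 true)
        hz'perp
    have hzr := ratact (P := P) hn0 h.prime h.three hzS hzz
    have hz'r := ratact (P := P) hn0 h.prime h.three hz'S hz'z'
    have hfix : ∀ ψ : (Fin n → F) →ₗ[F] F, ∃ v : Fin n → F, v ≠ 0 ∧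
        (z' : Matrix (Fin n) (Fin n) F) *ᵥ v = v ∧ ψ v = 0 := by
      intro ψ
      obtain ⟨v, hv0, hφv, hφ'v⟩ := exists_common_fixed (k := 2) (k' := 5) (by omega) φ
        (Fin.snoc (α := fun _ => (Fin n → F) →ₗ[F] F) φ' ψ) g
      have h1 : ∀ l : Fin 4, φ' l v = 0 := by
        intro l
        have := hφ'v l.castSucc
        rwa [Fin.snoc_castSucc] at this
      have h2 : ψ v = 0 := by
        have := hφ'v (Fin.last 4)
        rwa [Fin.snoc_last] at this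
      have htg : (t : Matrix (Fin n) (Fin n) F) *ᵥ ((g : Matrix (Fin n) (Fin n) F) *ᵥ v) =
          (g : Matrix (Fin n) (Fin n) F) *ᵥ v := ht_fix _ hφv
      have ht'v : (t' : Matrix (Fin n) (Fin n) F) *ᵥ v = v := ht'_fix v h1
      have hjg : (j : Matrix (Fin n) (Fin n) F) *ᵥ ((g : Matrix (Fin n) (Fin n) F) *ᵥ v) =
          (g : Matrix (Fin n) (Fin n) F) *ᵥ v := by
        rw [hj, Units.val_mul, Units.val_mul, ← Matrix.mulVec_mulVec, ← Matrix.mulVec_mulVec,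
          inv_mul_mulVec, ht'v]
      have hzg : (z : Matrix (Fin n) (Fin n) F) *ᵥ ((g : Matrix (Fin n) (Fin n) F) *ᵥ v) =
          (g : Matrix (Fin n) (Fin n) F) *ᵥ v := by
        rw [hz]
        exact pow_fix (mul_fix htg hjg) m
      refine ⟨v, hv0, ?_, h2⟩
      rw [hz', Units.val_mul, Units.val_mul, ← Matrix.mulVec_mulVec, ← Matrix.mulVec_mulVec, hzg,
        inv_mul_mulVec]
    obtain ⟨a', ha'R, ha'0, ha'a', hz'a'⟩ :=
      exists_rat_iso_fixed h.dat (h.iso hz'M) hz'r hfix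
    have hzb : (z : Matrix (Fin n) (Fin n) F) *ᵥ ((g : Matrix (Fin n) (Fin n) F) *ᵥ a') =
        (g : Matrix (Fin n) (Fin n) F) *ᵥ a' := by
      have e : z * g = g * z' := by
        rw [hz']
        group
      rw [Matrix.mulVec_mulVec, ← Units.val_mul, e, Units.val_mul, ← Matrix.mulVec_mulVec, hz'a']
    obtain ⟨y, hy, hd0, hdd⟩ := exists_rat_iso_im h.dat (h.leG hzM) hzr hz1
    have hperp : Cfsg.hermForm n F q ((g : Matrix (Fin n) (Fin n) F) *ᵥ a')
        ((z : Matrix (Fin n) (Fin n) F) *ᵥ y - y) = 0 := by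
      rw [u_sub_right hf]
      have e := h.iso hzM ((g : Matrix (Fin n) (Fin n) F) *ᵥ a') y
      rw [hzb] at e
      rw [e, sub_self]
    exact key (by omega) h hg ha'R ha'0 ha'a' (isRat_sub (hzr y hy) hy) hd0 hdd hperp

end Hard

section Final
variable {F : Type*} [Field F] [Fintype F] {q n : ℕ} {hF : Fintype.card F = q ^ 2}
  {F₀ : Subfield F} {P : GL (Fin n) F}

lemma Hsub_lt (hn : 6 ≤ n) (D : Dat hF F₀ P) (hr2 : 2 ≤ Module.finrank F₀ F) :
    Hsub n q F₀ P < Cfsg.GU n F q ⊓ Cfsg.Geo.specialLinear (Fin n) F := by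
  classical
  have hf := herm_unitary (n := n) hF
  refine lt_of_le_of_ne inf_le_right ?_
  intro heq
  obtain ⟨ω, hω⟩ : ∃ ω : F, ω ∉ F₀ := by
    by_contra hcon
    push Not at hcon
    letI : Fintype F₀ := Fintype.ofFinite F₀
    have h1 := Module.card_eq_pow_finrank (K := F₀) (V := F)
    have h2 : Fintype.card F₀ = Fintype.card F :=
      Fintype.card_congr (Equiv.subtypeUnivEquiv hcon)
    have h3 : 2 ≤ Fintype.card F₀ := Fintype.one_lt_card
    rw [← h2] at h1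
    have h4 : Fintype.card F₀ ^ 1 = Fintype.card F₀ ^ Module.finrank F₀ F := by
      rw [pow_one]
      exact h1
    have h5 := Nat.pow_right_injective h3 h4
    omega
  obtain ⟨a₀, ha₀R, ha₀0, ha₀a₀⟩ := exists_rat_iso D (by omega)
  obtain ⟨fr, -, hrat, hgram⟩ := exists_rat_frame D 2 (by omega) ha₀R ha₀0 ha₀a₀
  have Fr : Frame hF F₀ P fr := ⟨hrat, hgram⟩
  have h10 : (1 : Fin 3) ≠ 0 := by decide
  have h20 : (2 : Fin 3) ≠ 0 := by decide
  have h21 : (2 : Fin 3) ≠ 1 := by decide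
  have hwv : Cfsg.hermForm n F q (frobQ hF ω • fr 1 true) (fr 0 true) = 0 := by
    rw [hf.smul_left, Fr.orth h10 true true, mul_zero]
  obtain ⟨g, hgS, hg⟩ := Cfsg.Agent.Lib.Helper5.UEichler.exists_E hf (Fr.iso 0 true) hwv 0
  have hww : Cfsg.hermForm n F q (frobQ hF ω • fr 1 true) (frobQ hF ω • fr 1 true) = 0 := by
    rw [hf.smul_left, u_smul_right hf, Fr.iso 1 true, mul_zero, mul_zero]
  have hgU : g ∈ Cfsg.GU n F q :=
    mem_GU.mpr (Cfsg.Agent.Lib.Helper5.UEichler.E_isometry hf (Fr.iso 0 true) hwv (κ := 0)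
      (by rw [map_zero, add_zero, hww]) hg)
  have hgH : g ∈ Hsub n q F₀ P := by
    rw [heq]
    exact ⟨hgU, hgS⟩
  obtain ⟨μ, hμ0, hmap⟩ := rat_of_mem_subfield g hgH.1
  have h3 : (g : Matrix (Fin n) (Fin n) F) *ᵥ fr 2 true = fr 2 true := by
    rw [hg, u_smul_right hf, Fr.orth h21 true true, Fr.orth h20 true true, mul_zero, mul_zero,
      zero_smul]
    simp
  obtain ⟨r₃, hr₃, e₃⟩ := hmap (fr 2 true) (Fr.rat 2 true)
  rw [h3] at e₃
  have hr₃0 : r₃ ≠ 0 := by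
    rintro rfl
    rw [smul_zero] at e₃
    exact Fr.ne_zero 2 true e₃
  have hμm : μ ∈ F₀ := coeff_mem_of_isRat_smul hr₃ hr₃0 (by rw [← e₃]; exact Fr.rat 2 true)
  have p1 : Cfsg.hermForm n F q (fr 1 false) (fr 1 true) = 1 := Fr.pair 1 false
  have h4 : (g : Matrix (Fin n) (Fin n) F) *ᵥ fr 1 false = fr 1 false + ω • fr 0 true := by
    rw [hg, u_smul_right hf, hf.involutive, p1, Fr.orth h10 false true, mul_one, mul_zero,
      zero_smul]
    simp
  obtain ⟨r₄, hr₄, e₄⟩ := hmap (fr 1 false) (Fr.rat 1 false)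
  have hrat' : IsRat F₀ P (ω • fr 0 true) := by
    have e : ω • fr 0 true = μ • r₄ - fr 1 false := by
      rw [← e₄, h4]
      abel
    rw [e]
    exact isRat_sub (isRat_smul hμm hr₄) (Fr.rat 1 false)
  exact hω (coeff_mem_of_isRat_smul (Fr.rat 0 true) (Fr.ne_zero 0 true) hrat')

/-- the subfield group of odd prime degree is maximal in `GU_n(q) ⊓ SL_n`, `n ≥ 13` -/
theorem maximal (hn : 13 ≤ n) (hF : Fintype.card F = q ^ 2) (F₀ : Subfield F) {r : ℕ}
    (hr : r.Prime) (hro : Odd r) (hcard : Fintype.card F = Nat.card F₀ ^ r) (P : GL (Fin n) F)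
    (hP : Cfsg.Geo.IsFormRationalStructure (Cfsg.hermForm n F q) F₀ 1 P) :
    Cfsg.Geo.IsMaximalIn (Cfsg.GU n F q ⊓ Cfsg.Geo.specialLinear (Fin n) F)
      (Cfsg.Geo.subfieldSubgroup F₀ P ⊓ (Cfsg.GU n F q ⊓ Cfsg.Geo.specialLinear (Fin n) F)) := by
  have hfr : Module.finrank F₀ F = r := finrank_eq_of_card F₀ hcard
  have hr3 : 3 ≤ r := by
    have h2 := hr.two_le
    rcases hro with ⟨k, hk⟩
    omega
  have D : Dat hF F₀ P := ⟨hP, exists_moved_sub hF F₀ hr hro hcard⟩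
  refine ⟨Hsub_lt (by omega) D (by rw [hfr]; omega), ?_⟩
  intro M hHM hMG
  by_cases hG : Cfsg.GU n F q ⊓ Cfsg.Geo.specialLinear (Fin n) F ≤ M
  · right
    exact le_antisymm hMG hG
  · left
    have h : Ctx hF F₀ P M := ⟨D, hHM, hMG, hG, by rw [hfr]; exact hr, by rw [hfr]; exact hr3⟩
    apply le_antisymm _ hHM
    intro g hg
    exact ⟨hard hn h hg, hMG hg⟩

end Final

end Cfsg.Agent.Lib.Helper5.USf
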