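import Mathlib
import Cfsg.Agent.Lib.Helper14.Unitary
import Cfsg.Agent.Lib.Helper15.HermLines
import Cfsg.Agent.Lib.Helper5.HermBridge
import Cfsg.Agent.S0775

/-!
Counting totally isotropic linearly independent tuples of the standard Hermitian space `F^n`,
`|F| = q^2`: `card_TI`, and the arithmetic `arith` relating the count to the orders of the unitary groups.
-/

set_option autoImplicit false
set_option linter.unusedSectionVars false
set_option linter.unusedVariables false
set_option linter.unusedSimpArgs false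

namespace Cfsg.Agent.Lib.Helper5.UTICount
open Cfsg Cfsg.Agent.Lib.Helper14 Cfsg.Agent.Lib.Helper15.HermLines Finset
  Cfsg.Agent.Lib.Helper5.UForm Cfsg.Agent.Lib.Helper5.HermBridge
open scoped Classical

variable {F : Type*} [Field F] [Fintype F] {q n : ℕ}

/-- totally isotropic linearly independent tuples -/
def TI (F : Type*) [Field F] (q n k : ℕ) (x : Fin k → (Fin n → F)) : Prop :=
  LinearIndependent F x ∧ ∀ i j, Cfsg.hermForm n F q (x i) (x j) = 0

lemma TI_cons (hF : Fintype.card F = q ^ 2) (k : ℕ) (v : Fin n → F) (x : Fin k → (Fin n → F)) :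
    TI F q n (k + 1) (Fin.cons v x : Fin (k + 1) → (Fin n → F)) ↔
      TI F q n k x ∧ (v ∉ Submodule.span F (Set.range x) ∧
        (∀ i, Cfsg.hermForm n F q v (x i) = 0) ∧ Cfsg.hermForm n F q v v = 0) := by
  unfold TI
  rw [linearIndependent_finCons]
  constructor
  · rintro ⟨⟨h1, h2⟩, h3⟩
    refine ⟨⟨h1, fun i j => ?_⟩, h2, fun i => ?_, ?_⟩
    · have := h3 i.succ j.succ
      simpa using this
    · have := h3 0 i.succ
      simpa using this
    · have := h3 0 0
      simpa using this
  · rintro ⟨⟨h1, h3⟩, h2, h4, h5⟩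
    refine ⟨⟨h1, h2⟩, fun i j => ?_⟩
    refine Fin.cases ?_ (fun i' => ?_) i
    · refine Fin.cases ?_ (fun j' => ?_) j
      · simp only [Fin.cons_zero]
        exact h5
      · simp only [Fin.cons_zero, Fin.cons_succ]
        exact h4 j'
    · refine Fin.cases ?_ (fun j' => ?_) j
      · simp only [Fin.cons_zero, Fin.cons_succ]
        exact hermForm_eq_zero_symm hF _ _ (h4 i')
      · simp only [Fin.cons_succ]
        exact h3 i' j'

def tiEquiv (hF : Fintype.card F = q ^ 2) (k : ℕ) :
    {s : Fin (k + 1) → (Fin n → F) // TI F q n (k + 1) s} ≃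
      {p : (Fin n → F) × (Fin k → (Fin n → F)) //
        TI F q n k p.2 ∧ (p.1 ∉ Submodule.span F (Set.range p.2) ∧
          (∀ i, Cfsg.hermForm n F q p.1 (p.2 i) = 0) ∧ Cfsg.hermForm n F q p.1 p.1 = 0)} :=
  (Cfsg.Agent.S0775.consEquiv k _).subtypeEquiv (fun s => by
    rw [← TI_cons hF]
    show TI F q n (k + 1) s ↔ TI F q n (k + 1) (Fin.cons (s 0) (Fin.tail s))
    rw [Fin.cons_self_tail])

/-- pairing against the vectors of a tuple -/
noncomputable def perpMap (q : ℕ) {k : ℕ} (s : Fin k → (Fin n → F)) :
    (Fin n → F) →ₗ[F] (Fin k → F) :=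
  LinearMap.pi (fun i => phiH q (s i))

lemma perpMap_apply {k : ℕ} (s : Fin k → (Fin n → F)) (v : Fin n → F) (i : Fin k) :
    perpMap q s v i = Cfsg.hermForm n F q v (s i) := rfl

lemma perpMap_surjective (hF : Fintype.card F = q ^ 2) {k : ℕ} (s : Fin k → (Fin n → F))
    (hs : LinearIndependent F s) : Function.Surjective (perpMap q s) := by
  have hf := herm_unitary (n := n) hF
  rw [← LinearMap.range_eq_top]
  by_contra hne
  obtain ⟨f, hf0, hle⟩ := Submodule.exists_le_ker_of_lt_top _ (lt_top_iff_ne_top.mpr hne)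
  apply hf0
  have hc : ∀ i, f (fun j => if i = j then 1 else 0) = 0 := by
    have hv : ∀ v : Fin n → F, Cfsg.hermForm n F q v
        (∑ i, (f (fun j => if i = j then 1 else 0)) ^ q • s i) = 0 := by
      intro v
      have h1 : f (perpMap q s v) = 0 := by
        have : perpMap q s v ∈ LinearMap.ker f := hle (LinearMap.mem_range_self _ v)
        exact LinearMap.mem_ker.mp this
      rw [LinearMap.pi_apply_eq_sum_univ f] at h1
      rw [hermForm_sum_right hF]
      refine (Finset.sum_congr rfl fun i _ => ?_).trans h1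
      rw [hermForm_smul_right, pow_q_pow_q hF, perpMap_apply, smul_eq_mul, mul_comm]
    have h0 := u_eq_zero_of_forall_left hf hv
    have h2 := Fintype.linearIndependent_iff.mp hs _ h0
    intro i
    have := h2 i
    exact (pow_eq_zero_iff (by have := herm_two_le hF; omega)).mp this
  apply LinearMap.ext
  intro x
  rw [LinearMap.pi_apply_eq_sum_univ f x]
  simp [hc]

lemma card_ker_perpMap (hF : Fintype.card F = q ^ 2) {k : ℕ} (s : Fin k → (Fin n → F))
    (hs : LinearIndependent F s) :
    Nat.card (LinearMap.ker (perpMap q s)) = (q ^ 2) ^ (n - k) := by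
  have h1 := LinearMap.finrank_range_add_finrank_ker (perpMap q s)
  rw [LinearMap.range_eq_top.2 (perpMap_surjective hF s hs), finrank_top,
    Module.finrank_fintype_fun_eq_card, Module.finrank_fintype_fun_eq_card, Fintype.card_fin,
    Fintype.card_fin] at h1
  rw [Module.natCard_eq_pow_finrank (K := F), Nat.card_eq_fintype_card, hF]
  congr 1
  omega

lemma card_perpF (hF : Fintype.card F = q ^ 2) {k : ℕ} (s : Fin k → (Fin n → F))
    (hs : LinearIndependent F s) :
    (univ.filter (fun v : Fin n → F => ∀ i, Cfsg.hermForm n F q v (s i) = 0)).card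
      = (q ^ 2) ^ (n - k) := by
  have h : Nat.card {v : Fin n → F // ∀ i, Cfsg.hermForm n F q v (s i) = 0}
      = (q ^ 2) ^ (n - k) := by
    rw [← card_ker_perpMap hF s hs]
    apply Nat.card_congr
    exact Equiv.subtypeEquivRight (fun v => by
      rw [LinearMap.mem_ker]
      constructor
      · intro h; funext i; exact h i
      · intro h i; exact congrFun h i)
  rw [← h, Nat.card_eq_fintype_card, Fintype.card_subtype]

/-- a generalisation of `card_S`: a translation-invariant side condition -/
theorem card_S_gen (hF : Fintype.card F = q ^ 2) (P : (Fin n → F) → Prop) (u : Fin n → F)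
    (hu0 : u ≠ 0) (hu : Cfsg.hermForm n F q u u = 0) (hP : ∀ (w : Fin n → F) (a : F), P (w + a • u) ↔ P w) :
    (univ.filter (fun w : Fin n → F =>
        P w ∧ Cfsg.hermForm n F q w u ≠ 0 ∧ Cfsg.hermForm n F q w w = 0)).card * q ^ 2
      = (univ.filter (fun w : Fin n → F => P w ∧ Cfsg.hermForm n F q w u ≠ 0)).card * q := by
  apply double_count' _ _ (fun s t => ∃ a : F, t = s + a • u)
  · intro s hs
    simp only [mem_filter, mem_univ, true_and] at hs
    have : (univ.filter (fun w : Fin n → F => P w ∧ Cfsg.hermForm n F q w u ≠ 0)).filter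
        (fun t => ∃ a : F, t = s + a • u) = univ.image (fun a : F => s + a • u) := by
      ext t
      simp only [mem_filter, mem_image, mem_univ, true_and]
      constructor
      · rintro ⟨_, a, rfl⟩; exact ⟨a, rfl⟩
      · rintro ⟨a, rfl⟩
        refine ⟨⟨(hP s a).mpr hs.1, ?_⟩, a, rfl⟩
        rw [hermForm_add_left, hermForm_smul_left, hu, mul_zero, add_zero]
        exact hs.2.1
    rw [this, card_image_of_injective, card_univ, hF]
    intro a b hab
    exact smul_inj_of_ne_zero u hu0 (add_left_cancel hab)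
  · intro t ht
    simp only [mem_filter, mem_univ, true_and] at ht
    have hc : Cfsg.hermForm n F q u t ≠ 0 := fun h => ht.2 (hermForm_eq_zero_symm hF u t h)
    have : (univ.filter (fun w : Fin n → F =>
        P w ∧ Cfsg.hermForm n F q w u ≠ 0 ∧ Cfsg.hermForm n F q w w = 0)).filter
        (fun s => ∃ a : F, t = s + a • u) =
        (univ.filter (fun a : F => a * Cfsg.hermForm n F q u t
          + (a * Cfsg.hermForm n F q u t) ^ q = Cfsg.hermForm n F q t t)).image
          (fun a : F => t - a • u) := by
      ext s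
      simp only [mem_filter, mem_image, mem_univ, true_and]
      constructor
      · rintro ⟨⟨_, _, hs2⟩, a, rfl⟩
        refine ⟨a, ?_, by rw [add_sub_cancel_right]⟩
        have h := herm_sub_smul_self hF u (s + a • u) hu a
        rw [add_sub_cancel_right, hs2] at h
        exact (sub_eq_zero.mp h.symm).symm
      · rintro ⟨a, ha, rfl⟩
        refine ⟨⟨?_, ?_, ?_⟩, a, by rw [sub_add_cancel]⟩
        · have := (hP (t - a • u) a)
          rw [sub_add_cancel] at this
          exact this.mp ht.1
        · rw [hermForm_sub_left, hermForm_smul_left, hu, mul_zero, sub_zero]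
          exact ht.2
        · rw [herm_sub_smul_self hF u t hu a, ha, sub_self]
    rw [this, card_image_of_injective]
    · exact traceFiber_scaled hF _ _ hc (hermForm_self_pow hF t)
    · intro a b hab
      have h2 : a • u = b • u := by
        have := sub_right_injective hab
        exact this
      exact smul_inj_of_ne_zero u hu0 h2

/-- isotropic vectors perpendicular to a tuple -/
noncomputable def Yc (q : ℕ) {k : ℕ} (s : Fin k → (Fin n → F)) : ℕ :=
  (univ.filter (fun v : Fin n → F =>
    (∀ i, Cfsg.hermForm n F q v (s i) = 0) ∧ Cfsg.hermForm n F q v v = 0)).card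

theorem Yc_eq (hF : Fintype.card F = q ^ 2) : ∀ (k : ℕ) (s : Fin k → (Fin n → F)),
    TI F q n k s → (q : ℤ) * (Yc q s : ℤ) =
      (q : ℤ) ^ (2 * (n - k)) + (-1) ^ n * ((q : ℤ) ^ (n + 1) - (q : ℤ) ^ n) := by
  have hq := herm_two_le hF
  intro k
  induction k with
  | zero =>
    intro s _
    have h1 : Yc q s = hermCount F q n 0 := by
      unfold Yc hermCount
      rw [Nat.card_eq_fintype_card, Fintype.card_subtype]
      congr 1
      ext v
      simp only [mem_filter, mem_univ, true_and]
      constructor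
      · rintro ⟨_, h⟩; exact h
      · intro h; exact ⟨fun i => i.elim0, h⟩
    rw [h1, hermCount_eq hF n 0, if_pos rfl, (hermAB_closed hq n).1, Nat.sub_zero]
  | succ k ih =>
    intro s hs
    obtain ⟨u, s', rfl⟩ : ∃ u s', s = (Fin.cons u s' : Fin (k + 1) → (Fin n → F)) :=
      ⟨s 0, Fin.tail s, (Fin.cons_self_tail s).symm⟩
    rw [TI_cons hF] at hs
    obtain ⟨hs', huS, hus', huu⟩ := hs
    have hli : LinearIndependent F (Fin.cons u s' : Fin (k + 1) → (Fin n → F)) := by
      rw [linearIndependent_finCons]; exact ⟨hs'.1, huS⟩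
    have hu0 : u ≠ 0 := by
      rintro rfl
      exact huS (Submodule.zero_mem _)
    have hkn : k + 1 ≤ n := by
      have := hli.fintype_card_le_finrank
      simpa using this
    obtain ⟨m, hm⟩ : ∃ m, n = k + 1 + m := ⟨n - (k + 1), by omega⟩
    have ih' := ih s' hs'
    obtain ⟨a, ha⟩ : ∃ a : ℕ, a = (univ.filter (fun w : Fin n → F =>
      (∀ i, Cfsg.hermForm n F q w (s' i) = 0) ∧
      Cfsg.hermForm n F q w u ≠ 0 ∧ Cfsg.hermForm n F q w w = 0)).card := ⟨_, rfl⟩
    obtain ⟨b, hb⟩ : ∃ b : ℕ, b = (univ.filter (fun w : Fin n → F =>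
      (∀ i, Cfsg.hermForm n F q w (s' i) = 0) ∧
      Cfsg.hermForm n F q w u ≠ 0)).card := ⟨_, rfl⟩
    have hsplit : Yc q s' = Yc q (Fin.cons u s' : Fin (k + 1) → (Fin n → F)) + a := by
      unfold Yc
      rw [ha, ← Finset.card_union_of_disjoint]
      · congr 1
        ext w
        simp only [mem_filter, mem_univ, true_and, mem_union]
        constructor
        · rintro ⟨h1, h2⟩
          by_cases h3 : Cfsg.hermForm n F q w u = 0
          · left
            refine ⟨fun i => ?_, h2⟩
            refine Fin.cases ?_ (fun i' => ?_) i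
            · simpa using h3
            · simpa using h1 i'
          · right
            exact ⟨h1, h3, h2⟩
        · rintro (⟨h1, h2⟩ | ⟨h1, _, h2⟩)
          · refine ⟨fun i => ?_, h2⟩
            have := h1 i.succ
            simpa using this
          · exact ⟨h1, h2⟩
      · rw [Finset.disjoint_left]
        intro w hw1 hw2
        simp only [mem_filter, mem_univ, true_and] at hw1 hw2
        have := hw1.1 0
        simp only [Fin.cons_zero] at this
        exact hw2.2.1 this
    have hS : a * q ^ 2 = b * q := by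
      rw [ha, hb]
      convert card_S_gen hF (fun w => ∀ i, Cfsg.hermForm n F q w (s' i) = 0) u hu0 huu (by
        intro w c
        constructor
        · intro h i
          have := h i
          rwa [hermForm_add_left, hermForm_smul_left, hus' i, mul_zero, add_zero] at this
        · intro h i
          rw [hermForm_add_left, hermForm_smul_left, hus' i, mul_zero, add_zero]
          exact h i)
    have hb2 : b + (q ^ 2) ^ (n - (k + 1)) = (q ^ 2) ^ (n - k) := by
      rw [hb, ← card_perpF hF s' hs'.1, ← card_perpF hF _ hli, ← Finset.card_union_of_disjoint]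
      · congr 1
        ext w
        simp only [mem_filter, mem_univ, true_and, mem_union]
        constructor
        · rintro (⟨h1, _⟩ | h1)
          · exact h1
          · intro i
            have := h1 i.succ
            simpa using this
        · intro h1
          by_cases h3 : Cfsg.hermForm n F q w u = 0
          · right
            intro i
            refine Fin.cases ?_ (fun i' => ?_) i
            · simpa using h3
            · simpa using h1 i'
          · left
            exact ⟨h1, h3⟩
      · rw [Finset.disjoint_left]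
        intro w hw1 hw2
        simp only [mem_filter, mem_univ, true_and] at hw1 hw2
        have := hw2 0
        simp only [Fin.cons_zero] at this
        exact hw1.2 this
    have e1 : n - (k + 1) = m := by omega
    have e2 : n - k = m + 1 := by omega
    rw [e1, e2] at hb2
    rw [e2] at ih'
    rw [e1]
    have hq0 : (q : ℤ) ≠ 0 := by
      have : (2 : ℤ) ≤ q := by exact_mod_cast hq
      omega
    have hSz : (a : ℤ) * (q : ℤ) ^ 2 = (b : ℤ) * q := by exact_mod_cast hS
    have hbz : (b : ℤ) + ((q : ℤ) ^ 2) ^ m = ((q : ℤ) ^ 2) ^ (m + 1) := by exact_mod_cast hb2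
    have hsz : (Yc q s' : ℤ) = (Yc q (Fin.cons u s' : Fin (k + 1) → (Fin n → F)) : ℤ) + a := by
      exact_mod_cast hsplit
    have haq : (a : ℤ) * q = b := by
      apply mul_right_cancel₀ hq0
      linear_combination hSz
    linear_combination ih' - (q : ℤ) * hsz - haq - hbz

/-- the fibre of the map forgetting the first vector of a totally isotropic tuple -/
lemma card_fiber (hF : Fintype.card F = q ^ 2) (k : ℕ) (s : Fin k → (Fin n → F))
    (hs : TI F q n k s) :
    Nat.card {v : Fin n → F // v ∉ Submodule.span F (Set.range s) ∧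
      (∀ i, Cfsg.hermForm n F q v (s i) = 0) ∧ Cfsg.hermForm n F q v v = 0} + (q ^ 2) ^ k
      = Yc q s := by
  have hspan : ∀ v ∈ Submodule.span F (Set.range s),
      (∀ i, Cfsg.hermForm n F q v (s i) = 0) ∧ Cfsg.hermForm n F q v v = 0 := by
    intro v hv
    obtain ⟨c, rfl⟩ := (Submodule.mem_span_range_iff_exists_fun F).mp hv
    have h1 : ∀ i, Cfsg.hermForm n F q (∑ j, c j • s j) (s i) = 0 := by
      intro i
      rw [hermForm_sum_left]
      apply Finset.sum_eq_zero
      intro j _
      rw [hermForm_smul_left, hs.2 j i, mul_zero]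
    refine ⟨h1, ?_⟩
    rw [hermForm_sum_left]
    apply Finset.sum_eq_zero
    intro j _
    rw [hermForm_smul_left, hermForm_eq_zero_symm hF _ _ (h1 j), mul_zero]
  have h1 : Nat.card {v : Fin n → F // v ∉ Submodule.span F (Set.range s) ∧
      (∀ i, Cfsg.hermForm n F q v (s i) = 0) ∧ Cfsg.hermForm n F q v v = 0} =
      (univ.filter (fun v : Fin n → F => v ∉ Submodule.span F (Set.range s) ∧
      (∀ i, Cfsg.hermForm n F q v (s i) = 0) ∧ Cfsg.hermForm n F q v v = 0)).card := by
    rw [Nat.card_eq_fintype_card, Fintype.card_subtype]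
  have h2 : (q ^ 2) ^ k =
      (univ.filter (fun v : Fin n → F => v ∈ Submodule.span F (Set.range s))).card := by
    rw [← Fintype.card_subtype, ← Nat.card_eq_fintype_card]
    show _ = Nat.card ↥(Submodule.span F (Set.range s))
    rw [Module.natCard_eq_pow_finrank (K := F), finrank_span_eq_card hs.1, Fintype.card_fin,
      Nat.card_eq_fintype_card, hF]
  unfold Yc
  rw [h1, h2, ← Finset.card_union_of_disjoint]
  · congr 1
    ext v
    simp only [mem_filter, mem_univ, true_and, mem_union]
    constructor
    · rintro (⟨_, h⟩ | h)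
      · exact h
      · exact hspan v h
    · intro h
      by_cases hv : v ∈ Submodule.span F (Set.range s)
      · right; exact hv
      · left; exact ⟨hv, h⟩
  · rw [Finset.disjoint_left]
    intro w hw1 hw2
    simp only [mem_filter, mem_univ, true_and] at hw1 hw2
    exact hw1.1 hw2

/-- number of non-zero isotropic vectors of a non-degenerate unitary space of dimension `m` -/
def zU (q m : ℕ) : ℕ :=
  if Even m then (q ^ m - 1) * (q ^ (m - 1) + 1) else (q ^ m + 1) * (q ^ (m - 1) - 1)

/-- the order of `GU_m(q)` -/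
def gU (q m : ℕ) : ℕ :=
  q ^ (m * (m - 1) / 2) *
    ∏ i ∈ Finset.range m, (if Even i then q ^ (i + 1) + 1 else q ^ (i + 1) - 1)

lemma zU_closed (q m : ℕ) (hq : 1 ≤ q) :
    (q : ℤ) * ((zU q m : ℤ) + 1) =
      (q : ℤ) ^ (2 * m) + (-1) ^ m * ((q : ℤ) ^ (m + 1) - (q : ℤ) ^ m) := by
  rcases Nat.eq_zero_or_pos m with rfl | hm
  · have : zU q 0 = 0 := by unfold zU; simp
    rw [this]
    push_cast
    ring
  · obtain ⟨r, rfl⟩ : ∃ r, m = r + 1 := ⟨m - 1, by omega⟩
    have hp1 : 1 ≤ q ^ (r + 1) := Nat.one_le_pow _ _ hq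
    have hp2 : 1 ≤ q ^ r := Nat.one_le_pow _ _ hq
    unfold zU
    simp only [Nat.add_sub_cancel]
    by_cases he : Even (r + 1)
    · rw [if_pos he, he.neg_one_pow]
      push_cast [Nat.cast_sub hp1]
      ring
    · rw [if_neg he]
      have ho : Odd (r + 1) := Nat.not_even_iff_odd.mp he
      rw [ho.neg_one_pow]
      push_cast [Nat.cast_sub hp2]
      ring

lemma card_fiber_eq (hF : Fintype.card F = q ^ 2) (k : ℕ) (hk : 2 * k ≤ n)
    (s : Fin k → (Fin n → F)) (hs : TI F q n k s) :
    Nat.card {v : Fin n → F // v ∉ Submodule.span F (Set.range s) ∧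
      (∀ i, Cfsg.hermForm n F q v (s i) = 0) ∧ Cfsg.hermForm n F q v v = 0}
      = q ^ (2 * k) * zU q (n - 2 * k) := by
  have hq := herm_two_le hF
  obtain ⟨m, rfl⟩ : ∃ m, n = m + 2 * k := ⟨n - 2 * k, by omega⟩
  have h1 := card_fiber hF k s hs
  have h2 := Yc_eq hF k s hs
  have h3 := zU_closed q m (by omega)
  have e1 : m + 2 * k - k = m + k := by omega
  have e3 : m + 2 * k - 2 * k = m := by omega
  rw [e1] at h2
  rw [e3]
  have e2 : (-1 : ℤ) ^ (m + 2 * k) = (-1) ^ m := by
    rw [pow_add, pow_mul]; simp
  rw [e2] at h2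
  have hq0 : (q : ℤ) ≠ 0 := by
    have : (2 : ℤ) ≤ q := by exact_mod_cast hq
    omega
  obtain ⟨X, hX⟩ : ∃ X : ℕ, X = Nat.card {v : Fin (m + 2 * k) → F //
      v ∉ Submodule.span F (Set.range s) ∧
      (∀ i, Cfsg.hermForm (m + 2 * k) F q v (s i) = 0) ∧
      Cfsg.hermForm (m + 2 * k) F q v v = 0} := ⟨_, rfl⟩
  rw [← hX] at h1 ⊢
  have h1z : (X : ℤ) + ((q : ℤ) ^ 2) ^ k = (Yc q s : ℤ) := by exact_mod_cast h1
  apply Nat.cast_injective (R := ℤ)
  apply mul_left_cancel₀ hq0
  push_cast
  linear_combination (q : ℤ) * h1z + h2 - (q : ℤ) ^ (2 * k) * h3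

theorem card_TI (hF : Fintype.card F = q ^ 2) : ∀ k, 2 * k ≤ n →
    Nat.card {s : Fin k → (Fin n → F) // TI F q n k s} =
      ∏ j ∈ Finset.range k, q ^ (2 * j) * zU q (n - 2 * j) := by
  intro k
  induction k with
  | zero =>
    intro _
    rw [Finset.prod_range_zero, Nat.card_eq_one_iff_unique]
    refine ⟨⟨?_⟩, ⟨⟨fun i => i.elim0, linearIndependent_empty_type, fun i => i.elim0⟩⟩⟩
    rintro ⟨a, _⟩ ⟨b, _⟩
    apply Subtype.ext
    funext i
    exact i.elim0
  | succ k ih =>
    intro hk
    rw [Nat.card_congr (tiEquiv hF k), Finset.prod_range_succ, ← ih (by omega)]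
    exact Cfsg.Agent.S0775.card_prod_fiber (fun s => TI F q n k s)
      (fun s v => v ∉ Submodule.span F (Set.range s) ∧
        (∀ i, Cfsg.hermForm n F q v (s i) = 0) ∧ Cfsg.hermForm n F q v v = 0) _
      (fun s hs => card_fiber_eq hF k (by omega) s hs)

lemma gU_step (q M : ℕ) : gU q (M + 2) = q ^ (2 * M + 1) * zU q (M + 2) * gU q M := by
  unfold gU zU
  rw [Finset.prod_range_succ, Finset.prod_range_succ]
  have e : (M + 2) * (M + 2 - 1) / 2 = M * (M - 1) / 2 + (2 * M + 1) := by
    have : (M + 2) * (M + 2 - 1) = M * (M - 1) + 2 * (2 * M + 1) := by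
      cases M with
      | zero => rfl
      | succ M =>
        simp only [Nat.add_sub_cancel]
        have : M + 1 + 2 - 1 = M + 2 := by omega
        rw [this]
        ring
    rw [this]
    omega
  rw [e, pow_add]
  have e2 : M + 2 - 1 = M + 1 := by omega
  have e3 : M + 1 + 1 = M + 2 := rfl
  rw [e2, e3]
  by_cases hM : Even M
  · have h1 : ¬ Even (M + 1) := by
      rw [Nat.even_add_one]; exact not_not.mpr hM
    have h2 : Even (M + 2) := by
      rw [Nat.even_add]; simp [hM]
    rw [if_pos hM, if_neg h1, if_pos h2]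
    ring
  · have h1 : Even (M + 1) := by
      rw [Nat.even_add_one]; exact hM
    have h2 : ¬ Even (M + 2) := by
      rw [Nat.even_add]; simp [hM]
    rw [if_neg hM, if_pos h1, if_neg h2]
    ring

lemma arith (q : ℕ) : ∀ k m : ℕ,
    (∏ j ∈ Finset.range k, q ^ (2 * j) * zU q (m + 2 * k - 2 * j)) *
      q ^ (k * (2 * m + k)) * gU q m = gU q (m + 2 * k) := by
  intro k
  induction k with
  | zero =>
    intro m
    simp
  | succ k ih =>
    intro m
    have ih' := ih m
    have h1 : ∏ j ∈ Finset.range k, q ^ (2 * (j + 1)) * zU q (m + 2 * (k + 1) - 2 * (j + 1)) =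
        (q ^ 2) ^ k * ∏ j ∈ Finset.range k, q ^ (2 * j) * zU q (m + 2 * k - 2 * j) := by
      have : ∀ j ∈ Finset.range k, q ^ (2 * (j + 1)) * zU q (m + 2 * (k + 1) - 2 * (j + 1)) =
          q ^ 2 * (q ^ (2 * j) * zU q (m + 2 * k - 2 * j)) := by
        intro j _
        have e : m + 2 * (k + 1) - 2 * (j + 1) = m + 2 * k - 2 * j := by omega
        rw [e]
        ring
      rw [Finset.prod_congr rfl this, Finset.prod_mul_distrib, Finset.prod_const,
        Finset.card_range]
    have e0 : m + 2 * (k + 1) - 2 * 0 = m + 2 * k + 2 := by omega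
    have e1 : m + 2 * (k + 1) = m + 2 * k + 2 := by ring
    have e2 : (k + 1) * (2 * m + (k + 1)) = k * (2 * m + k) + (2 * k + 2 * m + 1) := by ring
    rw [Finset.prod_range_succ', h1, e0, e1, gU_step, ← ih', e2, pow_add]
    ring

end Cfsg.Agent.Lib.Helper5.UTICount
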