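import Mathlib
import Cfsg.Agent.Lib.Helper5.UTICount
import Cfsg.Agent.Lib.Helper5.SUGen
import Cfsg.Agent.Lib.Helper14.Unitary2
import Cfsg.Agent.S0751
import Cfsg.Agent.S2644

/-!
Stabilisers of totally isotropic subspaces in `GU_n(q)` and `SU_n(q)`: Witt transitivity on totally
isotropic tuples, orbit-stabiliser counting, and surjectivity of the determinant on the stabiliser
(via torus elements of a hyperbolic plane).
-/

set_option autoImplicit false
set_option linter.unusedSectionVars false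
set_option linter.unusedVariables false
set_option linter.unusedSimpArgs false

namespace Cfsg.Agent.Lib.Helper5.UTIStab
open Cfsg Matrix Cfsg.Agent.Lib.Helper14 Cfsg.Agent.Lib.Helper5.UForm
  Cfsg.Agent.Lib.Helper5.HermBridge Cfsg.Agent.Lib.Helper5.UTICount
  Cfsg.Agent.Lib.Helper5.SUGen Cfsg.Agent.S2644.S2644aux

variable {F : Type*} [Field F] [Fintype F] {q n : ℕ}

/-- the matrix of an element of `GU` -/
def gm (A : ↥(Cfsg.GU n F q)) : Matrix (Fin n) (Fin n) F :=
  ((A : GL (Fin n) F) : Matrix (Fin n) (Fin n) F)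

/-- `GU` as matrices, as a monoid hom -/
def toMatGU (n : ℕ) (F : Type*) [Field F] (q : ℕ) :
    ↥(Cfsg.GU n F q) →* Matrix (Fin n) (Fin n) F :=
  (Units.coeHom (Matrix (Fin n) (Fin n) F)).comp (Cfsg.GU n F q).subtype

lemma gm_one : gm (1 : ↥(Cfsg.GU n F q)) = 1 := rfl

lemma gm_mul (A B : ↥(Cfsg.GU n F q)) : gm (A * B) = gm A * gm B := rfl

lemma gm_inv_mulVec (A : ↥(Cfsg.GU n F q)) (v : Fin n → F) : gm A⁻¹ *ᵥ (gm A *ᵥ v) = v := by
  rw [Matrix.mulVec_mulVec, ← gm_mul, inv_mul_cancel, gm_one, Matrix.one_mulVec]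

lemma gm_mulVec_inv (A : ↥(Cfsg.GU n F q)) (v : Fin n → F) : gm A *ᵥ (gm A⁻¹ *ᵥ v) = v := by
  rw [Matrix.mulVec_mulVec, ← gm_mul, mul_inv_cancel, gm_one, Matrix.one_mulVec]

lemma gm_iso (A : ↥(Cfsg.GU n F q)) (x y : Fin n → F) :
    Cfsg.hermForm n F q (gm A *ᵥ x) (gm A *ᵥ y) = Cfsg.hermForm n F q x y := A.2 x y

lemma gm_injective (A : ↥(Cfsg.GU n F q)) : Function.Injective (Matrix.toLin' (gm A)) := by
  intro u v h
  rw [Matrix.toLin'_apply, Matrix.toLin'_apply] at h
  have := congrArg (fun w => gm A⁻¹ *ᵥ w) h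
  simp only [gm_inv_mulVec] at this
  exact this

lemma exists_GU_of_equiv (hF : Fintype.card F = q ^ 2) (g : (Fin n → F) ≃ₗ[F] (Fin n → F))
    (hg : ∀ u v, Cfsg.hermForm n F q (g u) (g v) = Cfsg.hermForm n F q u v) :
    ∃ A : ↥(Cfsg.GU n F q), ∀ x, gm A *ᵥ x = g x := by
  classical
  have hMv : ∀ x, LinearMap.toMatrix' (g : (Fin n → F) →ₗ[F] (Fin n → F)) *ᵥ x = g x :=
    fun x => by
      rw [← Matrix.toLin'_apply, Matrix.toLin'_toMatrix']
      rfl
  have hdet : (LinearMap.toMatrix' (g : (Fin n → F) →ₗ[F] (Fin n → F))).det ≠ 0 := by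
    have h1 : LinearMap.toMatrix' (g : (Fin n → F) →ₗ[F] (Fin n → F)) *
        LinearMap.toMatrix' (g.symm : (Fin n → F) →ₗ[F] (Fin n → F)) = 1 := by
      rw [← LinearMap.toMatrix'_comp]
      simp
    intro h0
    have h2 := congrArg Matrix.det h1
    rw [Matrix.det_mul, h0, zero_mul, Matrix.det_one] at h2
    exact zero_ne_one h2
  have hiso : ∀ u v, Cfsg.hermForm n F q
      (LinearMap.toMatrix' (g : (Fin n → F) →ₗ[F] (Fin n → F)) *ᵥ u)
      (LinearMap.toMatrix' (g : (Fin n → F) →ₗ[F] (Fin n → F)) *ᵥ v) =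
      Cfsg.hermForm n F q u v := by
    intro u v
    rw [hMv, hMv, hg]
  exact ⟨⟨Matrix.GeneralLinearGroup.mkOfDetNeZero _ hdet, hiso⟩, fun x => hMv x⟩

/-- Witt's theorem for tuples, in `GU` -/
theorem witt_GU (hF : Fintype.card F = q ^ 2) (k : ℕ) (x y : Fin k → (Fin n → F))
    (hx : LinearIndependent F x) (hy : LinearIndependent F y)
    (hG : ∀ a b, Cfsg.hermForm n F q (x a) (x b) = Cfsg.hermForm n F q (y a) (y b)) :
    ∃ A : ↥(Cfsg.GU n F q), ∀ a, gm A *ᵥ x a = y a := by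
  classical
  have hf := herm_unitary (n := n) hF
  have hσ : (frobQ hF : F →+* F) ≠ RingHom.id F := by
    intro h
    apply hf.ne_refl
    ext z
    exact congrArg (fun φ : F →+* F => φ z) h
  have hσ2 : ∀ a : F, (frobQ hF : F →+* F) ((frobQ hF : F →+* F) a) = a := hf.involutive
  have hS : (Bh (n := n) hF).IsSymm := ⟨fun u v => by
    rw [Bh_apply, Bh_apply]; exact (hf.herm u v).symm⟩
  have hB : (Bh (n := n) hF).Nondegenerate := by
    constructor
    · intro u hu
      by_contra hu0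
      obtain ⟨v, hv⟩ := (hf.nondegenerate u hu0).1
      exact hv (hu v)
    · intro v hv
      by_contra hv0
      obtain ⟨u, hu⟩ := (hf.nondegenerate v hv0).2
      exact hu (hv u)
  have hkn : k ≤ n := by
    have := hx.fintype_card_le_finrank
    simpa using this
  obtain ⟨g, hg1, hg2⟩ := Cfsg.Agent.S0751.S0751aux.witt_tuple (Bh hF) hσ hσ2 hS hB (n - k) k x y
    hx hy (fun a b => by rw [Bh_apply, Bh_apply]; exact hG b a)
    (by rw [Module.finrank_fin_fun]; omega)
  obtain ⟨A, hA⟩ := exists_GU_of_equiv hF g (fun u v => by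
    have := hg1 v u
    rwa [Bh_apply, Bh_apply] at this)
  exact ⟨A, fun a => by rw [hA, hg2]⟩

section action

/-- tuples of vectors, with the action of the unitary group -/
def Tup (F : Type*) (n k : ℕ) := Fin k → (Fin n → F)

instance tupAction (k : ℕ) : MulAction ↥(Cfsg.GU n F q) (Tup F n k) where
  smul A x := fun i => gm A *ᵥ x i
  one_smul x := by
    funext i
    show gm (1 : ↥(Cfsg.GU n F q)) *ᵥ x i = x i
    rw [gm_one, Matrix.one_mulVec]
  mul_smul A B x := by
    funext i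
    show gm (A * B) *ᵥ x i = gm A *ᵥ (gm B *ᵥ x i)
    rw [gm_mul, Matrix.mulVec_mulVec]

lemma smul_apply (k : ℕ) (A : ↥(Cfsg.GU n F q)) (x : Tup F n k) (i : Fin k) :
    (A • x) i = gm A *ᵥ x i := rfl

lemma TI_smul (k : ℕ) (A : ↥(Cfsg.GU n F q)) (x : Tup F n k) (hx : TI F q n k x) :
    TI F q n k (A • x) := by
  refine ⟨?_, fun i j => ?_⟩
  · have := hx.1.map' (Matrix.toLin' (gm A)) (LinearMap.ker_eq_bot.2 (gm_injective A))
    exact this
  · rw [smul_apply, smul_apply, gm_iso]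
    exact hx.2 i j

lemma orbit_eq (hF : Fintype.card F = q ^ 2) (k : ℕ) (x : Tup F n k) (hx : TI F q n k x) :
    MulAction.orbit ↥(Cfsg.GU n F q) x = {y : Tup F n k | TI F q n k y} := by
  ext y
  constructor
  · rintro ⟨A, rfl⟩
    exact TI_smul k A x hx
  · intro hy
    obtain ⟨A, hA⟩ := witt_GU hF k x y hx.1 hy.1 (fun i j => by rw [hx.2, hy.2])
    exact ⟨A, funext hA⟩

lemma card_stab_mul (hF : Fintype.card F = q ^ 2) (k : ℕ) (x : Tup F n k)
    (hx : TI F q n k x) :
    Nat.card (MulAction.stabilizer ↥(Cfsg.GU n F q) x) *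
      Nat.card {s : Fin k → (Fin n → F) // TI F q n k s} =
      Nat.card ↥(Cfsg.GU n F q) := by
  rw [← Subgroup.card_mul_index (MulAction.stabilizer ↥(Cfsg.GU n F q) x),
    MulAction.index_stabilizer, orbit_eq hF k x hx, ← Nat.card_coe_set_eq]
  rfl

/-- the stabiliser of a subspace in `GU` -/
def SWG (q : ℕ) (W : Submodule F (Fin n → F)) : Subgroup ↥(Cfsg.GU n F q) :=
  Cfsg.stabilizing (toMatGU n F q) (W : Set (Fin n → F))

lemma mem_SWG_iff (W : Submodule F (Fin n → F)) (A : ↥(Cfsg.GU n F q)) :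
    A ∈ SWG q W ↔ W.map (Matrix.toLin' (gm A)) = W := by
  constructor
  · intro hA
    apply le_antisymm
    · rintro _ ⟨v, hv, rfl⟩
      rw [Matrix.toLin'_apply]
      exact (hA v).1 hv
    · intro w hw
      refine ⟨gm A⁻¹ *ᵥ w, ?_, ?_⟩
      · apply (hA _).2
        show gm A *ᵥ (gm A⁻¹ *ᵥ w) ∈ (W : Set _)
        rw [gm_mulVec_inv]
        exact hw
      · rw [Matrix.toLin'_apply, gm_mulVec_inv]
  · intro h v
    constructor
    · intro hv
      have : Matrix.toLin' (gm A) v ∈ W.map (Matrix.toLin' (gm A)) :=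
        Submodule.mem_map_of_mem hv
      rw [h, Matrix.toLin'_apply] at this
      exact this
    · intro hv
      have hv' : gm A *ᵥ v ∈ W := hv
      rw [← h] at hv'
      obtain ⟨w, hw, hwv⟩ := hv'
      rw [← Matrix.toLin'_apply] at hwv
      have := gm_injective A hwv
      rw [← this]
      exact hw

lemma span_smul (k : ℕ) (A : ↥(Cfsg.GU n F q)) (x : Tup F n k) :
    Submodule.span F (Set.range (A • x)) =
      (Submodule.span F (Set.range x)).map (Matrix.toLin' (gm A)) := by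
  rw [Submodule.map_span]
  congr 1
  ext v
  constructor
  · rintro ⟨i, rfl⟩
    exact ⟨x i, ⟨i, rfl⟩, by rw [Matrix.toLin'_apply]; rfl⟩
  · rintro ⟨_, ⟨i, rfl⟩, rfl⟩
    exact ⟨i, by rw [Matrix.toLin'_apply]; rfl⟩

lemma orbit_sub_eq (hF : Fintype.card F = q ^ 2) (W : Submodule F (Fin n → F)) (k : ℕ)
    (x : Tup F n k) (hx : TI F q n k x) (hxW : Submodule.span F (Set.range x) = W) :
    MulAction.orbit (SWG q W) x =
      {y : Tup F n k | TI F q n k y ∧ Submodule.span F (Set.range y) = W} := by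
  ext y
  constructor
  · rintro ⟨⟨A, hA⟩, rfl⟩
    refine ⟨TI_smul k A x hx, ?_⟩
    show Submodule.span F (Set.range (A • x)) = W
    rw [span_smul, hxW]
    exact (mem_SWG_iff W A).1 hA
  · rintro ⟨hy, hyW⟩
    obtain ⟨A, hA⟩ := witt_GU hF k x y hx.1 hy.1 (fun i j => by rw [hx.2, hy.2])
    have hAx : A • x = y := funext hA
    have hmem : A ∈ SWG q W := by
      rw [mem_SWG_iff, ← hxW, ← span_smul, hAx, hyW, hxW]
    exact ⟨⟨A, hmem⟩, hAx⟩

lemma stab_card_eq (W : Submodule F (Fin n → F)) (k : ℕ) (x : Tup F n k)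
    (hxW : Submodule.span F (Set.range x) = W) :
    Nat.card (MulAction.stabilizer (SWG q W) x) =
    Nat.card (MulAction.stabilizer ↥(Cfsg.GU n F q) x) := by
  apply Nat.card_congr
  refine
    { toFun := fun a => ⟨a.1.1, a.2⟩
      invFun := fun A => ⟨⟨A.1, ?_⟩, A.2⟩
      left_inv := fun _ => rfl
      right_inv := fun _ => rfl }
  rw [mem_SWG_iff, ← hxW, ← span_smul]
  have : A.1 • x = x := A.2
  rw [this]

end action

section final

lemma tuple_of_li (W : Submodule F (Fin n → F)) (k : ℕ) (hWk : Module.finrank F W = k)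
    (hW : ∀ u ∈ W, ∀ v ∈ W, Cfsg.hermForm n F q u v = 0) (s : Fin k → W)
    (hs : LinearIndependent F s) :
    TI F q n k (fun i => (s i : Fin n → F)) ∧
      Submodule.span F (Set.range (fun i => (s i : Fin n → F))) = W := by
  have hli : LinearIndependent F (fun i => (s i : Fin n → F)) :=
    hs.map' W.subtype (Submodule.ker_subtype W)
  refine ⟨⟨hli, fun i j => hW _ (s i).2 _ (s j).2⟩, ?_⟩
  apply Submodule.eq_of_le_of_finrank_eq
  · rw [Submodule.span_le]
    rintro _ ⟨i, rfl⟩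
    exact (s i).2
  · rw [finrank_span_eq_card hli, Fintype.card_fin, hWk]

lemma card_bases (W : Submodule F (Fin n → F)) (k : ℕ) (hWk : Module.finrank F W = k)
    (hW : ∀ u ∈ W, ∀ v ∈ W, Cfsg.hermForm n F q u v = 0) :
    Nat.card {y : Tup F n k // TI F q n k y ∧ Submodule.span F (Set.range y) = W} =
      ∏ i : Fin k, (Fintype.card F ^ k - Fintype.card F ^ (i : ℕ)) := by
  have h := card_linearIndependent (K := F) (V := W) (k := k) (le_of_eq hWk.symm)
  rw [hWk] at h
  rw [← h]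
  apply Nat.card_congr
  refine
    { toFun := fun y => ⟨fun i => ⟨y.1 i, ?_⟩, ?_⟩
      invFun := fun s => ⟨fun i => (s.1 i : Fin n → F), tuple_of_li W k hWk hW s.1 s.2⟩
      left_inv := fun _ => rfl
      right_inv := fun _ => rfl }
  · have h1 : y.1 i ∈ Submodule.span F (Set.range y.1) := Submodule.subset_span ⟨i, rfl⟩
    have h2 := y.2.2
    rw [h2] at h1
    exact h1
  · apply LinearIndependent.of_comp W.subtype
    exact y.2.1.1

theorem card_SWG_mul (hF : Fintype.card F = q ^ 2) (W : Submodule F (Fin n → F)) (k : ℕ)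
    (hWk : Module.finrank F W = k) (hW : ∀ u ∈ W, ∀ v ∈ W, Cfsg.hermForm n F q u v = 0) :
    Nat.card (SWG q W) * Nat.card {s : Fin k → (Fin n → F) // TI F q n k s} =
    (∏ i : Fin k, (Fintype.card F ^ k - Fintype.card F ^ (i : ℕ))) *
      Nat.card ↥(Cfsg.GU n F q) := by
  let b : Module.Basis (Fin k) F W := Module.finBasisOfFinrankEq F W hWk
  let x : Tup F n k := fun i => (b i : Fin n → F)
  obtain ⟨hx, hxW⟩ := tuple_of_li W k hWk hW b b.linearIndependent
  have h1 := card_stab_mul hF k x hx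
  have h2 := Subgroup.card_mul_index (MulAction.stabilizer (SWG q W) x)
  rw [MulAction.index_stabilizer, orbit_sub_eq hF W k x hx hxW, ← Nat.card_coe_set_eq,
    stab_card_eq W k x hxW] at h2
  have h3 : Nat.card ↥{y : Tup F n k | TI F q n k y ∧ Submodule.span F (Set.range y) = W} =
      ∏ i : Fin k, (Fintype.card F ^ k - Fintype.card F ^ (i : ℕ)) := card_bases W k hWk hW
  rw [h3] at h2
  rw [← h2, ← h1]
  ring

end final

section det

lemma u_expand3 {σ : F ≃+* F} {f : (Fin n → F) → (Fin n → F) → F}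
    (hf : Cfsg.Geo.IsUnitaryForm σ f) (x y s t : Fin n → F) (A B A' B' : F) :
    f (x + A • s + B • t) (y + A' • s + B' • t) =
      f x y + σ A' * f x s + σ B' * f x t + A * f s y + A * σ A' * f s s + A * σ B' * f s t
        + B * f t y + B * σ A' * f t s + B * σ B' * f t t := by
  simp only [hf.add_left, u_add_right hf, hf.smul_left, u_smul_right hf]
  ring

/-- torus elements of a hyperbolic plane meeting `W`: elements of the stabiliser of `W` of every
determinant of norm one -/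
lemma exists_torus (hF : Fintype.card F = q ^ 2) (W : Submodule F (Fin n → F))
    (hW : ∀ u ∈ W, ∀ v ∈ W, Cfsg.hermForm n F q u v = 0) (hW0 : W ≠ ⊥) (l : Fˣ)
    (hl : l ∈ normOne F q) :
    ∃ A : ↥(Cfsg.GU n F q), A ∈ SWG q W ∧ detGU F q n A = l := by
  classical
  have hf := herm_unitary (n := n) hF
  obtain ⟨s, hsW, hs0⟩ := Submodule.exists_mem_ne_zero_of_ne_bot hW0
  have hss : Cfsg.hermForm n F q s s = 0 := hW s hsW s hsW
  obtain ⟨t, -, htt, hst⟩ := exists_partner hf (ND_top hf) (Submodule.mem_top : s ∈ ⊤) hs0 hss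
  have hts : Cfsg.hermForm n F q t s = 1 := by rw [hf.herm, hst, map_one]
  have hl' : (l : F) * frobQ hF (l : F) = 1 := by
    rw [mem_normOne] at hl
    have h2 := congrArg Units.val hl
    rw [Units.val_pow_eq_pow_val, Units.val_one, pow_succ'] at h2
    rw [frobQ_apply]
    exact h2
  -- Hilbert 90
  obtain ⟨μ, hμ0, hμ⟩ : ∃ μ : F, μ ≠ 0 ∧ μ = (l : F) * frobQ hF μ := by
    by_cases h1 : (l : F) = -1
    · obtain ⟨c, hc0, hc⟩ := exists_skew hf.involutive hf.ne_refl
      exact ⟨c, hc0, by rw [hc, h1]; ring⟩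
    · refine ⟨1 + (l : F), fun h => h1 (by linear_combination h), ?_⟩
      rw [map_add, map_one]
      linear_combination (-1 : F) * hl'
  have hσμ0 : frobQ hF μ ≠ 0 := (map_ne_zero _).mpr hμ0
  obtain ⟨ν, hνdef⟩ : ∃ ν : F, ν = (frobQ hF μ)⁻¹ := ⟨_, rfl⟩
  have h2 : ν * frobQ hF μ = 1 := by rw [hνdef]; exact inv_mul_cancel₀ hσμ0
  have h1 : μ * frobQ hF ν = 1 := by
    rw [hνdef, map_inv₀, hf.involutive]; exact mul_inv_cancel₀ hμ0
  have hμν : μ * ν = (l : F) := by
    rw [hνdef, mul_inv_eq_iff_eq_mul₀ hσμ0]; exact hμ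
  obtain ⟨T1, hT1⟩ : ∃ T1 : Matrix (Fin n) (Fin n) F,
      T1 = 1 + Matrix.vecMulVec ((μ - 1) • s) (fun j => t j ^ q) := ⟨_, rfl⟩
  obtain ⟨T2, hT2⟩ : ∃ T2 : Matrix (Fin n) (Fin n) F,
      T2 = 1 + Matrix.vecMulVec ((ν - 1) • t) (fun j => s j ^ q) := ⟨_, rfl⟩
  have hM : ∀ x, (T1 * T2) *ᵥ x = x + ((μ - 1) * Cfsg.hermForm n F q x t) • s
      + ((ν - 1) * Cfsg.hermForm n F q x s) • t := by
    intro x
    rw [← Matrix.mulVec_mulVec, hT1, hT2, rk1_mulVec, rk1_mulVec, hermForm_add_left,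
      hermForm_smul_left, htt, mul_zero, add_zero]
    abel
  have hdet : (T1 * T2).det = (l : F) := by
    rw [Matrix.det_mul, hT1, hT2, det_rank_one, det_rank_one, pow_dot, pow_dot,
      hermForm_smul_left, hermForm_smul_left, hst, hts, ← hμν]
    ring
  have hdet0 : (T1 * T2).det ≠ 0 := by rw [hdet]; exact l.ne_zero
  have hiso : ∀ x y, Cfsg.hermForm n F q ((T1 * T2) *ᵥ x) ((T1 * T2) *ᵥ y) =
      Cfsg.hermForm n F q x y := by
    intro x y
    rw [hM, hM, u_expand3 hf, hss, htt, hst, hts, hf.herm s y, hf.herm t y]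
    simp only [map_mul, map_sub, map_one]
    linear_combination
      (Cfsg.hermForm n F q x t * frobQ hF (Cfsg.hermForm n F q y s)) * h1 +
      (Cfsg.hermForm n F q x s * frobQ hF (Cfsg.hermForm n F q y t)) * h2
  obtain ⟨A, hA⟩ : ∃ A : ↥(Cfsg.GU n F q), gm A = T1 * T2 :=
    ⟨⟨Matrix.GeneralLinearGroup.mkOfDetNeZero (T1 * T2) hdet0, hiso⟩, rfl⟩
  refine ⟨A, ?_, ?_⟩
  · rw [mem_SWG_iff]
    have hinj := gm_injective A
    have hle : W.map (Matrix.toLin' (gm A)) ≤ W := by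
      rintro _ ⟨v, hv, rfl⟩
      rw [Matrix.toLin'_apply, hA, hM, hW v hv s hsW, mul_zero, zero_smul, add_zero]
      exact W.add_mem hv (W.smul_mem _ hsW)
    exact Submodule.eq_of_le_of_finrank_eq hle
      (LinearEquiv.finrank_eq (Submodule.equivMapOfInjective _ hinj W).symm)
  · apply Units.ext
    have h3 : ((detGU F q n A : Fˣ) : F) = (gm A).det :=
      Matrix.GeneralLinearGroup.val_det_apply _
    rw [h3, hA]
    exact hdet

/-- the determinant on the stabiliser -/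
noncomputable def dW (q : ℕ) (W : Submodule F (Fin n → F)) : ↥(SWG q W) →* Fˣ :=
  (detGU F q n).comp (SWG q W).subtype

lemma dW_range (hF : Fintype.card F = q ^ 2) (hn : 1 ≤ n) (W : Submodule F (Fin n → F))
    (hW : ∀ u ∈ W, ∀ v ∈ W, Cfsg.hermForm n F q u v = 0) :
    (dW q W).range = normOne F q := by
  classical
  apply le_antisymm
  · rintro _ ⟨A, rfl⟩
    exact detGU_range_le hF ⟨A.1, rfl⟩
  · intro l hl
    by_cases hW0 : W = ⊥
    · obtain ⟨m, rfl⟩ : ∃ m, n = m + 1 := ⟨n - 1, by omega⟩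
      obtain ⟨A, hA⟩ := normOne_le_detGU_range hF m hl
      have hmem : A ∈ SWG q W := by
        rw [mem_SWG_iff, hW0, Submodule.map_bot]
      exact ⟨⟨A, hmem⟩, hA⟩
    · obtain ⟨A, hmem, hA⟩ := exists_torus hF W hW hW0 l hl
      exact ⟨⟨A, hmem⟩, hA⟩

lemma card_ker_dW (W : Submodule F (Fin n → F)) :
    Nat.card ↥((Cfsg.stabilizing (Cfsg.slToMat n F) (W : Set (Fin n → F))).subgroupOf
      (Cfsg.SU n F q)) = Nat.card (dW q W).ker := by
  apply Nat.card_congr
  refine Equiv.ofBijective (fun g =>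
    ⟨⟨⟨Matrix.SpecialLinearGroup.toGL g.1.1, g.1.2⟩, g.2⟩, ?_⟩) ⟨?_, ?_⟩
  · rw [MonoidHom.mem_ker]
    apply Units.ext
    show (Matrix.GeneralLinearGroup.det (Matrix.SpecialLinearGroup.toGL g.1.1) : F) = 1
    rw [Matrix.GeneralLinearGroup.val_det_apply]
    exact g.1.1.2
  · intro g g' h
    apply Subtype.ext
    apply Subtype.ext
    apply Subtype.ext
    have h1 := congrArg (fun x => ((x.1.1.1 : Matrix.GeneralLinearGroup (Fin n) F) :
      Matrix (Fin n) (Fin n) F)) h
    exact h1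
  · rintro ⟨⟨⟨g, hg⟩, hgS⟩, hker⟩
    rw [MonoidHom.mem_ker] at hker
    have hdet : (g : Matrix (Fin n) (Fin n) F).det = 1 := by
      have := congrArg Units.val hker
      exact this
    refine ⟨⟨⟨⟨(g : Matrix (Fin n) (Fin n) F), hdet⟩, hg⟩, hgS⟩, ?_⟩
    apply Subtype.ext
    apply Subtype.ext
    apply Subtype.ext
    apply Units.ext
    rfl

/-- `(q+1) |Stab_SU(W)| = |Stab_GU(W)|` for a totally isotropic `W` -/
theorem card_stab_SU_mul (hF : Fintype.card F = q ^ 2) (hn : 1 ≤ n)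
    (W : Submodule F (Fin n → F))
    (hW : ∀ u ∈ W, ∀ v ∈ W, Cfsg.hermForm n F q u v = 0) :
    (q + 1) * Nat.card ↥((Cfsg.stabilizing (Cfsg.slToMat n F)
      (W : Set (Fin n → F))).subgroupOf (Cfsg.SU n F q)) = Nat.card (SWG q W) := by
  classical
  rw [card_ker_dW, ← card_normOne hF, ← dW_range hF hn W hW, ← Subgroup.index_ker, mul_comm]
  exact Subgroup.card_mul_index _

end det

end Cfsg.Agent.Lib.Helper5.UTIStab
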