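import Mathlib
import Cfsg.Agent.Lib.Lead.FrobQuot

set_option autoImplicit false

namespace Cfsg.Agent.Lib.Helper5.FrobAct

open MulAction

universe u v

/-- Frobenius' theorem in permutation form: a finite group acting transitively such that
non-identity elements fix at most one point and point stabilisers are non-trivial has a regular
normal subgroup consisting of the identity and the fixed-point-free elements. -/
theorem frob_action {X : Type u} {Ω : Type v} [Group X] [Finite X] [MulAction X Ω]
    [IsPretransitive X Ω]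
    (h1 : ∀ x : X, x ≠ 1 → ∀ c d : Ω, x • c = c → x • d = d → c = d)
    (a b : Ω) (hab : a ≠ b) (hne : stabilizer X a ≠ ⊥) :
    ∃ R : Subgroup X, R.Normal ∧ (∀ x, x ∈ R ↔ (x = 1 ∨ ∀ c : Ω, x • c ≠ c)) ∧
      (∀ g : X, ∃ k ∈ R, ∃ h ∈ stabilizer X a, g = k * h) ∧
      (∀ N : Subgroup X, N.Normal → R ≤ N ∨ N ≤ R) ∧
      (∀ c d : Ω, ∃ k ∈ R, k • c = d) := by
  have hH : Cfsg.IsFrobeniusComplement (stabilizer X a) := by
    refine ⟨hne, ?_, ?_⟩
    · intro htop
      obtain ⟨g, hg⟩ := exists_smul_eq X a b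
      have : g ∈ stabilizer X a := by rw [htop]; trivial
      exact hab (this.symm.trans hg)
    · intro g hg
      rw [eq_bot_iff]
      intro x hx
      obtain ⟨hx1, hx2⟩ := Subgroup.mem_inf.1 hx
      rw [Cfsg.Agent.Lib.Helper18.mem_conj_smul_iff] at hx2
      rw [Subgroup.mem_bot]
      by_contra hx0
      apply hg
      have h3 : x • (g • a) = g • a := by
        have : (g⁻¹ * x * g) • a = a := hx2
        rw [mul_smul, mul_smul, inv_smul_eq_iff] at this
        exact this
      have := h1 x hx0 a (g • a) hx1 h3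
      exact this.symm
  obtain ⟨K, hK, hKn, hKH, hdec, hinj, hdich⟩ := Cfsg.Agent.CharLib.frob_setup' _ hH
  have hmem : ∀ x, x ∈ K ↔ (x = 1 ∨ ∀ c : Ω, x • c ≠ c) := by
    intro x
    rw [hK, Cfsg.Agent.Lib.Helper18.mem_frobeniusKernel_iff]
    constructor
    · rintro (h | h)
      · left; exact h
      · right
        intro c hc
        obtain ⟨g, rfl⟩ := exists_smul_eq X a c
        apply h g
        show (g⁻¹ * x * g) • a = a
        rw [mul_smul, mul_smul, hc, inv_smul_smul]
    · rintro (h | h)
      · left; exact h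
      · right
        intro g hg
        apply h (g • a)
        have : (g⁻¹ * x * g) • a = a := hg
        rw [mul_smul, mul_smul, inv_smul_eq_iff] at this
        exact this
  refine ⟨K, hKn, hmem, hdec, hdich, ?_⟩
  intro c d
  obtain ⟨g, rfl⟩ := exists_smul_eq X a c
  obtain ⟨g', rfl⟩ := exists_smul_eq X a d
  obtain ⟨k, hk, h, hh, rfl⟩ := hdec g
  obtain ⟨k', hk', h', hh', rfl⟩ := hdec g'
  refine ⟨k' * k⁻¹, K.mul_mem hk' (K.inv_mem hk), ?_⟩
  have e1 : h • a = a := hh
  have e2 : h' • a = a := hh'
  rw [mul_smul, mul_smul, mul_smul, e1, inv_smul_smul, e2]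

end Cfsg.Agent.Lib.Helper5.FrobAct
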