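import Mathlib
import Cfsg.Agent.Lib.Helper20.UTDefs
import Cfsg.Agent.Lib.Helper20.UTCT
import Cfsg.Agent.Lib.Helper5.SUMax

/-!
S5670 (`SU_a ⊗ SU_b < SU_ab(q)`), part (G) = Stage III: shared definitions and the basic calculus of
`SsetI q M` (centres of full transvection root groups inside `M`):
`tvV` (transvection unit on any index type), `SsetI_zero/mv/smul/tv/add/add_smul`,
`kA_mem_M`, `kB_mem_M`, the block group `blockG x₀ β = 1 + P_{x₀} ⊗ (β - 1)`
(`β` acting on `x₀ ⊗ B`, trivially on `x₀^⊥ ⊗ B`, for non-isotropic `x₀`) and the interface predicates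
`T1U'`, `WS`.
-/

set_option autoImplicit false
set_option linter.unusedSectionVars false
set_option linter.unusedVariables false

namespace Cfsg.Agent.Lib.Helper5.UTG
open Matrix
open Cfsg.Agent.Lib.Helper25.Tens Cfsg.Agent.Lib.Helper25.TensLeaf Cfsg.Agent.Lib.Helper20.UT
open scoped Kronecker

variable {F : Type*} [Field F]

/-! ### transvections on an arbitrary index type -/

section tv
variable {ι : Type} [Fintype ι] [DecidableEq ι] (q : ℕ)

lemma vmv_sq (s : ι → F) (hs : hv q s s = 0) :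
    vecMulVec s (cj q s) * vecMulVec s (cj q s) = 0 := by
  ext i j
  simp only [Matrix.mul_apply, Matrix.vecMulVec_apply, Matrix.zero_apply]
  have : ∑ l, s i * cj q s l * (s l * cj q s j) = s i * (hv q s s) * cj q s j := by
    simp only [hv, cj, Finset.mul_sum, Finset.sum_mul]
    apply Finset.sum_congr rfl; intro l _; ring
  rw [this, hs]; ring

/-- the unitary transvection `v ↦ v + c h(v,s) s` of an isotropic `s`, as a unit -/
def tvV (s : ι → F) (c : F) (hs : hv q s s = 0) : GL ι F where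
  val := 1 + c • vecMulVec s (cj q s)
  inv := 1 - c • vecMulVec s (cj q s)
  val_inv := by
    rw [add_mul, mul_sub, mul_sub, one_mul, mul_one, one_mul, smul_mul_smul_comm, vmv_sq q s hs,
      smul_zero]
    abel
  inv_val := by
    rw [sub_mul, mul_add, mul_add, one_mul, mul_one, one_mul, smul_mul_smul_comm, vmv_sq q s hs,
      smul_zero]
    abel

lemma mv_tvV (s : ι → F) (c : F) (hs : hv q s s = 0) (v : ι → F) :
    mv (tvV q s c hs) v = v + (c * hv q v s) • s := by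
  unfold mv tvV
  simp only
  rw [Matrix.add_mulVec, Matrix.one_mulVec, Matrix.smul_mulVec, Matrix.vecMulVec_mulVec,
    hv_eq_dot, mul_smul]
  congr 2
  ext i
  simp [mul_comm]

end tv

/-! ### the calculus of `SsetI` -/

section scalc
variable [Fintype F] {a b q : ℕ} {M : Subgroup (GL (Idx a b) F)}

lemma SsetI_zero : (0 : Idx a b → F) ∈ SsetI q M := by
  intro c hc g hg
  have : g = 1 := ext_mv (fun v => by rw [hg, mv_one]; simp)
  rw [this]; exact M.one_mem

lemma SsetI_mv (h : MCtx a b q M) {g : GL (Idx a b) F} (hg : g ∈ M) {s : Idx a b → F}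
    (hs : s ∈ SsetI q M) : mv g s ∈ SsetI q M := by
  intro c hc t ht
  have hgU : g ∈ GUI a b q F := (h.le_G hg).1
  have h1 : g⁻¹ * t * g ∈ M := hs c hc _ (fun v => by
    rw [mv_mul, mv_mul, ht, mv_add, mv_smul, mv_inv_mv, mv_inv_mv, mem_GUI.mp hgU])
  have h2 : t = g * (g⁻¹ * t * g) * g⁻¹ := by group
  rw [h2]
  exact M.mul_mem (M.mul_mem hg h1) (M.inv_mem hg)

lemma SsetI_smul (hF : Fintype.card F = q ^ 2) {s : Idx a b → F} (hs : s ∈ SsetI q M) (l : F) :
    l • s ∈ SsetI q M := by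
  intro c hc t ht
  apply hs (c * (l * l ^ q)) (by
    rw [mul_pow, mul_pow, hc, pow_q_pow_q' hF]; ring) t
  intro v
  rw [ht, hv_smul_right, smul_smul]
  congr 2
  ring

lemma SsetI_tv (h : MCtx a b q M) {s t : Idx a b → F} (hs : s ∈ SsetI q M) (ht : t ∈ SsetI q M)
    (htt : hv q t t = 0) {c : F} (hc : c ^ q = -c) : s + (c * hv q s t) • t ∈ SsetI q M := by
  have hg : tvV q t c htt ∈ M := ht c hc _ (mv_tvV q t c htt)
  have := SsetI_mv h hg hs
  rwa [mv_tvV] at this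

/-- the hyperbolic line step: the sum of two non-perpendicular isotropic members is a member,
if it is isotropic -/
lemma SsetI_add (h : MCtx a b q M) {s t : Idx a b → F} (hs : s ∈ SsetI q M) (ht : t ∈ SsetI q M)
    (hss : hv q s s = 0) (htt : hv q t t = 0) (hst : hv q s t ≠ 0)
    (hiso : hv q (s + t) (s + t) = 0) : s + t ∈ SsetI q M := by
  have hF := h.hF
  have hsk : (hv q s t) ^ q = - hv q s t := by
    have h1 : hv q (s + t) (s + t) = hv q s t + hv q t s := by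
      rw [hv_add_left, hv_add_right hF, hv_add_right hF, hss, htt]; ring
    rw [hiso] at h1
    rw [hv_conj hF]
    linear_combination -h1
  have hc : ((hv q s t)⁻¹) ^ q = -(hv q s t)⁻¹ := by
    rw [inv_pow, hsk, inv_neg]
  have := SsetI_tv h hs ht htt hc
  rwa [inv_mul_cancel₀ hst, one_smul] at this

lemma SsetI_add_smul (h : MCtx a b q M) {s t : Idx a b → F} (hs : s ∈ SsetI q M)
    (ht : t ∈ SsetI q M) (hss : hv q s s = 0) (htt : hv q t t = 0) (hst : hv q s t ≠ 0) (l : F)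
    (hiso : hv q (s + l • t) (s + l • t) = 0) : s + l • t ∈ SsetI q M := by
  by_cases hl : l = 0
  · rw [hl, zero_smul, add_zero]; exact hs
  have hF := h.hF
  have hq : q ≠ 0 := by
    rintro rfl
    have : 2 ≤ Fintype.card F := Fintype.one_lt_card
    rw [hF] at this; omega
  apply SsetI_add h hs (SsetI_smul hF ht l) hss
  · rw [hv_smul_left, hv_smul_right, htt]; ring
  · rw [hv_smul_right]
    exact mul_ne_zero (pow_ne_zero q hl) hst
  · exact hiso

lemma kB_mem_M (h : MCtx a b q M) (y : Fin b → F) {c : F} (hc : c ^ q = -c) (hy : hv q y y = 0) :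
    (kB q y c hy : GL (Idx a b) F) ∈ M :=
  h.le ⟨kB_mem_KG q y c hy, Cfsg.Agent.Lib.Helper20.UTLeaf.kB_mem_GS h.hF y hc hy⟩

lemma kA_mem_M (h : MCtx a b q M) (x : Fin a → F) {c : F} (hc : c ^ q = -c) (hx : hv q x x = 0) :
    (kA q x c hx : GL (Idx a b) F) ∈ M :=
  h.le ⟨kA_mem_KG q x c hx, Cfsg.Agent.Lib.Helper20.UTLeaf.kA_mem_GS h.hF x hc hx⟩

end scalc

/-! ### interface predicates -/

/-- Stage II result with BOTH tensor factors isotropic -/
def T1U' {a b : ℕ} (q : ℕ) (M : Subgroup (GL (Idx a b) F)) : Prop :=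
  ∃ (x : Fin a → F) (y : Fin b → F), x ≠ 0 ∧ y ≠ 0 ∧ hv q x x = 0 ∧ hv q y y = 0 ∧
    pt x y ∈ SsetI q M

/-- all pure tensors `x ⊗ y` with `y` isotropic are members -/
def WS {a b : ℕ} (q : ℕ) (M : Subgroup (GL (Idx a b) F)) : Prop :=
  ∀ (x : Fin a → F) (y : Fin b → F), hv q y y = 0 → pt x y ∈ SsetI q M

/-! ### the block group of a non-isotropic `x₀` -/

section block
variable {a b : ℕ} (q : ℕ)

/-- the orthogonal projection of `A` onto `F x₀` -/
def projM (x₀ : Fin a → F) : Matrix (Fin a) (Fin a) F :=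
  (hv q x₀ x₀)⁻¹ • vecMulVec x₀ (cj q x₀)

lemma projM_mul (x₀ : Fin a → F) (hx₀ : hv q x₀ x₀ ≠ 0) : projM q x₀ * projM q x₀ = projM q x₀ := by
  unfold projM
  rw [smul_mul_smul_comm]
  have : vecMulVec x₀ (cj q x₀) * vecMulVec x₀ (cj q x₀) = hv q x₀ x₀ • vecMulVec x₀ (cj q x₀) := by
    ext i j
    simp only [Matrix.mul_apply, Matrix.vecMulVec_apply, Matrix.smul_apply, smul_eq_mul]
    have : ∑ l, x₀ i * cj q x₀ l * (x₀ l * cj q x₀ j) = x₀ i * (hv q x₀ x₀) * cj q x₀ j := by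
      simp only [hv, cj, Finset.mul_sum, Finset.sum_mul]
      apply Finset.sum_congr rfl; intro l _; ring
    rw [this]; ring
  rw [this, smul_smul]
  congr 1
  field_simp

lemma projM_mulVec (x₀ x : Fin a → F) : projM q x₀ *ᵥ x = ((hv q x₀ x₀)⁻¹ * hv q x x₀) • x₀ := by
  rw [hv_eq_dot q x x₀]
  ext i
  simp only [projM, Matrix.mulVec, dotProduct, Matrix.smul_apply, Matrix.vecMulVec_apply, smul_eq_mul,
    Pi.smul_apply, Finset.mul_sum, Finset.sum_mul]
  apply Finset.sum_congr rfl; intro j _; ring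

lemma one_add_kron_mul {P : Matrix (Fin a) (Fin a) F} (hP : P * P = P)
    (B₁ B₂ : Matrix (Fin b) (Fin b) F) :
    (1 + P ⊗ₖ B₁) * (1 + P ⊗ₖ B₂) = 1 + P ⊗ₖ (B₁ + B₂ + B₁ * B₂) := by
  rw [add_mul, mul_add, mul_add, one_mul, mul_one, one_mul, ← Matrix.mul_kronecker_mul, hP,
    Matrix.kronecker_add, Matrix.kronecker_add]
  abel

/-- `β` acting on the block `x₀ ⊗ B` and trivially on `x₀^⊥ ⊗ B` -/
def blockG (x₀ : Fin a → F) (hx₀ : hv q x₀ x₀ ≠ 0) (β : GL (Fin b) F) : GL (Idx a b) F where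
  val := 1 + projM q x₀ ⊗ₖ ((β : Matrix (Fin b) (Fin b) F) - 1)
  inv := 1 + projM q x₀ ⊗ₖ (((β⁻¹ : GL (Fin b) F) : Matrix (Fin b) (Fin b) F) - 1)
  val_inv := by
    rw [one_add_kron_mul (projM_mul q x₀ hx₀)]
    have : (β : Matrix (Fin b) (Fin b) F) - 1 +
        (((β⁻¹ : GL (Fin b) F) : Matrix (Fin b) (Fin b) F) - 1) +
          ((β : Matrix (Fin b) (Fin b) F) - 1) *
            (((β⁻¹ : GL (Fin b) F) : Matrix (Fin b) (Fin b) F) - 1) = 0 := by
      rw [sub_mul, mul_sub, mul_sub, ← Units.val_mul, mul_inv_cancel, Units.val_one, one_mul,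
        mul_one, one_mul]
      abel
    rw [this, Matrix.kronecker_zero, add_zero]
  inv_val := by
    rw [one_add_kron_mul (projM_mul q x₀ hx₀)]
    have : ((β⁻¹ : GL (Fin b) F) : Matrix (Fin b) (Fin b) F) - 1 +
        ((β : Matrix (Fin b) (Fin b) F) - 1) +
          (((β⁻¹ : GL (Fin b) F) : Matrix (Fin b) (Fin b) F) - 1) *
            ((β : Matrix (Fin b) (Fin b) F) - 1) = 0 := by
      rw [sub_mul, mul_sub, mul_sub, ← Units.val_mul, inv_mul_cancel, Units.val_one, one_mul,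
        mul_one, one_mul]
      abel
    rw [this, Matrix.kronecker_zero, add_zero]

lemma blockG_val (x₀ : Fin a → F) (hx₀ : hv q x₀ x₀ ≠ 0) (β : GL (Fin b) F) :
    ((blockG q x₀ hx₀ β : GL (Idx a b) F) : Matrix (Idx a b) (Idx a b) F) =
      1 + projM q x₀ ⊗ₖ ((β : Matrix (Fin b) (Fin b) F) - 1) := rfl

lemma blockG_one (x₀ : Fin a → F) (hx₀ : hv q x₀ x₀ ≠ 0) :
    (blockG q x₀ hx₀ (1 : GL (Fin b) F) : GL (Idx a b) F) = 1 := by
  apply Units.ext
  rw [blockG_val, Units.val_one, sub_self, Matrix.kronecker_zero, add_zero, Units.val_one]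

lemma blockG_mul (x₀ : Fin a → F) (hx₀ : hv q x₀ x₀ ≠ 0) (β γ : GL (Fin b) F) :
    (blockG q x₀ hx₀ (β * γ) : GL (Idx a b) F) = blockG q x₀ hx₀ β * blockG q x₀ hx₀ γ := by
  apply Units.ext
  rw [Units.val_mul, blockG_val, blockG_val, blockG_val, one_add_kron_mul (projM_mul q x₀ hx₀)]
  congr 2
  rw [Units.val_mul, sub_mul, mul_sub, mul_sub, one_mul, mul_one, one_mul]
  abel

lemma blockG_inv (x₀ : Fin a → F) (hx₀ : hv q x₀ x₀ ≠ 0) (β : GL (Fin b) F) :
    (blockG q x₀ hx₀ β⁻¹ : GL (Idx a b) F) = (blockG q x₀ hx₀ β)⁻¹ := by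
  apply eq_inv_of_mul_eq_one_left
  rw [← blockG_mul, inv_mul_cancel, blockG_one]

/-- action on pure tensors -/
lemma mv_blockG_pt (x₀ : Fin a → F) (hx₀ : hv q x₀ x₀ ≠ 0) (β : GL (Fin b) F) (x : Fin a → F)
    (y : Fin b → F) :
    mv (blockG q x₀ hx₀ β : GL (Idx a b) F) (pt x y) =
      pt x y + pt (((hv q x₀ x₀)⁻¹ * hv q x x₀) • x₀) (mv β y - y) := by
  unfold mv
  rw [blockG_val, Matrix.add_mulVec, Matrix.one_mulVec, kron_mulVec_pt, projM_mulVec,
    Matrix.sub_mulVec, Matrix.one_mulVec]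

lemma mv_blockG_pt_self (x₀ : Fin a → F) (hx₀ : hv q x₀ x₀ ≠ 0) (β : GL (Fin b) F)
    (y : Fin b → F) :
    mv (blockG q x₀ hx₀ β : GL (Idx a b) F) (pt x₀ y) = pt x₀ (mv β y) := by
  rw [mv_blockG_pt, inv_mul_cancel₀ hx₀, one_smul, ← pt_add_right]
  congr 1
  abel

lemma mv_blockG_pt_perp (x₀ : Fin a → F) (hx₀ : hv q x₀ x₀ ≠ 0) (β : GL (Fin b) F)
    {x : Fin a → F} (hx : hv q x x₀ = 0) (y : Fin b → F) :
    mv (blockG q x₀ hx₀ β : GL (Idx a b) F) (pt x y) = pt x y := by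
  rw [mv_blockG_pt, hx, mul_zero, zero_smul]
  have : pt (0 : Fin a → F) (mv β y - y) = 0 := by
    ext ⟨i, l⟩; simp [pt]
  rw [this, add_zero]

end block

end Cfsg.Agent.Lib.Helper5.UTG
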