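import Mathlib

set_option autoImplicit false
set_option linter.unusedVariables false

namespace Cfsg.Agent.Lib.Helper5.DWAREC

open DihedralGroup

/-- The map `r i ↦ ρ i`, `sr i ↦ w * ρ i`. -/
def dihMap {G : Type*} [Group G] {n : ℕ} (ρ : ZMod n → G) (w : G) : DihedralGroup n → G
  | DihedralGroup.r i => ρ i
  | DihedralGroup.sr i => w * ρ i

/-- The homomorphism from the dihedral group determined by an additive-to-multiplicative map `ρ`
and an involution `w` inverting the image of `ρ`. -/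
def dihHom {G : Type*} [Group G] {n : ℕ} (ρ : ZMod n → G) (w : G)
    (hρ0 : ρ 0 = 1) (hρadd : ∀ i j, ρ (i + j) = ρ i * ρ j)
    (hw : w * w = 1) (hinv : ∀ i, w * ρ i * w⁻¹ = (ρ i)⁻¹) : DihedralGroup n →* G :=
  MonoidHom.mk' (dihMap ρ w) (by
    have hwinv : w⁻¹ = w := inv_eq_of_mul_eq_one_left hw
    have hρneg : ∀ i, ρ (-i) = (ρ i)⁻¹ := by
      intro i
      refine eq_inv_of_mul_eq_one_left ?_
      rw [← hρadd, neg_add_cancel, hρ0]
    have hρsub : ∀ i j, ρ (j - i) = (ρ i)⁻¹ * ρ j := by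
      intro i j
      rw [sub_eq_neg_add, hρadd, hρneg]
    have hinv' : ∀ i, ρ i * w = w * (ρ i)⁻¹ := by
      intro i
      have h1 := hinv i
      rw [hwinv] at h1
      have : w * (w * ρ i * w) = w * (ρ i)⁻¹ := by rw [h1]
      rw [← this, ← mul_assoc, ← mul_assoc, hw, one_mul]
    rintro (i | i) (j | j)
    · show ρ (i + j) = ρ i * ρ j
      exact hρadd i j
    · show w * ρ (j - i) = ρ i * (w * ρ j)
      rw [hρsub, ← mul_assoc (ρ i), hinv' i, mul_assoc]
    · show w * ρ (i + j) = w * ρ i * ρ j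
      rw [hρadd, mul_assoc]
    · show ρ (j - i) = w * ρ i * (w * ρ j)
      rw [hρsub, mul_assoc w, ← mul_assoc (ρ i), hinv' i, mul_assoc, ← mul_assoc w, hw, one_mul])

/-- **DW-AREC**.  A cyclic group `T` of order `n` and an involution `w ∉ T` inverting it generate a
dihedral group `T ∪ wT` of order `2n`. -/
theorem DWAREC {G : Type*} [Group G] {n : ℕ} (hn : n ≠ 0) (T : Subgroup G) (hT : IsCyclic T)
    (hcard : Nat.card T = n) (w : G) (hwT : w ∉ T) (hw : w * w = 1)
    (hinv : ∀ t ∈ T, w * t * w⁻¹ = t⁻¹) :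
    ∃ D : Subgroup G, T ≤ D ∧ w ∈ D ∧ (∀ d ∈ D, d ∈ T ∨ ∃ t ∈ T, d = w * t) ∧
      Nonempty (↥D ≃* DihedralGroup n) := by
  subst hcard
  let e : Multiplicative (ZMod (Nat.card T)) ≃* ↥T := zmodCyclicMulEquiv hT
  let ρ : ZMod (Nat.card T) → G := fun i => ((e (Multiplicative.ofAdd i) : ↥T) : G)
  have hρT : ∀ i, ρ i ∈ T := fun i => (e (Multiplicative.ofAdd i)).2
  have hρ0 : ρ 0 = 1 := by
    show ((e (Multiplicative.ofAdd 0) : ↥T) : G) = 1
    rw [ofAdd_zero, map_one]
    rfl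
  have hρadd : ∀ i j, ρ (i + j) = ρ i * ρ j := by
    intro i j
    show ((e (Multiplicative.ofAdd (i + j)) : ↥T) : G) = _
    rw [ofAdd_add, map_mul]
    rfl
  have hρinj : Function.Injective ρ := by
    intro i j hij
    have h1 : e (Multiplicative.ofAdd i) = e (Multiplicative.ofAdd j) := Subtype.ext hij
    exact Multiplicative.ofAdd.injective (e.injective h1)
  have hρsurj : ∀ t ∈ T, ∃ i, ρ i = t := by
    intro t ht
    refine ⟨Multiplicative.toAdd (e.symm ⟨t, ht⟩), ?_⟩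
    show ((e (Multiplicative.ofAdd (Multiplicative.toAdd (e.symm ⟨t, ht⟩))) : ↥T) : G) = t
    rw [ofAdd_toAdd, MulEquiv.apply_symm_apply]
  let f : DihedralGroup (Nat.card T) →* G :=
    dihHom ρ w hρ0 hρadd hw (fun i => hinv _ (hρT i))
  have hfr : ∀ i, f (r i) = ρ i := fun i => rfl
  have hfsr : ∀ i, f (sr i) = w * ρ i := fun i => rfl
  have hfinj : Function.Injective f := by
    rintro (i | i) (j | j) hij
    · rw [hfr, hfr] at hij
      rw [hρinj hij]
    · exfalso
      rw [hfr, hfsr] at hij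
      apply hwT
      have : w = ρ i * (ρ j)⁻¹ := by rw [hij, mul_inv_cancel_right]
      rw [this]
      exact T.mul_mem (hρT i) (T.inv_mem (hρT j))
    · exfalso
      rw [hfr, hfsr] at hij
      apply hwT
      have : w = ρ j * (ρ i)⁻¹ := by rw [← hij, mul_inv_cancel_right]
      rw [this]
      exact T.mul_mem (hρT j) (T.inv_mem (hρT i))
    · rw [hfsr, hfsr] at hij
      rw [hρinj (mul_left_cancel hij)]
  refine ⟨f.range, ?_, ?_, ?_, ⟨(MonoidHom.ofInjective hfinj).symm⟩⟩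
  · intro t ht
    obtain ⟨i, hi⟩ := hρsurj t ht
    exact ⟨r i, by rw [hfr, hi]⟩
  · exact ⟨sr 0, by rw [hfsr, hρ0, mul_one]⟩
  · rintro d ⟨(i | i), rfl⟩
    · left
      rw [hfr]
      exact hρT i
    · right
      exact ⟨ρ i, hρT i, hfsr i⟩

end Cfsg.Agent.Lib.Helper5.DWAREC
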