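import Mathlib

set_option autoImplicit false
set_option linter.unusedVariables false

namespace Cfsg.Agent.Lib.Helper5.DWBZOL

/-- **DW-BZOL**.  Multiplication by a primitive root on `ZMod p` (`p` odd) is an odd permutation:
it is a `(p - 1)`-cycle. -/
theorem DWBZOL (p : ℕ) [Fact p.Prime] (hp2 : p ≠ 2) (g : (ZMod p)ˣ)
    (hg : ∀ x : (ZMod p)ˣ, x ∈ Subgroup.zpowers g) (σ : Equiv.Perm (ZMod p))
    (hσ : ∀ j : ZMod p, σ j = (g : ZMod p) * j) : Equiv.Perm.sign σ = -1 := by
  have hp : p.Prime := Fact.out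
  have hσeq : σ = MulAction.toPermHom (ZMod p)ˣ (ZMod p) g := by
    ext j
    rw [hσ]
    rfl
  have hpow : ∀ (i : ℤ) (j : ZMod p), (σ ^ i) j = ((g ^ i : (ZMod p)ˣ) : ZMod p) * j := by
    intro i j
    rw [hσeq, ← map_zpow]
    rfl
  have hg1 : g ≠ 1 := by
    intro h1
    have h2 : (-1 : (ZMod p)ˣ) ∈ Subgroup.zpowers g := hg _
    rw [h1, Subgroup.zpowers_one_eq_bot, Subgroup.mem_bot] at h2
    haveI : Fact (2 < p) := ⟨lt_of_le_of_ne hp.two_le (Ne.symm hp2)⟩
    have h3 := congrArg Units.val h2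
    rw [Units.val_neg, Units.val_one] at h3
    exact ZMod.neg_one_ne_one h3
  have hgv : (g : ZMod p) ≠ 1 := by
    intro h
    exact hg1 (Units.ext h)
  have hcyc : σ.IsCycle := by
    refine ⟨1, ?_, ?_⟩
    · rw [hσ, mul_one]
      exact hgv
    · intro y hy
      have hy0 : y ≠ 0 := by
        rintro rfl
        exact hy (by rw [hσ, mul_zero])
      obtain ⟨k, hk⟩ := hg (Units.mk0 y hy0)
      refine ⟨k, ?_⟩
      rw [hpow, mul_one]
      have := congrArg Units.val hk
      simpa using this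
  have hsupp : σ.support = Finset.univ.erase (0 : ZMod p) := by
    ext j
    rw [Equiv.Perm.mem_support, Finset.mem_erase, hσ]
    simp only [Finset.mem_univ, and_true]
    constructor
    · intro h h0
      apply h
      rw [h0, mul_zero]
    · intro h0 h
      have h4 : ((g : ZMod p) - 1) * j = 0 := by rw [sub_mul, one_mul, h, sub_self]
      rcases mul_eq_zero.mp h4 with h1 | h1
      · exact hgv (sub_eq_zero.mp h1)
      · exact h0 h1
  have hcard : σ.support.card = p - 1 := by
    rw [hsupp, Finset.card_erase_of_mem (Finset.mem_univ _), Finset.card_univ, ZMod.card p]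
  rw [hcyc.sign, hcard, (hp.even_sub_one hp2).neg_one_pow]

end Cfsg.Agent.Lib.Helper5.DWBZOL
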