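import Mathlib
import Cfsg.Prelude.Def_Perm

set_option autoImplicit false

namespace Cfsg.Agent.Lib.Helper5.HeartHom

open MulAction

section Pairs

variable {G : Type*} [Group G] {Ω : Type*} [DecidableEq Ω] [MulAction G Ω]

/-- a two-element subset -/
def mkPair (u w : Ω) (h : u ≠ w) : Set.powersetCard Ω 2 := ⟨{u, w}, Finset.card_pair h⟩

lemma mkPair_val (u w : Ω) (h : u ≠ w) : (mkPair u w h).1 = {u, w} := rfl

lemma smul_mkPair (g : G) (u w : Ω) (h : u ≠ w) :
    g • mkPair u w h = mkPair (g • u) (g • w) (fun e => h (MulAction.injective g e)) := by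
  apply Subtype.ext
  rw [Set.powersetCard.coe_smul]
  simp only [mkPair_val]
  rw [Finset.smul_finset_insert, Finset.smul_finset_singleton]

lemma exists_mkPair (s : Set.powersetCard Ω 2) :
    ∃ (u w : Ω) (h : u ≠ w), s = mkPair u w h := by
  obtain ⟨u, w, h, e⟩ := Finset.card_eq_two.mp (Set.powersetCard.card_eq s)
  exact ⟨u, w, h, Subtype.ext e⟩

lemma mkPair_eq_iff {u w a b : Ω} (h : u ≠ w) (h' : a ≠ b) :
    mkPair u w h = mkPair a b h' ↔ (u = a ∧ w = b) ∨ (u = b ∧ w = a) := by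
  constructor
  · intro e
    have e' : ({u, w} : Finset Ω) = {a, b} := congrArg Subtype.val e
    have hu : u ∈ ({a, b} : Finset Ω) := e' ▸ Finset.mem_insert_self u _
    have hw : w ∈ ({a, b} : Finset Ω) :=
      e' ▸ (Finset.mem_insert_of_mem (Finset.mem_singleton_self w))
    simp only [Finset.mem_insert, Finset.mem_singleton] at hu hw
    rcases hu with hu | hu <;> rcases hw with hw | hw
    · exact absurd (hu.trans hw.symm) h
    · exact Or.inl ⟨hu, hw⟩
    · exact Or.inr ⟨hu, hw⟩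
    · exact absurd (hu.trans hw.symm) h
  · rintro (⟨rfl, rfl⟩ | ⟨rfl, rfl⟩)
    · rfl
    · apply Subtype.ext
      exact Finset.pair_comm _ _

lemma mem_smul_iff (g : G) (s : Set.powersetCard Ω 2) (c : Ω) :
    g • c ∈ (g • s).1 ↔ c ∈ s.1 := by
  rw [Set.powersetCard.coe_smul]
  exact Finset.smul_mem_smul_finset_iff g

/-- transitivity on flags (pair, point off the pair) plus even point stabilisers gives triple
transitivity -/
theorem three_trans_of_flag_trans [Finite G] [FaithfulSMul G Ω]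
    (heven : ∀ a : Ω, Even (Nat.card (stabilizer G a)))
    (hP : ∀ (s s' : Set.powersetCard Ω 2) (c c' : Ω), c ∉ s.1 → c' ∉ s'.1 →
      ∃ g : G, g • s = s' ∧ g • c = c') :
    IsMultiplyPretransitive G Ω 3 := by
  have hswap : ∀ y0 y1 y2 : Ω, y0 ≠ y1 → y2 ≠ y0 → y2 ≠ y1 →
      ∃ t : G, t • y0 = y1 ∧ t • y1 = y0 ∧ t • y2 = y2 := by
    intro y0 y1 y2 h01 h20 h21
    obtain ⟨τ, hτsq, hτne, hτfix⟩ : ∃ τ : G, τ * τ = 1 ∧ τ ≠ 1 ∧ τ • y2 = y2 := by
      haveI : Fact (Nat.Prime 2) := ⟨Nat.prime_two⟩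
      obtain ⟨t0, ht0⟩ := exists_prime_orderOf_dvd_card' (G := stabilizer G y2) 2
        (even_iff_two_dvd.mp (heven y2))
      refine ⟨(t0 : G), ?_, ?_, t0.2⟩
      · have h1 : t0 ^ 2 = 1 := by rw [← ht0]; exact pow_orderOf_eq_one t0
        rw [pow_two] at h1
        have h2 := congrArg Subtype.val h1
        simpa using h2
      · intro e
        have h1 : t0 = 1 := Subtype.ext e
        rw [h1, orderOf_one] at ht0
        omega
    obtain ⟨u, hu⟩ : ∃ u : Ω, τ • u ≠ u := by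
      by_contra hcon
      push Not at hcon
      apply hτne
      apply FaithfulSMul.eq_of_smul_eq_smul (α := Ω)
      intro a
      rw [hcon a, one_smul]
    obtain ⟨w, hw⟩ : ∃ w : Ω, w = τ • u := ⟨_, rfl⟩
    have htw : τ • w = u := by rw [hw, smul_smul, hτsq, one_smul]
    have huw : u ≠ w := fun e => hu (by rw [← hw]; exact e.symm)
    have hu2 : y2 ≠ u := by
      intro e
      apply hu
      rw [← e]; exact hτfix
    have hw2 : y2 ≠ w := by
      intro e
      apply hu
      have h1 : u = y2 := by rw [← htw, ← e, hτfix]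
      rw [h1]; exact hτfix
    obtain ⟨k, hk1, hk2⟩ := hP (mkPair u w huw) (mkPair y0 y1 h01) y2 y2
      (by rw [mkPair_val]; simp [hu2, hw2]) (by rw [mkPair_val]; simp [h20, h21])
    rw [smul_mkPair, mkPair_eq_iff] at hk1
    have key : ∀ z : Ω, (k * τ * k⁻¹) • (k • z) = k • (τ • z) := by
      intro z
      rw [smul_smul, inv_mul_cancel_right, mul_smul]
    have h2' : (k * τ * k⁻¹) • y2 = y2 := by
      have := key y2
      rw [hk2, hτfix, hk2] at this
      exact this
    refine ⟨k * τ * k⁻¹, ?_, ?_, h2'⟩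
    · rcases hk1 with ⟨ha, hb⟩ | ⟨ha, hb⟩
      · rw [← ha, key, ← hw, hb]
      · rw [← hb, key, htw, ha]
    · rcases hk1 with ⟨ha, hb⟩ | ⟨ha, hb⟩
      · rw [← hb, key, htw, ha]
      · rw [← ha, key, ← hw, hb]
  rw [isMultiplyPretransitive_iff]
  intro x y
  have hx01 : x 0 ≠ x 1 := x.injective.ne (by decide)
  have hx20 : x 2 ≠ x 0 := x.injective.ne (by decide)
  have hx21 : x 2 ≠ x 1 := x.injective.ne (by decide)
  have hy01 : y 0 ≠ y 1 := y.injective.ne (by decide)
  have hy20 : y 2 ≠ y 0 := y.injective.ne (by decide)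
  have hy21 : y 2 ≠ y 1 := y.injective.ne (by decide)
  obtain ⟨g, hg1, hg2⟩ := hP (mkPair (x 0) (x 1) hx01) (mkPair (y 0) (y 1) hy01) (x 2) (y 2)
    (by rw [mkPair_val]; simp [hx20, hx21]) (by rw [mkPair_val]; simp [hy20, hy21])
  rw [smul_mkPair, mkPair_eq_iff] at hg1
  rcases hg1 with ⟨h0, h1⟩ | ⟨h0, h1⟩
  · refine ⟨g, ?_⟩
    ext i
    rw [Function.Embedding.smul_apply]
    fin_cases i
    · exact h0
    · exact h1
    · exact hg2
  · obtain ⟨t, ht0, ht1, ht2⟩ := hswap (y 0) (y 1) (y 2) hy01 hy20 hy21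
    refine ⟨t * g, ?_⟩
    ext i
    rw [Function.Embedding.smul_apply, mul_smul]
    fin_cases i
    · change t • g • x 0 = y 0
      rw [h0, ht1]
    · change t • g • x 1 = y 1
      rw [h1, ht0]
    · change t • g • x 2 = y 2
      rw [hg2, ht2]

end Pairs

section FlagMap

variable {G : Type*} [Group G] {K : Type*} [Field K] {Ω : Type*} [Fintype Ω] [DecidableEq Ω]
  [MulAction G Ω]

/-- the linear map on functions attached to a weight on flags -/
noncomputable def flagMap (w : Set.powersetCard Ω 2 → Ω → K) :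
    (Ω → K) →ₗ[K] (Set.powersetCard Ω 2 → K) where
  toFun v s := ∑ c, w s c * v c
  map_add' v₁ v₂ := by
    funext s
    simp only [Pi.add_apply, mul_add, Finset.sum_add_distrib]
  map_smul' a v := by
    funext s
    simp only [Pi.smul_apply, smul_eq_mul, RingHom.id_apply, Finset.mul_sum]
    apply Finset.sum_congr rfl
    intro c _
    ring

lemma flagMap_apply (w : Set.powersetCard Ω 2 → Ω → K) (v : Ω → K) (s : Set.powersetCard Ω 2) :
    flagMap w v s = ∑ c, w s c * v c := rfl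

lemma flagMap_single (w : Set.powersetCard Ω 2 → Ω → K) (a : Ω) (s : Set.powersetCard Ω 2) :
    flagMap w (Pi.single a 1) s = w s a := by
  rw [flagMap_apply]
  simp [Pi.single_apply]

lemma flagMap_equivariant (w : Set.powersetCard Ω 2 → Ω → K)
    (hw : ∀ (g : G) (s : Set.powersetCard Ω 2) (c : Ω), w (g • s) (g • c) = w s c) (g : G)
    (v : Ω → K) :
    flagMap w (Cfsg.permRep K G Ω g v) =
      Cfsg.permRep K G (Set.powersetCard Ω 2) g (flagMap w v) := by
  funext s
  change ∑ c, w s c * v (g⁻¹ • c) = ∑ c, w (g⁻¹ • s) c * v c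
  rw [← Equiv.sum_comp (MulAction.toPerm g) (fun c => w s c * v (g⁻¹ • c))]
  apply Finset.sum_congr rfl
  intro c _
  change w s (g • c) * v (g⁻¹ • g • c) = _
  rw [inv_smul_smul]
  congr 1
  have := hw g (g⁻¹ • s) c
  rw [smul_inv_smul] at this
  exact this

/-- if the group is doubly transitive but not transitive on flags, there is an equivariant map from
functions on points to functions on pairs killing the constants but not the sum-zero functions -/
theorem exists_map_of_not_flag_trans (h2 : IsMultiplyPretransitive G Ω 2)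
    (s0 s1 : Set.powersetCard Ω 2) (c0 c1 : Ω) (hc0 : c0 ∉ s0.1) (hc1 : c1 ∉ s1.1)
    (hno : ∀ g : G, g • s0 = s1 → g • c0 ≠ c1) :
    ∃ F : (Ω → K) →ₗ[K] (Set.powersetCard Ω 2 → K),
      (∀ (g : G) (v : Ω → K), F (Cfsg.permRep K G Ω g v) =
        Cfsg.permRep K G (Set.powersetCard Ω 2) g (F v)) ∧
      F (fun _ => 1) = 0 ∧ ∃ v : Ω → K, ∑ x, v x = 0 ∧ F v ≠ 0 := by
  classical
  have hpt : IsPretransitive G (Set.powersetCard Ω 2) :=
    Set.powersetCard.isPretransitive_of_isMultiplyPretransitive G h2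
  obtain ⟨k, hk⟩ := exists_smul_eq G s1 s0
  obtain ⟨R, hR⟩ : ∃ R : Set.powersetCard Ω 2 → Ω → Prop,
      R = fun s c => ∃ g : G, g • s0 = s ∧ g • c0 = c := ⟨_, rfl⟩
  have hRinv : ∀ (g : G) (s : Set.powersetCard Ω 2) (c : Ω), R (g • s) (g • c) ↔ R s c := by
    intro g s c
    rw [hR]
    constructor
    · rintro ⟨h, h1, h2⟩
      refine ⟨g⁻¹ * h, ?_, ?_⟩
      · rw [mul_smul, h1, inv_smul_smul]
      · rw [mul_smul, h2, inv_smul_smul]
    · rintro ⟨h, h1, h2⟩
      refine ⟨g * h, ?_, ?_⟩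
      · rw [mul_smul, h1]
      · rw [mul_smul, h2]
  have hR0 : R s0 c0 := by rw [hR]; exact ⟨1, one_smul _ _, one_smul _ _⟩
  obtain ⟨c', hc'def⟩ : ∃ c' : Ω, c' = k • c1 := ⟨_, rfl⟩
  have hc' : c' ∉ s0.1 := by
    rw [hc'def, ← hk, mem_smul_iff]; exact hc1
  have hR1 : ¬ R s0 c' := by
    rw [hR]
    rintro ⟨g, hg1, hg2⟩
    refine hno (k⁻¹ * g) ?_ ?_
    · rw [mul_smul, hg1, ← hk, inv_smul_smul]
    · rw [mul_smul, hg2, hc'def, inv_smul_smul]
  obtain ⟨d, e, hde, hs0⟩ := exists_mkPair s0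
  have hd : d ∈ s0.1 := by rw [hs0, mkPair_val]; simp
  obtain ⟨T1, hT1⟩ : ∃ T1 : K, T1 = ∑ c, (if c ∉ s0.1 ∧ R s0 c then (1 : K) else 0) := ⟨_, rfl⟩
  obtain ⟨T2, hT2⟩ : ∃ T2 : K, T2 = ∑ c, (if c ∉ s0.1 ∧ ¬ R s0 c then (1 : K) else 0) :=
    ⟨_, rfl⟩
  obtain ⟨A, B, hAB, hne⟩ : ∃ A B : K, A * T1 + B * T2 = 0 ∧ (A ≠ 0 ∨ B ≠ 0) := by
    by_cases hT : T1 = 0
    · exact ⟨1, 0, by rw [hT]; ring, Or.inl one_ne_zero⟩
    · exact ⟨T2, -T1, by ring, Or.inr (neg_ne_zero.mpr hT)⟩
  obtain ⟨w, hwdef⟩ : ∃ w : Set.powersetCard Ω 2 → Ω → K,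
      w = fun s c => if c ∈ s.1 then 0 else if R s c then A else B := ⟨_, rfl⟩
  have hw : ∀ (g : G) (s : Set.powersetCard Ω 2) (c : Ω), w (g • s) (g • c) = w s c := by
    intro g s c
    rw [hwdef]
    simp only [mem_smul_iff, hRinv]
  have hsum : ∑ c, w s0 c = A * T1 + B * T2 := by
    rw [hT1, hT2, Finset.mul_sum, Finset.mul_sum, ← Finset.sum_add_distrib]
    apply Finset.sum_congr rfl
    intro c _
    rw [hwdef]
    by_cases h1 : c ∈ s0.1
    · simp [h1]
    · by_cases h2 : R s0 c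
      · simp [h1, h2]
      · simp [h1, h2]
  refine ⟨flagMap w, flagMap_equivariant w hw, ?_, ?_⟩
  · funext s
    obtain ⟨g, rfl⟩ := exists_smul_eq G s0 s
    rw [flagMap_apply]
    simp only [mul_one, Pi.zero_apply]
    rw [← Equiv.sum_comp (MulAction.toPerm g) (fun c => w (g • s0) c)]
    simp only [MulAction.toPerm_apply, hw]
    rw [hsum, hAB]
  · have hwd : w s0 d = 0 := by rw [hwdef]; simp [hd]
    have hsz : ∀ a b : Ω, ∑ x, ((Pi.single a (1 : K) - Pi.single b (1 : K) : Ω → K)) x = 0 := by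
      intro a b
      simp only [Pi.sub_apply, Finset.sum_sub_distrib]
      simp
    rcases hne with hA | hB
    · refine ⟨Pi.single c0 1 - Pi.single d 1, hsz _ _, ?_⟩
      intro hF
      have h1 := congrFun hF s0
      rw [map_sub, Pi.sub_apply, flagMap_single, flagMap_single, hwd, sub_zero] at h1
      apply hA
      rw [hwdef] at h1
      simpa [hc0, hR0] using h1
    · refine ⟨Pi.single c' 1 - Pi.single d 1, hsz _ _, ?_⟩
      intro hF
      have h1 := congrFun hF s0
      rw [map_sub, Pi.sub_apply, flagMap_single, flagMap_single, hwd, sub_zero] at h1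
      apply hB
      rw [hwdef] at h1
      simpa [hc', hR1] using h1

end FlagMap

section Socle

variable {G : Type*} [Group G] {K : Type*} [Field K] {Ω : Type*} [DecidableEq Ω] [MulAction G Ω]

/-- a function on pairs invariant under `x` and anti-invariant under `t` vanishes, if `t` acts on
each pair like a power of `x` -/
theorem pair_fn_zero (φ : Set.powersetCard Ω 2 → K) (x t : G)
    (hφx : ∀ s, φ (x • s) = φ s) (hφt : ∀ s, φ (t • s) = - φ s) (h2 : (2 : K) ≠ 0)
    (hpair : ∀ u w : Ω, u ≠ w → ∃ n : ℕ, x ^ n • u = t • w ∧ x ^ n • w = t • u) :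
    ∀ s, φ s = 0 := by
  have hφxn : ∀ (n : ℕ) s, φ (x ^ n • s) = φ s := by
    intro n
    induction n with
    | zero => intro s; simp
    | succ n ih =>
      intro s
      rw [pow_succ', mul_smul, hφx, ih]
  intro s
  obtain ⟨u, w, huw, rfl⟩ := exists_mkPair s
  obtain ⟨n, hn1, hn2⟩ := hpair u w huw
  have h3 : t • mkPair u w huw = x ^ n • mkPair u w huw := by
    rw [smul_mkPair, smul_mkPair, mkPair_eq_iff]
    right
    exact ⟨hn2.symm, hn1.symm⟩
  have h4 := hφt (mkPair u w huw)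
  rw [h3, hφxn] at h4
  have h5 : (2 : K) * φ (mkPair u w huw) = 0 := by linear_combination h4
  rcases mul_eq_zero.mp h5 with h | h
  · exact absurd h h2
  · exact h

end Socle

end Cfsg.Agent.Lib.Helper5.HeartHom
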