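import Mathlib
import Cfsg.Agent.Lib.Helper23.TWSUCC

set_option autoImplicit false
set_option linter.unusedVariables false

namespace Cfsg.Agent.Lib.Helper5.DWD4T

open MulAction

/-- **DW-D4T**.  3-transitive, and the pointwise stabilizer of ONE injective triple `(a, b, c)` is
transitive on the remaining points ⟹ 4-transitive. -/
theorem DWD4T {X Ω : Type*} [Group X] [MulAction X Ω] (h3 : IsMultiplyPretransitive X Ω 3)
    (a b c : Ω) (hab : a ≠ b) (hac : a ≠ c) (hbc : b ≠ c)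
    (h : ∀ y y' : Ω, y ≠ a → y ≠ b → y ≠ c → y' ≠ a → y' ≠ b → y' ≠ c →
      ∃ g : X, g • a = a ∧ g • b = b ∧ g • c = c ∧ g • y = y') :
    IsMultiplyPretransitive X Ω 4 := by
  have hinj : Function.Injective (![a, b, c] : Fin 3 → Ω) := by
    intro i j hij
    fin_cases i <;> fin_cases j <;> simp_all
  let e₀ : Fin 3 ↪ Ω := ⟨![a, b, c], hinj⟩
  have he0 : e₀ 0 = a := rfl
  have he1 : e₀ 1 = b := rfl
  have he2 : e₀ 2 = c := rfl
  refine Cfsg.Agent.Lib.Helper23.TWSUCC.TWSUCC 3 h3 ?_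
  intro x₀ y y' hy hy'
  obtain ⟨g₀, hg₀⟩ := h3.exists_smul_eq e₀ x₀
  have hg₀a : ∀ i : Fin 3, g₀ • e₀ i = x₀ i := by
    intro i
    have := DFunLike.congr_fun hg₀ i
    rwa [Function.Embedding.smul_apply] at this
  have hne : ∀ z : Ω, z ∉ Set.range x₀ → ∀ i : Fin 3, g₀⁻¹ • z ≠ e₀ i := by
    intro z hz i hzi
    apply hz
    refine ⟨i, ?_⟩
    rw [← hg₀a i, ← hzi, smul_inv_smul]
  obtain ⟨g, hga, hgb, hgc, hgy⟩ := h (g₀⁻¹ • y) (g₀⁻¹ • y') (hne y hy 0) (hne y hy 1) (hne y hy 2)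
    (hne y' hy' 0) (hne y' hy' 1) (hne y' hy' 2)
  refine ⟨g₀ * g * g₀⁻¹, ?_, ?_⟩
  · intro i
    rw [← hg₀a i, mul_smul, mul_smul, inv_smul_smul]
    have : g • e₀ i = e₀ i := by
      fin_cases i
      · exact hga
      · exact hgb
      · exact hgc
    rw [this]
  · rw [mul_smul, mul_smul, hgy, smul_inv_smul]

end Cfsg.Agent.Lib.Helper5.DWD4T
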