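import Mathlib

set_option autoImplicit false
set_option linter.unusedVariables false

namespace Cfsg.Agent.Lib.Helper5.DWIDX2

open MulAction

/-- **DW-IDX2**.  `H ≤ G` of "index at most two"; two `H`-orbits fused by an element of `G` have the
same size. -/
theorem DWIDX2 {X Ω : Type*} [Group X] [MulAction X Ω] (G H : Subgroup X) (hHG : H ≤ G)
    (hidx : ∀ g ∈ G, ∀ g' ∈ G, g ∉ H → g' ∉ H → g * g' ∈ H)
    (O₁ O₂ : Set Ω) (hfin₁ : O₁.Finite) (hfin₂ : O₂.Finite)
    (horb₁ : ∀ x ∈ O₁, ∀ y ∈ O₁, ∃ h ∈ H, h • x = y)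
    (horb₂ : ∀ x ∈ O₂, ∀ y ∈ O₂, ∃ h ∈ H, h • x = y)
    (hinv₁ : ∀ h ∈ H, ∀ x ∈ O₁, h • x ∈ O₁) (hinv₂ : ∀ h ∈ H, ∀ x ∈ O₂, h • x ∈ O₂)
    (g : X) (hg : g ∈ G) (x : Ω) (hx : x ∈ O₁) (hgx : g • x ∈ O₂) :
    O₁.ncard = O₂.ncard := by
  by_cases hgH : g ∈ H
  · have hgx1 : g • x ∈ O₁ := hinv₁ g hgH x hx
    have : O₁ = O₂ := by
      ext y
      constructor
      · intro hy
        obtain ⟨h, hh, hhy⟩ := horb₁ (g • x) hgx1 y hy
        rw [← hhy]
        exact hinv₂ h hh _ hgx
      · intro hy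
        obtain ⟨h, hh, hhy⟩ := horb₂ (g • x) hgx y hy
        rw [← hhy]
        exact hinv₁ h hh _ hgx1
    rw [this]
  · have hginv : g⁻¹ ∉ H := fun hh => hgH (by simpa using H.inv_mem hh)
    have hginvG : g⁻¹ ∈ G := G.inv_mem hg
    have himg : (fun y : Ω => g • y) '' O₁ = O₂ := by
      ext z
      constructor
      · rintro ⟨y, hy, rfl⟩
        obtain ⟨h, hh, hhy⟩ := horb₁ x hx y hy
        have hghG : g * h ∈ G := G.mul_mem hg (hHG hh)
        have hghH : g * h ∉ H := by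
          intro hc
          apply hgH
          have := H.mul_mem hc (H.inv_mem hh)
          simpa using this
        have hconj : g * h * g⁻¹ ∈ H := hidx (g * h) hghG g⁻¹ hginvG hghH hginv
        have : g • y = (g * h * g⁻¹) • (g • x) := by
          rw [← hhy, mul_smul, mul_smul, inv_smul_smul]
        show g • y ∈ O₂
        rw [this]
        exact hinv₂ _ hconj _ hgx
      · intro hz
        obtain ⟨h, hh, hhz⟩ := horb₂ (g • x) hgx z hz
        have hghG : g⁻¹ * h ∈ G := G.mul_mem hginvG (hHG hh)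
        have hghH : g⁻¹ * h ∉ H := by
          intro hc
          apply hginv
          have := H.mul_mem hc (H.inv_mem hh)
          simpa using this
        have hconj : g⁻¹ * h * g ∈ H := hidx (g⁻¹ * h) hghG g hg hghH hgH
        refine ⟨g⁻¹ • z, ?_, by simp⟩
        have : g⁻¹ • z = (g⁻¹ * h * g) • x := by
          rw [← hhz, mul_smul, mul_smul]
        rw [this]
        exact hinv₁ _ hconj _ hx
    rw [← himg]
    exact (Set.ncard_image_of_injective O₁ (MulAction.injective g)).symm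

end Cfsg.Agent.Lib.Helper5.DWIDX2
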