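import Mathlib

set_option autoImplicit false
set_option linter.unusedVariables false

namespace Cfsg.Agent.Lib.Helper5.DWBLKF

open MulAction
open scoped Pointwise

/-- **DW-BLKF**.  A regular subgroup `D`, a `G_c`-invariant set `O` (not everything outside `c`) such
that `{d ∈ D : d c ∈ O ∪ {c}}` is closed: then `O ∪ {c}` is a nontrivial block, so `G` is not
primitive. -/
theorem DWBLKF {G Γ : Type*} [Group G] [MulAction G Γ] (hprim : IsPreprimitive G Γ)
    (D : Subgroup G) (c : Γ) (hreg : ∀ γ : Γ, ∃ d ∈ D, d • c = γ)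
    (hsemi : ∀ d ∈ D, d • c = c → d = 1)
    (O O' : Set Γ) (hO : O.Nonempty) (hO' : O'.Nonempty) (hcO : c ∉ O) (hcO' : c ∉ O')
    (hdisj : ∀ γ ∈ O, γ ∉ O') (hinv : ∀ g : G, g • c = c → ∀ γ ∈ O, g • γ ∈ O)
    (hmul : ∀ d ∈ D, ∀ d' ∈ D, d • c ∈ O → d' • c ∈ O → (d * d') • c ∈ O ∨ (d * d') • c = c)
    (hinvs : ∀ d ∈ D, d • c ∈ O → d⁻¹ • c ∈ O) : False := by
  classical
  set B : Set Γ := O ∪ {c} with hB
  have hcB : c ∈ B := Or.inr rfl
  let K : Subgroup G :=
    { carrier := {d | d ∈ D ∧ d • c ∈ B}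
      one_mem' := ⟨D.one_mem, by rw [one_smul]; exact hcB⟩
      mul_mem' := by
        rintro d d' ⟨hd, hdB⟩ ⟨hd', hd'B⟩
        refine ⟨D.mul_mem hd hd', ?_⟩
        rcases hdB with hdO | hdc
        · rcases hd'B with hd'O | hd'c
          · rcases hmul d hd d' hd' hdO hd'O with h | h
            · exact Or.inl h
            · exact Or.inr h
          · have : d' = 1 := hsemi d' hd' hd'c
            rw [this, mul_one]
            exact Or.inl hdO
        · have : d = 1 := hsemi d hd hdc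
          rw [this, one_mul]
          exact hd'B
      inv_mem' := by
        rintro d ⟨hd, hdB⟩
        refine ⟨D.inv_mem hd, ?_⟩
        rcases hdB with hdO | hdc
        · exact Or.inl (hinvs d hd hdO)
        · have : d = 1 := hsemi d hd hdc
          rw [this, inv_one, one_smul]
          exact hcB }
  have F1 : ∀ γ ∈ B, ∃ k ∈ K, k • c = γ := by
    intro γ hγ
    obtain ⟨d, hd, hdγ⟩ := hreg γ
    exact ⟨d, ⟨hd, by rw [hdγ]; exact hγ⟩, hdγ⟩
  have F2 : ∀ k ∈ K, k • c ∈ B := fun k hk => hk.2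
  have F3 : ∀ h : G, h • c = c → ∀ γ ∈ B, h • γ ∈ B := by
    intro h hh γ hγ
    rcases hγ with hγO | hγc
    · exact Or.inl (hinv h hh γ hγO)
    · have : γ = c := hγc
      rw [this, hh]
      exact hcB
  have key : ∀ (g : G) (a : Γ), a ∈ B → g • a ∈ B → ∀ x ∈ B, g • x ∈ B := by
    intro g a ha hga x hx
    obtain ⟨kb, hkb, rfl⟩ := F1 a ha
    obtain ⟨k', hk', hk'e⟩ := F1 (g • kb • c) hga
    obtain ⟨kx, hkx, rfl⟩ := F1 x hx
    have hh : (k'⁻¹ * g * kb) • c = c := by
      rw [mul_smul, mul_smul, ← hk'e, inv_smul_smul]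
    have h1 : (kb⁻¹ * kx) • c ∈ B := F2 _ (K.mul_mem (K.inv_mem hkb) hkx)
    have h2 := F3 _ hh _ h1
    obtain ⟨k'', hk'', e⟩ := F1 _ h2
    have h3 : g • kx • c = (k' * k'') • c := by
      rw [mul_smul, e, ← mul_smul, ← mul_smul, ← mul_smul]
      congr 1
      group
    rw [h3]
    exact F2 _ (K.mul_mem hk' hk'')
  have hblock : IsBlock G B := by
    rw [isBlock_iff_smul_eq_of_mem]
    intro g a ha hga
    apply Set.Subset.antisymm
    · rintro _ ⟨x, hx, rfl⟩
      exact key g a ha hga x hx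
    · intro x hx
      exact ⟨g⁻¹ • x, key g⁻¹ (g • a) hga (by rwa [inv_smul_smul]) x hx, smul_inv_smul g x⟩
  rcases hprim.isTrivialBlock_of_isBlock hblock with hsub | huniv
  · obtain ⟨o, ho⟩ := hO
    have : o = c := hsub (Or.inl ho) hcB
    exact hcO (this ▸ ho)
  · obtain ⟨o', ho'⟩ := hO'
    have : o' ∈ B := huniv ▸ Set.mem_univ o'
    rcases this with h | h
    · exact hdisj o' h ho'
    · have : o' = c := h
      exact hcO' (this ▸ ho')

end Cfsg.Agent.Lib.Helper5.DWBLKF
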