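import Mathlib

set_option autoImplicit false
set_option linter.unusedVariables false

namespace Cfsg.Agent.Lib.Helper5.DWPAIR

open MulAction

/-- Rank at most 3 and one self-paired non-diagonal orbital: all orbitals are self-paired. -/
theorem pair_aux {G Γ : Type*} [Group G] [MulAction G Γ] [IsPretransitive G Γ] (c : Γ)
    (A B : Set Γ) (hcov : ∀ γ : Γ, γ ≠ c → γ ∈ A ∨ γ ∈ B)
    (horbA : ∀ γ ∈ A, ∀ γ' ∈ A, ∃ g : G, g • c = c ∧ g • γ = γ')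
    (horbB : ∀ γ ∈ B, ∀ γ' ∈ B, ∃ g : G, g • c = c ∧ g • γ = γ')
    (δ : Γ) (hδA : δ ∈ A) (hδ : ∃ g : G, g • c = δ ∧ g • δ = c) :
    ∀ γ : Γ, ∃ g : G, g • c = γ ∧ g • γ = c := by
  -- (2): the property is invariant under the stabilizer of `c`
  have h2 : ∀ (γ : Γ) (h : G), h • c = c → (∃ g : G, g • c = γ ∧ g • γ = c) →
      ∃ g : G, g • c = h • γ ∧ g • (h • γ) = c := by
    rintro γ h hh ⟨g, hg1, hg2⟩
    refine ⟨h * g * h⁻¹, ?_, ?_⟩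
    · have : h⁻¹ • c = c := by rw [inv_smul_eq_iff, hh]
      rw [mul_smul, mul_smul, this, hg1]
    · rw [mul_smul, mul_smul, inv_smul_smul, hg2, hh]
  have hA : ∀ γ ∈ A, ∃ g : G, g • c = γ ∧ g • γ = c := by
    intro γ hγ
    obtain ⟨h, hh, hhγ⟩ := horbA δ hδA γ hγ
    have := h2 δ h hh hδ
    rwa [hhγ] at this
  intro γ
  by_cases hγc : γ = c
  · exact ⟨1, by rw [one_smul, hγc], by rw [one_smul, hγc]⟩
  rcases hcov γ hγc with hγA | hγB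
  · exact hA γ hγA
  · obtain ⟨u, hu⟩ := exists_smul_eq G c γ
    have hεc : u⁻¹ • c ≠ c := by
      intro h
      apply hγc
      rw [← hu, ← h, smul_inv_smul, h]
    rcases hcov _ hεc with hεA | hεB
    · obtain ⟨g', hg'1, hg'2⟩ := hA _ hεA
      have hfix : (u * g') • c = c := by rw [mul_smul, hg'1, smul_inv_smul]
      have hmap : (u * g') • (u⁻¹ • c) = γ := by rw [mul_smul, hg'2, hu]
      have := h2 (u⁻¹ • c) (u * g') hfix ⟨g', hg'1, hg'2⟩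
      rwa [hmap] at this
    · obtain ⟨h, hh, hhε⟩ := horbB _ hεB γ hγB
      refine ⟨u * h⁻¹, ?_, ?_⟩
      · have : h⁻¹ • c = c := by rw [inv_smul_eq_iff, hh]
        rw [mul_smul, this, hu]
      · rw [mul_smul, ← hhε, inv_smul_smul, smul_inv_smul]

/-- **DW-PAIR**.  Rank 3 and an involution moving `c`: every pair `(c, γ)` is swapped by some
element. -/
theorem DWPAIR {G Γ : Type*} [Group G] [MulAction G Γ] [IsPretransitive G Γ] (c : Γ)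
    (O₁ O₂ : Set Γ) (hdisj : ∀ γ ∈ O₁, γ ∉ O₂) (hcov : ∀ γ : Γ, γ ≠ c → γ ∈ O₁ ∨ γ ∈ O₂)
    (horb₁ : ∀ γ ∈ O₁, ∀ γ' ∈ O₁, ∃ g : G, g • c = c ∧ g • γ = γ')
    (horb₂ : ∀ γ ∈ O₂, ∀ γ' ∈ O₂, ∃ g : G, g • c = c ∧ g • γ = γ')
    (hinv₁ : ∀ g : G, g • c = c → ∀ γ ∈ O₁, g • γ ∈ O₁)
    (hinv₂ : ∀ g : G, g • c = c → ∀ γ ∈ O₂, g • γ ∈ O₂)
    (t : G) (ht : t * t = 1) (htc : t • c ≠ c) :
    ∀ γ : Γ, ∃ g : G, g • c = γ ∧ g • γ = c := by
  have hδ : ∃ g : G, g • c = t • c ∧ g • (t • c) = c :=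
    ⟨t, rfl, by rw [← mul_smul, ht, one_smul]⟩
  rcases hcov _ htc with h | h
  · exact pair_aux c O₁ O₂ hcov horb₁ horb₂ (t • c) h hδ
  · exact pair_aux c O₂ O₁ (fun γ hγ => (hcov γ hγ).symm) horb₂ horb₁ (t • c) h hδ

end Cfsg.Agent.Lib.Helper5.DWPAIR
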