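import Mathlib
import Cfsg.Prelude.Def_Perm

set_option autoImplicit false
set_option linter.unusedSectionVars false

namespace Cfsg.Agent.Lib.Helper5.NFBuild

variable {G α : Type*} [Group G] [MulAction G α] [DecidableEq α]

/-- data of a regular normal subgroup `N` (section `nn`) and a one-point stabiliser acting
regularly on the other points (section `hh`). -/
structure Spec (N : Subgroup G) (o e : α) (nn hh : α → G) : Prop where
  hoe : o ≠ e
  normal : N.Normal
  nn_mem : ∀ a, nn a ∈ N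
  nn_smul : ∀ a, nn a • o = a
  nn_uniq : ∀ n ∈ N, ∀ a, n • o = a → n = nn a
  hh_fix : ∀ a, a ≠ o → hh a • o = o
  hh_smul : ∀ a, a ≠ o → hh a • e = a
  hh_uniq : ∀ h : G, h • o = o → ∀ a, a ≠ o → h • e = a → h = hh a

variable {N : Subgroup G} {o e : α} {nn hh : α → G}

def nfAdd (nn : α → G) (a b : α) : α := nn b • a
def nfNeg (o : α) (nn : α → G) (a : α) : α := (nn a)⁻¹ • o
def nfMul (o : α) (hh : α → G) (a b : α) : α := if b = o then o else hh b • a

namespace Spec

variable (S : Spec N o e nn hh)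
include S

lemma nn_o : nn o = 1 := (S.nn_uniq 1 N.one_mem o (one_smul _ _)).symm

lemma nn_mul (b c : α) : nn (nn c • b) = nn c * nn b := by
  symm
  apply S.nn_uniq _ (N.mul_mem (S.nn_mem c) (S.nn_mem b))
  rw [mul_smul, S.nn_smul]

lemma hh_e : hh e = 1 := (S.hh_uniq 1 (one_smul _ _) e S.hoe.symm (one_smul _ _)).symm

lemma hh_ne {b c : α} (hb : b ≠ o) (hc : c ≠ o) : hh c • b ≠ o := by
  intro h
  apply hb
  have : hh c • b = hh c • o := by rw [h, S.hh_fix c hc]
  exact MulAction.injective (hh c) this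

lemma hh_mul {b c : α} (hb : b ≠ o) (hc : c ≠ o) : hh (hh c • b) = hh c * hh b := by
  symm
  apply S.hh_uniq _ _ _ (S.hh_ne hb hc)
  · rw [mul_smul, S.hh_smul b hb]
  · rw [mul_smul, S.hh_fix b hb, S.hh_fix c hc]

lemma nn_conj {b c : α} (hc : c ≠ o) : nn (hh c • b) = hh c * nn b * (hh c)⁻¹ := by
  symm
  apply S.nn_uniq _ (S.normal.conj_mem _ (S.nn_mem b) _)
  rw [mul_smul, mul_smul]
  have : (hh c)⁻¹ • o = o := by
    rw [inv_smul_eq_iff, S.hh_fix c hc]
  rw [this, S.nn_smul]

lemma add_assoc' (a b c : α) : nfAdd nn (nfAdd nn a b) c = nfAdd nn a (nfAdd nn b c) := by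
  unfold nfAdd
  rw [S.nn_mul, mul_smul]

lemma zero_add' (a : α) : nfAdd nn o a = a := S.nn_smul a

lemma neg_add' (a : α) : nfAdd nn (nfNeg o nn a) a = o := by
  unfold nfAdd nfNeg
  rw [smul_inv_smul]

lemma mul_assoc' (a b c : α) : nfMul o hh (nfMul o hh a b) c = nfMul o hh a (nfMul o hh b c) := by
  unfold nfMul
  by_cases hc : c = o
  · simp [hc]
  · by_cases hb : b = o
    · simp [hc, hb, S.hh_fix c hc]
    · have := S.hh_ne hb hc
      simp only [hc, hb, this, if_false]
      rw [S.hh_mul hb hc, mul_smul]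

lemma one_mul' (a : α) : nfMul o hh e a = a := by
  unfold nfMul
  by_cases ha : a = o
  · simp [ha]
  · simp [ha, S.hh_smul a ha]

lemma mul_one' (a : α) : nfMul o hh a e = a := by
  unfold nfMul
  simp [S.hoe.symm, S.hh_e]

lemma right_distrib' (a b c : α) :
    nfMul o hh (nfAdd nn a b) c = nfAdd nn (nfMul o hh a c) (nfMul o hh b c) := by
  unfold nfMul nfAdd
  by_cases hc : c = o
  · simp [hc, S.nn_o]
  · simp only [hc, if_false]
    rw [S.nn_conj hc, mul_smul, mul_smul, inv_smul_smul]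

lemma mul_zero' (a : α) : nfMul o hh a o = o := by
  unfold nfMul; simp

lemma exists_inv' (a : α) (ha : a ≠ o) : ∃ b, nfMul o hh a b = e ∧ nfMul o hh b a = e := by
  have hb : (hh a)⁻¹ • e ≠ o := by
    intro h
    rw [inv_smul_eq_iff, S.hh_fix a ha] at h
    exact S.hoe h.symm
  have hhb : hh ((hh a)⁻¹ • e) = (hh a)⁻¹ := by
    symm
    apply S.hh_uniq _ _ _ hb rfl
    rw [inv_smul_eq_iff, S.hh_fix a ha]
  refine ⟨(hh a)⁻¹ • e, ?_, ?_⟩
  · unfold nfMul
    simp only [hb, if_false]
    rw [hhb, inv_smul_eq_iff, S.hh_smul a ha]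
  · unfold nfMul
    simp only [ha, if_false]
    rw [smul_inv_smul]

/-- the near-field structure -/
@[reducible] def nearField : Cfsg.NearField α :=
  { toAddGroup := @AddGroup.ofLeftAxioms α ⟨nfAdd nn⟩ ⟨nfNeg o nn⟩ ⟨o⟩ S.add_assoc' S.zero_add' S.neg_add'
    toMonoid :=
      { mul := nfMul o hh
        one := e
        mul_assoc := S.mul_assoc'
        one_mul := S.one_mul'
        mul_one := S.mul_one' }
    right_distrib := S.right_distrib'
    mul_zero := S.mul_zero'
    zero_ne_one := S.hoe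
    exists_inv := S.exists_inv' }

lemma repr (g : G) : ∃ a b : α, a ≠ o ∧ ∀ x : α, g • x = nfAdd nn (nfMul o hh x a) b := by
  set b := g • o with hb
  set g' := (nn b)⁻¹ * g with hg'
  have hfix : g' • o = o := by
    rw [hg', mul_smul, inv_smul_eq_iff, S.nn_smul]
  have ha : g' • e ≠ o := by
    intro h
    have : g' • e = g' • o := by rw [h, hfix]
    exact S.hoe (MulAction.injective g' this).symm
  have hh' : g' = hh (g' • e) := S.hh_uniq g' hfix _ ha rfl
  refine ⟨g' • e, b, ha, fun x => ?_⟩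
  unfold nfAdd nfMul
  simp only [ha, if_false]
  rw [← hh', hg', mul_smul, smul_inv_smul]

lemma repr' (a b : α) (ha : a ≠ o) : ∀ x : α, (nn b * hh a) • x = nfAdd nn (nfMul o hh x a) b := by
  intro x
  unfold nfAdd nfMul
  simp only [ha, if_false]
  rw [mul_smul]

end Spec

end Cfsg.Agent.Lib.Helper5.NFBuild
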