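import Mathlib
import Cfsg.Prelude.Def_Perm

set_option autoImplicit false

namespace Cfsg.Agent.Lib.Helper5.NF

variable {F : Type*} [Cfsg.NearField F]

lemma rd (a b c : F) : (a + b) * c = a * c + b * c := Cfsg.NearField.right_distrib a b c

lemma mz (a : F) : a * 0 = 0 := Cfsg.NearField.mul_zero a

lemma zm (a : F) : (0 : F) * a = 0 := by
  have h := rd (0 : F) 0 a
  rw [add_zero] at h
  have : (0 : F) * a + 0 = 0 * a + 0 * a := by rw [add_zero]; exact h
  exact (add_left_cancel this).symm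

lemma nm (a b : F) : (-a) * b = -(a * b) := by
  have h := rd (-a) a b
  rw [neg_add_cancel, zm] at h
  exact eq_neg_of_add_eq_zero_left h.symm

lemma sm (a b c : F) : (a - b) * c = a * c - b * c := by
  rw [sub_eq_add_neg, rd, nm, ← sub_eq_add_neg]

lemma z1 : (0 : F) ≠ 1 := Cfsg.NearField.zero_ne_one

lemma exi (a : F) (ha : a ≠ 0) : ∃ b : F, a * b = 1 ∧ b * a = 1 := Cfsg.NearField.exists_inv a ha

lemma mul_ne {a b : F} (ha : a ≠ 0) (hb : b ≠ 0) : a * b ≠ 0 := by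
  intro h
  obtain ⟨a', h1, h2⟩ := exi a ha
  have : a' * (a * b) = b := by rw [← mul_assoc, h2, one_mul]
  rw [h, mz] at this
  exact hb this.symm

lemma inv_ne {a b : F} (h : a * b = 1) : b ≠ 0 := by
  rintro rfl
  rw [mz] at h
  exact z1 h

/-- the affine permutation `x ↦ x * a + b`. -/
def aff (a a' b : F) (h1 : a * a' = 1) (h2 : a' * a = 1) : Equiv.Perm F where
  toFun x := x * a + b
  invFun y := (y - b) * a'
  left_inv x := by
    simp only [add_sub_cancel_right, mul_assoc, h1, mul_one]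
  right_inv y := by
    simp only [mul_assoc, h2, mul_one, sub_add_cancel]

@[simp] lemma aff_apply (a a' b : F) (h1 : a * a' = 1) (h2 : a' * a = 1) (x : F) :
    aff a a' b h1 h2 x = x * a + b := rfl

/-- The group of affine maps of a near-field. -/
def affGroup (F : Type*) [Cfsg.NearField F] : Subgroup (Equiv.Perm F) where
  carrier := {σ | ∃ a b : F, a ≠ 0 ∧ ∀ x : F, σ x = x * a + b}
  one_mem' := ⟨1, 0, z1.symm, fun x => by simp⟩
  mul_mem' := by
    rintro σ τ ⟨a, b, ha, hσ⟩ ⟨c, d, hc, hτ⟩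
    refine ⟨c * a, d * a + b, mul_ne hc ha, fun x => ?_⟩
    simp only [Equiv.Perm.coe_mul, Function.comp_apply, hτ, hσ, rd, mul_assoc, add_assoc]
  inv_mem' := by
    rintro σ ⟨a, b, ha, hσ⟩
    obtain ⟨a', h1, h2⟩ := exi a ha
    refine ⟨a', (-b) * a', inv_ne h1, fun x => ?_⟩
    apply σ.injective
    rw [Equiv.Perm.inv_def, Equiv.apply_symm_apply, hσ, rd, mul_assoc, h2, mul_one, mul_assoc, h2,
      mul_one, neg_add_cancel_right]

lemma mem_affGroup (σ : Equiv.Perm F) :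
    σ ∈ affGroup F ↔ ∃ a b : F, a ≠ 0 ∧ ∀ x : F, σ x = x * a + b := Iff.rfl

lemma aff_mem (a a' b : F) (h1 : a * a' = 1) (h2 : a' * a = 1) : aff a a' b h1 h2 ∈ affGroup F :=
  ⟨a, b, fun h => by rw [h, zm] at h1; exact z1 h1, fun _ => rfl⟩

theorem affGroup_two : MulAction.IsMultiplyPretransitive (affGroup F) F 2 := by
  rw [MulAction.is_two_pretransitive_iff]
  intro x₁ x₂ y₁ y₂ hx hy
  have hx' : x₁ - x₂ ≠ 0 := sub_ne_zero.mpr hx
  have hy' : y₁ - y₂ ≠ 0 := sub_ne_zero.mpr hy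
  obtain ⟨u, hu1, hu2⟩ := exi _ hx'
  obtain ⟨w, hw1, hw2⟩ := exi _ hy'
  -- a = u * (y₁ - y₂), a' = w * (x₁ - x₂)
  have h1 : (u * (y₁ - y₂)) * (w * (x₁ - x₂)) = 1 := by
    rw [mul_assoc, ← mul_assoc (y₁ - y₂), hw1, one_mul, hu2]
  have h2 : (w * (x₁ - x₂)) * (u * (y₁ - y₂)) = 1 := by
    rw [mul_assoc, ← mul_assoc (x₁ - x₂), hu1, one_mul, hw2]
  refine ⟨⟨aff (u * (y₁ - y₂)) (w * (x₁ - x₂)) (-(x₁ * (u * (y₁ - y₂))) + y₁) h1 h2, aff_mem _ _ _ h1 h2⟩, ?_, ?_⟩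
  · change x₁ * (u * (y₁ - y₂)) + (-(x₁ * (u * (y₁ - y₂))) + y₁) = y₁
    rw [← add_assoc, add_neg_cancel, zero_add]
  · change x₂ * (u * (y₁ - y₂)) + (-(x₁ * (u * (y₁ - y₂))) + y₁) = y₂
    rw [← add_assoc, ← sub_eq_add_neg, ← sm, ← mul_assoc]
    have : (x₂ - x₁) = -(x₁ - x₂) := (neg_sub x₁ x₂).symm
    rw [this, nm, hu1, nm, one_mul, neg_sub, sub_add_cancel]

theorem affGroup_sharp (x : Fin 2 ↪ F) : MulAction.stabilizer (affGroup F) x = ⊥ := by
  rw [eq_bot_iff]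
  rintro ⟨σ, a, b, ha, hσ⟩ hmem
  rw [MulAction.mem_stabilizer_iff] at hmem
  have h0 : σ (x 0) = x 0 := by
    have := congrArg (fun f : Fin 2 ↪ F => f 0) hmem
    exact this
  have h1 : σ (x 1) = x 1 := by
    have := congrArg (fun f : Fin 2 ↪ F => f 1) hmem
    exact this
  rw [hσ] at h0 h1
  have hne : x 0 - x 1 ≠ 0 := sub_ne_zero.mpr (fun h => by simpa using x.injective h)
  have hsub : (x 0 - x 1) * a = x 0 - x 1 := by
    rw [sm]
    have e0 : x 0 * a = x 0 - b := eq_sub_of_add_eq h0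
    have e1 : x 1 * a = x 1 - b := eq_sub_of_add_eq h1
    rw [e0, e1, sub_eq_add_neg (x 0 - b), neg_sub, sub_add_sub_cancel]
  obtain ⟨u, hu1, hu2⟩ := exi _ hne
  have ha1 : a = 1 := by
    have := congrArg (fun t => u * t) hsub
    simp only [← mul_assoc, hu2, one_mul] at this
    exact this
  rw [ha1, mul_one] at h0
  have hb : b = 0 := by simpa using h0
  rw [Subgroup.mem_bot]
  apply Subtype.ext
  ext y
  change σ y = y
  rw [hσ, ha1, hb, mul_one, add_zero]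

end Cfsg.Agent.Lib.Helper5.NF
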