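import Mathlib

set_option autoImplicit false

namespace Cfsg.Agent.Lib.Helper5

/-- Frobenius counting: in a transitive action where non-identity elements fix at most one
point, the identity together with the fixed-point-free elements number exactly the degree. -/
theorem frobenius_kernel_count {K X : Type*} [Group K] [Finite K] [MulAction K X] [Finite X]
    [MulAction.IsPretransitive K X] [Nonempty X]
    (h1 : ∀ k : K, k ≠ 1 → ∀ x y : X, k • x = x → k • y = y → x = y) :
    Set.ncard {k : K | k = 1 ∨ ∀ x : X, k • x ≠ x} = Nat.card X := by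
  classical
  have : Fintype K := Fintype.ofFinite K
  have : Fintype X := Fintype.ofFinite X
  have hB := MulAction.sum_card_fixedBy_eq_card_orbits_mul_card_group K X
  have hΩ : Fintype.card (Quotient (MulAction.orbitRel K X)) = 1 := by
    rw [Fintype.card_eq_one_iff]
    obtain ⟨a⟩ := ‹Nonempty X›
    refine ⟨Quotient.mk'' a, ?_⟩
    intro y
    induction y using Quotient.inductionOn' with
    | h b =>
      apply Quotient.sound'
      exact MulAction.exists_smul_eq K a b
  rw [hΩ, one_mul] at hB
  rw [← Finset.add_sum_erase Finset.univ _ (Finset.mem_univ (1 : K))] at hB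
  have h1' : Fintype.card (MulAction.fixedBy X (1 : K)) = Fintype.card X := by
    apply Fintype.card_of_subtype Finset.univ
    intro a
    simp
  have hc : ∀ g ∈ Finset.univ.erase (1 : K), Fintype.card (MulAction.fixedBy X g)
      = if ¬ (∀ a : X, g • a ≠ a) then 1 else 0 := by
    intro g hg
    have hg1 : g ≠ 1 := (Finset.mem_erase.1 hg).1
    split_ifs with h
    · rw [Fintype.card_eq_zero_iff]
      exact ⟨fun ⟨a, ha⟩ => h a ha⟩
    · push Not at h
      obtain ⟨a, ha⟩ := h
      rw [Fintype.card_eq_one_iff]
      refine ⟨⟨a, ha⟩, ?_⟩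
      rintro ⟨b, hb⟩
      apply Subtype.ext
      exact h1 g hg1 b a hb ha
  rw [Finset.sum_congr rfl hc, Finset.sum_boole, h1'] at hB
  have hsplit := Finset.card_filter_add_card_filter_not (s := Finset.univ.erase (1 : K))
    (fun g : K => ∀ a : X, g • a ≠ a)
  rw [Finset.card_erase_of_mem (Finset.mem_univ _), Finset.card_univ] at hsplit
  have hset : {k : K | k = 1 ∨ ∀ x : X, k • x ≠ x}
      = ↑(insert (1 : K) ((Finset.univ.erase (1 : K)).filter (fun g : K => ∀ a : X, g • a ≠ a))) := by
    ext g
    simp only [Set.mem_ofPred_eq, Finset.coe_insert, Finset.coe_filter, Finset.mem_erase,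
      Finset.mem_univ, and_true, Set.mem_insert_iff]
    constructor
    · rintro (h | h)
      · exact Or.inl h
      · by_cases hg : g = 1
        · exact Or.inl hg
        · exact Or.inr ⟨hg, h⟩
    · rintro (h | ⟨_, h⟩)
      · exact Or.inl h
      · exact Or.inr h
  rw [hset, Set.ncard_coe_finset, Finset.card_insert_of_notMem (by simp), Nat.card_eq_fintype_card]
  have hpos : 1 ≤ Fintype.card K := Fintype.card_pos
  simp only [Nat.cast_id] at hB
  omega

end Cfsg.Agent.Lib.Helper5
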