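import Cfsg.Agent.Lib.Helper7.OTT
import Cfsg.Agent.Lib.Helper1.C3OF4
import Cfsg.Agent.Lib.Helper2.SOTDefs

/-!
helper5: S5681 / S5709 (`O_a ⊗ O_b` in `Ω_{ab}(q)`, `q` odd), part (G) = GROWTH: definitions.

Model (helper7's `OTT`): `QV G₁ G₂ = QG (G₁ ⊗ₖ G₂)` on `Idx a b → F`, `M ≤ GL (Idx a b) F` with
`KG a b F ⊓ omegaGL (QV G₁ G₂) ≤ M ≤ omegaGL (QV G₁ G₂)`.  Root side `B` (`5 ≤ b`), other side `A` (`3 ≤ a`).
`rootM K u v c` is the matrix of `x ↦ x + c (f(u,x) v - f(v,x) u)`.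
`HasS` / `HasL`: the two kinds of long root subgroups the local lemmas produce.
`MI Q M`: `M` pulled back to the isometry group (where the `InA` / `Good` calculus of helper5 lives).
-/

set_option autoImplicit false
set_option linter.unusedSectionVars false
set_option linter.unusedVariables false

namespace Cfsg.Agent.Lib.Helper5.UOG
open Matrix QuadraticMap Module
open Cfsg.Agent.Lib.Helper25.Tens Cfsg.Agent.Lib.Helper2.SOT Cfsg.Agent.Lib.Helper7.OTT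
  Cfsg.Agent.Lib.Helper25.CD Cfsg.Agent.Lib.Helper5.NSMax Cfsg.Agent.Lib.Helper5.PairMax
  Cfsg.Agent.Lib.Helper5.TSMax
open scoped Kronecker

variable {F : Type*} [Field F]

/-- the matrix of the long root element `x ↦ x + c (f(u,x) v - f(v,x) u)`, `f` = the form with Gram matrix `K` -/
def rootM {κ : Type} [Fintype κ] [DecidableEq κ] (K : Matrix κ κ F) (u v : κ → F) (c : F) :
    Matrix κ κ F :=
  1 + c • (vecMulVec v (K *ᵥ u) - vecMulVec u (K *ᵥ v))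

variable {a b : ℕ}

/-- the quadratic form of the model: `v ↦ (1/2) vᵀ (G₁ ⊗ G₂) v` -/
noncomputable abbrev QV (G₁ : Matrix (Fin a) (Fin a) F) (G₂ : Matrix (Fin b) (Fin b) F) :
    QuadraticForm F (Idx a b → F) := QG (G₁ ⊗ₖ G₂)

/-- branch (S): `x² ⊗ (y ∧ z)`, `x` singular in `A`, `⟨y,z⟩` a totally singular line of `B` -/
def HasS (G₁ : Matrix (Fin a) (Fin a) F) (G₂ : Matrix (Fin b) (Fin b) F)
    (M : Subgroup (GL (Idx a b) F)) : Prop :=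
  ∃ (x : Fin a → F) (y z : Fin b → F), x ≠ 0 ∧ fB G₁ x x = 0 ∧ y ≠ 0 ∧ fB G₂ y y = 0 ∧
    fB G₂ z z = 0 ∧ fB G₂ y z = 0 ∧ (∀ t : F, z ≠ t • y) ∧
    ∀ c : F, InM M (rootM (G₁ ⊗ₖ G₂) (pt x y) (pt x z) c)

/-- branch (L+): `(d ∧ e) ⊗ y²` for one nonsingular `d ∈ A` and all `e ⊥ d`, `y` singular in `B` -/
def HasL (G₁ : Matrix (Fin a) (Fin a) F) (G₂ : Matrix (Fin b) (Fin b) F)
    (M : Subgroup (GL (Idx a b) F)) : Prop :=
  ∃ (d : Fin a → F) (y : Fin b → F), fB G₁ d d ≠ 0 ∧ y ≠ 0 ∧ fB G₂ y y = 0 ∧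
    ∀ e : Fin a → F, fB G₁ d e = 0 → ∀ c : F, InM M (rootM (G₁ ⊗ₖ G₂) (pt d y) (pt e y) c)

/-- the growth context -/
structure GCtx [Fintype F] (G₁ : Matrix (Fin a) (Fin a) F) (G₂ : Matrix (Fin b) (Fin b) F)
    (M : Subgroup (GL (Idx a b) F)) : Prop where
  two : (2 : F) ≠ 0
  symA : G₁ᵀ = G₁
  symB : G₂ᵀ = G₂
  detA : G₁.det ≠ 0
  detB : G₂.det ≠ 0
  ha : 3 ≤ a
  hb : 5 ≤ b
  le : KG a b F ⊓ Cfsg.Geo.omegaGL ⇑(QV G₁ G₂) ≤ M
  le_om : M ≤ Cfsg.Geo.omegaGL ⇑(QV G₁ G₂)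

/-- `M` pulled back to the isometry group -/
def MI {ι : Type} [Fintype ι] [DecidableEq ι] (Q : QuadraticForm F (ι → F)) (M : Subgroup (GL ι F)) :
    Subgroup ↥(Cfsg.isometryGroup F ⇑Q) :=
  M.comap (Cfsg.isometryGroup F ⇑Q).subtype

section bridge
variable {ι : Type} [Fintype ι] [DecidableEq ι] (Q : QuadraticForm F (ι → F)) {M : Subgroup (GL ι F)}

theorem mem_MI {g : ↥(Cfsg.isometryGroup F ⇑Q)} : g ∈ MI Q M ↔ (g : GL ι F) ∈ M := Iff.rfl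

theorem MI_le_omega (hM : M ≤ Cfsg.Geo.omegaGL ⇑Q) : MI Q M ≤ Cfsg.Omega F ⇑Q := by
  intro g hg
  obtain ⟨g', hg', he⟩ := hM hg
  have : g' = g := Subtype.ext he
  rwa [← this]

theorem omegaGL_le_of_MI (h : Cfsg.Omega F ⇑Q ≤ MI Q M) : Cfsg.Geo.omegaGL ⇑Q ≤ M := by
  rintro _ ⟨g, hg, rfl⟩
  exact h hg

end bridge

/-- `w` lies in the root module `A(u)` of `u` relative to `M` -/
def IA {ι : Type} [Fintype ι] [DecidableEq ι] [Fintype F] (Q : QuadraticForm F (ι → F))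
    (M : Subgroup (GL ι F)) (u w : ι → F) : Prop :=
  InA Q (MI Q M) u w

end Cfsg.Agent.Lib.Helper5.UOG
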