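/-
S4700 + S0996 (planner helper27), wrapper leaf SLPSL `sl2_equiv_psl2_of_char_two` (frozen statement in
notes/S4700_F_leaves.lean): in characteristic 2, `SL₂(F) ≅ PSL₂(F)` (the centre is trivial).
-/
import Mathlib
import Cfsg.Prelude.Def_BlockRank
import Cfsg.Prelude.Def_CaseTheorems
import Cfsg.Agent.Lib.Helper27.BRWDefs

set_option autoImplicit false

namespace Cfsg.Agent.Lib.Helper5.BRWSLPSL

open Cfsg Cfsg.Agent.Lib.Helper27.BRW

universe u

/-- a finite field with `2^m` elements has `2 = 0` -/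
theorem two_eq_zero_of_card (F : Type) [Field F] [Fintype F] (m : ℕ) (hF : Fintype.card F = 2 ^ m) :
    (2 : F) = 0 := by
  have h := Nat.cast_card_eq_zero F
  rw [hF] at h
  push_cast at h
  exact pow_eq_zero_iff (n := m) (by
    intro hm
    subst hm
    have h2 : 1 < Fintype.card F := Fintype.one_lt_card
    rw [hF] at h2
    simp at h2) |>.mp h

/-- the centre of `SL₂(F)` is trivial in characteristic 2 -/
theorem center_sl2_eq_bot (F : Type) [Field F] (h2 : (2 : F) = 0) :
    Subgroup.center (Matrix.SpecialLinearGroup (Fin 2) F) = ⊥ := by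
  rw [Subgroup.eq_bot_iff_forall]
  intro A hA
  rw [Matrix.SpecialLinearGroup.mem_center_iff] at hA
  obtain ⟨r, hr, hA⟩ := hA
  have hr2 : r ^ 2 = 1 := by simpa using hr
  have h1 : (r - 1) ^ 2 = 0 := by
    have : (r - 1) ^ 2 = r ^ 2 - 2 * r + 1 := by ring
    rw [this, hr2, h2]
    ring_nf
    exact h2
  have hr1 : r = 1 := by
    have := pow_eq_zero_iff (n := 2) (by norm_num) |>.mp h1
    exact sub_eq_zero.mp this
  subst hr1
  apply Subtype.ext
  rw [← hA]
  simp

/-- **SLPSL** : in characteristic 2, `SL₂(F) ≅ PSL₂(F)`. -/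
theorem sl2_equiv_psl2_of_char_two (F : Type) [Field F] [Fintype F] (m : ℕ) (hF : Fintype.card F = 2 ^ m) :
    Nonempty (Matrix.SpecialLinearGroup (Fin 2) F ≃* Matrix.ProjectiveSpecialLinearGroup (Fin 2) F) := by
  have hc := center_sl2_eq_bot F (two_eq_zero_of_card F m hF)
  exact ⟨(QuotientGroup.quotientBot (G := Matrix.SpecialLinearGroup (Fin 2) F)).symm.trans
    (QuotientGroup.quotientMulEquivOfEq hc.symm)⟩

end Cfsg.Agent.Lib.Helper5.BRWSLPSL
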