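import Mathlib

set_option autoImplicit false

namespace Cfsg.Agent.Lib.Helper5.PFix

/-- A finite `p`-group acting linearly on a vector space over a field of characteristic `p`
(no finiteness assumption on the space or the field) fixes a nonzero vector in every nonzero
invariant subspace. -/
theorem exists_ne_zero_fixed_mem {F : Type*} [Field F] (p : ℕ) [hp : Fact p.Prime] [CharP F p]
    {G : Type*} [Group G] [Finite G] (hG : IsPGroup p G) {V : Type*} [AddCommGroup V] [Module F V]
    (ρ : Representation F G V) (W : Submodule F V) (hW : ∀ g, ∀ w ∈ W, ρ g w ∈ W) (hne : W ≠ ⊥) :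
    ∃ v ∈ W, v ≠ 0 ∧ ∀ g : G, ρ g v = v := by
  classical
  obtain ⟨w, hwW, hw0⟩ := (Submodule.ne_bot_iff W).mp hne
  set S : Set V := Set.range (fun g : G => ρ g w) with hS
  have hSfin : S.Finite := Set.finite_range _
  set U : AddSubgroup V := AddSubgroup.closure S with hU
  have hpV : ∀ v : V, p • v = 0 := by
    intro v
    rw [← Nat.cast_smul_eq_nsmul F p v, CharP.cast_eq_zero F p, zero_smul]
  have hUW : U ≤ W.toAddSubgroup := by
    rw [hU, AddSubgroup.closure_le]
    rintro _ ⟨g, rfl⟩
    exact hW g w hwW
  have hUinv : ∀ g : G, ∀ u ∈ U, ρ g u ∈ U := by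
    intro g u hu
    induction hu using AddSubgroup.closure_induction with
    | mem x hx =>
      obtain ⟨h, rfl⟩ := hx
      apply AddSubgroup.subset_closure
      refine ⟨g * h, ?_⟩
      simp only [map_mul, Module.End.mul_apply]
    | zero => rw [map_zero]; exact U.zero_mem
    | add x y _ _ hx hy => rw [map_add]; exact U.add_mem hx hy
    | neg x _ hx => rw [map_neg]; exact U.neg_mem hx
  have hfg : AddGroup.FG U := by
    rw [AddGroup.fg_iff_addSubgroup_fg]
    exact ⟨hSfin.toFinset, by rw [Set.Finite.coe_toFinset]⟩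
  have htor : AddMonoid.IsTorsion U := by
    intro u
    rw [isOfFinAddOrder_iff_nsmul_eq_zero]
    refine ⟨p, hp.out.pos, ?_⟩
    apply Subtype.ext
    rw [AddSubgroup.coe_nsmul, hpV]
    rfl
  have hfin : Finite U := AddCommGroup.finite_of_fg_torsion U htor
  have hwU : w ∈ U := by
    apply AddSubgroup.subset_closure
    exact ⟨1, by simp⟩
  have hcard : p ∣ Nat.card U := by
    have h1 : p • (⟨w, hwU⟩ : U) = 0 := by
      apply Subtype.ext
      rw [AddSubgroup.coe_nsmul, hpV]
      rfl
    have h2 : addOrderOf (⟨w, hwU⟩ : U) ∣ p := addOrderOf_dvd_of_nsmul_eq_zero h1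
    have h3 : addOrderOf (⟨w, hwU⟩ : U) ≠ 1 := by
      rw [Ne, AddMonoid.addOrderOf_eq_one_iff]
      intro h
      exact hw0 (congrArg Subtype.val h)
    have h4 : addOrderOf (⟨w, hwU⟩ : U) = p := by
      rcases (Nat.dvd_prime hp.out).mp h2 with h | h
      · exact absurd h h3
      · exact h
    rw [← h4]
    exact addOrderOf_dvd_natCard _
  let _ : MulAction G U :=
    { smul := fun g u => ⟨ρ g u.1, hUinv g u.1 u.2⟩
      one_smul := fun u => by
        apply Subtype.ext
        change ρ 1 u.1 = u.1
        simp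
      mul_smul := fun g h u => by
        apply Subtype.ext
        change ρ (g * h) u.1 = ρ g (ρ h u.1)
        simp }
  have hsmul : ∀ (g : G) (u : U), ((g • u : U) : V) = ρ g u.1 := fun g u => rfl
  have h0 : (0 : U) ∈ MulAction.fixedPoints G U := by
    intro g
    apply Subtype.ext
    rw [hsmul]
    simp
  obtain ⟨b, hb, hbne⟩ := hG.exists_fixed_point_of_prime_dvd_card_of_fixed_point U hcard h0
  refine ⟨b.1, hUW b.2, ?_, fun g => ?_⟩
  · intro h
    apply hbne
    apply Subtype.ext
    rw [h]; rfl
  · rw [← hsmul, hb g]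


/-- A Sylow `p`-subgroup of a finite group acting transitively on a set of `p`-power size is
itself transitive. -/
theorem sylow_transitive {G : Type*} [Group G] [Finite G] {p f : ℕ} [hp : Fact p.Prime]
    {Ω : Type*} [Finite Ω] [MulAction G Ω] [MulAction.IsPretransitive G Ω]
    (hcard : Nat.card Ω = p ^ f) (P : Sylow p G) (x y : Ω) :
    ∃ g ∈ (P : Subgroup G), g • x = y := by
  set H : Subgroup G := MulAction.stabilizer G x with hH
  have hHidx : H.index = p ^ f := by
    rw [hH, MulAction.index_stabilizer_of_transitive, hcard]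
  have h1 : (H ⊓ (P : Subgroup G)).index = H.relIndex P * (P : Subgroup G).index := by
    rw [← Subgroup.relIndex_mul_index (inf_le_right : H ⊓ (P : Subgroup G) ≤ P),
      Subgroup.inf_relIndex_right]
  have h2 : (H ⊓ (P : Subgroup G)).index = (P : Subgroup G).relIndex H * H.index := by
    rw [← Subgroup.relIndex_mul_index (inf_le_left : H ⊓ (P : Subgroup G) ≤ H),
      Subgroup.inf_relIndex_left]
  have h3 : p ^ f ∣ H.relIndex P * (P : Subgroup G).index := by
    rw [← h1, h2, hHidx]
    exact dvd_mul_left _ _
  have hcop : Nat.Coprime (p ^ f) (P : Subgroup G).index := by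
    apply Nat.Coprime.pow_left
    rw [Nat.Prime.coprime_iff_not_dvd hp.out]
    exact P.not_dvd_index
  have h4 : p ^ f ∣ H.relIndex P := hcop.dvd_of_dvd_mul_right h3
  have h5 : (MulAction.stabilizer (P : Subgroup G) x).index = H.relIndex P := by
    have : MulAction.stabilizer (P : Subgroup G) x = H.subgroupOf P := by
      ext g
      rw [MulAction.mem_stabilizer_iff, Subgroup.mem_subgroupOf, hH, MulAction.mem_stabilizer_iff]
      rfl
    rw [this]
    rfl
  have h6 : (MulAction.orbit (P : Subgroup G) x).ncard = Nat.card Ω := by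
    apply le_antisymm
    · rw [← Set.ncard_univ]
      exact Set.ncard_le_ncard (Set.subset_univ _) Set.finite_univ
    · rw [hcard, ← MulAction.index_stabilizer, h5]
      apply Nat.le_of_dvd _ h4
      have : (H.subgroupOf (P : Subgroup G)).FiniteIndex := inferInstance
      exact Nat.pos_of_ne_zero this.index_ne_zero
  have h7 : MulAction.orbit (P : Subgroup G) x = Set.univ := (Set.eq_univ_iff_ncard _).mpr h6
  have : y ∈ MulAction.orbit (P : Subgroup G) x := by rw [h7]; exact Set.mem_univ y
  obtain ⟨g, hg⟩ := this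
  exact ⟨g.1, g.2, hg⟩

end Cfsg.Agent.Lib.Helper5.PFix
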