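import Cfsg.Agent.Lib.Helper5.DecompNM

set_option autoImplicit false
set_option linter.unusedSectionVars false
set_option linter.unusedVariables false

/-!
# Orthogonal decompositions whose stabiliser in `Ω` is not maximal, II

Decompositions into four-dimensional spaces of plus type over the field with two elements
(each member is the orthogonal sum of two elliptic planes), coordinates, and the field facts
needed to apply the results of the first part.
-/

namespace Cfsg.Agent.Lib.Helper5.DecompNM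

open Module QuadraticMap Matrix Cfsg.Agent.Lib.Helper25.CD Cfsg.Agent.Lib.Helper25.Spin
open Cfsg.Agent.Lib.Helper25.Siegel Cfsg.Agent.Lib.Helper9.PlusPlane
open Cfsg.Agent.Lib.Helper9.FrameF3

section ell
variable {ι : Type} [Fintype ι] [DecidableEq ι] {F : Type*} [Field F] [Fintype F]
  {Q : QuadraticForm F (ι → F)} {t : ℕ} {D : Fin t → Submodule F (ι → F)}
  {a b c d : Fin t → ι → F}

/-- elliptic coordinates: every member is the orthogonal sum of the elliptic planes spanned by
`a i, b i` and by `c i, d i` -/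
structure EllCoords (Q : QuadraticForm F (ι → F)) (D : Fin t → Submodule F (ι → F))
    (a b c d : Fin t → ι → F) : Prop where
  a_mem : ∀ i, a i ∈ D i
  b_mem : ∀ i, b i ∈ D i
  c_mem : ∀ i, c i ∈ D i
  d_mem : ∀ i, d i ∈ D i
  qa : ∀ i, Q (a i) = 1
  qb : ∀ i, Q (b i) = 1
  qc : ∀ i, Q (c i) = 1
  qd : ∀ i, Q (d i) = 1
  ab : ∀ i, polar Q (a i) (b i) = 1
  cd : ∀ i, polar Q (c i) (d i) = 1
  ac : ∀ i, polar Q (a i) (c i) = 0
  ad : ∀ i, polar Q (a i) (d i) = 0
  bc : ∀ i, polar Q (b i) (c i) = 0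
  bd : ∀ i, polar Q (b i) (d i) = 0
  span : ∀ i, ∀ v ∈ D i, ∃ α β γ δ : F, v = (α • a i + β • b i) + (γ • c i + δ • d i)
  orth : ∀ i j, i ≠ j → Cfsg.Geo.AreOrthogonalFor (polar ⇑Q) (D i) (D j)

theorem EllCoords.q_ab (h : EllCoords Q D a b c d) (i : Fin t) (α β : F) :
    Q (α • a i + β • b i) = α * α + α * β + β * β := by
  rw [QuadraticMap.map_add (⇑Q), QuadraticMap.map_smul, QuadraticMap.map_smul, polar_smul_left,
    polar_smul_right, h.qa, h.qb, h.ab]
  simp only [smul_eq_mul]
  ring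

theorem EllCoords.q_cd (h : EllCoords Q D a b c d) (i : Fin t) (γ δ : F) :
    Q (γ • c i + δ • d i) = γ * γ + γ * δ + δ * δ := by
  rw [QuadraticMap.map_add (⇑Q), QuadraticMap.map_smul, QuadraticMap.map_smul, polar_smul_left,
    polar_smul_right, h.qc, h.qd, h.cd]
  simp only [smul_eq_mul]
  ring

theorem EllCoords.polar_ab_cd (h : EllCoords Q D a b c d) (i : Fin t) (α β γ δ : F) :
    polar Q (α • a i + β • b i) (γ • c i + δ • d i) = 0 := by
  simp only [polar_add_left, polar_add_right, polar_smul_left, polar_smul_right, h.ac, h.ad,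
    h.bc, h.bd, smul_eq_mul, mul_zero, add_zero]

theorem EllCoords.q_mem (h : EllCoords Q D a b c d) (i : Fin t) (α β γ δ : F) :
    Q ((α • a i + β • b i) + (γ • c i + δ • d i)) =
      (α * α + α * β + β * β) + (γ * γ + γ * δ + δ * δ) := by
  rw [QuadraticMap.map_add (⇑Q), h.q_ab, h.q_cd, h.polar_ab_cd, add_zero]

theorem EllCoords.polar_a_mem (h : EllCoords Q D a b c d) (h2 : (2 : F) = 0) (i : Fin t)
    (α β γ δ : F) :
    polar Q (a i) ((α • a i + β • b i) + (γ • c i + δ • d i)) = β := by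
  simp only [polar_add_right, polar_smul_right, polar_self'' Q, h.qa, h.ab, h.ac, h.ad,
    smul_eq_mul]
  linear_combination α * h2

theorem EllCoords.polar_b_mem (h : EllCoords Q D a b c d) (h2 : (2 : F) = 0) (i : Fin t)
    (α β γ δ : F) :
    polar Q (b i) ((α • a i + β • b i) + (γ • c i + δ • d i)) = α := by
  have hba : polar Q (b i) (a i) = 1 := by rw [polar_comm]; exact h.ab i
  simp only [polar_add_right, polar_smul_right, polar_self'' Q, h.qb, hba, h.bc, h.bd,
    smul_eq_mul]
  linear_combination β * h2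

theorem N_cases (h2 : (2 : F) = 0) (hF : ∀ x : F, x = 0 ∨ x = 1) (α β : F) :
    (α = 0 ∧ β = 0) ∨ α * α + α * β + β * β = 1 := by
  rcases hF α with rfl | rfl <;> rcases hF β with rfl | rfl
  · exact Or.inl ⟨rfl, rfl⟩
  · right; ring
  · right; ring
  · right; linear_combination h2

/-- The Siegel element exchanging an elliptic plane of the member `i0` with one of the member
`i1` maps norm-one vectors of the member `i0` to norm-one vectors of members. -/
theorem EllCoords.swap_maps (h : EllCoords Q D a b c d) (h2 : (2 : F) = 0)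
    (hF : ∀ x : F, x = 0 ∨ x = 1) {i0 i1 : Fin t} (h01 : i0 ≠ i1) {x : ι → F} (hx : x ∈ D i0)
    (hq : Q x = 1) :
    x + (1 : F) • (polar Q (a i0 + a i1) x • (b i0 + b i1) -
      polar Q (b i0 + b i1) x • (a i0 + a i1)) ∈ normSet Q D := by
  obtain ⟨α, β, γ, δ, rfl⟩ := h.span i0 x hx
  rw [h.q_mem] at hq
  have pa : polar Q (a i0 + a i1) ((α • a i0 + β • b i0) + (γ • c i0 + δ • d i0)) = β := by
    rw [polar_add_left, h.polar_a_mem h2, h.orth i1 i0 h01.symm _ (h.a_mem i1) _ hx, add_zero]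
  have pb : polar Q (b i0 + b i1) ((α • a i0 + β • b i0) + (γ • c i0 + δ • d i0)) = α := by
    rw [polar_add_left, h.polar_b_mem h2, h.orth i1 i0 h01.symm _ (h.b_mem i1) _ hx, add_zero]
  rw [pa, pb, one_smul]
  rcases N_cases h2 hF α β with ⟨rfl, rfl⟩ | hN
  · have e : (0 : F) • a i0 + (0 : F) • b i0 + (γ • c i0 + δ • d i0) +
        ((0 : F) • (b i0 + b i1) - (0 : F) • (a i0 + a i1)) =
        (0 : F) • a i0 + (0 : F) • b i0 + (γ • c i0 + δ • d i0) := by
      simp
    rw [e]
    exact ⟨i0, hx, by rw [h.q_mem]; exact hq⟩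
  · rcases N_cases h2 hF γ δ with ⟨rfl, rfl⟩ | hN'
    · have e : α • a i0 + β • b i0 + ((0 : F) • c i0 + (0 : F) • d i0) +
          (β • (b i0 + b i1) - α • (a i0 + a i1)) =
          (α • a i1 + β • b i1) + (2 : F) • (β • b i0 - α • a i1) := by
        module
      rw [e, h2, zero_smul, add_zero]
      exact ⟨i1, (D i1).add_mem ((D i1).smul_mem _ (h.a_mem i1)) ((D i1).smul_mem _ (h.b_mem i1)),
        by rw [h.q_ab]; exact hN⟩
    · exfalso
      rw [hN, hN'] at hq
      have h10 : (1 : F) = 0 := by linear_combination h2 - hq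
      exact one_ne_zero h10

/-- Decompositions into four-dimensional spaces of plus type over the field with two elements. -/
theorem EllCoords.mainG (h : EllCoords Q D a b c d) (hQ : (polarBilin Q).Nondegenerate)
    (hn : 7 ≤ Fintype.card ι) (h2 : (2 : F) = 0) (hF : ∀ x : F, x = 0 ∨ x = 1)
    (i0 i1 : Fin t) (h01 : i0 ≠ i1) :
    ∃ K : Subgroup (GL ι F), Cfsg.Geo.decompositionStabilizer D ⊓ Cfsg.Geo.omegaGL ⇑Q < K ∧
      K < Cfsg.Geo.omegaGL ⇑Q := by
  have h10 := h01.symm
  have o : ∀ {x y : ι → F}, x ∈ D i0 → y ∈ D i1 → polar Q x y = 0 :=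
    fun hx hy => h.orth i0 i1 h01 _ hx _ hy
  have o' : ∀ {x y : ι → F}, x ∈ D i1 → y ∈ D i0 → polar Q x y = 0 :=
    fun hx hy => h.orth i1 i0 h10 _ hx _ hy
  have hac0 : a i0 + c i0 ∈ D i0 := (D i0).add_mem (h.a_mem i0) (h.c_mem i0)
  have hac1 : a i1 + c i1 ∈ D i1 := (D i1).add_mem (h.a_mem i1) (h.c_mem i1)
  have hqu1 : Q (a i0 + a i1) = 0 := by
    rw [QuadraticMap.map_add (⇑Q), h.qa, h.qa, o (h.a_mem _) (h.a_mem _)]
    linear_combination h2
  have hqu2 : Q (b i0 + b i1) = 0 := by
    rw [QuadraticMap.map_add (⇑Q), h.qb, h.qb, o (h.b_mem _) (h.b_mem _)]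
    linear_combination h2
  have hu12 : polar Q (a i0 + a i1) (b i0 + b i1) = 0 := by
    rw [polar_add_left, polar_add_right, polar_add_right, h.ab, h.ab,
      o (h.a_mem _) (h.b_mem _), o' (h.a_mem _) (h.b_mem _)]
    linear_combination h2
  have hqw1 : Q (a i0 + c i0) = 0 := by
    rw [QuadraticMap.map_add (⇑Q), h.qa, h.qc, h.ac]
    linear_combination h2
  have hqw2 : Q (a i1 + c i1) = 0 := by
    rw [QuadraticMap.map_add (⇑Q), h.qa, h.qc, h.ac]
    linear_combination h2
  have hw12 : polar Q (a i0 + c i0) (a i1 + c i1) = 0 := o hac0 hac1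
  refine exists_between Q D (normSet Q D) (fun g hg v hv => decompStab_maps_normSet Q hg hv)
    ((siegG Q (a i0 + a i1) (b i0 + b i1) 1 hqu1 hqu2 hu12 : ↥(Cfsg.isometryGroup F ⇑Q)) :
      GL ι F)
    ((siegG Q (a i0 + c i0) (a i1 + c i1) 1 hqw1 hqw2 hw12 : ↥(Cfsg.isometryGroup F ⇑Q)) :
      GL ι F)
    ?_ (sieg_mem_omegaGL Q hQ hn _ _ 1 hqu1 hqu2 hu12) ?_
    (sieg_mem_omegaGL Q hQ hn _ _ 1 hqw1 hqw2 hw12) (v₂ := b i0) ⟨i0, h.b_mem i0, h.qb i0⟩ ?_
  · apply mem_stabilizing_of_mapsTo
    rintro x ⟨j, hxj, hq⟩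
    rw [sieg_mulVec]
    by_cases hj0 : j = i0
    · rw [hj0] at hxj
      exact h.swap_maps h2 hF h01 hxj hq
    · by_cases hj1 : j = i1
      · rw [hj1] at hxj
        rw [add_comm (a i0) (a i1), add_comm (b i0) (b i1)]
        exact h.swap_maps h2 hF h10 hxj hq
      · have p1 : polar Q (a i0 + a i1) x = 0 := by
          rw [polar_add_left, h.orth i0 j (Ne.symm hj0) _ (h.a_mem _) _ hxj,
            h.orth i1 j (Ne.symm hj1) _ (h.a_mem _) _ hxj, add_zero]
        have p2 : polar Q (b i0 + b i1) x = 0 := by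
          rw [polar_add_left, h.orth i0 j (Ne.symm hj0) _ (h.b_mem _) _ hxj,
            h.orth i1 j (Ne.symm hj1) _ (h.b_mem _) _ hxj, add_zero]
        rw [p1, p2]
        have e : x + (1 : F) • ((0 : F) • (b i0 + b i1) - (0 : F) • (a i0 + a i1)) = x := by
          simp
        rw [e]
        exact ⟨j, hxj, hq⟩
  · apply not_mem_decompStab (v := a i0 + c i0) (i := i0) hac0
    have hval : (((siegG Q (a i0 + a i1) (b i0 + b i1) 1 hqu1 hqu2 hu12 :
        ↥(Cfsg.isometryGroup F ⇑Q)) : GL ι F) : Matrix ι ι F) *ᵥ (a i0 + c i0) =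
        c i0 - a i1 := by
      have p1 : polar Q (a i0 + a i1) (a i0 + c i0) = 2 := by
        rw [polar_add_left, polar_add_right, polar_self'' Q, h.qa, h.ac, o' (h.a_mem i1) hac0]
        ring
      have p2 : polar Q (b i0 + b i1) (a i0 + c i0) = 1 := by
        rw [polar_add_left, polar_add_right, polar_comm Q (b i0) (a i0), h.ab, h.bc,
          o' (h.b_mem i1) hac0]
        ring
      rw [sieg_mulVec, one_smul, p1, p2, h2]
      module
    intro j
    rw [hval]
    refine not_mem_member Q h.orth h01 (h.d_mem i0) (h.b_mem i1) ?_ ?_ j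
    · rw [polar_sub_left, h.cd, o' (h.a_mem i1) (h.d_mem i0), sub_zero]
      exact one_ne_zero
    · rw [polar_sub_left, o (h.c_mem i0) (h.b_mem i1), h.ab, zero_sub]
      exact neg_ne_zero.2 one_ne_zero
  · have hval : (((siegG Q (a i0 + c i0) (a i1 + c i1) 1 hqw1 hqw2 hw12 :
        ↥(Cfsg.isometryGroup F ⇑Q)) : GL ι F) : Matrix ι ι F) *ᵥ b i0 =
        b i0 + (a i1 + c i1) := by
      have p1 : polar Q (a i0 + c i0) (b i0) = 1 := by
        rw [polar_add_left, h.ab, polar_comm Q (c i0) (b i0), h.bc, add_zero]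
      have p2 : polar Q (a i1 + c i1) (b i0) = 0 := o' hac1 (h.b_mem i0)
      rw [sieg_mulVec, one_smul, p1, p2]
      module
    rw [hval]
    rintro ⟨j, hj, -⟩
    refine not_mem_member Q h.orth h01 (h.a_mem i0) (h.b_mem i1) ?_ ?_ j hj
    · rw [polar_add_left, polar_comm Q (b i0) (a i0), h.ab, o' hac1 (h.a_mem i0), add_zero]
      exact one_ne_zero
    · rw [polar_add_left, o (h.b_mem i0) (h.b_mem i1), polar_add_left, h.ab,
        polar_comm Q (c i1) (b i1), h.bc, zero_add, add_zero]
      exact one_ne_zero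

end ell

section coords
variable {F : Type*} [Field F] {V : Type*} [AddCommGroup V] [Module F V]
  [FiniteDimensional F V] (Q : QuadraticForm F V)

open Cfsg.Agent.Lib.Helper15 in
/-- A four-dimensional nondegenerate space of plus type has a hyperbolic basis. -/
theorem exists_hyp4 (W : Submodule F V) (hdim : finrank F W = 4) (hW : NdOn Q W)
    (U : Submodule F V) (hUW : U ≤ W) (hU : ∀ u ∈ U, Q u = 0) (hUd : finrank F U = 2) :
    ∃ e f e' f' : V, e ∈ W ∧ f ∈ W ∧ e' ∈ W ∧ f' ∈ W ∧ HP Q e f ∧ HP Q e' f' ∧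
      polar Q e e' = 0 ∧ polar Q e f' = 0 ∧ polar Q f e' = 0 ∧ polar Q f f' = 0 ∧
      ∀ v ∈ W, ∃ x y x' y' : F, v = (x • e + y • f) + (x' • e' + y' • f') := by
  have hUne : U ≠ ⊥ := by
    intro h0
    rw [h0, finrank_bot] at hUd
    omega
  obtain ⟨e, heU, he0⟩ := Submodule.exists_mem_ne_zero_of_ne_bot hUne
  have heW := hUW heU
  have hqe := hU e heU
  obtain ⟨f, hfW, hqf, hef⟩ := exists_hyp_partner Q W hW heW he0 hqe
  have hW' := perpPair_nd Q W hW heW hfW hqe hqf hef
  have hdim' := perpPair_finrank Q W heW hfW hqe hqf hef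
  -- a nonzero vector of `U` orthogonal to `f`
  have hker : LinearMap.ker ((polarBilin Q f).comp U.subtype) ≠ ⊥ := by
    apply LinearMap.ker_ne_bot_of_finrank_lt
    rw [finrank_self, hUd]
    norm_num
  obtain ⟨x, hxker, hx0⟩ := Submodule.exists_mem_ne_zero_of_ne_bot hker
  have hfx : polar Q f (x : V) = 0 := by
    have := LinearMap.mem_ker.1 hxker
    simpa [polarBilin_apply_apply] using this
  have hx0' : (x : V) ≠ 0 := fun h0 => hx0 (Subtype.ext h0)
  have hex : polar Q e (x : V) = 0 := by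
    unfold polar
    rw [hU _ (U.add_mem heU x.2), hqe, hU _ x.2]
    ring
  have hxW' : (x : V) ∈ perpPair Q W e f := by
    rw [mem_perpPair]
    exact ⟨hUW x.2, hex, hfx⟩
  obtain ⟨e', f', he'W', hf'W', hp', hspan'⟩ := exists_hp (Q := Q) (perpPair Q W e f) (by omega)
    (fun w hw hw0 => by
      by_contra hcon
      push Not at hcon
      exact hw0 (hW' w hw (fun w' hw' => by rw [polar_comm]; exact hcon w' hw')))
    (Submodule.span F {(x : V)})
    (by rw [Submodule.span_singleton_le_iff_mem]; exact hxW')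
    (by
      intro u hu
      obtain ⟨r, rfl⟩ := Submodule.mem_span_singleton.1 hu
      rw [QuadraticMap.map_smul, hU _ x.2, smul_zero])
    (finrank_span_singleton hx0')
  rw [mem_perpPair] at he'W' hf'W'
  obtain ⟨he'W, hee', hfe'⟩ := he'W'
  obtain ⟨hf'W, hef', hff'⟩ := hf'W'
  refine ⟨e, f, e', f', heW, hfW, he'W, hf'W, ⟨hqe, hqf, hef⟩, hp', hee', hef', hfe', hff', ?_⟩
  intro v hv
  have hv' : v - polar Q v f • e - polar Q v e • f ∈ perpPair Q W e f := by
    rw [mem_perpPair]
    refine ⟨W.sub_mem (W.sub_mem hv (W.smul_mem _ heW)) (W.smul_mem _ hfW), ?_, ?_⟩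
    · rw [polar_sub_right, polar_sub_right, polar_smul_right, polar_smul_right,
        polar_self_of_singular Q hqe, hef, polar_comm Q e v]
      simp
    · rw [polar_sub_right, polar_sub_right, polar_smul_right, polar_smul_right,
        polar_self_of_singular Q hqf, polar_comm Q f e, hef, polar_comm Q f v]
      simp
  obtain ⟨x', y', hxy⟩ := hspan' _ hv'
  refine ⟨polar Q v f, polar Q v e, x', y', ?_⟩
  rw [← hxy]
  abel

/-- In characteristic two a hyperbolic basis of a four-dimensional space yields two orthogonal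
elliptic planes spanning it. -/
theorem ell_of_hyp (h2 : (2 : F) = 0) {W : Submodule F V} {e f e' f' : V} (heW : e ∈ W)
    (hfW : f ∈ W) (he'W : e' ∈ W) (hf'W : f' ∈ W) (hp : HP Q e f) (hp' : HP Q e' f')
    (hee' : polar Q e e' = 0) (hef' : polar Q e f' = 0) (hfe' : polar Q f e' = 0)
    (hff' : polar Q f f' = 0)
    (hspan : ∀ v ∈ W, ∃ x y x' y' : F, v = (x • e + y • f) + (x' • e' + y' • f')) :
    ∃ a b c d : V, a ∈ W ∧ b ∈ W ∧ c ∈ W ∧ d ∈ W ∧ Q a = 1 ∧ Q b = 1 ∧ Q c = 1 ∧ Q d = 1 ∧
      polar Q a b = 1 ∧ polar Q c d = 1 ∧ polar Q a c = 0 ∧ polar Q a d = 0 ∧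
      polar Q b c = 0 ∧ polar Q b d = 0 ∧
      ∀ v ∈ W, ∃ α β γ δ : F, v = (α • a + β • b) + (γ • c + δ • d) := by
  have hs : Q (e + f) = 1 := by
    rw [QuadraticMap.map_add (⇑Q), hp.qe, hp.qf, hp.ef]
    ring
  have hs' : Q (e' + f') = 1 := by
    rw [QuadraticMap.map_add (⇑Q), hp'.qe, hp'.qf, hp'.ef]
    ring
  have v1 := hp.ee
  have v2 := hp.ef
  have v3 := hp.fe
  have v4 := hp.ff
  have v5 := hp'.ee
  have v6 := hp'.ef
  have v7 := hp'.fe
  have v8 := hp'.ff
  have w1 : polar Q e' e = 0 := by rw [polar_comm]; exact hee'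
  have w2 : polar Q f' e = 0 := by rw [polar_comm]; exact hef'
  have w3 : polar Q e' f = 0 := by rw [polar_comm]; exact hfe'
  have w4 : polar Q f' f = 0 := by rw [polar_comm]; exact hff'
  refine ⟨e + f + e', e + f + f', e' + f' + e, e' + f' + f,
    W.add_mem (W.add_mem heW hfW) he'W, W.add_mem (W.add_mem heW hfW) hf'W,
    W.add_mem (W.add_mem he'W hf'W) heW, W.add_mem (W.add_mem he'W hf'W) hfW,
    ?_, ?_, ?_, ?_, ?_, ?_, ?_, ?_, ?_, ?_, ?_⟩
  · rw [QuadraticMap.map_add (⇑Q), hs, hp'.qe, polar_add_left, hee', hfe']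
    ring
  · rw [QuadraticMap.map_add (⇑Q), hs, hp'.qf, polar_add_left, hef', hff']
    ring
  · rw [QuadraticMap.map_add (⇑Q), hs', hp.qe, polar_add_left, w1, w2]
    ring
  · rw [QuadraticMap.map_add (⇑Q), hs', hp.qf, polar_add_left, w3, w4]
    ring
  · simp only [polar_add_left, polar_add_right, v1, v2, v3, v4, v5, v6, v7, v8, w1, w2, w3, w4,
      hee', hef', hfe', hff']
    linear_combination h2
  · simp only [polar_add_left, polar_add_right, v1, v2, v3, v4, v5, v6, v7, v8, w1, w2, w3, w4,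
      hee', hef', hfe', hff']
    linear_combination h2
  · simp only [polar_add_left, polar_add_right, v1, v2, v3, v4, v5, v6, v7, v8, w1, w2, w3, w4,
      hee', hef', hfe', hff']
    linear_combination h2
  · simp only [polar_add_left, polar_add_right, v1, v2, v3, v4, v5, v6, v7, v8, w1, w2, w3, w4,
      hee', hef', hfe', hff']
    linear_combination h2
  · simp only [polar_add_left, polar_add_right, v1, v2, v3, v4, v5, v6, v7, v8, w1, w2, w3, w4,
      hee', hef', hfe', hff']
    linear_combination h2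
  · simp only [polar_add_left, polar_add_right, v1, v2, v3, v4, v5, v6, v7, v8, w1, w2, w3, w4,
      hee', hef', hfe', hff']
    linear_combination h2
  · intro v hv
    obtain ⟨x, y, x', y', rfl⟩ := hspan v hv
    have key : (x • e + y • f) + (x' • e' + y' • f') +
        (2 : F) • ((x + y + x' + y') • (e + f + e' + f')) =
        ((x + y + x') • (e + f + e') + (x + y + y') • (e + f + f')) +
        ((x + x' + y') • (e' + f' + e) + (y + x' + y') • (e' + f' + f)) := by
      module
    rw [h2, zero_smul, add_zero] at key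
    exact ⟨_, _, _, _, key⟩

end coords

section fields
variable {F : Type*} [Field F] [Fintype F]

theorem two_eq_zero_of_card (hq : Fintype.card F = 2) : (2 : F) = 0 := by
  have := Nat.cast_card_eq_zero F
  rw [hq] at this
  exact_mod_cast this

theorem two_eq_zero_of_card4 (hq : Fintype.card F = 4) : (2 : F) = 0 := by
  have h4 := Nat.cast_card_eq_zero F
  rw [hq] at h4
  have h4' : (2 : F) * 2 = 0 := by
    have h44 : (4 : F) = 0 := by exact_mod_cast h4
    linear_combination h44
  exact mul_self_eq_zero.1 h4'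

theorem five_eq_zero_of_card (hq : Fintype.card F = 5) : (5 : F) = 0 := by
  have := Nat.cast_card_eq_zero F
  rw [hq] at this
  exact_mod_cast this

theorem eq_zero_or_one_of_card (hq : Fintype.card F = 2) (x : F) : x = 0 ∨ x = 1 := by
  by_cases hx : x = 0
  · exact Or.inl hx
  · right
    have := FiniteField.pow_card_sub_one_eq_one x hx
    rw [hq] at this
    simpa using this

theorem pow_four_of_card (hq : Fintype.card F = 5) (x : F) (hx : x ≠ 0) : x ^ 4 = 1 := by
  have := FiniteField.pow_card_sub_one_eq_one x hx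
  rw [hq] at this
  simpa using this

theorem hZ2_of_card (hq : Fintype.card F = 2 ∨ Fintype.card F = 3 ∨ Fintype.card F = 4) :
    ∀ z : F, z ≠ 0 → z ≠ -1 → z * z + z + 1 = 0 := by
  intro z hz0 hz1
  rcases hq with hq | hq | hq
  · exfalso
    rcases eq_zero_or_one_of_card hq z with h | h
    · exact hz0 h
    · apply hz1
      rw [h]
      linear_combination two_eq_zero_of_card hq
  · rcases cases3 hq z with h | h | h
    · exact absurd h hz0
    · rw [h]
      linear_combination three_eq_zero hq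
    · exact absurd h hz1
  · have h3 := FiniteField.pow_card_sub_one_eq_one z hz0
    rw [hq] at h3
    have h3' : z ^ 3 = 1 := by simpa using h3
    have h2 := two_eq_zero_of_card4 hq
    have hne : z - 1 ≠ 0 := by
      intro h
      apply hz1
      have h1 : z = 1 := sub_eq_zero.1 h
      rw [h1]
      linear_combination h2
    have h0 : (z - 1) * (z * z + z + 1) = 0 := by linear_combination h3'
    exact (mul_eq_zero.1 h0).resolve_left hne

end fields

section assemble
variable {ι : Type} [Fintype ι] [DecidableEq ι] {F : Type*} [Field F] [Fintype F]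
  (Q : QuadraticForm F (ι → F))

theorem dim_eq {t k : ℕ} {D : Fin t → Submodule F (ι → F)}
    (hD : Cfsg.Geo.IsMDecomposition k D) : t * k = Fintype.card ι := by
  classical
  have hint := DirectSum.isInternal_submodule_of_iSupIndep_of_iSup_eq_top hD.indep hD.iSup_eq_top
  have h := Module.finrank_eq_card_basis
    (hint.collectedBasis fun i => Module.finBasisOfFinrankEq F (D i) (hD.finrank_eq i))
  rw [Module.finrank_fintype_fun_eq_card] at h
  rw [h]
  simp

theorem plusType_of_isometric {W W' : Submodule F (ι → F)}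
    (hiso : Cfsg.Geo.AreIsometricFor ⇑Q W W') (hW : Cfsg.Geo.IsPlusTypeOn ⇑Q W) :
    Cfsg.Geo.IsPlusTypeOn ⇑Q W' := by
  obtain ⟨E, hE⟩ := hiso
  obtain ⟨U, hUW, hU, hUd⟩ := hW
  have hφ : Function.Injective (W'.subtype ∘ₗ E.toLinearMap) :=
    W'.subtype_injective.comp E.injective
  refine ⟨(U.comap W.subtype).map (W'.subtype ∘ₗ E.toLinearMap), ?_, ?_, ?_⟩
  · rintro _ ⟨w, -, rfl⟩
    exact (E w).2
  · rintro _ ⟨w, hw, rfl⟩
    show Q ((E w : W') : ι → F) = 0
    rw [hE]
    exact hU _ hw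
  · rw [← (Submodule.equivMapOfInjective _ hφ _).finrank_eq,
      (Submodule.comapSubtypeEquivOfLe hUW).finrank_eq, hUd, E.finrank_eq]

end assemble

end Cfsg.Agent.Lib.Helper5.DecompNM
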