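import Mathlib
import Cfsg.Prelude.Def_ClassicalGeometry

set_option autoImplicit false

namespace Cfsg.Agent.Lib.Helper5

open Matrix

variable {F : Type*} [Field F] {ι : Type} [Fintype ι] [DecidableEq ι]

theorem polarVec_dot (Q : QuadraticForm F (ι → F)) (v x : ι → F) :
    Cfsg.polarVec (⇑Q) v ⬝ᵥ x = QuadraticMap.polar (⇑Q) v x := by
  have h := LinearMap.pi_apply_eq_sum_univ (QuadraticMap.polarBilin Q v) x
  rw [QuadraticMap.polarBilin_apply_apply] at h
  rw [h, dotProduct]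
  apply Finset.sum_congr rfl
  intro i _
  unfold Cfsg.polarVec
  rw [smul_eq_mul, mul_comm, QuadraticMap.polarBilin_apply_apply]
  congr 2
  funext j
  rw [Pi.single_apply]
  by_cases hij : i = j
  · subst hij; simp
  · rw [if_neg hij, if_neg (Ne.symm hij)]

theorem reflectionMatrix_mulVec (Q : QuadraticForm F (ι → F)) (v x : ι → F) :
    Cfsg.reflectionMatrix (⇑Q) v *ᵥ x = x - ((Q v)⁻¹ * QuadraticMap.polar (⇑Q) v x) • v := by
  unfold Cfsg.reflectionMatrix
  rw [Matrix.sub_mulVec, Matrix.one_mulVec, Matrix.smul_mulVec, Matrix.vecMulVec_mulVec,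
    polarVec_dot]
  congr 1
  ext i
  simp only [Pi.smul_apply, smul_eq_mul, MulOpposite.smul_eq_mul_unop, MulOpposite.unop_op]
  ring

theorem reflection_preserves (Q : QuadraticForm F (ι → F)) (v : ι → F) (hv : Q v ≠ 0)
    (x : ι → F) : Q (Cfsg.reflectionMatrix (⇑Q) v *ᵥ x) = Q x := by
  rw [reflectionMatrix_mulVec, sub_eq_add_neg, ← neg_smul, QuadraticMap.map_add Q,
    QuadraticMap.map_smul, QuadraticMap.polar_smul_right, QuadraticMap.polar_comm]
  simp only [smul_eq_mul]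
  field_simp
  ring

theorem reflection_self (Q : QuadraticForm F (ι → F)) (v : ι → F) (hv : Q v ≠ 0) :
    Cfsg.reflectionMatrix (⇑Q) v *ᵥ v = -v := by
  rw [reflectionMatrix_mulVec, QuadraticMap.polar_self, nsmul_eq_mul]
  have : (Q v)⁻¹ * ((2 : ℕ) * Q v) = 2 := by
    field_simp
    norm_num
  rw [this, two_smul]
  abel

theorem reflection_fix (Q : QuadraticForm F (ι → F)) (v x : ι → F)
    (hx : QuadraticMap.polar (⇑Q) v x = 0) :
    Cfsg.reflectionMatrix (⇑Q) v *ᵥ x = x := by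
  rw [reflectionMatrix_mulVec, hx, mul_zero, zero_smul, sub_zero]

theorem reflection_det (Q : QuadraticForm F (ι → F)) (v : ι → F) (hv : Q v ≠ 0) :
    (Cfsg.reflectionMatrix (⇑Q) v).det = -1 := by
  unfold Cfsg.reflectionMatrix
  have h1 : (1 : Matrix ι ι F) - (Q v)⁻¹ • Matrix.vecMulVec v (Cfsg.polarVec (⇑Q) v)
      = 1 + Matrix.replicateCol Unit (-(Q v)⁻¹ • v) *
          Matrix.replicateRow Unit (Cfsg.polarVec (⇑Q) v) := by
    rw [← Matrix.vecMulVec_eq Unit, Matrix.smul_vecMulVec, sub_eq_add_neg, neg_smul]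
  rw [h1, Matrix.det_one_add_replicateCol_mul_replicateRow, dotProduct_smul, polarVec_dot,
    QuadraticMap.polar_self, nsmul_eq_mul, smul_eq_mul]
  field_simp
  norm_num

end Cfsg.Agent.Lib.Helper5
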