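import Mathlib
import Cfsg.Agent.Lib.Helper11.Om2Tools

/-! Helper5: S2146 (OM2 market), leaf IR (base file): the relation `Rel` on `L = l^⊥` for a totally singular
line `l = {0, x, y, x + y}` all of whose points are of type A, and its properties R1-R7. -/

set_option autoImplicit false

open Cfsg.Agent.Lib.Helper11.Om2 MulAction
open scoped Pointwise

namespace Cfsg.Agent.Lib.Helper5.Om2Leaf

variable {F V G : Type*} [Field F] [AddCommGroup V] [Module F V] [Group G] [DistribMulAction G V]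
  (S : Setting F V G)

/-- `w ∈ L = l^⊥` for the line `l = ⟨x, y⟩`. -/
def InL (x y w : V) : Prop := S.B x w = 0 ∧ S.B y w = 0

/-- `a ∈ l = {0, x, y, x + y}`. -/
def InLn (x y a : V) : Prop := a = 0 ∨ a = x ∨ a = y ∨ a = x + y

/-- the relation: `w, a ∈ L` and `sg y w * sg x a ∈ H`. -/
def Rel (H : Subgroup G) (x y w a : V) : Prop :=
  InL S x y w ∧ InL S x y a ∧ S.sg y w * S.sg x a ∈ H

/-- a totally singular line all of whose points are of type A. -/
structure LineA (H : Subgroup G) (x y : V) : Prop where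
  hxy : S.B x y = 0
  hne : x ≠ y
  Ax : S.IsA H x
  Ay : S.IsA H y
  Axy : S.IsA H (x + y)

section basics

variable {S} {H : Subgroup G} {x y : V}

theorem InL.add {w w' : V} (hw : InL S x y w) (hw' : InL S x y w') : InL S x y (w + w') :=
  ⟨by rw [S.Badd_right, hw.1, hw'.1, add_zero], by rw [S.Badd_right, hw.2, hw'.2, add_zero]⟩

theorem InL.zero : InL S x y 0 := ⟨S.Bzero_right x, S.Bzero_right y⟩

theorem InL.fsmul {w : V} (hw : InL S x y w) (c : F) : InL S x y (c • w) :=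
  ⟨by rw [S.Bsmul_right, hw.1, mul_zero], by rw [S.Bsmul_right, hw.2, mul_zero]⟩

/-- `B (x + y) w = 0` for `w ∈ L`. -/
theorem InL.hsw {w : V} (hw : InL S x y w) : S.B (x + y) w = 0 := by
  rw [S.Badd_left, hw.1, hw.2, add_zero]

theorem InL.smul {w : V} (hw : InL S x y w) {g : G} (hgx : g • x = x) (hgy : g • y = y) :
    InL S x y (g • w) := by
  constructor
  · have := S.iso g x w
    rw [hgx] at this
    rw [this, hw.1]
  · have := S.iso g y w
    rw [hgy] at this
    rw [this, hw.2]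

theorem InL.smul' {w : V} (hw : InL S x y w) {g : G} (hgx : g • x = x) (hgy : g • y = x + y) :
    InL S x y (g • w) := by
  have h1 : S.B x (g • w) = 0 := by
    have := S.iso g x w
    rw [hgx] at this
    rw [this, hw.1]
  refine ⟨h1, ?_⟩
  have := S.iso g y w
  rw [hgy, S.Badd_left, h1, zero_add] at this
  rw [this, hw.2]

namespace LineA

variable (h : LineA S H x y)
include h

theorem hx : S.Q x = 0 := h.Ax.2.1
theorem hy : S.Q y = 0 := h.Ay.2.1
theorem hx0 : x ≠ 0 := h.Ax.1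
theorem hy0 : y ≠ 0 := h.Ay.1
theorem hyx : S.B y x = 0 := by rw [S.B_symm]; exact h.hxy
theorem hs : S.Q (x + y) = 0 := h.Axy.2.1
theorem hsx : S.B (x + y) x = 0 := by rw [S.Badd_left, S.alt, h.hyx, add_zero]
theorem hsy : S.B (x + y) y = 0 := by rw [S.Badd_left, S.alt, h.hxy, zero_add]

theorem inL_x : InL S x y x := ⟨S.alt x, h.hyx⟩
theorem inL_y : InL S x y y := ⟨h.hxy, S.alt y⟩
theorem inL_s : InL S x y (x + y) := h.inL_x.add h.inL_y

theorem inL_of_inLn {a : V} (ha : InLn x y a) : InL S x y a := by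
  rcases ha with rfl | rfl | rfl | rfl
  · exact InL.zero
  · exact h.inL_x
  · exact h.inL_y
  · exact h.inL_s

/-- the root element of the line, seen from `y`. -/
theorem sg_yx : S.sg y x = S.sg x y := (S.sg_symm h.hx h.hy h.hxy).symm

/-- the root element of the line, seen from `x + y`. -/
theorem sg_sx : S.sg (x + y) x = S.sg x y := by
  rw [S.sg_symm h.hs h.hx h.hsx, add_comm x y, S.sg_add_self h.hx h.hxy]

theorem r_mul_r : S.sg x y * S.sg x y = 1 := S.sg_mul_self h.hx h.hxy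

/-- products of elements of `{1, r}`. -/
theorem rpow_mul {t1 t2 : G} (h1 : t1 = 1 ∨ t1 = S.sg x y) (h2 : t2 = 1 ∨ t2 = S.sg x y) :
    t1 * t2 = 1 ∨ t1 * t2 = S.sg x y := by
  rcases h1 with rfl | rfl <;> rcases h2 with rfl | rfl
  · left; rw [mul_one]
  · right; rw [one_mul]
  · right; rw [mul_one]
  · left; exact h.r_mul_r

/-- `sg x a` for `a ∈ l` is `1` or `r`. -/
theorem sg_x_inLn {a : V} (ha : InLn x y a) : S.sg x a = 1 ∨ S.sg x a = S.sg x y := by
  rcases ha with rfl | rfl | rfl | rfl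
  · left; exact S.sg_zero_right h.hx
  · left; exact S.sg_self h.hx
  · right; rfl
  · right; rw [add_comm x y, S.sg_add_self h.hx h.hxy]

/-- `sg x w * t ∈ H` with `t ∈ {1, r}` forces `w ∈ l`. -/
theorem inLn_of_x {w : V} {t : G} (hw : S.B x w = 0) (ht : t = 1 ∨ t = S.sg x y)
    (hm : S.sg x w * t ∈ H) : InLn x y w := by
  rcases ht with rfl | rfl
  · rw [mul_one] at hm
    rcases h.Ax.2.2.1 w hw hm with h0 | h0
    · exact Or.inl h0
    · exact Or.inr (Or.inl h0)
  · rw [S.sg_mul h.hx hw h.hxy] at hm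
    have hw' : S.B x (w + y) = 0 := by rw [S.Badd_right, hw, h.hxy, add_zero]
    rcases h.Ax.2.2.1 _ hw' hm with h0 | h0
    · exact Or.inr (Or.inr (Or.inl (S.vadd_eq_zero_iff.mp h0)))
    · refine Or.inr (Or.inr (Or.inr ?_))
      have := congrArg (· + y) h0
      simp only [S.vadd_cancel_right] at this
      exact this

/-- `sg y w * t ∈ H` with `t ∈ {1, r}` forces `w ∈ l`. -/
theorem inLn_of_y {w : V} {t : G} (hw : S.B y w = 0) (ht : t = 1 ∨ t = S.sg x y)
    (hm : S.sg y w * t ∈ H) : InLn x y w := by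
  rcases ht with rfl | rfl
  · rw [mul_one] at hm
    rcases h.Ay.2.2.1 w hw hm with h0 | h0
    · exact Or.inl h0
    · exact Or.inr (Or.inr (Or.inl h0))
  · rw [← h.sg_yx, S.sg_mul h.hy hw h.hyx] at hm
    have hw' : S.B y (w + x) = 0 := by rw [S.Badd_right, hw, h.hyx, add_zero]
    rcases h.Ay.2.2.1 _ hw' hm with h0 | h0
    · exact Or.inr (Or.inl (S.vadd_eq_zero_iff.mp h0))
    · refine Or.inr (Or.inr (Or.inr ?_))
      have := congrArg (· + x) h0
      simp only [S.vadd_cancel_right] at this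
      rw [this, add_comm]

/-- `sg (x + y) w * t ∈ H` with `t ∈ {1, r}` forces `w ∈ l`. -/
theorem inLn_of_s {w : V} {t : G} (hw : S.B (x + y) w = 0) (ht : t = 1 ∨ t = S.sg x y)
    (hm : S.sg (x + y) w * t ∈ H) : InLn x y w := by
  rcases ht with rfl | rfl
  · rw [mul_one] at hm
    rcases h.Axy.2.2.1 w hw hm with h0 | h0
    · exact Or.inl h0
    · exact Or.inr (Or.inr (Or.inr h0))
  · rw [← h.sg_sx, S.sg_mul h.hs hw h.hsx] at hm
    have hw' : S.B (x + y) (w + x) = 0 := by rw [S.Badd_right, hw, h.hsx, add_zero]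
    rcases h.Axy.2.2.1 _ hw' hm with h0 | h0
    · exact Or.inr (Or.inl (S.vadd_eq_zero_iff.mp h0))
    · refine Or.inr (Or.inr (Or.inl ?_))
      have := congrArg (· + x) h0
      simp only [S.vadd_cancel_right] at this
      rw [this, add_comm x y, S.vadd_cancel_right]

/-- `sg x w` and `sg y w'` commute for `w, w' ∈ L`, `w ⊥ w'`. -/
theorem comm_xy {w w' : V} (hw : InL S x y w) (hw' : InL S x y w') (hp : S.B w w' = 0) :
    S.sg x w * S.sg y w' = S.sg y w' * S.sg x w :=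
  S.sg_mul_sg_of_perp h.hx h.hy h.hxy hw.1 hw.2 hw'.1 hw'.2 hp

/-- `r` commutes with `sg x w`. -/
theorem comm_r_x {w : V} (hw : S.B x w = 0) : S.sg x y * S.sg x w = S.sg x w * S.sg x y :=
  S.sg_comm h.hx h.hxy hw

/-- `r` commutes with `sg y w`. -/
theorem comm_r_y {w : V} (hw : S.B y w = 0) : S.sg x y * S.sg y w = S.sg y w * S.sg x y := by
  rw [← h.sg_yx]; exact S.sg_comm h.hy h.hyx hw

/-- `sg (x + y) w = sg x w * sg y w * t`, `t ∈ {1, r}`, for `w ∈ L`. -/
theorem sg_s_eq {w : V} (hw : InL S x y w) :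
    ∃ t, (t = 1 ∨ t = S.sg x y) ∧ S.sg (x + y) w = S.sg x w * S.sg y w * t := by
  rcases S.h01 (S.Q w) with hq | hq
  · exact ⟨1, Or.inl rfl, by
      rw [mul_one]; exact S.sg_add_left_of_sing h.hx h.hy h.hxy hw.1 hw.2 hq⟩
  · exact ⟨S.sg x y, Or.inr rfl, S.sg_add_left_of_nonsing h.hx h.hy h.hxy hw.1 hw.2 hq⟩

end LineA

end basics

section R

variable {H : Subgroup G} {x y : V}

theorem Rel_zero (h : LineA S H x y) : Rel S H x y 0 0 :=
  ⟨InL.zero, InL.zero, by
    rw [S.sg_zero_right h.hy, S.sg_zero_right h.hx, one_mul]; exact H.one_mem⟩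

theorem Rel_add_x (h : LineA S H x y) {w a : V} (h1 : Rel S H x y w a) :
    Rel S H x y w (a + x) :=
  ⟨h1.1, h1.2.1.add h.inL_x, by rw [S.sg_add_self h.hx h1.2.1.1]; exact h1.2.2⟩

/-- for `w ∈ l` there is `a ∈ l` with `Rel w a`. -/
theorem Rel_of_InLn (h : LineA S H x y) {w : V} (hw : InLn x y w) :
    ∃ a, InLn x y a ∧ Rel S H x y w a := by
  have hrr : Rel S H x y x y := ⟨h.inL_x, h.inL_y, by
    rw [h.sg_yx, h.r_mul_r]; exact H.one_mem⟩
  rcases hw with rfl | rfl | rfl | rfl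
  · exact ⟨0, Or.inl rfl, Rel_zero S h⟩
  · exact ⟨y, Or.inr (Or.inr (Or.inl rfl)), hrr⟩
  · exact ⟨0, Or.inl rfl, h.inL_y, InL.zero, by
      rw [S.sg_self h.hy, S.sg_zero_right h.hx, one_mul]; exact H.one_mem⟩
  · refine ⟨y, Or.inr (Or.inr (Or.inl rfl)), h.inL_s, h.inL_y, ?_⟩
    rw [S.sg_add_self h.hy h.hyx, h.sg_yx, h.r_mul_r]; exact H.one_mem

/-- R2 -/
theorem R2 (h : LineA S H x y) {w a a' : V} (h1 : Rel S H x y w a) (h2 : Rel S H x y w a') :
    a' = a ∨ a' = a + x := by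
  have hm : S.sg x (a + a') ∈ H := by
    rw [← S.sg_mul h.hx h1.2.1.1 h2.2.1.1]
    have := H.mul_mem (H.inv_mem h1.2.2) h2.2.2
    have e : (S.sg y w * S.sg x a)⁻¹ * (S.sg y w * S.sg x a') = S.sg x a * S.sg x a' := by
      rw [mul_inv_rev, S.sg_inv h.hx h1.2.1.1]; group
    rwa [e] at this
  have hp : S.B x (a + a') = 0 := (h1.2.1.add h2.2.1).1
  rcases h.Ax.2.2.1 _ hp hm with h0 | h0
  · left; exact (S.vadd_eq_zero_iff.mp h0).symm
  · right
    have := congrArg (a + ·) h0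
    simp only [S.vadd_cancel_left] at this
    exact this

/-- R3 -/
theorem R3 (h : LineA S H x y) {w a : V} (h1 : Rel S H x y w a) : S.B a w = 0 := by
  rcases S.h01 (S.B a w) with h0 | h0
  · exact h0
  exfalso
  have hc := S.sg_mul_sg_of_not_perp h.hx h.hy h.hxy h1.2.1.1 h1.2.1.2 h1.1.1 h1.1.2 h0
  have hp : S.B x (y + a) = 0 := by rw [S.Badd_right, h.hxy, h1.2.1.1, add_zero]
  have e : (S.sg y w * S.sg x a) * (S.sg y w * S.sg x a) = S.sg x y := by
    calc (S.sg y w * S.sg x a) * (S.sg y w * S.sg x a)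
        = S.sg y w * (S.sg x a * S.sg y w) * S.sg x a := by group
      _ = S.sg y w * (S.sg y w * S.sg x a * S.sg x y) * S.sg x a := by rw [hc]
      _ = (S.sg y w * S.sg y w) * (S.sg x a * (S.sg x y * S.sg x a)) := by group
      _ = S.sg x y := by
          rw [S.sg_mul_self h.hy h1.1.2, S.sg_mul h.hx h.hxy h1.2.1.1,
            S.sg_mul h.hx h1.2.1.1 hp, one_mul, add_comm y a, S.vadd_cancel_left]
  have hm : S.sg x y ∈ H := by rw [← e]; exact H.mul_mem h1.2.2 h1.2.2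
  rcases h.Ax.2.2.1 y h.hxy hm with h2 | h2
  · exact h.hy0 h2
  · exact h.hne h2.symm

/-- R4 -/
theorem R4 (h : LineA S H x y) {w a w' a' : V} (h1 : Rel S H x y w a)
    (h2 : Rel S H x y w' a') : Rel S H x y (w + w') (a + a' + S.B a w' • y) := by
  refine ⟨h1.1.add h2.1, (h1.2.1.add h2.2.1).add (h.inL_y.fsmul _), ?_⟩
  have hm := H.mul_mem h1.2.2 h2.2.2
  rcases S.h01 (S.B a w') with h0 | h0
  · have hc := S.sg_mul_sg_of_perp h.hx h.hy h.hxy h1.2.1.1 h1.2.1.2 h2.1.1 h2.1.2 h0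
    have e : (S.sg y w * S.sg x a) * (S.sg y w' * S.sg x a')
        = S.sg y (w + w') * S.sg x (a + a' + S.B a w' • y) := by
      rw [h0, zero_smul, add_zero, ← S.sg_mul h.hy h1.1.2 h2.1.2,
        ← S.sg_mul h.hx h1.2.1.1 h2.2.1.1]
      calc (S.sg y w * S.sg x a) * (S.sg y w' * S.sg x a')
          = S.sg y w * (S.sg x a * S.sg y w') * S.sg x a' := by group
        _ = S.sg y w * (S.sg y w' * S.sg x a) * S.sg x a' := by rw [hc]
        _ = S.sg y w * S.sg y w' * (S.sg x a * S.sg x a') := by group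
    rwa [e] at hm
  · have hc := S.sg_mul_sg_of_not_perp h.hx h.hy h.hxy h1.2.1.1 h1.2.1.2 h2.1.1 h2.1.2 h0
    have hp : S.B x (a + a') = 0 := (h1.2.1.add h2.2.1).1
    have e : (S.sg y w * S.sg x a) * (S.sg y w' * S.sg x a')
        = S.sg y (w + w') * S.sg x (a + a' + S.B a w' • y) := by
      rw [h0, one_smul, ← S.sg_mul h.hy h1.1.2 h2.1.2, ← S.sg_mul h.hx hp h.hxy,
        ← S.sg_mul h.hx h1.2.1.1 h2.2.1.1]
      calc (S.sg y w * S.sg x a) * (S.sg y w' * S.sg x a')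
          = S.sg y w * (S.sg x a * S.sg y w') * S.sg x a' := by group
        _ = S.sg y w * (S.sg y w' * S.sg x a * S.sg x y) * S.sg x a' := by rw [hc]
        _ = S.sg y w * S.sg y w' * (S.sg x a * (S.sg x y * S.sg x a')) := by group
        _ = S.sg y w * S.sg y w' * (S.sg x a * (S.sg x a' * S.sg x y)) := by
            rw [h.comm_r_x h2.2.1.1]
        _ = S.sg y w * S.sg y w' * (S.sg x a * S.sg x a' * S.sg x y) := by group
    rwa [e] at hm

/-- R5a -/
theorem R5a (h : LineA S H x y) {w a : V} (h1 : Rel S H x y w a) (ha : InLn x y a) :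
    InLn x y w :=
  h.inLn_of_y h1.1.2 (h.sg_x_inLn ha) h1.2.2

/-- R5b -/
theorem R5b (h : LineA S H x y) {w a : V} (h1 : Rel S H x y w a) (ha : InLn x y (a + w)) :
    InLn x y w := by
  have hla : InL S x y (a + w) := h.inL_of_inLn ha
  have ea : a = w + (a + w) := by rw [add_comm a w, S.vadd_cancel_left]
  obtain ⟨t1, ht1, e1⟩ := h.sg_s_eq h1.1
  have ht2 := h.sg_x_inLn ha
  have hcomm := h.comm_xy h1.1 h1.1 (S.alt w)
  -- sg y w * sg x a = sg (x+y) w * (t1 * t2)
  have e : S.sg y w * S.sg x a = S.sg (x + y) w * (t1 * S.sg x (a + w)) := by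
    have e2 : S.sg x a = S.sg x w * S.sg x (a + w) := by
      rw [S.sg_mul h.hx h1.1.1 hla.1, ← ea]
    rw [e1, e2]
    have ht1c : t1 * t1 = 1 := by
      rcases ht1 with rfl | rfl
      · exact one_mul 1
      · exact h.r_mul_r
    calc S.sg y w * (S.sg x w * S.sg x (a + w))
        = (S.sg y w * S.sg x w) * S.sg x (a + w) := by group
      _ = (S.sg x w * S.sg y w) * S.sg x (a + w) := by rw [hcomm]
      _ = (S.sg x w * S.sg y w) * (t1 * t1) * S.sg x (a + w) := by rw [ht1c, mul_one]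
      _ = S.sg x w * S.sg y w * t1 * (t1 * S.sg x (a + w)) := by group
  have hm := h1.2.2
  rw [e] at hm
  exact h.inLn_of_s h1.1.hsw (h.rpow_mul ht1 ht2) hm

/-- R6a -/
theorem R6a (h : LineA S H x y) {g : G} (hg : g ∈ H) (hgx : g • x = x) (hgy : g • y = y)
    {w a : V} (h1 : Rel S H x y w a) : Rel S H x y (g • w) (g • a) := by
  refine ⟨h1.1.smul hgx hgy, h1.2.1.smul hgx hgy, ?_⟩
  have hm := H.mul_mem (H.mul_mem hg h1.2.2) (H.inv_mem hg)
  have e : g * (S.sg y w * S.sg x a) * g⁻¹ = (g * S.sg y w * g⁻¹) * (g * S.sg x a * g⁻¹) := by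
    group
  rw [e, S.conj_sg g h.hy h1.1.2, S.conj_sg g h.hx h1.2.1.1, hgx, hgy] at hm
  exact hm

/-- R6b -/
theorem R6b (h : LineA S H x y) {g : G} (hg : g ∈ H) (hgx : g • x = x) (hgy : g • y = x + y)
    {w a : V} (h1 : Rel S H x y w a) :
    Rel S H x y (g • w) (g • w + g • a + S.Q w • y) := by
  have hgw := h1.1.smul' hgx hgy
  have hga := h1.2.1.smul' hgx hgy
  refine ⟨hgw, (hgw.add hga).add (h.inL_y.fsmul _), ?_⟩
  have hm := H.mul_mem (H.mul_mem hg h1.2.2) (H.inv_mem hg)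
  have e : g * (S.sg y w * S.sg x a) * g⁻¹ = (g * S.sg y w * g⁻¹) * (g * S.sg x a * g⁻¹) := by
    group
  rw [e, S.conj_sg g h.hy h1.1.2, S.conj_sg g h.hx h1.2.1.1, hgx, hgy] at hm
  have hcomm := h.comm_xy hgw hgw (S.alt _)
  have hp : S.B x (g • w + g • a) = 0 := (hgw.add hga).1
  rcases S.h01 (S.Q w) with hq | hq
  · have e1 := S.sg_add_left_of_sing h.hx h.hy h.hxy hgw.1 hgw.2 (by rw [S.isoQ]; exact hq)
    rw [hq, zero_smul, add_zero, ← S.sg_mul h.hx hgw.1 hga.1]
    rw [e1, hcomm] at hm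
    have e2 : S.sg y (g • w) * S.sg x (g • w) * S.sg x (g • a)
        = S.sg y (g • w) * (S.sg x (g • w) * S.sg x (g • a)) := by group
    rwa [e2] at hm
  · have e1 := S.sg_add_left_of_nonsing h.hx h.hy h.hxy hgw.1 hgw.2 (by rw [S.isoQ]; exact hq)
    rw [hq, one_smul, ← S.sg_mul h.hx hp h.hxy, ← S.sg_mul h.hx hgw.1 hga.1]
    rw [e1, hcomm] at hm
    have e2 : S.sg y (g • w) * S.sg x (g • w) * S.sg x y * S.sg x (g • a)
        = S.sg y (g • w) * (S.sg x (g • w) * S.sg x (g • a) * S.sg x y) := by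
      calc S.sg y (g • w) * S.sg x (g • w) * S.sg x y * S.sg x (g • a)
          = S.sg y (g • w) * S.sg x (g • w) * (S.sg x y * S.sg x (g • a)) := by group
        _ = S.sg y (g • w) * S.sg x (g • w) * (S.sg x (g • a) * S.sg x y) := by
            rw [h.comm_r_x hga.1]
        _ = S.sg y (g • w) * (S.sg x (g • w) * S.sg x (g • a) * S.sg x y) := by group
    rwa [e2] at hm

/-- R7 -/
theorem R7 (h : LineA S H x y) {u b : V} (hu : S.Q u = 0) (huL : InL S x y u)
    (hbL : InL S x y b) (hub : S.B u b = 0) :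
    ∃ g ∈ H, g • x = x ∧ (g • y = y ∨ g • y = x + y) ∧
      ∀ v, InL S x y v → (g • v = S.sg u b • v ∨ g • v = S.sg u b • v + x) := by
  have hux : S.B u x = 0 := by rw [S.B_symm]; exact huL.1
  have hbx : S.B b x = 0 := by rw [S.B_symm]; exact hbL.1
  have huy : S.B u y = 0 := by rw [S.B_symm]; exact huL.2
  have hby : S.B b y = 0 := by rw [S.B_symm]; exact hbL.2
  have hsx : S.sg u b • x = x := S.sg_smul_of_perp_perp hu hub hux hbx
  have hsy : S.sg u b • y = y := S.sg_smul_of_perp_perp hu hub huy hby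
  obtain ⟨c, hc, hm⟩ := h.Ax.2.2.2 (S.sg u b) hsx
  refine ⟨S.sg u b * S.sg x c, hm, ?_, ?_, ?_⟩
  · rw [mul_smul, S.sg_smul_self h.hx hc, hsx]
  · rw [mul_smul, S.sg_smul_of_perp h.hx hc h.hxy, smul_add, S.smul_fsmul, hsx, hsy]
    rcases S.h01 (S.B y c) with h0 | h0
    · left; rw [h0, zero_smul, add_zero]
    · right; rw [h0, one_smul, add_comm]
  · intro v hv
    rw [mul_smul, S.sg_smul_of_perp h.hx hc hv.1, smul_add, S.smul_fsmul, hsx]
    rcases S.h01 (S.B v c) with h0 | h0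
    · left; rw [h0, zero_smul, add_zero]
    · right; rw [h0, one_smul]

/-- R1 -/
theorem R1 (h : LineA S H x y) {w : V} (hw : InL S x y w) : ∃ a, Rel S H x y w a := by
  have hwx : S.B w x = 0 := by rw [S.B_symm]; exact hw.1
  have hfix : S.sg y w • x = x := S.sg_smul_of_perp_perp h.hy hw.2 h.hyx hwx
  obtain ⟨a, ha, hm⟩ := h.Ax.2.2.2 (S.sg y w) hfix
  rcases S.h01 (S.B y a) with h0 | h0
  · exact ⟨a, hw, ⟨ha, h0⟩, hm⟩
  -- `B y a = 1`: then `w ∈ l`
  suffices hl : InLn x y w by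
    obtain ⟨a', _, hr⟩ := Rel_of_InLn S h hl
    exact ⟨a', hr⟩
  -- conjugate of `sg y w` by `p = sg x a`
  have hpy : S.sg x a • y = x + y := by
    rw [S.sg_smul_of_perp h.hx ha h.hxy, h0, one_smul, add_comm]
  have hpw : S.sg x a • w = w + S.B w a • x := S.sg_smul_of_perp h.hx ha hw.1
  have hconj := S.conj_sg (S.sg x a) h.hy hw.2
  rw [hpy, hpw, S.sg_inv h.hx ha] at hconj
  have hβ : InL S x y (S.B w a • x) := h.inL_x.fsmul _
  obtain ⟨t1, ht1, e1⟩ := h.sg_s_eq hw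
  have ht2 : S.sg (x + y) (S.B w a • x) = 1 ∨ S.sg (x + y) (S.B w a • x) = S.sg x y := by
    rcases S.h01 (S.B w a) with h1 | h1
    · left; rw [h1, zero_smul, S.sg_zero_right h.hs]
    · right; rw [h1, one_smul, h.sg_sx]
  have e2 : S.sg (x + y) (w + S.B w a • x)
      = S.sg x w * S.sg y w * t1 * S.sg (x + y) (S.B w a • x) := by
    rw [← S.sg_mul h.hs hw.hsw hβ.hsw, e1]
  have hcomm := h.comm_xy hw hw (S.alt w)
  have hh : (S.sg y w * S.sg x a) * (S.sg y w * S.sg x a)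
      = S.sg x w * (t1 * S.sg (x + y) (S.B w a • x)) := by
    calc (S.sg y w * S.sg x a) * (S.sg y w * S.sg x a)
        = S.sg y w * (S.sg x a * S.sg y w * S.sg x a) := by group
      _ = S.sg y w * (S.sg x w * S.sg y w * t1 * S.sg (x + y) (S.B w a • x)) := by
          rw [hconj, e2]
      _ = (S.sg y w * S.sg x w) * S.sg y w * t1 * S.sg (x + y) (S.B w a • x) := by group
      _ = (S.sg x w * S.sg y w) * S.sg y w * t1 * S.sg (x + y) (S.B w a • x) := by rw [hcomm]
      _ = S.sg x w * (S.sg y w * S.sg y w) * (t1 * S.sg (x + y) (S.B w a • x)) := by group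
      _ = S.sg x w * (t1 * S.sg (x + y) (S.B w a • x)) := by
          rw [S.sg_mul_self h.hy hw.2, mul_one]
  have hm2 := H.mul_mem hm hm
  rw [hh] at hm2
  exact h.inLn_of_x hw.1 (h.rpow_mul ht1 ht2) hm2

end R

end Cfsg.Agent.Lib.Helper5.Om2Leaf
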