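import Mathlib
import Cfsg.Agent.Lib.Helper11.Om2Rel
import Cfsg.Agent.Lib.Helper5.Om2IRBase

/-! Helper5: S2146 (OM2 market), leaf IR in the planner's vocabulary (`Helper11.Om2Rel`:
`LineData`, `Rel`, `OnLine`) with the planner's names `rel_zero`, ..., `exists_lift`
(statements of `notes/S2146_IR_leaves.lean`), as wrappers over `Om2IRBase` (`R1`-`R7`). -/

set_option autoImplicit false

open Cfsg.Agent.Lib.Helper11.Om2 (Setting LineData OnLine)
open MulAction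

namespace Cfsg.Agent.Lib.Helper5.Om2Leaf

variable {F V G : Type*} [Field F] [AddCommGroup V] [Module F V] [Group G] [DistribMulAction G V]
  (S : Setting F V G) {H : Subgroup G} {x y : V}

/-- the planner's `LineData` gives `LineA`. -/
theorem lineA_of_lineData (D : LineData S H x y) : LineA S H x y := by
  refine ⟨D.hxy, D.hne, D.hall x D.hx0 D.hx, D.hall y D.hy0 D.hy, D.hall (x + y) ?_ ?_⟩
  · intro h0
    exact D.hne (S.vadd_eq_zero_iff.mp h0)
  · rw [S.Q_add, D.hx, D.hy, D.hxy, add_zero, add_zero]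

variable {S}

theorem rel_to {w a : V} (h : Cfsg.Agent.Lib.Helper11.Om2.Rel S H x y w a) : Rel S H x y w a :=
  ⟨⟨h.1, h.2.1⟩, ⟨h.2.2.1, h.2.2.2.1⟩, h.2.2.2.2⟩

theorem rel_of {w a : V} (h : Rel S H x y w a) : Cfsg.Agent.Lib.Helper11.Om2.Rel S H x y w a :=
  ⟨h.1.1, h.1.2, h.2.1.1, h.2.1.2, h.2.2⟩

variable (S)

/-- R0: the relation on the line itself -/
theorem rel_zero (D : LineData S H x y) : Cfsg.Agent.Lib.Helper11.Om2.Rel S H x y 0 0 :=
  rel_of (Rel_zero S (lineA_of_lineData S D))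

theorem rel_x (D : LineData S H x y) : Cfsg.Agent.Lib.Helper11.Om2.Rel S H x y x y := by
  have h := lineA_of_lineData S D
  exact rel_of ⟨h.inL_x, h.inL_y, by rw [h.sg_yx, h.r_mul_r]; exact H.one_mem⟩

theorem rel_y (D : LineData S H x y) : Cfsg.Agent.Lib.Helper11.Om2.Rel S H x y y 0 := by
  have h := lineA_of_lineData S D
  exact rel_of ⟨h.inL_y, InL.zero, by
    rw [S.sg_self h.hy, S.sg_zero_right h.hx, one_mul]; exact H.one_mem⟩

/-- R1 -/
theorem rel_exists (D : LineData S H x y) {w : V} (hxw : S.B x w = 0) (hyw : S.B y w = 0) :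
    ∃ a, Cfsg.Agent.Lib.Helper11.Om2.Rel S H x y w a := by
  obtain ⟨a, ha⟩ := R1 S (lineA_of_lineData S D) ⟨hxw, hyw⟩
  exact ⟨a, rel_of ha⟩

/-- R2 -/
theorem rel_unique (D : LineData S H x y) {w a a' : V}
    (h : Cfsg.Agent.Lib.Helper11.Om2.Rel S H x y w a)
    (h' : Cfsg.Agent.Lib.Helper11.Om2.Rel S H x y w a') : a' = a ∨ a' = a + x :=
  R2 S (lineA_of_lineData S D) (rel_to h) (rel_to h')

/-- R3 -/
theorem rel_perp (D : LineData S H x y) {w a : V}
    (h : Cfsg.Agent.Lib.Helper11.Om2.Rel S H x y w a) : S.B a w = 0 :=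
  R3 S (lineA_of_lineData S D) (rel_to h)

/-- R4 -/
theorem rel_add (D : LineData S H x y) {w a w' a' : V}
    (h : Cfsg.Agent.Lib.Helper11.Om2.Rel S H x y w a)
    (h' : Cfsg.Agent.Lib.Helper11.Om2.Rel S H x y w' a') :
    Cfsg.Agent.Lib.Helper11.Om2.Rel S H x y (w + w') (a + a' + S.B a w' • y) :=
  rel_of (R4 S (lineA_of_lineData S D) (rel_to h) (rel_to h'))

/-- R5a -/
theorem rel_ker (D : LineData S H x y) {w a : V}
    (h : Cfsg.Agent.Lib.Helper11.Om2.Rel S H x y w a) (ha : OnLine x y a) : OnLine x y w :=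
  R5a S (lineA_of_lineData S D) (rel_to h) ha

/-- R5b -/
theorem rel_ker' (D : LineData S H x y) {w a : V}
    (h : Cfsg.Agent.Lib.Helper11.Om2.Rel S H x y w a) (ha : OnLine x y (a + w)) :
    OnLine x y w :=
  R5b S (lineA_of_lineData S D) (rel_to h) ha

/-- R6a -/
theorem rel_smul (D : LineData S H x y) {g : G} (hg : g ∈ H) (hgx : g • x = x) (hgy : g • y = y)
    {w a : V} (h : Cfsg.Agent.Lib.Helper11.Om2.Rel S H x y w a) :
    Cfsg.Agent.Lib.Helper11.Om2.Rel S H x y (g • w) (g • a) :=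
  rel_of (R6a S (lineA_of_lineData S D) hg hgx hgy (rel_to h))

/-- R6b -/
theorem rel_smul' (D : LineData S H x y) {g : G} (hg : g ∈ H) (hgx : g • x = x)
    (hgy : g • y = x + y) {w a : V} (h : Cfsg.Agent.Lib.Helper11.Om2.Rel S H x y w a) :
    Cfsg.Agent.Lib.Helper11.Om2.Rel S H x y (g • w) (g • w + g • a + S.Q w • y) :=
  rel_of (R6b S (lineA_of_lineData S D) hg hgx hgy (rel_to h))

/-- R7 -/
theorem exists_lift (D : LineData S H x y) {u b : V} (hu : S.Q u = 0) (hxu : S.B x u = 0)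
    (hyu : S.B y u = 0) (hxb : S.B x b = 0) (hyb : S.B y b = 0) (hub : S.B u b = 0) :
    ∃ g ∈ H, g • x = x ∧ (g • y = y ∨ g • y = x + y) ∧
      ∀ v, S.B x v = 0 → S.B y v = 0 → (g • v = S.sg u b • v ∨ g • v = S.sg u b • v + x) := by
  obtain ⟨g, hg, h1, h2, h3⟩ := R7 S (lineA_of_lineData S D) hu ⟨hxu, hyu⟩ ⟨hxb, hyb⟩ hub
  exact ⟨g, hg, h1, h2, fun v hv1 hv2 => h3 v ⟨hv1, hv2⟩⟩

end Cfsg.Agent.Lib.Helper5.Om2Leaf
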