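import Mathlib
import Cfsg.Agent.Lib.Helper11.Om2Tools
import Cfsg.Agent.Lib.Helper16.Om2C2a

/-! Helper5: S2146 (OM2 market), leaf C3 (`exists_moves_three`): for `m = 4` and a maximal totally
singular subspace `U` through the singular point `x`, some vector `u0 ∈ U ∖ {0, x}` lies on three
distinct `G_x`-translates of `U`. -/

set_option autoImplicit false

open Cfsg.Agent.Lib.Helper11.Om2 MulAction
open scoped Pointwise

namespace Cfsg.Agent.Lib.Helper5.Om2Leaf

variable {F V G : Type*} [Field F] [AddCommGroup V] [Module F V] [Group G] [DistribMulAction G V]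
  (S : Setting F V G)

/-- three pairwise distinct values give an injective function on `Fin 3`. -/
theorem inj_fin_three {α : Type*} (f : Fin 3 → α) (h01 : f 0 ≠ f 1) (h02 : f 0 ≠ f 2)
    (h12 : f 1 ≠ f 2) : Function.Injective f := by
  intro i j hij
  fin_cases i <;> fin_cases j <;>
    first
    | rfl
    | exact absurd hij h01
    | exact absurd hij.symm h01
    | exact absurd hij h02
    | exact absurd hij.symm h02
    | exact absurd hij h12
    | exact absurd hij.symm h12

omit [AddCommGroup V] in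
/-- a predicate with at least three solutions has a solution different from two given vectors. -/
theorem exists_ne_ne_of_card {p : V → Prop} (h : 3 ≤ Nat.card {u : V // p u}) (a b : V) :
    ∃ u, p u ∧ u ≠ a ∧ u ≠ b := by
  classical
  by_contra hn
  push Not at hn
  have hfin : Finite {u : V // p u} := by
    apply Nat.finite_of_card_ne_zero
    omega
  have hinj : Function.Injective (fun u : {u : V // p u} => decide (u.1 = a)) := by
    intro u u' huu
    simp only [decide_eq_decide] at huu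
    apply Subtype.ext
    by_cases hu : u.1 = a
    · rw [hu, huu.mp hu]
    · have hu' : u'.1 ≠ a := fun h' => hu (huu.mpr h')
      rw [hn u.1 u.2 hu, hn u'.1 u'.2 hu']
  have := Nat.card_le_card_of_injective _ hinj
  have hb : Nat.card Bool = 2 := by rw [Nat.card_eq_fintype_card, Fintype.card_bool]
  omega

section translates

variable {S} {U : Submodule F V}

/-- translates of a totally singular subspace are closed under addition. -/
theorem add_mem_smul_set (g : G) {z z' : V} (hz : z ∈ g • (U : Set V))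
    (hz' : z' ∈ g • (U : Set V)) : z + z' ∈ g • (U : Set V) := by
  rw [Set.mem_smul_set_iff_inv_smul_mem] at hz hz' ⊢
  rw [smul_add]
  exact U.add_mem hz hz'

include S in
/-- translates of a totally singular subspace are totally singular. -/
theorem B_eq_zero_of_mem_smul_set (hts : ∀ u ∈ U, S.Q u = 0) (g : G) {z z' : V}
    (hz : z ∈ g • (U : Set V)) (hz' : z' ∈ g • (U : Set V)) : S.B z z' = 0 := by
  have hq : ∀ t ∈ g • (U : Set V), S.Q t = 0 := by
    intro t ht
    rw [Set.mem_smul_set_iff_inv_smul_mem] at ht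
    rw [← S.isoQ g⁻¹]
    exact hts _ ht
  have h1 := S.Q_add z z'
  rw [hq _ (add_mem_smul_set g hz hz'), hq _ hz, hq _ hz', zero_add, zero_add] at h1
  exact h1.symm

end translates

/-- the polar form vanishes on a totally singular subspace. -/
theorem B_eq_zero_of_ts {U : Submodule F V} (hts : ∀ u ∈ U, S.Q u = 0) {u v : V} (hu : u ∈ U)
    (hv : v ∈ U) : S.B u v = 0 := by
  have h1 := S.Q_add u v
  rw [hts _ (U.add_mem hu hv), hts _ hu, hts _ hv, zero_add, zero_add] at h1
  exact h1.symm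

/-- a totally singular subspace of order 16 in a space of order 256 is its own perp. -/
theorem mem_of_perp_ts [Finite V] (hV : Nat.card V = 2 ^ (2 * 4)) {U : Submodule F V}
    (hts : ∀ u ∈ U, S.Q u = 0) (hc : Nat.card U = 16) {v : V} (hv : ∀ u ∈ U, S.B u v = 0) :
    v ∈ U := by
  have h1 := S.card_mul_card_orthogonal U
  rw [hV, hc] at h1
  have h2 : Nat.card (S.B.orthogonal U) = 16 := by omega
  have hle : (U : Set V) ⊆ (S.B.orthogonal U : Set V) := by
    intro u hu
    exact S.mem_orthogonal.mpr (fun u' hu' => B_eq_zero_of_ts S hts hu' hu)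
  have heq : (U : Set V) = (S.B.orthogonal U : Set V) := by
    apply Set.eq_of_subset_of_ncard_le hle
    · have e1 : Nat.card U = (U : Set V).ncard := Nat.card_coe_set_eq (U : Set V)
      have e2 : Nat.card (S.B.orthogonal U) = (S.B.orthogonal U : Set V).ncard :=
        Nat.card_coe_set_eq (S.B.orthogonal U : Set V)
      omega
  have : v ∈ (S.B.orthogonal U : Set V) := S.mem_orthogonal.mpr hv
  rw [← heq] at this
  exact this

/-- Lemma A: a translate `U1 = g1 • U ≠ U` is moved by some `sg a b` (`a, b ∈ U`), or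
`U ∩ U1 = U ∩ v^⊥` for some `v ∈ U1 ∖ U`. -/
theorem move_or_hyperplane [Finite V] (hV : Nat.card V = 2 ^ (2 * 4)) {U : Submodule F V}
    (hts : ∀ u ∈ U, S.Q u = 0) (hc : Nat.card U = 16) (g1 : G)
    (hne : g1 • (U : Set V) ≠ (U : Set V)) :
    (∃ a ∈ U, ∃ b ∈ U, S.sg a b • (g1 • (U : Set V)) ≠ g1 • (U : Set V)) ∨
      (∃ v ∈ g1 • (U : Set V), v ∉ U ∧ ∀ b ∈ U, (b ∈ g1 • (U : Set V) ↔ S.B v b = 0)) := by
  by_cases hcase : ∃ a ∈ U, ∃ b ∈ U, S.sg a b • (g1 • (U : Set V)) ≠ g1 • (U : Set V)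
  · exact Or.inl hcase
  right
  push Not at hcase
  -- a vector of `U1` outside `U`
  obtain ⟨v, hv1, hvU⟩ : ∃ v ∈ g1 • (U : Set V), v ∉ U := by
    by_contra hn
    push Not at hn
    apply hne
    apply Set.eq_of_subset_of_ncard_le (fun v hv => hn v hv)
    rw [Set.ncard_smul_set]
  refine ⟨v, hv1, hvU, ?_⟩
  -- `a ∈ U` with `B v a = 1`
  obtain ⟨a, haU, hav⟩ : ∃ a ∈ U, S.B v a = 1 := by
    by_contra hn
    push Not at hn
    apply hvU
    apply mem_of_perp_ts S hV hts hc
    intro u hu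
    rw [S.B_symm]
    exact S.eq_zero_of_ne_one (hn u hu)
  intro b hbU
  constructor
  · intro hb1
    exact B_eq_zero_of_mem_smul_set (S := S) hts g1 hv1 hb1
  · intro hvb
    have hab : S.B a b = 0 := B_eq_zero_of_ts S hts haU hbU
    have hmv : S.sg a b • v = v + b := by
      rw [S.sg_smul' (hts a haU) hab, hvb, hav, hts b hbU]
      simp
    have h1 : S.sg a b • v ∈ S.sg a b • (g1 • (U : Set V)) := Set.smul_mem_smul_set hv1
    rw [hcase a haU b hbU, hmv] at h1
    have h2 := add_mem_smul_set g1 h1 hv1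
    rwa [add_comm v b, S.vadd_cancel_right] at h2

/-- Lemma B: a translate through `u0` moved by some `sg a b` gives three translates through `u0`. -/
theorem three_of_move {x : V} {U : Submodule F V} (hxU : x ∈ U) (hts : ∀ u ∈ U, S.Q u = 0)
    {u0 : V} (hu0U : u0 ∈ U) {g1 : G} (hg1x : g1 • x = x) (hg1u : g1 • u0 = u0)
    (hne : g1 • (U : Set V) ≠ (U : Set V)) {a b : V} (haU : a ∈ U) (hbU : b ∈ U)
    (hmove : S.sg a b • (g1 • (U : Set V)) ≠ g1 • (U : Set V)) :
    ∃ g : Fin 3 → G, (∀ i, g i • x = x) ∧ (∀ i, u0 ∈ g i • (U : Set V)) ∧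
      Function.Injective (fun i => g i • (U : Set V)) := by
  have hab : S.B a b = 0 := B_eq_zero_of_ts S hts haU hbU
  have hfix : ∀ z ∈ U, S.sg a b • z = z := fun z hz =>
    S.sg_smul_of_perp_perp (hts a haU) hab (B_eq_zero_of_ts S hts haU hz)
      (B_eq_zero_of_ts S hts hbU hz)
  have hsU : S.sg a b • (U : Set V) = (U : Set V) := by
    ext z
    rw [Set.mem_smul_set]
    constructor
    · rintro ⟨t, ht, rfl⟩
      rw [hfix t ht]; exact ht
    · intro hz
      exact ⟨z, hz, hfix z hz⟩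
  refine ⟨![1, g1, S.sg a b * g1], ?_, ?_, ?_⟩
  · intro i
    fin_cases i
    · exact one_smul _ _
    · exact hg1x
    · show (S.sg a b * g1) • x = x
      rw [mul_smul, hg1x, hfix x hxU]
  · intro i
    fin_cases i
    · show u0 ∈ (1 : G) • (U : Set V)
      rw [one_smul]; exact hu0U
    · show u0 ∈ g1 • (U : Set V)
      have := Set.smul_mem_smul_set (a := g1) hu0U
      rwa [hg1u] at this
    · show u0 ∈ (S.sg a b * g1) • (U : Set V)
      have e : (S.sg a b * g1) • u0 = u0 := by rw [mul_smul, hg1u, hfix u0 hu0U]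
      have := Set.smul_mem_smul_set (a := S.sg a b * g1) hu0U
      rwa [e] at this
  · apply inj_fin_three
    · show (1 : G) • (U : Set V) ≠ g1 • (U : Set V)
      rw [one_smul]; exact fun h => hne h.symm
    · show (1 : G) • (U : Set V) ≠ (S.sg a b * g1) • (U : Set V)
      rw [one_smul, mul_smul]
      intro h
      apply hne
      have h2 : S.sg a b • (U : Set V) = S.sg a b • (g1 • (U : Set V)) := by rw [hsU]; exact h
      exact (MulAction.injective (S.sg a b) h2).symm
    · show g1 • (U : Set V) ≠ (S.sg a b * g1) • (U : Set V)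
      rw [mul_smul]
      exact fun h => hmove h.symm

/-- from two translates through `u0` to one translate `≠ U` through `u0`. -/
theorem exists_move {x : V} {U : Submodule F V} {u0 : V}
    (h2 : ∃ g : Fin 2 → G, (∀ i, g i • x = x) ∧ (∀ i, g i • u0 = u0) ∧
      Function.Injective (fun i => g i • (U : Set V))) :
    ∃ g1 : G, g1 • x = x ∧ g1 • u0 = u0 ∧ g1 • (U : Set V) ≠ (U : Set V) := by
  obtain ⟨g, hgx, hgu, hinj⟩ := h2
  refine ⟨(g 0)⁻¹ * g 1, ?_, ?_, ?_⟩
  · rw [mul_smul, hgx 1, inv_smul_eq_iff, hgx 0]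
  · rw [mul_smul, hgu 1, inv_smul_eq_iff, hgu 0]
  · intro h
    rw [mul_smul, inv_smul_eq_iff] at h
    have := hinj h.symm
    exact absurd this (by decide)

/-- C3 (`m = 4`, `U` a maximal totally singular subspace through `x`) -/
theorem exists_moves_three [Finite V] (hV : Nat.card V = 2 ^ (2 * 4)) {x : V}
    (hx0 : x ≠ 0) (hx : S.Q x = 0) (U : Submodule F V) (hxU : x ∈ U) (hts : ∀ u ∈ U, S.Q u = 0)
    (hc : Nat.card U = 16) :
    ∃ u0 ∈ U, u0 ≠ 0 ∧ u0 ≠ x ∧ ∃ g : Fin 3 → G, (∀ i, g i • x = x) ∧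
      (∀ i, u0 ∈ g i • (U : Set V)) ∧ Function.Injective (fun i => g i • (U : Set V)) := by
  have hU : ∀ u ∈ U, S.B x u = 0 := fun u hu => B_eq_zero_of_ts S hts hxU hu
  have hC2 : ∀ u0 ∈ U, u0 ≠ 0 → u0 ≠ x →
      ∃ g1 : G, g1 • x = x ∧ g1 • u0 = u0 ∧ g1 • (U : Set V) ≠ (U : Set V) :=
    fun u0 hu0U hu00 hu0x => exists_move
      (Cfsg.Agent.Lib.Helper16.Om2Leaf.exists_moves_two S hV (le_refl 4) hx0 hx U hxU hU
        (by omega) (by rw [hc]; norm_num) hu0U hu00 hu0x)
  -- a first vector `u0`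
  obtain ⟨u0, hu0U, hu00, hu0x⟩ : ∃ u0, u0 ∈ U ∧ u0 ≠ 0 ∧ u0 ≠ x :=
    exists_ne_ne_of_card (p := fun u => u ∈ U) (by
      have : Nat.card {u : V // u ∈ U} = 16 := hc
      omega) 0 x
  obtain ⟨g1, hg1x, hg1u, hne1⟩ := hC2 u0 hu0U hu00 hu0x
  rcases move_or_hyperplane S hV hts hc g1 hne1 with ⟨a, haU, b, hbU, hmove⟩ | ⟨v1, hv1, hv1U, hP1⟩
  · exact ⟨u0, hu0U, hu00, hu0x, three_of_move S hxU hts hu0U hg1x hg1u hne1 haU hbU hmove⟩
  -- a second vector `u0' ∈ U` with `B v1 u0' = 1`
  obtain ⟨u1, hu1U, hu1v⟩ : ∃ u1 ∈ U, S.B v1 u1 = 1 := by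
    by_contra hn
    push Not at hn
    apply hv1U
    apply mem_of_perp_ts S hV hts hc
    intro u hu
    rw [S.B_symm]
    exact S.eq_zero_of_ne_one (hn u hu)
  have hx1 : x ∈ g1 • (U : Set V) := by
    have := Set.smul_mem_smul_set (a := g1) hxU
    rwa [hg1x] at this
  have hu10 : u1 ≠ 0 := by
    rintro rfl
    rw [S.Bzero_right] at hu1v
    exact zero_ne_one hu1v
  have hu1x : u1 ≠ x := by
    rintro rfl
    rw [(hP1 u1 hxU).mp hx1] at hu1v
    exact zero_ne_one hu1v
  obtain ⟨g2, hg2x, hg2u, hne2⟩ := hC2 u1 hu1U hu10 hu1x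
  rcases move_or_hyperplane S hV hts hc g2 hne2 with ⟨a, haU, b, hbU, hmove⟩ | ⟨v2, hv2, hv2U, hP2⟩
  · exact ⟨u1, hu1U, hu10, hu1x, three_of_move S hxU hts hu1U hg2x hg2u hne2 haU hbU hmove⟩
  -- a vector of `U ∩ v1^⊥ ∩ v2^⊥` other than `0, x`
  have hcard1 := S.card_perp_inf U v1
  have hP1card : Nat.card (U ⊓ LinearMap.ker (S.B v1) : Submodule F V)
      = Nat.card {u : V // u ∈ U ∧ S.B v1 u = 0} :=
    Nat.card_congr (Equiv.subtypeEquivRight (fun u => by
      rw [Submodule.mem_inf, LinearMap.mem_ker]))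
  have hcard2 := S.card_perp_inf (U ⊓ LinearMap.ker (S.B v1) : Submodule F V) v2
  rw [hc] at hcard1
  obtain ⟨u2, ⟨hu2P, hu2v2⟩, hu20, hu2x⟩ :=
    exists_ne_ne_of_card (p := fun u => u ∈ (U ⊓ LinearMap.ker (S.B v1) : Submodule F V) ∧
      S.B v2 u = 0) (by omega) 0 x
  rw [Submodule.mem_inf, LinearMap.mem_ker] at hu2P
  obtain ⟨hu2U, hu2v1⟩ := hu2P
  refine ⟨u2, hu2U, hu20, hu2x, ![1, g1, g2], ?_, ?_, ?_⟩
  · intro i
    fin_cases i
    · exact one_smul _ _
    · exact hg1x
    · exact hg2x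
  · intro i
    fin_cases i
    · show u2 ∈ (1 : G) • (U : Set V)
      rw [one_smul]; exact hu2U
    · exact (hP1 u2 hu2U).mpr hu2v1
    · exact (hP2 u2 hu2U).mpr hu2v2
  · apply inj_fin_three
    · show (1 : G) • (U : Set V) ≠ g1 • (U : Set V)
      rw [one_smul]; exact fun h => hne1 h.symm
    · show (1 : G) • (U : Set V) ≠ g2 • (U : Set V)
      rw [one_smul]; exact fun h => hne2 h.symm
    · show g1 • (U : Set V) ≠ g2 • (U : Set V)
      intro h
      have h1 : u1 ∈ g2 • (U : Set V) := by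
        have := Set.smul_mem_smul_set (a := g2) hu1U
        rwa [hg2u] at this
      rw [← h] at h1
      rw [(hP1 u1 hu1U).mp h1] at hu1v
      exact zero_ne_one hu1v

end Cfsg.Agent.Lib.Helper5.Om2Leaf
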