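import Mathlib
import Cfsg.Agent.Lib.Helper11.Om3Tools

/-! helper5: leaf DI of market "OM3" (S2144, planner helper11): a subspace `x ∈ U ⊆ x^⊥` with at
least 27 elements is totally singular or meets two `Q`-classes outside `<x>`. -/

set_option autoImplicit false

open Cfsg.Agent.Lib.Helper11.Om3 MulAction
open scoped Pointwise

namespace Cfsg.Agent.Lib.Helper5.Om3Leaf

variable {F V G : Type*} [Field F] [AddCommGroup V] [Module F V] [Group G] [DistribMulAction G V]
  (S : Setting F V G)

include S in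
/-- the span of two vectors has at most 9 elements -/
theorem card_span_pair_le [Finite V] (x w : V) :
    Nat.card (Submodule.span F ({x, w} : Set V)) ≤ 9 := by
  haveI := S.finite_F
  have hsurj : Function.Surjective
      (fun p : F × F => (⟨p.1 • x + p.2 • w,
        Submodule.add_mem _ (Submodule.smul_mem _ _ (Submodule.subset_span (by simp)))
          (Submodule.smul_mem _ _ (Submodule.subset_span (by simp)))⟩ :
        Submodule.span F ({x, w} : Set V))) := by
    rintro ⟨v, hv⟩
    obtain ⟨a, b, hab⟩ := Submodule.mem_span_pair.1 hv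
    exact ⟨(a, b), Subtype.ext hab⟩
  calc Nat.card (Submodule.span F ({x, w} : Set V)) ≤ Nat.card (F × F) :=
        Nat.card_le_card_of_surjective _ hsurj
    _ = 9 := by rw [Nat.card_prod, S.natCard_F]

/-- DI: a subspace `x ∈ U ⊆ x^⊥` with at least 27 elements is totally singular or contains vectors
of two different `Q`-classes outside `<x>`. -/
theorem ts_or_two_classes [Finite V] {x : V} (hx : S.Q x = 0) (U : Submodule F V) (hxU : x ∈ U)
    (hU : ∀ u ∈ U, S.B x u = 0) (hcard : 27 ≤ Nat.card U) :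
    (∀ u ∈ U, S.Q u = 0) ∨
      ∃ u ∈ U, ∃ u' ∈ U, (¬ ∃ a : F, u = a • x) ∧ (¬ ∃ a : F, u' = a • x) ∧ S.Q u ≠ S.Q u' := by
  classical
  by_contra hcon
  rw [not_or] at hcon
  obtain ⟨hnts, hsame⟩ := hcon
  have hsame' : ∀ u ∈ U, ∀ u' ∈ U, (¬ ∃ a : F, u = a • x) → (¬ ∃ a : F, u' = a • x) →
      S.Q u = S.Q u' := by
    intro u hu u' hu' h1 h2
    by_contra hne
    exact hsame ⟨u, hu, u', hu', h1, h2, hne⟩
  have hnts' : ∃ u ∈ U, S.Q u ≠ 0 := by
    by_contra h
    apply hnts
    intro u hu
    by_contra hne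
    exact h ⟨u, hu, hne⟩
  obtain ⟨w, hwU, hw⟩ := hnts'
  have hwx : ¬ ∃ a : F, w = a • x := by
    rintro ⟨a, rfl⟩
    apply hw
    rw [S.Q_smul, hx, mul_zero]
  have h9 := card_span_pair_le S x w
  obtain ⟨w', hw'U, hw'⟩ : ∃ w' ∈ U, w' ∉ Submodule.span F ({x, w} : Set V) := by
    by_contra h
    have hle : U ≤ Submodule.span F ({x, w} : Set V) := by
      intro v hv
      by_contra hv'
      exact h ⟨v, hv, hv'⟩
    have := Nat.card_le_card_of_injective (Submodule.inclusion hle)
      (Submodule.inclusion_injective hle)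
    omega
  have hxs : x ∈ Submodule.span F ({x, w} : Set V) := Submodule.subset_span (by simp)
  have hws : w ∈ Submodule.span F ({x, w} : Set V) := Submodule.subset_span (by simp)
  have h1 : ¬ ∃ a : F, w + w' = a • x := by
    rintro ⟨a, ha⟩
    apply hw'
    have e : w' = a • x - w := by rw [← ha]; abel
    rw [e]
    exact Submodule.sub_mem _ (Submodule.smul_mem _ _ hxs) hws
  have h2 : ¬ ∃ a : F, w - w' = a • x := by
    rintro ⟨a, ha⟩
    apply hw'
    have e : w' = w - a • x := by rw [← ha]; abel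
    rw [e]
    exact Submodule.sub_mem _ hws (Submodule.smul_mem _ _ hxs)
  have hw'x : ¬ ∃ a : F, w' = a • x := by
    rintro ⟨a, ha⟩
    apply hw'
    rw [ha]
    exact Submodule.smul_mem _ _ hxs
  have e1 := hsame' (w + w') (U.add_mem hwU hw'U) w hwU h1 hwx
  have e2 := hsame' (w - w') (U.sub_mem hwU hw'U) w hwU h2 hwx
  have e3 := hsame' w' hw'U w hwU hw'x hwx
  rw [S.Q_add, e3] at e1
  rw [S.Q_sub, e3] at e2
  apply hw
  have h3 := S.fthree (S.Q w)
  linear_combination h3 - e1 - e2

end Cfsg.Agent.Lib.Helper5.Om3Leaf
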