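import Mathlib
import Cfsg.Agent.Lib.Helper11.Om3Tools
import Cfsg.Agent.Lib.Helper5.Om3DI
import Cfsg.Agent.Lib.Helper27.Om3GT

/-! helper5: leaf C2a (`exists_moves_two`, totally singular `U`) of market "OM3" (S2144, planner
helper11).  For `v ∈ U ∖ <x, u0>` flip a vector `y0 ⊥ x, u0`, `B y0 v = 1` along `v` to a singular
`y`; GT (helper27) for the pair `x, y` gives a nonsingular `w ⊥ x, y, u0`; then `sg y w` fixes `x`
and `u0` and moves `v` out of `U` (`B (sg y w • v) v = - Q w ≠ 0`, `U` totally isotropic). -/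

set_option autoImplicit false

open Cfsg.Agent.Lib.Helper11.Om3 MulAction
open scoped Pointwise

namespace Cfsg.Agent.Lib.Helper5.Om3Leaf

variable {F V G : Type*} [Field F] [AddCommGroup V] [Module F V] [Group G] [DistribMulAction G V]
  (S : Setting F V G)

/-- C2a (totally singular `U`) -/
theorem exists_moves_two [Finite V] {m : ℕ} (hV : Nat.card V = 3 ^ (2 * m + 1))
    (hs : Nat.card {v : V // S.Q v = 0} = 3 ^ (2 * m)) (hm : 3 ≤ m) {x : V}
    (hx0 : x ≠ 0) (hx : S.Q x = 0) (U : Submodule F V) (hxU : x ∈ U) (hts : ∀ u ∈ U, S.Q u = 0)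
    (hc1 : 27 ≤ Nat.card U) {u0 : V} (hu0U : u0 ∈ U) (hu0x : ¬ ∃ a : F, u0 = a • x) :
    ∃ g : Fin 2 → G, (∀ i, g i • x = x) ∧ (∀ i, g i • u0 = u0) ∧
      Function.Injective (fun i => g i • (U : Set V)) := by
  classical
  have hFfin : Finite F := S.finite_F
  -- `U` is totally isotropic
  have hiso : ∀ u ∈ U, ∀ u' ∈ U, S.B u u' = 0 := by
    intro u hu u' hu'
    have h := S.Q_add u u'
    rw [hts _ (U.add_mem hu hu'), hts u hu, hts u' hu'] at h
    linear_combination -h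
  -- a vector of `U` outside `<x, u0>`
  have h9 := card_span_pair_le S x u0
  obtain ⟨v, hvU, hv⟩ : ∃ v ∈ U, v ∉ Submodule.span F ({x, u0} : Set V) := by
    by_contra h
    have hle : U ≤ Submodule.span F ({x, u0} : Set V) := by
      intro v hv
      by_contra hv'
      exact h ⟨v, hv, hv'⟩
    have := Nat.card_le_card_of_injective (Submodule.inclusion hle)
      (Submodule.inclusion_injective hle)
    omega
  -- `y0 ⊥ x, u0` with `B y0 v = 1`
  obtain ⟨y0, hy0x, hy0u, hy0v⟩ : ∃ y0, S.B y0 x = 0 ∧ S.B y0 u0 = 0 ∧ S.B y0 v = 1 := by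
    by_contra hcon
    apply hv
    rw [← S.orthogonal_orthogonal_eq (Submodule.span F ({x, u0} : Set V)), S.mem_orthogonal]
    intro e he
    rw [S.mem_orthogonal] at he
    have h1 : S.B e x = 0 := by
      rw [S.B_symm]; exact he x (Submodule.subset_span (by simp))
    have h2 : S.B e u0 = 0 := by
      rw [S.B_symm]; exact he u0 (Submodule.subset_span (by simp))
    by_contra hne
    apply hcon
    refine ⟨(S.B e v)⁻¹ • e, ?_, ?_, ?_⟩
    · rw [S.Bsmul_left, h1, mul_zero]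
    · rw [S.Bsmul_left, h2, mul_zero]
    · rw [S.Bsmul_left, inv_mul_cancel₀ hne]
  -- the flip along `v`
  have hQv : S.Q v = 0 := hts v hvU
  have hvx : S.B v x = 0 := hiso v hvU x hxU
  have hvu : S.B v u0 = 0 := hiso v hvU u0 hu0U
  have hvv : S.B v v = 0 := hiso v hvU v hvU
  obtain ⟨y, hy, hyx, hyu, hyv⟩ : ∃ y, S.Q y = 0 ∧ S.B y x = 0 ∧ S.B y u0 = 0 ∧ S.B y v = 1 := by
    refine ⟨y0 - S.Q y0 • v, ?_, ?_, ?_, ?_⟩
    · rw [S.Q_sub, S.Q_smul, hQv, S.Bsmul_right, hy0v]; ring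
    · rw [S.Bsub_left, S.Bsmul_left, hy0x, hvx]; ring
    · rw [S.Bsub_left, S.Bsmul_left, hy0u, hvu]; ring
    · rw [S.Bsub_left, S.Bsmul_left, hy0v, hvv]; ring
  have hxy : S.B x y = 0 := by rw [S.B_symm]; exact hyx
  have hvy : S.B v y = 1 := by rw [S.B_symm]; exact hyv
  -- a nonsingular `w ⊥ x, y, u0`
  obtain ⟨c, c', c'', hxc, hyc, hxc', hyc', -, -, hQc, hQc', -, hcc', -, -⟩ :=
    Cfsg.Agent.Lib.Helper27.Om3Leaf.exists_orth_triple S hV hm hx hy hxy
  obtain ⟨w, hxw, hyw, huw, hQw⟩ :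
      ∃ w, S.B x w = 0 ∧ S.B y w = 0 ∧ S.B u0 w = 0 ∧ S.Q w ≠ 0 := by
    by_cases ha : S.B u0 c = 0
    · exact ⟨c, hxc, hyc, ha, hQc⟩
    by_cases hb : S.B u0 c' = 0
    · exact ⟨c', hxc', hyc', hb, by rw [hQc']; exact hQc⟩
    refine ⟨S.B u0 c' • c - S.B u0 c • c', ?_, ?_, ?_, ?_⟩
    · rw [S.Bsub_right, S.Bsmul_right, S.Bsmul_right, hxc, hxc']; ring
    · rw [S.Bsub_right, S.Bsmul_right, S.Bsmul_right, hyc, hyc']; ring
    · rw [S.Bsub_right, S.Bsmul_right, S.Bsmul_right]; ring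
    · rw [S.Q_sub, S.Q_smul, S.Q_smul, S.Bsmul_left, S.Bsmul_right, hcc', hQc', S.fsq_of_ne ha,
        S.fsq_of_ne hb]
      intro h
      apply hQc
      have h3 := S.fthree (S.Q c)
      linear_combination h3 - h
  -- `sg y w` moves `v` out of `U`
  have hmove : S.sg y w • v ∉ U := by
    intro hmem
    have h0 := hiso _ hmem v hvU
    rw [S.sg_smul' hy hyw, hvy] at h0
    simp only [S.Bsub_left, S.Badd_left, S.Bsmul_left, hvv, hyv, mul_one, one_mul] at h0
    apply hQw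
    have hsym : S.B w v = S.B v w := S.B_symm w v
    rw [hsym] at h0
    linear_combination -h0
  have hne : (1 : G) • (U : Set V) ≠ S.sg y w • (U : Set V) := by
    intro heq
    apply hmove
    have h1 : S.sg y w • v ∈ S.sg y w • (U : Set V) := Set.smul_mem_smul_set hvU
    rw [← heq, one_smul] at h1
    exact h1
  refine ⟨![1, S.sg y w], ?_, ?_, ?_⟩
  · intro i
    fin_cases i
    · exact one_smul _ _
    · exact S.sg_smul_of_perp_perp hy hyw hyx (by rw [S.B_symm]; exact hxw)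
  · intro i
    fin_cases i
    · exact one_smul _ _
    · exact S.sg_smul_of_perp_perp hy hyw hyu (by rw [S.B_symm]; exact huw)
  · intro i j hij
    fin_cases i <;> fin_cases j
    · rfl
    · exact absurd hij hne
    · exact absurd hij.symm hne
    · rfl

end Cfsg.Agent.Lib.Helper5.Om3Leaf
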