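/-
S3713 (planner helper18, T2 sub-planner helper20), leaf T2-MMNORM (frozen statements in notes/S3713_T2_leaves.lean):
`Xg`, `Yg`, `νg` normalise `MM o p`.
-/
import Cfsg.Agent.Lib.Helper20.SPT2Calc

set_option autoImplicit false

namespace Cfsg.Agent.Lib.Helper5.SPT2MMNORM

open Matrix Cfsg.Agent.Lib.Helper5 Cfsg.Agent.Lib.Helper14.SpPerfect Cfsg.Agent.Lib.Helper18.SP
open Cfsg.Agent.Lib.Helper20.SPT2

variable {F : Type*} [Field F] {n : ℕ} {o p : Fin n}

/-- if `g w = v` and `m` fixes `w` then `g m g⁻¹` fixes `v` -/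
theorem conj_fix {g m : Sp n F} {v w : V n F} (hgw : act g w = v) (hmw : act m w = w) :
    act (g * m * g⁻¹) v = v := by
  have h1 : act g⁻¹ v = w := by rw [← hgw, act_inv_act]
  rw [act_mul, act_mul, h1, hmw, hgw]

theorem Xg_conj_MM (hop : o ≠ p) (t : F) {m : Sp n F} (hm : m ∈ MM n F o p) :
    Xg n F o p t * m * (Xg n F o p t)⁻¹ ∈ MM n F o p := by
  refine ⟨fun k => ?_, fun k hko hkp => ?_⟩
  · by_cases hkp : k = p
    · subst hkp
      apply conj_fix (w := eV n F k + t • eV n F o)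
      · rw [act_add, act_smul, Xg_ep hop, Xg_eo hop]; module
      · rw [act_add, act_smul, hm.1 k, hm.1 o]
    · exact conj_fix (Xg_e_other hop t hkp) (hm.1 k)
  · exact conj_fix (Xg_f_other hop t hko) (hm.2 k hko hkp)

theorem Yg_conj_MM (hop : o ≠ p) (t : F) {m : Sp n F} (hm : m ∈ MM n F o p) :
    Yg n F o p t * m * (Yg n F o p t)⁻¹ ∈ MM n F o p := by
  refine ⟨fun k => ?_, fun k hko hkp => ?_⟩
  · by_cases hko : k = o
    · subst hko
      apply conj_fix (w := eV n F k + t • eV n F p)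
      · rw [act_add, act_smul, Yg_eo hop, Yg_ep hop]; module
      · rw [act_add, act_smul, hm.1 k, hm.1 p]
    · exact conj_fix (Yg_e_other hop t hko) (hm.1 k)
  · exact conj_fix (Yg_f_other hop t hkp) (hm.2 k hko hkp)

theorem νg_conj_MM (hop : o ≠ p) {m : Sp n F} (hm : m ∈ MM n F o p) :
    νg n F o p * m * (νg n F o p)⁻¹ ∈ MM n F o p := by
  refine ⟨fun k => ?_, fun k hko hkp => ?_⟩
  · by_cases hko : k = o
    · subst hko
      apply conj_fix (w := -eV n F p)
      · rw [act_neg, νg_ep hop, neg_neg]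
      · rw [act_neg, hm.1 p]
    · by_cases hkp : k = p
      · subst hkp
        exact conj_fix (νg_eo hop) (hm.1 o)
      · exact conj_fix (νg_e_other hop hko hkp) (hm.1 k)
  · exact conj_fix (νg_f_other hop hko hkp) (hm.2 k hko hkp)

end Cfsg.Agent.Lib.Helper5.SPT2MMNORM
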