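/-
S3713 (planner helper18, T2 sub-planner helper20), leaf T2-SYMM (frozen statements in notes/S3713_T2_leaves.lean):
exchanging `o` and `p`.
-/
import Cfsg.Agent.Lib.Helper20.SPT2Calc

set_option autoImplicit false

namespace Cfsg.Agent.Lib.Helper5.SPT2SYMM

open Matrix Cfsg.Agent.Lib.Helper5 Cfsg.Agent.Lib.Helper14.SpPerfect Cfsg.Agent.Lib.Helper18.SP
open Cfsg.Agent.Lib.Helper20.SPT2

variable {F : Type*} [Field F] {n : ℕ} {o p : Fin n}

theorem Xg_symm (hop : o ≠ p) (t : F) : Xg n F p o t = Yg n F o p t := by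
  unfold Xg Yg
  have h0 : ω n F (eV n F p) (t • fV n F o) = 0 := by rw [ω_smul_right, ω_eo_fp hop.symm, mul_zero]
  have h1 : ω n F (fV n F o) (eV n F p) = 0 := ω_fo_ep hop
  rw [E_comm _ _ h0, E_smul_smul _ _ _ h1]

theorem Yg_symm (hop : o ≠ p) (t : F) : Yg n F p o t = Xg n F o p t := by
  unfold Xg Yg
  have h0 : ω n F (fV n F p) (t • eV n F o) = 0 := by rw [ω_smul_right, ω_fo_ep hop.symm, mul_zero]
  have h1 : ω n F (eV n F o) (fV n F p) = 0 := ω_eo_fp hop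
  rw [E_comm _ _ h0, E_smul_smul _ _ _ h1]

theorem Zg_symm (hop : o ≠ p) (t : F) : Zg n F p o t = Zg n F o p t := by
  unfold Zg
  have h0 : ω n F (eV n F p) (t • eV n F o) = 0 := by rw [ω_smul_right, ω_eV_eV, mul_zero]
  have h1 : ω n F (eV n F o) (eV n F p) = 0 := ω_eV_eV o p
  rw [E_comm _ _ h0, E_smul_smul _ _ _ h1]

end Cfsg.Agent.Lib.Helper5.SPT2SYMM
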