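/-
S3713 (planner helper18, T2 sub-planner helper20), leaf T2-ZCONJ (frozen statements in notes/S3713_T2_leaves.lean):
the Weyl elements `nW o`, `nW p` move `Xg`, `Yg` to `Zg`.
-/
import Cfsg.Agent.Lib.Helper20.SPT2Calc

set_option autoImplicit false

namespace Cfsg.Agent.Lib.Helper5.SPT2ZCONJ

open Matrix Cfsg.Agent.Lib.Helper5 Cfsg.Agent.Lib.Helper14.SpPerfect Cfsg.Agent.Lib.Helper18.SP
open Cfsg.Agent.Lib.Helper20.SPT2

variable {F : Type*} [Field F] {n : ℕ} {o p : Fin n}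

theorem nW_inv_eV_other {k j : Fin n} (h : j ≠ k) : act (nW n F k)⁻¹ (eV n F j) = eV n F j := by
  have hmem : (nW n F k)⁻¹ ∈ GJ n F {k} := inv_mem (nW_mem_SS k)
  exact (hmem j (fun e => h (Set.mem_singleton_iff.mp e))).1

theorem nW_inv_fV_other {k j : Fin n} (h : j ≠ k) : act (nW n F k)⁻¹ (fV n F j) = fV n F j := by
  have hmem : (nW n F k)⁻¹ ∈ GJ n F {k} := inv_mem (nW_mem_SS k)
  exact (hmem j (fun e => h (Set.mem_singleton_iff.mp e))).2

/-- `g⁻¹ E(u,u') g = E(g⁻¹ u, g⁻¹ u')` -/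
theorem inv_conj_E (g : Sp n F) (u u' : V n F) : g⁻¹ * E u u' * g = E (act g⁻¹ u) (act g⁻¹ u') := by
  have h := conj_E g⁻¹ u u'
  rwa [inv_inv] at h

theorem inv_conj_Tr (g : Sp n F) (w : V n F) (c : F) : g⁻¹ * Tr w c * g = Tr (act g⁻¹ w) c := by
  have h := conj_Tr' g⁻¹ w c
  rwa [inv_inv] at h

theorem Tr_neg_vec (w : V n F) (c : F) : Tr (-w) c = Tr w c := by
  have h := Tr_smul (-1 : F) w c
  rw [neg_one_smul] at h
  rw [h]
  congr 1
  ring

theorem nWp_conj_Xg (hop : o ≠ p) (t : F) :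
    (nW n F p)⁻¹ * Xg n F o p t * nW n F p = Zg n F o p (-t) := by
  unfold Xg Zg
  rw [inv_conj_E, nW_inv_eV_other hop, act_smul, nW_inv_fV, smul_neg, neg_smul]

theorem nWp_conj_Zg (hop : o ≠ p) (t : F) :
    (nW n F p)⁻¹ * Zg n F o p t * nW n F p = Xg n F o p t := by
  unfold Xg Zg
  rw [inv_conj_E, nW_inv_eV_other hop, act_smul, nW_inv_eV]

theorem nWo_conj_Yg (hop : o ≠ p) (t : F) :
    (nW n F o)⁻¹ * Yg n F o p t * nW n F o = Zg n F o p (-t) := by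
  unfold Yg Zg
  rw [inv_conj_E, nW_inv_fV, act_smul, nW_inv_eV_other hop.symm]
  have h0 : ω n F (eV n F o) (t • eV n F p) = 0 := by rw [ω_smul_right, ω_eV_eV, mul_zero]
  have h := E_smul_smul (eV n F o) (t • eV n F p) (-1 : F) h0
  rw [neg_one_smul, neg_one_smul] at h
  rw [h, neg_smul]

theorem nWo_conj_Zg (hop : o ≠ p) (t : F) :
    (nW n F o)⁻¹ * Zg n F o p t * nW n F o = Yg n F o p t := by
  unfold Yg Zg
  rw [inv_conj_E, nW_inv_eV, act_smul, nW_inv_eV_other hop.symm]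

theorem nWo_conj_Tr_fo (o : Fin n) (t : F) :
    (nW n F o)⁻¹ * Tr (fV n F o) t * nW n F o = Tr (eV n F o) t := by
  rw [inv_conj_Tr, nW_inv_fV, Tr_neg_vec]

end Cfsg.Agent.Lib.Helper5.SPT2ZCONJ
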