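/-
S3713 (planner helper18, T2 sub-planner helper20), leaf T2-NUCONJ (frozen statements in notes/S3713_T2_leaves.lean):
conjugation by the Weyl element `νg` of the short root `SL₂`.
-/
import Cfsg.Agent.Lib.Helper20.SPT2Calc
import Cfsg.Agent.Lib.Helper5.SPT2ZCONJ
import Cfsg.Agent.Lib.Helper5.SPT2SYMM
import Cfsg.Agent.Lib.Helper5.SPT2MMNORM

set_option autoImplicit false

namespace Cfsg.Agent.Lib.Helper5.SPT2NUCONJ

open Matrix Cfsg.Agent.Lib.Helper5 Cfsg.Agent.Lib.Helper14.SpPerfect Cfsg.Agent.Lib.Helper18.SP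
open Cfsg.Agent.Lib.Helper20.SPT2
open Cfsg.Agent.Lib.Helper5.SPT2ZCONJ (Tr_neg_vec)
open Cfsg.Agent.Lib.Helper5.SPT2MMNORM (conj_fix)

variable {F : Type*} [Field F] {n : ℕ} {o p : Fin n}

theorem νg_conj_Tr_eo (hop : o ≠ p) (t : F) :
    νg n F o p * Tr (eV n F o) t * (νg n F o p)⁻¹ = Tr (eV n F p) t := by
  rw [conj_Tr', νg_eo hop]

theorem νg_conj_Tr_fo (hop : o ≠ p) (t : F) :
    νg n F o p * Tr (fV n F o) t * (νg n F o p)⁻¹ = Tr (fV n F p) t := by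
  rw [conj_Tr', νg_fo hop]

theorem νg_conj_Tr_ep (hop : o ≠ p) (t : F) :
    νg n F o p * Tr (eV n F p) t * (νg n F o p)⁻¹ = Tr (eV n F o) t := by
  rw [conj_Tr', νg_ep hop, Tr_neg_vec]

theorem νg_conj_Tr_fp (hop : o ≠ p) (t : F) :
    νg n F o p * Tr (fV n F p) t * (νg n F o p)⁻¹ = Tr (fV n F o) t := by
  rw [conj_Tr', νg_fp hop, Tr_neg_vec]

theorem νg_conj_Zg (hop : o ≠ p) (s : F) :
    νg n F o p * Zg n F o p s * (νg n F o p)⁻¹ = Zg n F o p (-s) := by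
  rw [← Cfsg.Agent.Lib.Helper5.SPT2SYMM.Zg_symm hop (-s)]
  unfold Zg
  rw [conj_E, νg_eo hop, act_smul, νg_ep hop, smul_neg, neg_smul]

theorem conj_mul3 (g a b c : Sp n F) :
    g * (a * b * c) * g⁻¹ = (g * a * g⁻¹) * (g * b * g⁻¹) * (g * c * g⁻¹) := by group

theorem conj_mul4 (g a b c d : Sp n F) :
    g * (a * b * c * d) * g⁻¹ = (g * a * g⁻¹) * (g * b * g⁻¹) * (g * c * g⁻¹) * (g * d * g⁻¹) := by group

theorem conj_inv' (g a : Sp n F) : g * a⁻¹ * g⁻¹ = (g * a * g⁻¹)⁻¹ := by group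

theorem νg_conj_nWo (hop : o ≠ p) : νg n F o p * nW n F o * (νg n F o p)⁻¹ = nW n F p := by
  unfold nW
  rw [conj_mul3, νg_conj_Tr_eo hop, νg_conj_Tr_fo hop]

theorem νg_conj_nWp (hop : o ≠ p) : νg n F o p * nW n F p * (νg n F o p)⁻¹ = nW n F o := by
  unfold nW
  rw [conj_mul3, νg_conj_Tr_ep hop, νg_conj_Tr_fp hop]

theorem νg_conj_hTo (hop : o ≠ p) (c : F) : νg n F o p * hT n F o c * (νg n F o p)⁻¹ = hT n F p c := by
  unfold hT
  rw [conj_mul4, νg_conj_Tr_eo hop, νg_conj_Tr_fo hop, conj_inv', νg_conj_nWo hop]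

theorem νg_conj_SS_o (hop : o ≠ p) {g : Sp n F} (hg : g ∈ SS n F o) :
    νg n F o p * g * (νg n F o p)⁻¹ ∈ SS n F p := by
  have hg' : g ∈ GJ n F {o} := hg
  have hpo : p ∉ ({o} : Set (Fin n)) := fun e => hop (Set.mem_singleton_iff.mp e).symm
  intro k hk
  have hkp : k ≠ p := fun e => hk (Set.mem_singleton_iff.mpr e)
  by_cases hko : k = o
  · subst hko
    constructor
    · apply conj_fix (w := -eV n F p)
      · rw [act_neg, νg_ep hop, neg_neg]
      · rw [act_neg, (hg' p hpo).1]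
    · apply conj_fix (w := -fV n F p)
      · rw [act_neg, νg_fp hop, neg_neg]
      · rw [act_neg, (hg' p hpo).2]
  · have hk' : k ∉ ({o} : Set (Fin n)) := fun e => hko (Set.mem_singleton_iff.mp e)
    exact ⟨conj_fix (νg_e_other hop hko hkp) (hg' k hk').1, conj_fix (νg_f_other hop hko hkp) (hg' k hk').2⟩

theorem νg_conj_SS_p (hop : o ≠ p) {g : Sp n F} (hg : g ∈ SS n F p) :
    νg n F o p * g * (νg n F o p)⁻¹ ∈ SS n F o := by
  have hg' : g ∈ GJ n F {p} := hg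
  have hop' : o ∉ ({p} : Set (Fin n)) := fun e => hop (Set.mem_singleton_iff.mp e)
  intro k hk
  have hko : k ≠ o := fun e => hk (Set.mem_singleton_iff.mpr e)
  by_cases hkp : k = p
  · subst hkp
    exact ⟨conj_fix (νg_eo hop) (hg' o hop').1, conj_fix (νg_fo hop) (hg' o hop').2⟩
  · have hk' : k ∉ ({p} : Set (Fin n)) := fun e => hkp (Set.mem_singleton_iff.mp e)
    exact ⟨conj_fix (νg_e_other hop hko hkp) (hg' k hk').1, conj_fix (νg_f_other hop hko hkp) (hg' k hk').2⟩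

end Cfsg.Agent.Lib.Helper5.SPT2NUCONJ
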