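import Cfsg.Agent.Lib.Helper5.UOGDefs

/-!
helper5: S5681 / S5709 part (G): block A (model basics) of notes/S5681_G_leaves.lean.
-/

set_option autoImplicit false
set_option linter.unusedSectionVars false
set_option linter.unusedVariables false

namespace Cfsg.Agent.Lib.Helper5.UOGLeaf
open Matrix QuadraticMap Module
open Cfsg.Agent.Lib.Helper25.Tens Cfsg.Agent.Lib.Helper2.SOT Cfsg.Agent.Lib.Helper7.OTT
  Cfsg.Agent.Lib.Helper25.CD Cfsg.Agent.Lib.Helper5.NSMax Cfsg.Agent.Lib.Helper5.PairMax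
  Cfsg.Agent.Lib.Helper5.TSMax Cfsg.Agent.Lib.Helper5.NDMax Cfsg.Agent.Lib.Helper5.UOG
open scoped Kronecker

variable {F : Type*} [Field F] [Fintype F] {a b : ℕ} {G₁ : Matrix (Fin a) (Fin a) F}
  {G₂ : Matrix (Fin b) (Fin b) F} {M : Subgroup (GL (Idx a b) F)}

theorem QG_eq_fB {n : ℕ} (G : Matrix (Fin n) (Fin n) F) (x : Fin n → F) :
    QG G x = (2 : F)⁻¹ * fB G x x := by
  rw [QG_apply]; rfl

theorem polar_QG_fB {n : ℕ} {G : Matrix (Fin n) (Fin n) F} (hG : Gᵀ = G) (h2 : (2 : F) ≠ 0)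
    (x x' : Fin n → F) : polar (QG G) x x' = fB G x x' := by
  rw [polar_QG hG h2]; rfl

theorem kron_symm_det (hA : G₁ᵀ = G₁) (hB : G₂ᵀ = G₂) (dA : G₁.det ≠ 0) (dB : G₂.det ≠ 0) :
    (G₁ ⊗ₖ G₂)ᵀ = G₁ ⊗ₖ G₂ ∧ (G₁ ⊗ₖ G₂).det ≠ 0 := by
  refine ⟨?_, ?_⟩
  · ext ⟨i, k⟩ ⟨j, l⟩
    have e1 := congrFun (congrFun hA i) j
    have e2 := congrFun (congrFun hB k) l
    simp only [Matrix.transpose_apply] at e1 e2
    simp only [Matrix.transpose_apply, Matrix.kroneckerMap_apply, e1, e2]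
  · rw [Matrix.det_kronecker]
    exact mul_ne_zero (pow_ne_zero _ dA) (pow_ne_zero _ dB)

theorem kron_dot (x x' : Fin a → F) (y y' : Fin b → F) :
    pt x y ⬝ᵥ ((G₁ ⊗ₖ G₂) *ᵥ pt x' y') = fB G₁ x x' * fB G₂ y y' := by
  rw [kron_mulVec_pt, Cfsg.Agent.Lib.Helper7.SOTLeaf.pt_dot_pt]
  rfl

theorem pol (hA : G₁ᵀ = G₁) (hB : G₂ᵀ = G₂) (h2 : (2 : F) ≠ 0) (x x' : Fin a → F) (y y' : Fin b → F) :
    polar (QV G₁ G₂) (pt x y) (pt x' y') = fB G₁ x x' * fB G₂ y y' := by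
  have hK : (G₁ ⊗ₖ G₂)ᵀ = G₁ ⊗ₖ G₂ := by
    ext ⟨i, k⟩ ⟨j, l⟩
    have e1 := congrFun (congrFun hA i) j
    have e2 := congrFun (congrFun hB k) l
    simp only [Matrix.transpose_apply] at e1 e2
    simp only [Matrix.transpose_apply, Matrix.kroneckerMap_apply, e1, e2]
  rw [polar_QG hK h2, kron_dot]

theorem QV_pt (x : Fin a → F) (y : Fin b → F) :
    QV G₁ G₂ (pt x y) = (2 : F)⁻¹ * (fB G₁ x x * fB G₂ y y) := by
  rw [QG_apply, kron_dot]

theorem nd_QG {κ : Type} [Fintype κ] [DecidableEq κ] {K : Matrix κ κ F} (hK : Kᵀ = K)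
    (hdet : K.det ≠ 0) (h2 : (2 : F) ≠ 0) : (polarBilin (QG K)).Nondegenerate := by
  have key : ∀ x : κ → F, (∀ y, polar (QG K) x y = 0) → x = 0 := by
    intro x hx
    have h1 : K *ᵥ x = 0 := by
      funext i
      have := hx (Pi.single i 1)
      rw [polar_QG hK h2, dot_mulVec_comm hK] at this
      simpa using this
    have hu : IsUnit K.det := isUnit_iff_ne_zero.2 hdet
    have := congrArg (fun v => K⁻¹ *ᵥ v) h1
    simpa [Matrix.mulVec_mulVec, Matrix.nonsing_inv_mul K hu] using this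
  refine ⟨fun x hx => key x hx, fun y hy => key y (fun x => ?_)⟩
  have := hy x
  rw [polarBilin_apply_apply] at this
  rw [polar_comm]
  exact this

theorem rootM_mulVec {κ : Type} [Fintype κ] [DecidableEq κ] {K : Matrix κ κ F} (hK : Kᵀ = K)
    (u v : κ → F) (c : F) (x : κ → F) :
    rootM K u v c *ᵥ x = x + c • ((u ⬝ᵥ (K *ᵥ x)) • v - (v ⬝ᵥ (K *ᵥ x)) • u) := by
  unfold rootM
  rw [Matrix.add_mulVec, Matrix.one_mulVec, Matrix.smul_mulVec, Matrix.sub_mulVec,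
    Matrix.vecMulVec_mulVec, Matrix.vecMulVec_mulVec]
  congr 2
  rw [dotProduct_comm (K *ᵥ u) x, dot_mulVec_comm hK u x, dotProduct_comm (K *ᵥ v) x,
    dot_mulVec_comm hK v x]
  simp only [op_smul_eq_smul]

end Cfsg.Agent.Lib.Helper5.UOGLeaf
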