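import Cfsg.Agent.Lib.Helper5.UOGDefs

/-!
helper5: S5681 / S5709 part (G): third kind of exit of the local lemmas (needed for the swapped case `n₂ = 4` of S5709,
lead's notes/S5709_LA4_plan.md, and for the weak form of (L) when the second vector is singular).
-/

set_option autoImplicit false
set_option linter.unusedSectionVars false
set_option linter.unusedVariables false

namespace Cfsg.Agent.Lib.Helper5.UOG
open Matrix
open Cfsg.Agent.Lib.Helper25.Tens Cfsg.Agent.Lib.Helper2.SOT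
open scoped Kronecker

variable {F : Type*} [Field F] {a b : ℕ}

/-- branch (Lw): `(x ∧ v) ⊗ y²` with `x` SINGULAR in `A`, `v ⊥ x` NONSINGULAR, `y` singular in `B` -/
def HasLw (G₁ : Matrix (Fin a) (Fin a) F) (G₂ : Matrix (Fin b) (Fin b) F)
    (M : Subgroup (GL (Idx a b) F)) : Prop :=
  ∃ (x v : Fin a → F) (y : Fin b → F), x ≠ 0 ∧ fB G₁ x x = 0 ∧ fB G₁ x v = 0 ∧ fB G₁ v v ≠ 0 ∧
    y ≠ 0 ∧ fB G₂ y y = 0 ∧ ∀ c : F, InM M (rootM (G₁ ⊗ₖ G₂) (pt x y) (pt v y) c)

end Cfsg.Agent.Lib.Helper5.UOG
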