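import Cfsg.Agent.Lib.Helper5.UOGDefs2

/-!
helper5: S5681 / S5709 part (G): the propagation predicates `P1'`, `P1`, `P2`, `Sg` (shared by all leaves of block P).
-/

set_option autoImplicit false
set_option linter.unusedSectionVars false
set_option linter.unusedVariables false

namespace Cfsg.Agent.Lib.Helper5.UOG
open Matrix
open Cfsg.Agent.Lib.Helper25.Tens Cfsg.Agent.Lib.Helper2.SOT
open scoped Kronecker

variable {F : Type*} [Field F] [Fintype F] {a b : ℕ}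

/-- `x ⊗ y^⊥ ⊆ A(x ⊗ y)` -/
def P1' (G₁ : Matrix (Fin a) (Fin a) F) (G₂ : Matrix (Fin b) (Fin b) F)
    (M : Subgroup (GL (Idx a b) F)) (x : Fin a → F) (y : Fin b → F) : Prop :=
  ∀ z : Fin b → F, fB G₂ y z = 0 → IA (QV G₁ G₂) M (pt x y) (pt x z)

/-- `x ⊗ B ⊆ A(x ⊗ y)` -/
def P1 (G₁ : Matrix (Fin a) (Fin a) F) (G₂ : Matrix (Fin b) (Fin b) F)
    (M : Subgroup (GL (Idx a b) F)) (x : Fin a → F) (y : Fin b → F) : Prop :=
  ∀ z : Fin b → F, IA (QV G₁ G₂) M (pt x y) (pt x z)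

/-- `A ⊗ y ⊆ A(x ⊗ y)` -/
def P2 (G₁ : Matrix (Fin a) (Fin a) F) (G₂ : Matrix (Fin b) (Fin b) F)
    (M : Subgroup (GL (Idx a b) F)) (x : Fin a → F) (y : Fin b → F) : Prop :=
  ∀ x' : Fin a → F, IA (QV G₁ G₂) M (pt x y) (pt x' y)

/-- nonzero singular vector -/
def Sg {n : ℕ} (G : Matrix (Fin n) (Fin n) F) (x : Fin n → F) : Prop := x ≠ 0 ∧ fB G x x = 0

end Cfsg.Agent.Lib.Helper5.UOG
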