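/-
S4700 + S0996 (planner helper27), wrapper leaf NPOS `one_le_n` (frozen statement in
notes/S4700_W_leaves.lean): in a perfect group a Sylow `p`-subgroup of order `p` is not normal.
-/
import Mathlib
import Cfsg.Prelude.Def_BlockRank
import Cfsg.Prelude.Def_CaseTheorems
import Cfsg.Agent.Lib.Helper6.BRHDefs
import Cfsg.Agent.Lib.Helper27.BRWDefs
import Cfsg.Agent.Lib.Helper24.PerfectLemmas

set_option autoImplicit false

namespace Cfsg.Agent.Lib.Helper5.BRWNPOS

open Cfsg Cfsg.Agent.Lib.Helper8.DOM Cfsg.Agent.Lib.Helper27.DO Cfsg.Agent.CharLib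
open Cfsg.Agent.Lib.Helper6.BRH Cfsg.Agent.Lib.Helper27.BRW
open scoped ComplexConjugate

universe u

variable {G : Type u} [Group G] [Finite G] {p : ℕ} [Fact p.Prime]

/-- a subgroup of order `p` and index prime to `p` is a Sylow `p`-subgroup -/
theorem exists_sylow_eq (P : Subgroup G) (hP : Nat.card P = p) (hSyl : ¬ p ∣ P.index) :
    ∃ S : Sylow p G, (S : Subgroup G) = P := by
  have hpp : p.Prime := Fact.out
  have hcardG : Nat.card G = p * P.index := by rw [← hP]; exact (Subgroup.card_mul_index P).symm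
  have hidx0 : P.index ≠ 0 := Subgroup.index_ne_zero_of_finite
  have hfac : (Nat.card G).factorization p = 1 := by
    rw [hcardG, Nat.factorization_mul hpp.ne_zero hidx0, Finsupp.add_apply, hpp.factorization_self,
      Nat.factorization_eq_zero_of_not_dvd hSyl]
  exact ⟨Sylow.ofCard P (by rw [hP, hfac, pow_one]), rfl⟩

/-- a perfect group has no normal Sylow `p`-subgroup of order `p` -/
theorem not_normal_of_perfect (hperf : commutator G = ⊤) (P : Subgroup G) (hP : Nat.card P = p)
    (hSyl : ¬ p ∣ P.index) : ¬ P.Normal := by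
  intro hPn
  have hcent : P ≤ Subgroup.center G :=
    Cfsg.Agent.Lib.Helper24.le_center_of_normal_of_prime_card_of_perfect hperf p P hP
  obtain ⟨S, hS⟩ := exists_sylow_eq P hP hSyl
  have hdvd : p ∣ Nat.card G := by
    have h := Subgroup.card_subgroup_dvd_card P
    rwa [hP] at h
  exact Cfsg.Agent.Lib.Helper24.not_perfect_of_central_sylow p S (hS ▸ hcent) hdvd hperf

/-- **NPOS** : `P` is not normal. -/
theorem one_le_n (hperf : commutator G = ⊤) (P : Subgroup G) (hP : Nat.card P = p)
    (hSyl : ¬ p ∣ P.index) (n : ℕ) (hidx : (Nz P).index = 1 + n * p) : 1 ≤ n := by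
  by_contra hn
  have hn0 : n = 0 := by omega
  subst hn0
  have hN : Nz P = ⊤ := by
    apply Subgroup.index_eq_one.mp
    rw [hidx]
    simp
  exact not_normal_of_perfect hperf P hP hSyl (Subgroup.normalizer_eq_top_iff.mp hN)

end Cfsg.Agent.Lib.Helper5.BRWNPOS
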