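import Mathlib
import Cfsg.Agent.Lib.Helper18.Sims3Defs

set_option autoImplicit false

/-!
Helper5: SIMS market (S3385), leaf L5 (`le_sub_nu`, inequality `n + nu ≤ 2 l`), with the small
interval-subgroup toolkit it needs (`shift_pow`, `conj_mem_Hx`, `commute_of_mem_Hx`,
`mem_Hx_succ`, `conj_cm_eq`).
-/

namespace Cfsg.Agent.Lib.Helper5.SIMSL5

open Cfsg Cfsg.Agent.Lib.Helper29.TWPair Cfsg.Agent.Lib.Helper18.Sims3 MulAction

variable {G : Type*} [Group G]

/-- iterated shift: `g^s x_i g^-s = x_(i+s)`. -/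
theorem shift_pow {g : G} {x : ℕ → G} {n : ℕ} (h : TSData g x n) (s i : ℕ) :
    g ^ s * x i * (g ^ s)⁻¹ = x (i + s) := by
  induction s generalizing i with
  | zero => simp
  | succ s ih =>
    have e : g ^ (s + 1) * x i * (g ^ (s + 1))⁻¹ = g * (g ^ s * x i * (g ^ s)⁻¹) * g⁻¹ := by
      rw [pow_succ']; group
    rw [e, ih, h.shift]
    rfl

/-- conjugation by `g^s` shifts interval subgroups (one inclusion, elementwise). -/
theorem conj_mem_Hx {g : G} {x : ℕ → G} {n : ℕ} (h : TSData g x n) (s a b : ℕ) {w : G}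
    (hw : w ∈ Hx x a b) : g ^ s * w * (g ^ s)⁻¹ ∈ Hx x (a + s) (b + s) := by
  have key : Hx x a b ≤ (Hx x (a + s) (b + s)).comap (MulAut.conj (g ^ s)).toMonoidHom := by
    unfold Hx
    rw [Subgroup.closure_le]
    rintro _ ⟨j, hj, rfl⟩
    show (MulAut.conj (g ^ s)) (x j) ∈ Subgroup.closure (x '' Set.Icc (a + s) (b + s))
    rw [MulAut.conj_apply, shift_pow h]
    exact Subgroup.subset_closure
      ⟨j + s, ⟨by have := hj.1; omega, by have := hj.2; omega⟩, rfl⟩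
  exact key hw

/-- an element commuting with the generators commutes with the interval subgroup. -/
theorem commute_of_mem_Hx {x : ℕ → G} {a b : ℕ} {z : G}
    (hz : ∀ j, a ≤ j → j ≤ b → Commute (x j) z) {w : G} (hw : w ∈ Hx x a b) : Commute w z := by
  unfold Hx at hw
  induction hw using Subgroup.closure_induction with
  | mem y hy =>
    obtain ⟨j, hj, rfl⟩ := hy
    exact hz j hj.1 hj.2
  | one => exact Commute.one_left z
  | mul y y' _ _ hy hy' => exact hy.mul_left hy'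
  | inv y _ hy => exact hy.inv_left

/-- `H[a,b+1] = H[a,b] ∪ H[a,b] x_(b+1)` when `x_(b+1)` is an involution centralizing `H[a,b]`. -/
theorem mem_Hx_succ {x : ℕ → G} {a b : ℕ} (hsq : x (b + 1) * x (b + 1) = 1)
    (hcomm : ∀ j, a ≤ j → j ≤ b → Commute (x j) (x (b + 1))) {w : G}
    (hw : w ∈ Hx x a (b + 1)) : ∃ r ∈ Hx x a b, w = r ∨ w = r * x (b + 1) := by
  have hC : ∀ r ∈ Hx x a b, Commute r (x (b + 1)) := fun r hr => commute_of_mem_Hx hcomm hr
  have hinv : (x (b + 1))⁻¹ = x (b + 1) := inv_eq_of_mul_eq_one_left hsq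
  unfold Hx at hw
  induction hw using Subgroup.closure_induction with
  | mem y hy =>
    obtain ⟨j, hj, rfl⟩ := hy
    by_cases hjb : j ≤ b
    · exact ⟨x j, Subgroup.subset_closure ⟨j, ⟨hj.1, hjb⟩, rfl⟩, Or.inl rfl⟩
    · have : j = b + 1 := by have := hj.2; omega
      subst this
      exact ⟨1, one_mem _, Or.inr (one_mul _).symm⟩
  | one => exact ⟨1, one_mem _, Or.inl rfl⟩
  | mul y y' _ _ hy hy' =>
    obtain ⟨r1, h1, e1⟩ := hy
    obtain ⟨r2, h2, e2⟩ := hy'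
    refine ⟨r1 * r2, mul_mem h1 h2, ?_⟩
    have c2 : x (b + 1) * r2 = r2 * x (b + 1) := (hC r2 h2).eq.symm
    rcases e1 with rfl | rfl <;> rcases e2 with rfl | rfl
    · exact Or.inl rfl
    · exact Or.inr (mul_assoc _ _ _).symm
    · right
      rw [mul_assoc, c2, mul_assoc]
    · left
      calc r1 * x (b + 1) * (r2 * x (b + 1)) = r1 * (x (b + 1) * r2) * x (b + 1) := by group
        _ = r1 * (r2 * x (b + 1)) * x (b + 1) := by rw [c2]
        _ = r1 * r2 * (x (b + 1) * x (b + 1)) := by group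
        _ = r1 * r2 := by rw [hsq, mul_one]
  | inv y _ hy =>
    obtain ⟨r, h1, e⟩ := hy
    refine ⟨r⁻¹, inv_mem h1, ?_⟩
    rcases e with rfl | rfl
    · exact Or.inl rfl
    · right
      have c1 : x (b + 1) * r⁻¹ = r⁻¹ * x (b + 1) := (hC r⁻¹ (inv_mem h1)).eq.symm
      rw [mul_inv_rev, hinv, c1]

/-- if `y` centralizes `a`, `y b y⁻¹ = d b` with `d` centralizing `a` and `[a,b]`, then `y`
centralizes `[a,b]`. -/
theorem conj_cm_eq {a b y d : G} (hya : Commute y a) (hyb : y * b * y⁻¹ = d * b)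
    (hda : Commute d a) (hdc : Commute d (cm a b)) : y * cm a b * y⁻¹ = cm a b := by
  have e1 : y * cm a b * y⁻¹ = cm (y * a * y⁻¹) (y * b * y⁻¹) := by unfold cm; group
  have e2 : y * a * y⁻¹ = a := by rw [hya.eq, mul_inv_cancel_right]
  have e3 : cm a (d * b) = d * cm a b * d⁻¹ := by
    unfold cm
    have hh : a * d = d * a := hda.eq.symm
    calc a * (d * b) * a⁻¹ * (d * b)⁻¹ = (a * d) * b * a⁻¹ * (d * b)⁻¹ := by group
      _ = (d * a) * b * a⁻¹ * (d * b)⁻¹ := by rw [hh]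
      _ = d * (a * b * a⁻¹ * b⁻¹) * d⁻¹ := by group
  rw [e1, e2, hyb, e3, hdc.eq, mul_inv_cancel_right]

/-- LEAF L5 (inequality B': `n ≤ 2 l - nu`). -/
theorem le_sub_nu {g : G} {x : ℕ → G} {n : ℕ} (h : TSData g x n)
    (hsq : ∀ i, x i * x i = 1)
    (hcm : ∀ i j, i < j → j < i + n → cm (x i) (x j) ∈ Hx x (i + 1) (j - 1))
    (l : ℕ) (hl2 : 2 ≤ l) (hln : l + 1 ≤ n) (hl : CommLt x l) (hnc : ¬ Commute (x 0) (x l))
    (nu : ℕ) (hnu1 : 1 ≤ nu) (hnu : nu + 1 ≤ l)
    (hc : cm (x 0) (x l) ∈ Hx x 1 nu) (hc' : cm (x 0) (x l) ∉ Hx x 1 (nu - 1)) :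
    n + nu ≤ 2 * l := by
  by_contra hcon
  rw [not_le] at hcon
  obtain ⟨s, hs⟩ : ∃ s, s + nu = l := ⟨l - nu, by omega⟩
  have hs1 : 1 ≤ s := by omega
  have hsn : l + s < n := by omega
  -- general commutation: |i - j| < l
  have hcomm : ∀ i j, i < j + l → j < i + l → Commute (x i) (x j) := by
    intro i j h1 h2
    rcases le_total i j with hij | hij
    · have := hl i (j - i) (by omega)
      rwa [show i + (j - i) = j by omega] at this
    · have := hl j (i - j) (by omega)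
      rw [show j + (i - j) = i by omega] at this
      exact this.symm
  -- decomposition of c = r' x_nu
  have hc2 : cm (x 0) (x l) ∈ Hx x 1 (nu - 1 + 1) := by
    rwa [show nu - 1 + 1 = nu by omega]
  obtain ⟨r', hr', hcr⟩ := mem_Hx_succ (hsq (nu - 1 + 1))
    (fun j hj1 hj2 => hcomm j (nu - 1 + 1) (by omega) (by omega)) hc2
  rcases hcr with hcr | hcr
  · exact hc' (hcr ▸ hr')
  rw [show nu - 1 + 1 = nu by omega] at hcr
  -- the shifted commutator
  have e0 := shift_pow h s 0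
  have e1 := shift_pow h s l
  have e2 := shift_pow h s nu
  rw [zero_add] at e0
  rw [show nu + s = l by omega] at e2
  have hcs : g ^ s * cm (x 0) (x l) * (g ^ s)⁻¹ = cm (x s) (x (l + s)) := by
    rw [← e0, ← e1]
    unfold cm
    group
  have hcsmem : cm (x s) (x (l + s)) ∈ Hx x (1 + s) (nu + s) := by
    rw [← hcs]
    exact conj_mem_Hx h s 1 nu hc
  have hr'' : g ^ s * r' * (g ^ s)⁻¹ ∈ Hx x (1 + s) (nu - 1 + s) := conj_mem_Hx h s 1 (nu - 1) hr'
  have hcs2 : cm (x s) (x (l + s)) = g ^ s * r' * (g ^ s)⁻¹ * x l := by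
    rw [← hcs, hcr, ← e2]
    group
  -- d = [x_0, x_(l+s)]
  have hd : cm (x 0) (x (l + s)) ∈ Hx x (0 + 1) (l + s - 1) :=
    hcm 0 (l + s) (by omega) (by omega)
  have hd_xs : Commute (cm (x 0) (x (l + s))) (x s) :=
    commute_of_mem_Hx (fun j hj1 hj2 => hcomm j s (by omega) (by omega)) hd
  have hd_cs : Commute (cm (x 0) (x (l + s))) (cm (x s) (x (l + s))) := by
    refine (commute_of_mem_Hx (fun k hk1 hk2 => ?_) hcsmem).symm
    exact (commute_of_mem_Hx (fun j hj1 hj2 => hcomm j k (by omega) (by omega)) hd).symm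
  have h0s : Commute (x 0) (x s) := hcomm 0 s (by omega) (by omega)
  have hconj : x 0 * x (l + s) * (x 0)⁻¹ = cm (x 0) (x (l + s)) * x (l + s) := by
    unfold cm; group
  have hx0cs := conj_cm_eq h0s hconj hd_xs hd_cs
  -- x_0 centralizes r''
  have h0r : Commute (x 0) (g ^ s * r' * (g ^ s)⁻¹) := by
    refine (commute_of_mem_Hx (fun j hj1 hj2 => ?_) hr'').symm
    exact hcomm j 0 (by omega) (by omega)
  have hfin : x 0 * x l * (x 0)⁻¹ = x l := by
    have e : x 0 * (g ^ s * r' * (g ^ s)⁻¹ * x l) * (x 0)⁻¹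
        = g ^ s * r' * (g ^ s)⁻¹ * (x 0 * x l * (x 0)⁻¹) := by
      have hh : x 0 * (g ^ s * r' * (g ^ s)⁻¹) = g ^ s * r' * (g ^ s)⁻¹ * x 0 := h0r.eq
      calc x 0 * (g ^ s * r' * (g ^ s)⁻¹ * x l) * (x 0)⁻¹
          = (x 0 * (g ^ s * r' * (g ^ s)⁻¹)) * x l * (x 0)⁻¹ := by group
        _ = (g ^ s * r' * (g ^ s)⁻¹ * x 0) * x l * (x 0)⁻¹ := by rw [hh]
        _ = g ^ s * r' * (g ^ s)⁻¹ * (x 0 * x l * (x 0)⁻¹) := by group
    rw [hcs2, e] at hx0cs
    exact mul_left_cancel hx0cs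
  exact hnc (mul_inv_eq_iff_eq_mul.mp hfin)

end Cfsg.Agent.Lib.Helper5.SIMSL5
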