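import Mathlib
import Cfsg.Prelude.Def_ClassicalGeometry
import Cfsg.Prelude.Def_GeometricClasses
import Cfsg.Agent.Lib.Helper9.FrameF3

/-!
Tools for the stabilisers `tensorProductSubgroup n₁ n₂ e P` of a tensor decomposition relative to
a form: pure tensors, the action of the stabiliser on them, the value of the form on them, and,
over the field with three elements, the orthogonal frame of a symmetric form in dimension three
(characterised intrinsically, so that similitudes preserve it).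
-/

set_option autoImplicit false
set_option linter.unusedSectionVars false
set_option linter.unusedVariables false
set_option linter.unusedSimpArgs false

namespace Cfsg.Agent.Lib.Helper5.TensorGen
open Cfsg Matrix
open scoped Kronecker

section Tensor
variable {F : Type*} [Field F] {ι : Type} [Fintype ι] [DecidableEq ι] {n₁ n₂ : ℕ}
  (e : ι ≃ Fin n₁ × Fin n₂) (P : GL ι F)

/-- pure tensors in coordinates -/
def pt (u : Fin n₁ → F) (v : Fin n₂ → F) : Fin n₁ × Fin n₂ → F := fun p => u p.1 * v p.2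

/-- pure tensors in `F^ι` -/
def tau (u : Fin n₁ → F) (v : Fin n₂ → F) : ι → F :=
  (P : Matrix ι ι F) *ᵥ (pt u v ∘ e)

lemma pt_add_left (u u' : Fin n₁ → F) (v : Fin n₂ → F) : pt (u + u') v = pt u v + pt u' v := by
  ext p; simp [pt, add_mul]

lemma pt_add_right (u : Fin n₁ → F) (v v' : Fin n₂ → F) : pt u (v + v') = pt u v + pt u v' := by
  ext p; simp [pt, mul_add]

lemma pt_sub_right (u : Fin n₁ → F) (v v' : Fin n₂ → F) : pt u (v - v') = pt u v - pt u v' := by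
  ext p; simp [pt, mul_sub]

lemma pt_sub_left (u u' : Fin n₁ → F) (v : Fin n₂ → F) : pt (u - u') v = pt u v - pt u' v := by
  ext p; simp [pt, sub_mul]

lemma pt_smul_left (c : F) (u : Fin n₁ → F) (v : Fin n₂ → F) : pt (c • u) v = c • pt u v := by
  ext p; simp [pt, mul_assoc]

lemma pt_smul_right (c : F) (u : Fin n₁ → F) (v : Fin n₂ → F) : pt u (c • v) = c • pt u v := by
  ext p; simp [pt, mul_left_comm]

lemma tau_add_left (u u' : Fin n₁ → F) (v : Fin n₂ → F) :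
    tau e P (u + u') v = tau e P u v + tau e P u' v := by
  unfold tau; rw [pt_add_left, ← Matrix.mulVec_add]; rfl

lemma tau_add_right (u : Fin n₁ → F) (v v' : Fin n₂ → F) :
    tau e P u (v + v') = tau e P u v + tau e P u v' := by
  unfold tau; rw [pt_add_right, ← Matrix.mulVec_add]; rfl

lemma tau_sub_left (u u' : Fin n₁ → F) (v : Fin n₂ → F) :
    tau e P (u - u') v = tau e P u v - tau e P u' v := by
  unfold tau; rw [pt_sub_left, ← Matrix.mulVec_sub]; rfl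

lemma tau_sub_right (u : Fin n₁ → F) (v v' : Fin n₂ → F) :
    tau e P u (v - v') = tau e P u v - tau e P u v' := by
  unfold tau; rw [pt_sub_right, ← Matrix.mulVec_sub]; rfl

lemma tau_smul_left (c : F) (u : Fin n₁ → F) (v : Fin n₂ → F) :
    tau e P (c • u) v = c • tau e P u v := by
  unfold tau; rw [pt_smul_left, ← Matrix.mulVec_smul]; rfl

lemma tau_smul_right (c : F) (u : Fin n₁ → F) (v : Fin n₂ → F) :
    tau e P u (c • v) = c • tau e P u v := by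
  unfold tau; rw [pt_smul_right, ← Matrix.mulVec_smul]; rfl

lemma formOfGram_pt (σ : F → F) (hσ : ∀ a b, σ (a * b) = σ a * σ b)
    (G₁ : Matrix (Fin n₁) (Fin n₁) F) (G₂ : Matrix (Fin n₂) (Fin n₂) F)
    (u u' : Fin n₁ → F) (v v' : Fin n₂ → F) :
    Geo.formOfGram σ (G₁ ⊗ₖ G₂) (pt u v) (pt u' v') =
      Geo.formOfGram σ G₁ u u' * Geo.formOfGram σ G₂ v v' := by
  unfold Geo.formOfGram pt
  simp only [Fintype.sum_prod_type, Matrix.kroneckerMap_apply, hσ]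
  rw [Finset.sum_mul_sum]
  apply Finset.sum_congr rfl; intro i _
  apply Finset.sum_congr rfl; intro k _
  rw [Finset.sum_mul_sum]
  apply Finset.sum_congr rfl; intro j _
  apply Finset.sum_congr rfl; intro l _
  ring

lemma kron_mulVec_pt (a : Matrix (Fin n₁) (Fin n₁) F) (b : Matrix (Fin n₂) (Fin n₂) F)
    (u : Fin n₁ → F) (v : Fin n₂ → F) : (a ⊗ₖ b) *ᵥ pt u v = pt (a *ᵥ u) (b *ᵥ v) := by
  ext ⟨i, k⟩
  simp only [Matrix.mulVec, dotProduct, pt, Fintype.sum_prod_type, Matrix.kroneckerMap_apply]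
  rw [Finset.sum_mul_sum]
  apply Finset.sum_congr rfl; intro j _
  apply Finset.sum_congr rfl; intro l _
  ring

/-- elements of the tensor product stabiliser act factorwise on pure tensors -/
lemma T_act {g : GL ι F} (hg : g ∈ Geo.tensorProductSubgroup n₁ n₂ e P) :
    ∃ (a : GL (Fin n₁) F) (b : GL (Fin n₂) F), ∀ u v,
      (g : Matrix ι ι F) *ᵥ tau e P u v =
        tau e P ((a : Matrix (Fin n₁) (Fin n₁) F) *ᵥ u)
          ((b : Matrix (Fin n₂) (Fin n₂) F) *ᵥ v) := by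
  obtain ⟨y, ⟨k, ⟨a, b, hk⟩, rfl⟩, rfl⟩ := hg
  refine ⟨a, b, fun u v => ?_⟩
  have h1 : (((MulAut.conj P).toMonoidHom ((Geo.glReindex (F := F) e.symm).toMonoidHom k) :
      GL ι F) : Matrix ι ι F) =
      (P : Matrix ι ι F) *
        ((k : Matrix (Fin n₁ × Fin n₂) (Fin n₁ × Fin n₂) F).submatrix e e) *
        ((P⁻¹ : GL ι F) : Matrix ι ι F) := rfl
  unfold tau
  rw [h1, Matrix.mulVec_mulVec, mul_assoc, ← Units.val_mul, inv_mul_cancel, Units.val_one, mul_one,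
    ← Matrix.mulVec_mulVec, Matrix.submatrix_mulVec_equiv, Function.comp_assoc,
    Equiv.self_comp_symm, Function.comp_id, hk, kron_mulVec_pt]

end Tensor

section Bilin
variable {F : Type*} [Field F] {κ : Type} [Fintype κ] [DecidableEq κ]
  (f : (κ → F) → (κ → F) → F) (hf : Geo.IsBilinearForm f)
include hf

lemma bf_zero_left (v : κ → F) : f 0 v = 0 := by
  have := hf.smul_left 0 0 v
  simpa using this

lemma bf_zero_right (v : κ → F) : f v 0 = 0 := by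
  have := hf.smul_right 0 v 0
  simpa using this

lemma bf_sum_left {J : Type*} (s : Finset J) (g : J → κ → F) (v : κ → F) :
    f (∑ i ∈ s, g i) v = ∑ i ∈ s, f (g i) v := by
  classical
  induction s using Finset.induction_on with
  | empty => simp [bf_zero_left f hf]
  | insert a s ha ih => rw [Finset.sum_insert ha, Finset.sum_insert ha, hf.add_left, ih]

lemma bf_sum_right {J : Type*} (s : Finset J) (g : J → κ → F) (v : κ → F) :
    f v (∑ i ∈ s, g i) = ∑ i ∈ s, f v (g i) := by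
  classical
  induction s using Finset.induction_on with
  | empty => simp [bf_zero_right f hf]
  | insert a s ha ih => rw [Finset.sum_insert ha, Finset.sum_insert ha, hf.add_right, ih]

lemma bf_eq_formOfGram (x y : κ → F) :
    f x y = Geo.formOfGram id (Geo.gramMatrix f) x y := by
  have hx : x = ∑ a, x a • (Pi.single a (1 : F) : κ → F) := by
    ext j; simp [Finset.sum_apply, Pi.single_apply]
  have hy : y = ∑ b, y b • (Pi.single b (1 : F) : κ → F) := by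
    ext j; simp [Finset.sum_apply, Pi.single_apply]
  calc f x y = f (∑ a, x a • (Pi.single a (1 : F) : κ → F))
        (∑ b, y b • (Pi.single b (1 : F) : κ → F)) := by rw [← hx, ← hy]
    _ = _ := by
      rw [bf_sum_left f hf]
      unfold Geo.formOfGram Geo.gramMatrix
      apply Finset.sum_congr rfl; intro a _
      rw [bf_sum_right f hf]
      apply Finset.sum_congr rfl; intro b _
      rw [hf.smul_left, hf.smul_right]
      simp only [id]
      ring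

end Bilin

section FormTau
variable {F : Type*} [Field F] {ι : Type} [Fintype ι] [DecidableEq ι] {n₁ n₂ : ℕ}
  (e : ι ≃ Fin n₁ × Fin n₂) (P : GL ι F)

lemma nd_left {κ : Type} {f : (κ → F) → (κ → F) → F} (hnd : Geo.IsNondegenerateForm f)
    {x : κ → F} (h : ∀ y, f x y = 0) : x = 0 := by
  by_contra hx
  obtain ⟨-, ⟨y, hy⟩⟩ := hnd x hx
  exact hy (h y)

/-- the value of the ambient form on pure tensors -/
lemma form_tau (f : (ι → F) → (ι → F) → F)
    (f₁ : (Fin n₁ → F) → (Fin n₁ → F) → F) (hf₁ : Geo.IsBilinearForm f₁)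
    (f₂ : (Fin n₂ → F) → (Fin n₂ → F) → F) (hf₂ : Geo.IsBilinearForm f₂) (c₀ : F)
    (hT : ∀ x y : Fin n₁ × Fin n₂ → F,
      f ((P : Matrix ι ι F) *ᵥ (x ∘ e)) ((P : Matrix ι ι F) *ᵥ (y ∘ e)) =
        c₀ * Geo.formOfGram id (Geo.gramMatrix f₁ ⊗ₖ Geo.gramMatrix f₂) x y)
    (u u' : Fin n₁ → F) (v v' : Fin n₂ → F) :
    f (tau e P u v) (tau e P u' v') = c₀ * (f₁ u u' * f₂ v v') := by
  unfold tau
  rw [hT, formOfGram_pt _ (fun a b => rfl), ← bf_eq_formOfGram f₁ hf₁, ← bf_eq_formOfGram f₂ hf₂]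

end FormTau

section SetStab
variable {F : Type*} [Field F] {ι : Type} [Fintype ι] [DecidableEq ι]

/-- the setwise stabiliser of a set of vectors -/
def setStab (S : Set (ι → F)) : Subgroup (GL ι F) where
  carrier := {g | ∀ z, (g : Matrix ι ι F) *ᵥ z ∈ S ↔ z ∈ S}
  mul_mem' := fun {a b} ha hb v => by rw [Units.val_mul, ← Matrix.mulVec_mulVec, ha, hb]
  one_mem' := fun v => by simp
  inv_mem' := fun {a} ha v => by
    have := ha (((a⁻¹ : GL ι F) : Matrix ι ι F) *ᵥ v)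
    rw [Matrix.mulVec_mulVec, ← Units.val_mul, mul_inv_cancel, Units.val_one,
      Matrix.one_mulVec] at this
    exact this.symm

lemma gl_mulVec_inj (g : GL ι F) {u v : ι → F}
    (h : (g : Matrix ι ι F) *ᵥ u = (g : Matrix ι ι F) *ᵥ v) : u = v := by
  calc u = ((g⁻¹ : GL ι F) : Matrix ι ι F) *ᵥ ((g : Matrix ι ι F) *ᵥ u) := by
        rw [Matrix.mulVec_mulVec, ← Units.val_mul, inv_mul_cancel, Units.val_one,
          Matrix.one_mulVec]
    _ = ((g⁻¹ : GL ι F) : Matrix ι ι F) *ᵥ ((g : Matrix ι ι F) *ᵥ v) := by rw [h]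
    _ = v := by
        rw [Matrix.mulVec_mulVec, ← Units.val_mul, inv_mul_cancel, Units.val_one,
          Matrix.one_mulVec]

/-- over a finite field, mapping a set into itself is enough to stabilise it -/
lemma mem_setStab_of_mapsTo [Finite F] {g : GL ι F} {S : Set (ι → F)}
    (h : ∀ z ∈ S, (g : Matrix ι ι F) *ᵥ z ∈ S) : g ∈ setStab S := by
  intro z
  refine ⟨fun hz => ?_, h z⟩
  have hfin : S.Finite := Set.toFinite S
  have hinj : Set.InjOn (fun z => (g : Matrix ι ι F) *ᵥ z) S :=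
    fun a _ b _ hab => gl_mulVec_inj g hab
  have hbij := (hfin.injOn_iff_bijOn_of_mapsTo (f := fun z => (g : Matrix ι ι F) *ᵥ z) h).mp hinj
  obtain ⟨z', hz', hzz'⟩ := hbij.surjOn hz
  have : z' = z := gl_mulVec_inj g hzz'
  rwa [← this]

end SetStab

section Bundle
variable {F : Type*} [Field F] {κ : Type} [Fintype κ] [DecidableEq κ]
  (f : (κ → F) → (κ → F) → F)

/-- the bilinear map of a function that is bilinear -/
noncomputable def bilOf (hb : Geo.IsBilinearForm f) : LinearMap.BilinForm F (κ → F) :=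
  LinearMap.mk₂ F f hb.add_left (fun c x v => by rw [hb.smul_left, smul_eq_mul]) hb.add_right
    (fun c v x => by rw [hb.smul_right, smul_eq_mul])

/-- the quadratic form `v ↦ f v v` -/
noncomputable def qOf (hb : Geo.IsBilinearForm f) : QuadraticForm F (κ → F) :=
  LinearMap.BilinMap.toQuadraticMap (bilOf f hb)

lemma qOf_apply (hb : Geo.IsBilinearForm f) (x : κ → F) : qOf f hb x = f x x := rfl

lemma polar_qOf (hb : Geo.IsBilinearForm f) (hs : ∀ u v, f u v = f v u) (x y : κ → F) :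
    QuadraticMap.polar (qOf f hb) x y = 2 * f x y := by
  have h := LinearMap.BilinMap.polar_toQuadraticMap (B := bilOf f hb) x y
  have e1 : bilOf f hb x y = f x y := rfl
  have e2 : bilOf f hb y x = f y x := rfl
  rw [e1, e2, hs y x] at h
  have h' : QuadraticMap.polar (qOf f hb) x y = f x y + f x y := h
  rw [h']; ring

lemma ndOn_qOf (hf : Geo.IsSymmetricForm f) (h2 : (2 : F) ≠ 0) :
    Cfsg.Agent.Lib.Helper15.NdOn (qOf f hf.bilinear) ⊤ := by
  intro w _ h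
  by_contra hw
  obtain ⟨-, ⟨y, hy⟩⟩ := hf.nondegenerate w hw
  have := h y Submodule.mem_top
  rw [polar_qOf f hf.bilinear hf.symm] at this
  exact hy ((mul_eq_zero.mp this).resolve_left h2)

end Bundle

section Frame3
variable {F : Type*} [Field F] [Fintype F]

/-- vectors that are not isotropic and whose orthogonal complement is anisotropic -/
def Fr (f : (Fin 3 → F) → (Fin 3 → F) → F) : Set (Fin 3 → F) :=
  {v | f v v ≠ 0 ∧ ∀ w, f v w = 0 → f w w = 0 → w = 0}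

lemma Fr_simil {f : (Fin 3 → F) → (Fin 3 → F) → F} {B : GL (Fin 3) F} {μ : F} (hμ : μ ≠ 0)
    (hB : ∀ v v', f ((B : Matrix (Fin 3) (Fin 3) F) *ᵥ v)
      ((B : Matrix (Fin 3) (Fin 3) F) *ᵥ v') = μ * f v v')
    {v : Fin 3 → F} (hv : v ∈ Fr f) : (B : Matrix (Fin 3) (Fin 3) F) *ᵥ v ∈ Fr f := by
  refine ⟨?_, ?_⟩
  · rw [hB]; exact mul_ne_zero hμ hv.1
  · intro w h1 h2
    obtain ⟨w', rfl⟩ : ∃ w', w = (B : Matrix (Fin 3) (Fin 3) F) *ᵥ w' :=
      ⟨((B⁻¹ : GL (Fin 3) F) : Matrix (Fin 3) (Fin 3) F) *ᵥ w, by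
        rw [Matrix.mulVec_mulVec, ← Units.val_mul, mul_inv_cancel, Units.val_one,
          Matrix.one_mulVec]⟩
    rw [hB] at h1 h2
    have h1' : f v w' = 0 := (mul_eq_zero.mp h1).resolve_left hμ
    have h2' : f w' w' = 0 := (mul_eq_zero.mp h2).resolve_left hμ
    rw [hv.2 w' h1' h2', Matrix.mulVec_zero]

/-- an orthogonal basis of vectors of one norm -/
structure IsFr (f : (Fin 3 → F) → (Fin 3 → F) → F) (d : F) (E₀ E₁ E₂ : Fin 3 → F) : Prop where
  d_ne : d ≠ 0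
  n0 : f E₀ E₀ = d
  n1 : f E₁ E₁ = d
  n2 : f E₂ E₂ = d
  o01 : f E₀ E₁ = 0
  o02 : f E₀ E₂ = 0
  o12 : f E₁ E₂ = 0
  span : ∀ v : Fin 3 → F, ∃ a₀ a₁ a₂ : F, v = a₀ • E₀ + a₁ • E₁ + a₂ • E₂

variable {f : (Fin 3 → F) → (Fin 3 → F) → F} {d : F} {E₀ E₁ E₂ : Fin 3 → F}

lemma IsFr.o10 (h : IsFr f d E₀ E₁ E₂) (hf : Geo.IsSymmetricForm f) : f E₁ E₀ = 0 := by
  rw [hf.symm]; exact h.o01

lemma IsFr.o20 (h : IsFr f d E₀ E₁ E₂) (hf : Geo.IsSymmetricForm f) : f E₂ E₀ = 0 := by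
  rw [hf.symm]; exact h.o02

lemma IsFr.o21 (h : IsFr f d E₀ E₁ E₂) (hf : Geo.IsSymmetricForm f) : f E₂ E₁ = 0 := by
  rw [hf.symm]; exact h.o12

lemma IsFr.comb (h : IsFr f d E₀ E₁ E₂) (hf : Geo.IsSymmetricForm f) (a₀ a₁ a₂ b₀ b₁ b₂ : F) :
    f (a₀ • E₀ + a₁ • E₁ + a₂ • E₂) (b₀ • E₀ + b₁ • E₁ + b₂ • E₂) =
      d * (a₀ * b₀ + a₁ * b₁ + a₂ * b₂) := by
  have hb := hf.bilinear
  simp only [hb.add_left, hb.add_right, hb.smul_left, hb.smul_right, h.n0, h.n1, h.n2, h.o01,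
    h.o02, h.o12, h.o10 hf, h.o20 hf, h.o21 hf]
  ring

lemma IsFr.pairR0 (h : IsFr f d E₀ E₁ E₂) (hf : Geo.IsSymmetricForm f) (a₀ a₁ a₂ : F) :
    f (a₀ • E₀ + a₁ • E₁ + a₂ • E₂) E₀ = d * a₀ := by
  have hb := hf.bilinear
  simp only [hb.add_left, hb.smul_left, h.n0, h.o10 hf, h.o20 hf]
  ring

lemma IsFr.pairR1 (h : IsFr f d E₀ E₁ E₂) (hf : Geo.IsSymmetricForm f) (a₀ a₁ a₂ : F) :
    f (a₀ • E₀ + a₁ • E₁ + a₂ • E₂) E₁ = d * a₁ := by
  have hb := hf.bilinear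
  simp only [hb.add_left, hb.smul_left, h.n1, h.o01, h.o21 hf]
  ring

lemma IsFr.pairR2 (h : IsFr f d E₀ E₁ E₂) (hf : Geo.IsSymmetricForm f) (a₀ a₁ a₂ : F) :
    f (a₀ • E₀ + a₁ • E₁ + a₂ • E₂) E₂ = d * a₂ := by
  have hb := hf.bilinear
  simp only [hb.add_left, hb.smul_left, h.n2, h.o02, h.o12]
  ring

lemma IsFr.pairL0 (h : IsFr f d E₀ E₁ E₂) (hf : Geo.IsSymmetricForm f) (b₀ b₁ b₂ : F) :
    f E₀ (b₀ • E₀ + b₁ • E₁ + b₂ • E₂) = d * b₀ := by
  rw [hf.symm]; exact h.pairR0 hf b₀ b₁ b₂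

lemma IsFr.swap12 (h : IsFr f d E₀ E₁ E₂) (hf : Geo.IsSymmetricForm f) : IsFr f d E₀ E₂ E₁ :=
  ⟨h.d_ne, h.n0, h.n2, h.n1, h.o02, h.o01, h.o21 hf, fun v => by
    obtain ⟨a₀, a₁, a₂, rfl⟩ := h.span v
    exact ⟨a₀, a₂, a₁, by abel⟩⟩

lemma IsFr.swap01 (h : IsFr f d E₀ E₁ E₂) (hf : Geo.IsSymmetricForm f) : IsFr f d E₁ E₀ E₂ :=
  ⟨h.d_ne, h.n1, h.n0, h.n2, h.o10 hf, h.o12, h.o02, fun v => by
    obtain ⟨a₀, a₁, a₂, rfl⟩ := h.span v
    exact ⟨a₁, a₀, a₂, by abel⟩⟩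

open Cfsg.Agent.Lib.Helper9.FrameF3 Cfsg.Agent.Lib.Helper9.PlusPlane in
lemma IsFr.key (h : IsFr f d E₀ E₁ E₂) (hf : Geo.IsSymmetricForm f) (hq : Fintype.card F = 3)
    {a₀ a₁ a₂ : F} (hv : a₀ • E₀ + a₁ • E₁ + a₂ • E₂ ∈ Fr f) : a₀ = 0 ∨ a₁ = 0 := by
  by_contra hcon
  push Not at hcon
  obtain ⟨h0, h1⟩ := hcon
  have hle : Fintype.card F ≤ 3 := le_of_eq hq
  have s0 : a₀ * a₀ = 1 := mul_self_eq_one_of_card_le hle h0
  have s1 : a₁ * a₁ = 1 := mul_self_eq_one_of_card_le hle h1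
  have h3 : (3 : F) = 0 := three_eq_zero hq
  by_cases h2 : a₂ = 0
  · have hw := hv.2 (a₀ • E₀ + (-a₁) • E₁ + (1 : F) • E₂)
      (by rw [h.comb hf]; linear_combination d * s0 - d * s1 + d * h2)
      (by rw [h.comb hf]; linear_combination d * s0 + d * s1 + d * h3)
    have h4 := h.pairR2 hf a₀ (-a₁) 1
    rw [hw, bf_zero_left f hf.bilinear, mul_one] at h4
    exact h.d_ne h4.symm
  · have s2 : a₂ * a₂ = 1 := mul_self_eq_one_of_card_le hle h2
    apply hv.1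
    rw [h.comb hf]
    linear_combination d * s0 + d * s1 + d * s2 + d * h3

lemma IsFr.cases01 (h : IsFr f d E₀ E₁ E₂) (hf : Geo.IsSymmetricForm f)
    (hq : Fintype.card F = 3) {v : Fin 3 → F} (hv : v ∈ Fr f) : f v E₀ = 0 ∨ f v E₁ = 0 := by
  obtain ⟨a₀, a₁, a₂, rfl⟩ := h.span v
  rcases h.key hf hq hv with h0 | h1
  · left; rw [h.pairR0 hf, h0, mul_zero]
  · right; rw [h.pairR1 hf, h1, mul_zero]

lemma IsFr.cases0 (h : IsFr f d E₀ E₁ E₂) (hf : Geo.IsSymmetricForm f)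
    (hq : Fintype.card F = 3) {v : Fin 3 → F} (hv : v ∈ Fr f) :
    f v E₀ = 0 ∨ ∃ s : F, v = s • E₀ := by
  obtain ⟨a₀, a₁, a₂, rfl⟩ := h.span v
  by_cases h0 : a₀ = 0
  · left; rw [h.pairR0 hf, h0, mul_zero]
  · right
    have h1 : a₁ = 0 := (h.key hf hq hv).resolve_left h0
    have hv' : a₀ • E₀ + a₂ • E₂ + a₁ • E₁ ∈ Fr f := by
      have e : a₀ • E₀ + a₂ • E₂ + a₁ • E₁ = a₀ • E₀ + a₁ • E₁ + a₂ • E₂ := by abel
      rw [e]; exact hv
    have h2 : a₂ = 0 := ((h.swap12 hf).key hf hq hv').resolve_left h0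
    exact ⟨a₀, by rw [h1, h2, zero_smul, zero_smul, add_zero, add_zero]⟩

open Cfsg.Agent.Lib.Helper9.FrameF3 in
lemma IsFr.mem0 (h : IsFr f d E₀ E₁ E₂) (hf : Geo.IsSymmetricForm f)
    (hq : Fintype.card F = 3) : E₀ ∈ Fr f := by
  refine ⟨by rw [h.n0]; exact h.d_ne, ?_⟩
  intro w h1 h2
  obtain ⟨b₀, b₁, b₂, rfl⟩ := h.span w
  rw [h.pairL0 hf] at h1
  have hb0 : b₀ = 0 := (mul_eq_zero.mp h1).resolve_left h.d_ne
  rw [h.comb hf] at h2
  have h3 : b₁ * b₁ + b₂ * b₂ = 0 := by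
    have := (mul_eq_zero.mp h2).resolve_left h.d_ne
    rw [hb0] at this
    linear_combination this
  obtain ⟨hb1, hb2⟩ := sq_sum2_zero hq h3
  rw [hb0, hb1, hb2]
  simp

open Cfsg.Agent.Lib.Helper9.FrameF3 Module in
/-- every non-degenerate symmetric form on `𝔽₃³` has an orthogonal basis of vectors of one norm -/
lemma exists_isFr (hq : Fintype.card F = 3) (hf : Geo.IsSymmetricForm f) :
    ∃ (d : F) (E₀ E₁ E₂ : Fin 3 → F), IsFr f d E₀ E₁ E₂ := by
  have h2 := two_ne_zero' hq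
  have hb := hf.bilinear
  have hW := ndOn_qOf f hf h2
  have hdim : finrank F (⊤ : Submodule F (Fin 3 → F)) = 3 := by
    rw [finrank_top, Module.finrank_fin_fun]
  obtain ⟨E, c, hE⟩ := exists_frame_three (qOf f hb) hq hW hdim
  have hnorm : ∀ j, f (E j) (E j) = c := fun j => hE.norm j
  have horth : ∀ j j', j ≠ j' → f (E j) (E j') = 0 := fun j j' hjj => by
    have := hE.orth j j' hjj
    rw [polar_qOf f hb hf.symm] at this
    exact (mul_eq_zero.mp this).resolve_left h2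
  have hspan := span_eq_of_orth (qOf f hb) h2 hdim hE.ne hE.mem hE.norm hE.orth
  refine ⟨c, E 0, E 1, E 2, hE.ne, hnorm 0, hnorm 1, hnorm 2, horth 0 1 (by decide),
    horth 0 2 (by decide), horth 1 2 (by decide), fun v => ?_⟩
  have hv : v ∈ Submodule.span F (Set.range E) := by rw [hspan]; exact Submodule.mem_top
  obtain ⟨x, hx⟩ := (Submodule.mem_span_range_iff_exists_fun F).mp hv
  exact ⟨x 0, x 1, x 2, by rw [← hx, Fin.sum_univ_three]⟩

end Frame3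

section Special
variable {F : Type*} [Field F] [Fintype F]

open Cfsg.Agent.Lib.Helper9.FrameF3 Module in
/-- in dimension at least four: a singular vector, a non-singular vector orthogonal to it and a
vector not orthogonal to it -/
lemma exists_special {k : ℕ} (hk : 4 ≤ k) {f : (Fin k → F) → (Fin k → F) → F}
    (hf : Geo.IsSymmetricForm f) (hq : Fintype.card F = 3) :
    ∃ u₀ y₀ u : Fin k → F, f u₀ u₀ = 0 ∧ f u₀ y₀ = 0 ∧ f y₀ y₀ ≠ 0 ∧ f u₀ u ≠ 0 := by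
  have h2 := two_ne_zero' hq
  have h3 := three_eq_zero hq
  have hb := hf.bilinear
  obtain ⟨n, rfl⟩ : ∃ n, k = n + 1 := ⟨k - 1, by omega⟩
  have hW := ndOn_qOf f hf h2
  have hdim : finrank F (⊤ : Submodule F (Fin (n + 1) → F)) = n + 1 := by
    rw [finrank_top, Module.finrank_fin_fun]
  obtain ⟨v, -, hvo, hv1, -⟩ := Cfsg.Agent.Lib.Helper15.orth_family h2 (qOf f hb) n ⊤ hW hdim
  have hl : ∀ (j : ℕ) (hj : j < n + 1), j < 3 → (⟨j, hj⟩ : Fin (n + 1)) ≠ Fin.last n := by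
    intro j hj hj3 h
    have h' : j = n := by simpa using congrArg Fin.val h
    omega
  have hdist : ∀ (i j : ℕ) (hi : i < n + 1) (hj : j < n + 1), i ≠ j →
      (⟨i, hi⟩ : Fin (n + 1)) ≠ ⟨j, hj⟩ := fun i j hi hj hij h => hij (Fin.mk.inj_iff.mp h)
  have hnorm : ∀ (j : ℕ) (hj : j < n + 1), j < 3 → f (v ⟨j, hj⟩) (v ⟨j, hj⟩) = 1 :=
    fun j hj hj3 => hv1 _ (hl j hj hj3)
  have horth : ∀ (i j : ℕ) (hi : i < n + 1) (hj : j < n + 1), i ≠ j →
      f (v ⟨i, hi⟩) (v ⟨j, hj⟩) = 0 := fun i j hi hj hij => by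
    have := hvo _ _ (hdist i j hi hj hij)
    rw [polar_qOf f hb hf.symm] at this
    exact (mul_eq_zero.mp this).resolve_left h2
  obtain ⟨a, b, c, haa, hbb, hcc, hab, hac, hbc⟩ : ∃ a b c : Fin (n + 1) → F,
      f a a = 1 ∧ f b b = 1 ∧ f c c = 1 ∧ f a b = 0 ∧ f a c = 0 ∧ f b c = 0 :=
    ⟨v ⟨0, by omega⟩, v ⟨1, by omega⟩, v ⟨2, by omega⟩, hnorm 0 _ (by omega), hnorm 1 _ (by omega),
      hnorm 2 _ (by omega), horth 0 1 _ _ (by omega), horth 0 2 _ _ (by omega),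
      horth 1 2 _ _ (by omega)⟩
  have hba : f b a = 0 := by rw [hf.symm]; exact hab
  have hca : f c a = 0 := by rw [hf.symm]; exact hac
  have hcb : f c b = 0 := by rw [hf.symm]; exact hbc
  refine ⟨a + b + c, a + (-1 : F) • b, a, ?_, ?_, ?_, ?_⟩
  · simp only [hb.add_left, hb.add_right, haa, hbb, hcc, hab, hac, hbc, hba, hca, hcb]
    linear_combination h3
  · simp only [hb.add_left, hb.add_right, hb.smul_right, haa, hbb, hcc, hab, hac, hbc, hba, hca,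
      hcb]
    ring
  · simp only [hb.add_left, hb.add_right, hb.smul_right, hb.smul_left, haa, hbb, hab, hba]
    intro h
    apply h2
    linear_combination h
  · simp only [hb.add_left, haa, hba, hca]
    simp

end Special

section Stab
variable {F : Type*} [Field F] [Fintype F] {ι : Type} [Fintype ι] [DecidableEq ι] {n₁ n₂ : ℕ}

/-- pure tensors whose first factor (of dimension three) lies in the frame -/
def S1 (e : ι ≃ Fin 3 × Fin n₂) (P : GL ι F) (f₁ : (Fin 3 → F) → (Fin 3 → F) → F) :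
    Set (ι → F) :=
  {z | ∃ v u, v ∈ Fr f₁ ∧ z = tau e P v u}

/-- pure tensors whose second factor (of dimension three) lies in the frame -/
def S2 (e : ι ≃ Fin n₁ × Fin 3) (P : GL ι F) (f₂ : (Fin 3 → F) → (Fin 3 → F) → F) :
    Set (ι → F) :=
  {z | ∃ u v, v ∈ Fr f₂ ∧ z = tau e P u v}

lemma stab_fwd1 (e : ι ≃ Fin 3 × Fin n₂) (P : GL ι F) {f : (ι → F) → (ι → F) → F}
    (f₁ : (Fin 3 → F) → (Fin 3 → F) → F) (f₂ : (Fin n₂ → F) → (Fin n₂ → F) → F)
    (c₀ : F) (hc₀ : c₀ ≠ 0)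
    (hH : ∀ v v' u u', f (tau e P v u) (tau e P v' u') = c₀ * (f₁ v v' * f₂ u u'))
    {w₀ w₀' : Fin n₂ → F} (hw : f₂ w₀ w₀' ≠ 0) {v₀ v₀' : Fin 3 → F} (hv : f₁ v₀ v₀' ≠ 0)
    {g : GL ι F} (hgT : g ∈ Geo.tensorProductSubgroup 3 n₂ e P)
    (hgf : ∀ x y, f ((g : Matrix ι ι F) *ᵥ x) ((g : Matrix ι ι F) *ᵥ y) = f x y)
    {z : ι → F} (hz : z ∈ S1 e P f₁) : (g : Matrix ι ι F) *ᵥ z ∈ S1 e P f₁ := by
  obtain ⟨a, b, hab⟩ := T_act e P hgT
  obtain ⟨v, u, hv', rfl⟩ := hz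
  refine ⟨_, _, ?_, hab v u⟩
  have key : ∀ x x', f₁ ((a : Matrix (Fin 3) (Fin 3) F) *ᵥ x)
      ((a : Matrix (Fin 3) (Fin 3) F) *ᵥ x') *
      f₂ ((b : Matrix (Fin n₂) (Fin n₂) F) *ᵥ w₀) ((b : Matrix (Fin n₂) (Fin n₂) F) *ᵥ w₀') =
      f₁ x x' * f₂ w₀ w₀' := by
    intro x x'
    have := hgf (tau e P x w₀) (tau e P x' w₀')
    rw [hab, hab, hH, hH] at this
    exact mul_left_cancel₀ hc₀ this
  have hB : f₂ ((b : Matrix (Fin n₂) (Fin n₂) F) *ᵥ w₀)
      ((b : Matrix (Fin n₂) (Fin n₂) F) *ᵥ w₀') ≠ 0 := by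
    intro h0
    have := key v₀ v₀'
    rw [h0, mul_zero] at this
    exact (mul_ne_zero hv hw) this.symm
  apply Fr_simil (μ := f₂ w₀ w₀' / f₂ ((b : Matrix (Fin n₂) (Fin n₂) F) *ᵥ w₀)
    ((b : Matrix (Fin n₂) (Fin n₂) F) *ᵥ w₀')) (div_ne_zero hw hB) _ hv'
  intro x x'
  rw [div_mul_eq_mul_div, eq_div_iff hB, mul_comm (f₂ w₀ w₀')]
  exact key x x'

lemma stab_fwd2 (e : ι ≃ Fin n₁ × Fin 3) (P : GL ι F) {f : (ι → F) → (ι → F) → F}
    (f₁ : (Fin n₁ → F) → (Fin n₁ → F) → F) (f₂ : (Fin 3 → F) → (Fin 3 → F) → F)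
    (c₀ : F) (hc₀ : c₀ ≠ 0)
    (hH : ∀ u u' v v', f (tau e P u v) (tau e P u' v') = c₀ * (f₁ u u' * f₂ v v'))
    {w₀ w₀' : Fin n₁ → F} (hw : f₁ w₀ w₀' ≠ 0) {v₀ v₀' : Fin 3 → F} (hv : f₂ v₀ v₀' ≠ 0)
    {g : GL ι F} (hgT : g ∈ Geo.tensorProductSubgroup n₁ 3 e P)
    (hgf : ∀ x y, f ((g : Matrix ι ι F) *ᵥ x) ((g : Matrix ι ι F) *ᵥ y) = f x y)
    {z : ι → F} (hz : z ∈ S2 e P f₂) : (g : Matrix ι ι F) *ᵥ z ∈ S2 e P f₂ := by
  obtain ⟨a, b, hab⟩ := T_act e P hgT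
  obtain ⟨u, v, hv', rfl⟩ := hz
  refine ⟨_, _, ?_, hab u v⟩
  have key : ∀ x x', f₁ ((a : Matrix (Fin n₁) (Fin n₁) F) *ᵥ w₀)
      ((a : Matrix (Fin n₁) (Fin n₁) F) *ᵥ w₀') *
      f₂ ((b : Matrix (Fin 3) (Fin 3) F) *ᵥ x) ((b : Matrix (Fin 3) (Fin 3) F) *ᵥ x') =
      f₁ w₀ w₀' * f₂ x x' := by
    intro x x'
    have := hgf (tau e P w₀ x) (tau e P w₀' x')
    rw [hab, hab, hH, hH] at this
    exact mul_left_cancel₀ hc₀ this
  have hA : f₁ ((a : Matrix (Fin n₁) (Fin n₁) F) *ᵥ w₀)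
      ((a : Matrix (Fin n₁) (Fin n₁) F) *ᵥ w₀') ≠ 0 := by
    intro h0
    have := key v₀ v₀'
    rw [h0, zero_mul] at this
    exact (mul_ne_zero hw hv) this.symm
  apply Fr_simil (μ := f₁ w₀ w₀' / f₁ ((a : Matrix (Fin n₁) (Fin n₁) F) *ᵥ w₀)
    ((a : Matrix (Fin n₁) (Fin n₁) F) *ᵥ w₀')) (div_ne_zero hw hA) _ hv'
  intro x x'
  rw [div_mul_eq_mul_div, eq_div_iff hA, mul_comm _ (f₁ _ _)]
  exact key x x'

end Stab

end Cfsg.Agent.Lib.Helper5.TensorGen
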