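import Mathlib

/-!
S2148 market "U3", leaf A2 CARDINF (planner helper12): `G = H P ⟹ |H ∩ P| * |G : H| = |P|`.
-/

set_option autoImplicit false

namespace Cfsg.Agent.Lib.Helper5.U3Leaf

/-- A2 CARDINF. -/
theorem card_inf_mul_index {G : Type*} [Group G] [Finite G] (P H : Subgroup G)
    (htr : ∀ g : G, ∃ h ∈ H, ∃ b ∈ P, g = h * b) :
    Nat.card ↥(H ⊓ P) * H.index = Nat.card P := by
  classical
  -- `P` acts on `G ⧸ H`, transitively; the stabiliser of the base coset is `H ⊓ P`.
  have horb : MulAction.orbit P ((1 : G) : G ⧸ H) = Set.univ := by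
    apply Set.eq_univ_of_forall
    intro x
    induction x using QuotientGroup.induction_on with
    | H g =>
      obtain ⟨h, hh, b, hb, hg⟩ := htr g⁻¹
      refine ⟨⟨b⁻¹, P.inv_mem hb⟩, ?_⟩
      change ((b⁻¹ * 1 : G) : G ⧸ H) = (g : G ⧸ H)
      rw [QuotientGroup.eq]
      have : g = b⁻¹ * h⁻¹ := by
        rw [← inv_inv g, hg]; group
      rw [this]
      have : (b⁻¹ * 1)⁻¹ * (b⁻¹ * h⁻¹) = h⁻¹ := by group
      rw [this]
      exact H.inv_mem hh
  have hstab : MulAction.stabilizer P ((1 : G) : G ⧸ H) = H.subgroupOf P := by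
    ext ⟨b, hb⟩
    rw [MulAction.mem_stabilizer_iff, Subgroup.mem_subgroupOf]
    change ((b * 1 : G) : G ⧸ H) = ((1 : G) : G ⧸ H) ↔ b ∈ H
    rw [QuotientGroup.eq]
    constructor
    · intro h
      have := H.inv_mem h
      simpa using this
    · intro h
      have := H.inv_mem h
      simpa using this
  have hos : Nat.card ↥P = Nat.card (↥P ⧸ MulAction.stabilizer P ((1 : G) : G ⧸ H)) *
      Nat.card ↥(MulAction.stabilizer P ((1 : G) : G ⧸ H)) :=
    Subgroup.card_eq_card_quotient_mul_card_subgroup _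
  have hq : Nat.card (↥P ⧸ MulAction.stabilizer P ((1 : G) : G ⧸ H)) = H.index := by
    rw [← Nat.card_congr (MulAction.orbitEquivQuotientStabilizer P ((1 : G) : G ⧸ H)), horb,
      Nat.card_univ]
    rfl
  have h1 : Nat.card ↥(H.subgroupOf P) = Nat.card ↥(H ⊓ P) := by
    rw [← Subgroup.inf_subgroupOf_right]
    exact Nat.card_congr (Subgroup.subgroupOfEquivOfLe (inf_le_right : H ⊓ P ≤ P)).toEquiv
  rw [hq, hstab, h1] at hos
  rw [mul_comm]; exact hos.symm

end Cfsg.Agent.Lib.Helper5.U3Leaf
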