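import Mathlib

/-!
S2148 market "U3", arithmetic for leaf A4 GAMMA (planner helper12).
-/

set_option autoImplicit false

namespace Cfsg.Agent.Lib.Helper5.U3Leaf

/-- `e ∣ q`, `1 < e`, `q + 1 ∣ e² - 1` ⟹ `e = q`. -/
theorem gamma_arith_sq {e q : ℕ} (he1 : 1 < e) (hed : e ∣ q) (hq : 0 < q)
    (h : (q + 1) ∣ e ^ 2 - 1) : e = q := by
  obtain ⟨y, rfl⟩ := hed
  obtain ⟨k, hk⟩ := h
  rcases Nat.lt_or_ge y 2 with hy | hy
  · interval_cases y
    · simp at hq
    · simp
  · exfalso
    have h0 : 1 ≤ e ^ 2 := Nat.one_le_pow _ _ (by omega)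
    have h1 : e * e = (e * y + 1) * k + 1 := by
      have : e ^ 2 = (e * y + 1) * k + 1 := by omega
      rw [← this]; ring
    have h2 : e ∣ k + 1 := by
      have h3 : k + 1 = e * e - e * (y * k) := by
        have : e * e = e * (y * k) + (k + 1) := by rw [h1]; ring
        omega
      rw [h3]
      exact Nat.dvd_sub (Dvd.intro _ rfl) (Dvd.intro _ rfl)
    have h4 : e ≤ k + 1 := Nat.le_of_dvd (by omega) h2
    obtain ⟨j, hj⟩ := Nat.exists_eq_add_of_le h4
    obtain ⟨z, rfl⟩ := Nat.exists_eq_add_of_le hy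
    obtain ⟨e', rfl⟩ := Nat.exists_eq_add_of_le (show 2 ≤ e by omega)
    have hk' : k = e' + 1 + j := by omega
    subst hk'
    nlinarith [Nat.zero_le (e' * z), Nat.zero_le (e' * j), Nat.zero_le (e' * e'),
      Nat.zero_le ((2 + e') * (2 + z) * (e' + 1 + j))]

/-- The small cases `|Q| ∈ {12, 24, 60}`. -/
theorem gamma_arith_small {e m q N : ℕ} (hN : N = 12 ∨ N = 24 ∨ N = 60) (hem : e * m = N)
    (hcop : Nat.Coprime e m) (hqm : (q + 1) ∣ m) (hed : e ∣ q) (he1 : 1 < e) (hq : 3 ≤ q) :
    e = q ∨ (q = 9 ∧ e = 3) := by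
  have hN0 : 0 < N := by rcases hN with rfl | rfl | rfl <;> norm_num
  have hm0 : 0 < m := Nat.pos_of_ne_zero (by rintro rfl; simp at hem; omega)
  have hqN : (q + 1) ∣ N := hem ▸ Dvd.dvd.mul_left hqm e
  have hqle : q + 1 ≤ N := Nat.le_of_dvd hN0 hqN
  have heq : e ≤ q := Nat.le_of_dvd (by omega) hed
  have hm : m = N / e := by rw [← hem, Nat.mul_div_cancel_left _ (by omega)]
  subst hm
  rcases hN with rfl | rfl | rfl
  · have hq' : q ≤ 59 := by omega
    interval_cases q <;> first | (exfalso; revert hqN; decide) | skip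
    all_goals interval_cases e <;> first | (exfalso; revert hed; decide) | skip
    all_goals first | (left; rfl) | (exfalso; revert hcop; decide) | (exfalso; revert hqm; decide)
  · have hq' : q ≤ 59 := by omega
    interval_cases q <;> first | (exfalso; revert hqN; decide) | skip
    all_goals interval_cases e <;> first | (exfalso; revert hed; decide) | skip
    all_goals first | (left; rfl) | (exfalso; revert hcop; decide) | (exfalso; revert hqm; decide)
  · have hq' : q ≤ 59 := by omega
    interval_cases q <;> first | (exfalso; revert hqN; decide) | skip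
    all_goals interval_cases e <;> first | (exfalso; revert hed; decide) | skip
    all_goals first | (left; rfl) | (right; exact ⟨rfl, rfl⟩) | (exfalso; revert hcop; decide) |
      (exfalso; revert hqm; decide)

end Cfsg.Agent.Lib.Helper5.U3Leaf
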