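import Mathlib
import Cfsg.Agent.Lib.Helper13.DkMax
import Cfsg.Agent.Lib.Helper5.U3GAMMAArith

/-!
S2148 market "U3", leaf A4 GAMMA (planner helper12): the abstract quotient `Q` with `q + 1` Sylow
`p`-subgroups of order `e`, run through helper13's `Dk.Concl'`.
-/

set_option autoImplicit false

namespace Cfsg.Agent.Lib.Helper5.U3Leaf

open Cfsg.Agent.Lib.Helper13

theorem gamma_core {F : Type*} [Field F] [Fintype F] {q p : ℕ} [Fact p.Prime] (a : ℕ)
    (hqa : q = p ^ a) (hq : 3 ≤ q) {Q : Type*} [Group Q] [Finite Q] {e : ℕ} (he1 : 1 < e)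
    (hed : e ∣ q) (hcard : ∀ P : Sylow p Q, Nat.card P = e)
    (hn : Nat.card (Sylow p Q) = q + 1)
    (hD : Dk.Concl' F (q ^ 2) p Q) : e = q ∨ (p = 2 ∧ e = 2) ∨ (q = 9 ∧ e = 3) := by
  classical
  have hp := (Fact.out : p.Prime)
  have ha : 1 ≤ a := by
    rcases a with _ | a
    · simp at hqa; omega
    · omega
  have hpq : p ∣ q := hqa ▸ dvd_pow_self p (by omega)
  obtain ⟨b, hba, heb⟩ := (Nat.dvd_prime_pow hp).1 (hqa ▸ hed)
  have hb : 1 ≤ b := by
    rcases b with _ | b
    · simp at heb; omega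
    · omega
  have hpe : p ∣ e := heb ▸ dvd_pow_self p (by omega)
  obtain ⟨P⟩ : Nonempty (Sylow p Q) := inferInstance
  set m := (P : Subgroup Q).index with hm
  set N := Nat.card Q with hNdef
  have hem : e * m = N := by rw [← hcard P]; exact Subgroup.card_mul_index _
  have hcop : Nat.Coprime e m := by rw [← hcard P]; exact P.card_coprime_index
  have hqm : (q + 1) ∣ m := by rw [← hn]; exact P.card_dvd_index
  have hpm : ¬ p ∣ m := by
    intro h
    have := Nat.dvd_gcd hpe h
    rw [hcop] at this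
    exact hp.one_lt.ne' (Nat.dvd_one.1 this)
  have hpN : p ∣ N := hem ▸ Dvd.dvd.mul_right hpe m
  have hq2 : 1 ≤ q ^ 2 := Nat.one_le_pow _ _ (by omega)
  have hpq2 : p ∣ q ^ 2 := dvd_pow hpq (by norm_num)
  -- `p` is coprime to `q² ± 1`
  have hnd1 : ¬ p ∣ q ^ 2 + 1 := by
    intro h
    have := (Nat.dvd_add_right hpq2).1 h
    exact hp.one_lt.ne' (Nat.dvd_one.1 this)
  have hnd2 : ¬ p ∣ q ^ 2 - 1 := by
    intro h
    have h2 : p ∣ q ^ 2 - (q ^ 2 - 1) := Nat.dvd_sub hpq2 h
    have h3 : q ^ 2 - (q ^ 2 - 1) = 1 := by omega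
    rw [h3] at h2
    exact hp.one_lt.ne' (Nat.dvd_one.1 h2)
  -- a divisor `k` of `(q² ± 1)/gcd` divides `q² ± 1`
  have hkdvd : ∀ k : ℕ, (k ∣ (q ^ 2 + 1) / Nat.gcd 2 (q ^ 2 - 1) ∨ k ∣ (q ^ 2 - 1) / Nat.gcd 2 (q ^ 2 - 1)) →
      k ∣ q ^ 2 + 1 ∨ k ∣ q ^ 2 - 1 := by
    intro k hk
    rcases hk with hk | hk
    · left
      refine hk.trans (Nat.div_dvd_of_dvd ?_)
      have hg2 : Nat.gcd 2 (q ^ 2 - 1) ∣ 2 := Nat.gcd_dvd_left _ _
      have hg1 : Nat.gcd 2 (q ^ 2 - 1) ∣ q ^ 2 - 1 := Nat.gcd_dvd_right _ _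
      rcases (Nat.dvd_prime Nat.prime_two).1 hg2 with h | h
      · rw [h]; exact one_dvd _
      · rw [h] at hg1 ⊢
        omega
    · right
      exact hk.trans (Nat.div_dvd_of_dvd (Nat.gcd_dvd_right _ _))
  have hknd : ∀ k : ℕ, (k ∣ q ^ 2 + 1 ∨ k ∣ q ^ 2 - 1) → ¬ p ∣ k := by
    intro k hk hpk
    rcases hk with hk | hk
    · exact hnd1 (hpk.trans hk)
    · exact hnd2 (hpk.trans hk)
  rcases hD with ⟨k, hk, hk2⟩ | hD | hD | hD | hD | hD
  · -- cyclic or dihedral
    have hk' := hkdvd k hk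
    rcases hk2 with ⟨_, hNk⟩ | ⟨⟨iso⟩⟩
    · exact absurd (hNk ▸ hpN) (hknd k hk')
    · have hN2 : N = 2 * k := by
        rw [hNdef, Nat.card_congr iso.toEquiv, DihedralGroup.nat_card]
      rw [hN2] at hpN
      rcases (Nat.Prime.dvd_mul hp).1 hpN with h2 | h2
      · have hp2 : p = 2 := (Nat.prime_dvd_prime_iff_eq hp Nat.prime_two).1 h2
        right; left
        refine ⟨hp2, ?_⟩
        -- `k` is odd, `e ∣ 2 k`, `e` a power of `2`
        have hkodd : Nat.Coprime e k := by
          rw [heb]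
          exact Nat.Coprime.pow_left _ ((Nat.Prime.coprime_iff_not_dvd hp).2 (hknd k hk'))
        have he2 : e ∣ 2 := by
          have : e ∣ 2 * k := hN2 ▸ Dvd.intro _ hem
          exact (Nat.Coprime.dvd_mul_right hkodd).1 this
        have := Nat.le_of_dvd (by norm_num) he2
        omega
      · exact absurd h2 (hknd k hk')
  · -- ConclN: the commutator subgroup is a `p`-group, so a Sylow subgroup is normal
    exfalso
    obtain ⟨-, -, hcomm⟩ := hD
    obtain ⟨P1, hP1⟩ := hcomm.exists_le_sylow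
    have hnorm : (P1 : Subgroup Q).Normal := by
      constructor
      intro x hx g
      have h1 : g * x * g⁻¹ * x⁻¹ ∈ commutator Q := by
        rw [commutator_def]
        have := Subgroup.commutator_mem_commutator (Subgroup.mem_top g) (Subgroup.mem_top x)
        simpa [commutatorElement_def] using this
      have h2 := (P1 : Subgroup Q).mul_mem (hP1 h1) hx
      simpa using h2
    have h3 := P1.card_eq_index_normalizer
    have h4 : Subgroup.normalizer (P1 : Set Q) = ⊤ := Subgroup.normalizer_eq_top_iff.2 hnorm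
    rw [h4, Subgroup.index_top, hn] at h3
    omega
  · -- A4
    obtain ⟨iso⟩ := hD
    have hN12 : N = 12 := by
      rw [hNdef, Nat.card_congr iso.toEquiv, nat_card_alternatingGroup]
      simp [Nat.factorial]
    rcases gamma_arith_small (Or.inl hN12) hem hcop hqm hed he1 hq with h | h
    · exact Or.inl h
    · exact Or.inr (Or.inr h)
  · -- S4
    obtain ⟨iso⟩ := hD
    have hN24 : N = 24 := by
      rw [hNdef, Nat.card_congr iso.toEquiv, Nat.card_perm]
      simp [Nat.factorial]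
    rcases gamma_arith_small (Or.inr (Or.inl hN24)) hem hcop hqm hed he1 hq with h | h
    · exact Or.inl h
    · exact Or.inr (Or.inr h)
  · -- A5
    obtain ⟨iso⟩ := hD
    have hN60 : N = 60 := by
      rw [hNdef, Nat.card_congr iso.toEquiv, nat_card_alternatingGroup]
      simp [Nat.factorial]
    rcases gamma_arith_small (Or.inr (Or.inr hN60)) hem hcop hqm hed he1 hq with h | h
    · exact Or.inl h
    · exact Or.inr (Or.inr h)
  · -- PSL₂(K) or PGL₂(K)
    left
    obtain ⟨K, instK, instK', mm, hK, hiso⟩ := hD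
    set r := Fintype.card K with hr
    have hr2 : 2 ≤ r := Fintype.one_lt_card
    have hmm : mm ≠ 0 := by
      rintro rfl
      simp at hK
      have : 9 ≤ q ^ 2 := by nlinarith
      omega
    have hrdvd : r ∣ p ^ (2 * a) := by
      have : r ∣ r ^ mm := dvd_pow_self r hmm
      rw [hK, hqa, ← pow_mul, mul_comm] at this
      exact this
    obtain ⟨c, -, hrc⟩ := (Nat.dvd_prime_pow hp).1 hrdvd
    have hc : 1 ≤ c := by
      rcases c with _ | c
      · simp at hrc; omega
      · omega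
    have hpr : p ∣ r := hrc ▸ dvd_pow_self p (by omega)
    have hr21 : 1 ≤ r ^ 2 := Nat.one_le_pow _ _ (by omega)
    have hnd3 : ¬ p ∣ r ^ 2 - 1 := by
      intro h
      have h2 : p ∣ r ^ 2 - (r ^ 2 - 1) := Nat.dvd_sub (dvd_pow hpr (by norm_num)) h
      have h3 : r ^ 2 - (r ^ 2 - 1) = 1 := by omega
      rw [h3] at h2
      exact hp.one_lt.ne' (Nat.dvd_one.1 h2)
    -- `N * g = r (r² - 1)` with `p ∤ g`
    obtain ⟨g, hg, hpg⟩ : ∃ g : ℕ, N * g = r * (r ^ 2 - 1) ∧ ¬ p ∣ g := by
      rcases hiso with ⟨⟨iso⟩⟩ | ⟨⟨iso⟩⟩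
      · refine ⟨Nat.gcd 2 (r - 1), ?_, ?_⟩
        · rw [hNdef, Nat.card_congr iso.toEquiv]
          exact Dk.card_PSL2_mul_gcd
        · intro h
          have h2 : p ∣ 2 := h.trans (Nat.gcd_dvd_left _ _)
          have hp2 : p = 2 := (Nat.prime_dvd_prime_iff_eq hp Nat.prime_two).1 h2
          have h3 : p ∣ r - 1 := h.trans (Nat.gcd_dvd_right _ _)
          have h4 : p ∣ r - (r - 1) := Nat.dvd_sub hpr h3
          have h5 : r - (r - 1) = 1 := by omega
          rw [h5] at h4
          exact hp.one_lt.ne' (Nat.dvd_one.1 h4)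
      · refine ⟨1, ?_, ?_⟩
        · rw [hNdef, Nat.card_congr iso.toEquiv, mul_one]
          exact Dk.card_PGL2
        · intro h
          exact hp.one_lt.ne' (Nat.dvd_one.1 h)
    have hmain : e * (m * g) = r * (r ^ 2 - 1) := by rw [← mul_assoc, hem, hg]
    have hpmg : ¬ p ∣ m * g := by
      intro h
      rcases (Nat.Prime.dvd_mul hp).1 h with h | h
      · exact hpm h
      · exact hpg h
    have her : e = r := by
      apply Nat.dvd_antisymm
      · have h1 : e ∣ r * (r ^ 2 - 1) := Dvd.intro _ hmain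
        have h2 : Nat.Coprime e (r ^ 2 - 1) := by
          rw [heb]
          exact Nat.Coprime.pow_left _ ((Nat.Prime.coprime_iff_not_dvd hp).2 hnd3)
        exact (Nat.Coprime.dvd_mul_right h2).1 h1
      · have h1 : r ∣ e * (m * g) := Dvd.intro _ hmain.symm
        have h2 : Nat.Coprime r (m * g) := by
          rw [hrc]
          exact Nat.Coprime.pow_left _ ((Nat.Prime.coprime_iff_not_dvd hp).2 hpmg)
        exact (Nat.Coprime.dvd_mul_right h2).1 h1
    have hmg : m * g = e ^ 2 - 1 := by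
      rw [her] at hmain ⊢
      exact Nat.eq_of_mul_eq_mul_left (by omega) hmain
    have hq1 : (q + 1) ∣ e ^ 2 - 1 := hmg ▸ Dvd.dvd.mul_right hqm g
    exact gamma_arith_sq he1 hed (by omega) hq1

end Cfsg.Agent.Lib.Helper5.U3Leaf
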