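import Mathlib

/-!
S2148 market "U3", Sylow part of leaf A4 GAMMA (planner helper12): from the configuration
`(S, TS, Y, X)` to the Sylow data of `X ⧸ (Y ∩ X)`.
-/

set_option autoImplicit false

namespace Cfsg.Agent.Lib.Helper5.U3Leaf

/-- every `p`-subgroup of `S` lies in a member of `TS`. -/
theorem exists_TS_ge {G : Type*} [Group G] {q p : ℕ} [Fact p.Prime] (a : ℕ)
    (hqa : q = p ^ a) (hq : 3 ≤ q)
    (S : Subgroup G) [Finite S] (hS : Nat.card S = q * (q ^ 2 - 1))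
    (TS : Set (Subgroup G)) (hne : TS.Nonempty)
    (hTS : ∀ T ∈ TS, T ≤ S) (hTcard : ∀ T ∈ TS, Nat.card T = q)
    (hconj : ∀ s ∈ S, ∀ T ∈ TS, T.map (MulAut.conj s).toMonoidHom ∈ TS)
    (R : Subgroup G) (hRS : R ≤ S) (hR : IsPGroup p R) : ∃ T ∈ TS, R ≤ T := by
  classical
  obtain ⟨T0, hT0⟩ := hne
  have hp := (Fact.out : p.Prime)
  have ha : 1 ≤ a := by
    rcases a with _ | a
    · simp at hqa; omega
    · omega
  have hq2 : 1 ≤ (p ^ a) ^ 2 := Nat.one_le_pow _ _ (Nat.pos_of_ne_zero (by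
    rw [← hqa]; omega))
  have hcop : ¬ p ∣ (p ^ a) ^ 2 - 1 := by
    intro h
    have h1 : p ∣ (p ^ a) ^ 2 := dvd_pow (dvd_pow_self p (by omega)) (by norm_num)
    have h2 : p ∣ (p ^ a) ^ 2 - ((p ^ a) ^ 2 - 1) := Nat.dvd_sub h1 h
    have h3 : (p ^ a) ^ 2 - ((p ^ a) ^ 2 - 1) = 1 := by omega
    rw [h3] at h2
    exact hp.one_lt.ne' (Nat.dvd_one.1 h2)
  have hne1 : (p ^ a) ^ 2 - 1 ≠ 0 := by
    have : 3 ≤ p ^ a := hqa ▸ hq
    have : 9 ≤ (p ^ a) ^ 2 := by nlinarith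
    omega
  have hfac : (Nat.card S).factorization p = a := by
    rw [hS, hqa, Nat.factorization_mul (pow_ne_zero _ hp.ne_zero) hne1]
    simp [Nat.factorization_eq_zero_of_not_dvd hcop, hp.factorization_pow]
  have hc0 : Nat.card ↥(T0.subgroupOf S) = p ^ (Nat.card S).factorization p := by
    rw [hfac, ← hqa, ← hTcard T0 hT0]
    exact Nat.card_congr (Subgroup.subgroupOfEquivOfLe (hTS T0 hT0)).toEquiv
  set P0 : Sylow p S := Sylow.ofCard (T0.subgroupOf S) hc0 with hP0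
  have hR' : IsPGroup p ↥(R.subgroupOf S) := hR.comap_subtype
  obtain ⟨Q, hQ⟩ := hR'.exists_le_sylow
  obtain ⟨g, hg⟩ := MulAction.exists_smul_eq S P0 Q
  refine ⟨T0.map (MulAut.conj (g : G)).toMonoidHom, hconj g g.2 T0 hT0, ?_⟩
  intro r hr
  have h1 : (⟨r, hRS hr⟩ : S) ∈ (Q : Subgroup S) := hQ (by
    rw [Subgroup.mem_subgroupOf]; exact hr)
  rw [← hg, Sylow.smul_def, Sylow.pointwise_smul_def,
    Subgroup.mem_pointwise_smul_iff_inv_smul_mem, MulAut.smul_def, ← map_inv,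
    MulAut.conj_apply] at h1
  have h2 : (g : G)⁻¹ * r * ((g : G)⁻¹)⁻¹ ∈ T0 := by
    have := h1
    rw [hP0, Sylow.coe_ofCard, Subgroup.mem_subgroupOf] at this
    simpa using this
  refine Subgroup.mem_map.2 ⟨_, h2, ?_⟩
  simp [MulAut.conj_apply]
  group

end Cfsg.Agent.Lib.Helper5.U3Leaf
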