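import Mathlib
import Cfsg.Agent.Lib.Helper13.DkMax
import Cfsg.Agent.Lib.Helper5.U3GAMMASyl
import Cfsg.Agent.Lib.Helper5.U3GAMMACore

/-!
S2148 market "U3", leaf A4 GAMMA (planner helper12).
-/

set_option autoImplicit false

namespace Cfsg.Agent.Lib.Helper5.U3Leaf

open Cfsg.Agent.Lib.Helper13

/-- A4 GAMMA-abs. -/
theorem gamma_abs {F : Type*} [Field F] [Fintype F] {q p : ℕ} [Fact p.Prime] (a : ℕ)
    (hqa : q = p ^ a) (hq : 3 ≤ q) (hF : Fintype.card F = q ^ 2)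
    {G : Type*} [Group G] (S : Subgroup G) [Finite S] (hS : Nat.card S = q * (q ^ 2 - 1))
    (TS : Set (Subgroup G)) (hTn : TS.ncard = q + 1)
    (hTS : ∀ T ∈ TS, T ≤ S) (hTcard : ∀ T ∈ TS, Nat.card T = q)
    (hTI : ∀ T ∈ TS, ∀ T' ∈ TS, T ≠ T' → T ⊓ T' = ⊥)
    (hconj : ∀ s ∈ S, ∀ T ∈ TS, T.map (MulAut.conj s).toMonoidHom ∈ TS)
    (Y : Subgroup G) (hYc : ∀ y ∈ Y, ∀ s ∈ S, y * s = s * y) (hYp : ¬ p ∣ Nat.card Y)
    (X : Subgroup G) (hXS : X ≤ S) [(Y.subgroupOf X).Normal]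
    (e : ℕ) (he : ∀ T ∈ TS, Nat.card ↥(X ⊓ T) = e) (he1 : 1 < e)
    (hD : Dk.Concl' F (Fintype.card F) p (↥X ⧸ Y.subgroupOf X)) :
    e = q ∨ (p = 2 ∧ e = 2) ∨ (q = 9 ∧ e = 3) := by
  classical
  have hp := (Fact.out : p.Prime)
  rw [hF] at hD
  have hne : TS.Nonempty := Set.nonempty_of_ncard_ne_zero (by omega)
  have hYfin : Finite Y := Nat.finite_of_card_ne_zero (fun h => hYp (h ▸ dvd_zero p))
  have hXfin : Finite X :=
    Finite.of_injective (Subgroup.inclusion hXS) (Subgroup.inclusion_injective hXS)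
  obtain ⟨T0, hT0⟩ := hne
  have hed : e ∣ q := by
    rw [← he T0 hT0, ← hTcard T0 hT0]
    exact Subgroup.card_dvd_of_le inf_le_right
  obtain ⟨b, hba, heb⟩ := (Nat.dvd_prime_pow hp).1 (hqa ▸ hed)
  have hcardT : ∀ T ∈ TS, Nat.card ↥(T.subgroupOf X) = e := by
    intro T hT
    rw [← he T hT, ← Subgroup.inf_subgroupOf_left]
    exact Nat.card_congr (Subgroup.subgroupOfEquivOfLe (inf_le_left : X ⊓ T ≤ X)).toEquiv
  have hpgT : ∀ T ∈ TS, IsPGroup p ↥(T.subgroupOf X) := fun T hT =>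
    IsPGroup.of_card ((hcardT T hT).trans heb)
  -- every Sylow subgroup of `X` lies in some `T.subgroupOf X`
  have hle : ∀ P : Sylow p X, ∃ T ∈ TS, (P : Subgroup X) ≤ T.subgroupOf X := by
    intro P
    have h1 : IsPGroup p ↥((P : Subgroup X).map X.subtype) := P.2.map _
    have h2 : (P : Subgroup X).map X.subtype ≤ S := by
      rintro _ ⟨x, -, rfl⟩
      exact hXS x.2
    obtain ⟨T1, hT1, hPT1⟩ := exists_TS_ge a hqa hq S hS TS ⟨T0, hT0⟩ hTS hTcard hconj _ h2 h1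
    refine ⟨T1, hT1, fun x hx => ?_⟩
    rw [Subgroup.mem_subgroupOf]
    exact hPT1 (Subgroup.mem_map_of_mem _ hx)
  -- a Sylow subgroup of order `e`
  have hfacX : e = p ^ (Nat.card X).factorization p := by
    obtain ⟨P, hP⟩ := (hpgT T0 hT0).exists_le_sylow
    obtain ⟨T1, hT1, hPT1⟩ := hle P
    have h1 : Nat.card (P : Subgroup X) ≤ e := by
      rw [← hcardT T1 hT1]; exact Subgroup.card_le_of_le hPT1
    have h2 : e ≤ Nat.card (P : Subgroup X) := by
      rw [← hcardT T0 hT0]; exact Subgroup.card_le_of_le hP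
    rw [← P.card_eq_multiplicity]
    exact le_antisymm h2 h1
  -- the Sylow subgroups of `X`
  let Φ : TS → Sylow p X := fun T =>
    Sylow.ofCard (T.1.subgroupOf X) ((hcardT T.1 T.2).trans hfacX)
  have hΦcoe : ∀ T : TS, ((Φ T : Sylow p X) : Subgroup X) = T.1.subgroupOf X := fun T => rfl
  have hΦsurj : Function.Surjective Φ := by
    intro P
    obtain ⟨T1, hT1, hPT1⟩ := hle P
    refine ⟨⟨T1, hT1⟩, ?_⟩
    apply Sylow.ext
    rw [hΦcoe]
    exact P.is_maximal' (hpgT T1 hT1) hPT1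
  have hΦinj : Function.Injective Φ := by
    intro T T' h
    by_contra hne
    have hne' : T.1 ≠ T'.1 := fun h' => hne (Subtype.ext h')
    have h1 : T.1.subgroupOf X = T'.1.subgroupOf X := by rw [← hΦcoe, ← hΦcoe, h]
    have h2 : T.1.subgroupOf X ≤ (T.1 ⊓ T'.1).subgroupOf X := by
      intro x hx
      have hx' : x ∈ T'.1.subgroupOf X := h1 ▸ hx
      rw [Subgroup.mem_subgroupOf] at hx hx' ⊢
      exact ⟨hx, hx'⟩
    rw [hTI T.1 T.2 T'.1 T'.2 hne', Subgroup.bot_subgroupOf, le_bot_iff] at h2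
    have h3 := hcardT T.1 T.2
    rw [h2, Subgroup.card_bot] at h3
    omega
  have hnX : Nat.card (Sylow p X) = q + 1 := by
    rw [← Nat.card_congr (Equiv.ofBijective Φ ⟨hΦinj, hΦsurj⟩), Nat.card_coe_set_eq, hTn]
  -- pass to the quotient
  set N : Subgroup X := Y.subgroupOf X with hNdef
  have hπ : Function.Surjective (QuotientGroup.mk' N) := QuotientGroup.mk'_surjective N
  have hcopY : Nat.Coprime e (Nat.card Y) := by
    rw [heb]
    exact Nat.Coprime.pow_left _ ((Nat.Prime.coprime_iff_not_dvd hp).2 hYp)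
  have hΨinj : Function.Injective (Sylow.mapSurjective hπ : Sylow p X → Sylow p (X ⧸ N)) := by
    intro P1 P2 h
    obtain ⟨T1, rfl⟩ := hΦsurj P1
    obtain ⟨T2, rfl⟩ := hΦsurj P2
    by_contra hne
    have hne' : T1.1 ≠ T2.1 := fun h' => hne (by rw [Subtype.ext h'])
    have hmap : (T1.1.subgroupOf X).map (QuotientGroup.mk' N) =
        (T2.1.subgroupOf X).map (QuotientGroup.mk' N) := by
      have := congrArg (fun P : Sylow p (X ⧸ N) => (P : Subgroup (X ⧸ N))) h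
      simpa [Sylow.coe_mapSurjective, hΦcoe] using this
    have hnb : T2.1.subgroupOf X ≠ ⊥ := by
      rw [← Subgroup.one_lt_card_iff_ne_bot, hcardT T2.1 T2.2]; exact he1
    obtain ⟨r2, hr2, hr2ne⟩ := (Subgroup.ne_bot_iff_exists_ne_one).1 hnb |>.imp
      (fun x hx => hx) |> fun ⟨x, hx⟩ => (⟨x.1, x.2, fun h => hx (Subtype.ext h)⟩ :
        ∃ r2 : X, r2 ∈ T2.1.subgroupOf X ∧ r2 ≠ 1)
    have h1 : QuotientGroup.mk' N r2 ∈ (T1.1.subgroupOf X).map (QuotientGroup.mk' N) := by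
      rw [hmap]; exact Subgroup.mem_map_of_mem _ hr2
    obtain ⟨r1, hr1, hr12⟩ := Subgroup.mem_map.1 h1
    have hy : r1⁻¹ * r2 ∈ N := by
      rw [← QuotientGroup.eq]; exact hr12
    -- `y = r1⁻¹ r2 ∈ Y` commutes with `r1`
    rw [hNdef, Subgroup.mem_subgroupOf] at hy
    have hcomm : Commute ((r1 : G)) ((r1⁻¹ * r2 : X) : G) := by
      have := hYc _ hy (r1 : G) (hXS r1.2)
      exact this.symm
    have hr1e : (r1 : G) ^ e = 1 := by
      have := pow_card_eq_one' (G := ↥(T1.1.subgroupOf X)) (x := ⟨r1, hr1⟩)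
      rw [hcardT T1.1 T1.2] at this
      have := congrArg (fun z : ↥(T1.1.subgroupOf X) => ((z : X) : G)) this
      simpa using this
    have hr2e : (r2 : G) ^ e = 1 := by
      have := pow_card_eq_one' (G := ↥(T2.1.subgroupOf X)) (x := ⟨r2, hr2⟩)
      rw [hcardT T2.1 T2.2] at this
      have := congrArg (fun z : ↥(T2.1.subgroupOf X) => ((z : X) : G)) this
      simpa using this
    have hr2eq : (r2 : G) = (r1 : G) * ((r1⁻¹ * r2 : X) : G) := by
      simp
    have hye : (((r1⁻¹ * r2 : X) : G)) ^ e = 1 := by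
      have := hcomm.mul_pow e
      rw [← hr2eq, hr2e, hr1e, one_mul] at this
      exact this.symm
    have hy1 : ((r1⁻¹ * r2 : X) : G) = 1 := by
      have h1 : orderOf ((r1⁻¹ * r2 : X) : G) ∣ e := orderOf_dvd_of_pow_eq_one hye
      have h2 : orderOf ((r1⁻¹ * r2 : X) : G) ∣ Nat.card Y := Y.orderOf_dvd_natCard hy
      have h3 := Nat.dvd_gcd h1 h2
      rw [hcopY] at h3
      exact orderOf_eq_one_iff.1 (Nat.dvd_one.1 h3)
    have hr12' : (r2 : G) = (r1 : G) := by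
      rw [hr2eq, hy1, mul_one]
    have hmem : (r2 : G) ∈ T1.1 ⊓ T2.1 := by
      refine ⟨?_, ?_⟩
      · rw [hr12']; exact (Subgroup.mem_subgroupOf.1 hr1)
      · exact (Subgroup.mem_subgroupOf.1 hr2)
    rw [hTI T1.1 T1.2 T2.1 T2.2 hne', Subgroup.mem_bot] at hmem
    exact hr2ne (Subtype.ext hmem)
  have hnQ : Nat.card (Sylow p (X ⧸ N)) = q + 1 := by
    rw [← hnX]
    exact (Nat.card_congr (Equiv.ofBijective _
      ⟨hΨinj, Sylow.mapSurjective_surjective hπ p⟩)).symm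
  -- Sylow order in the quotient
  have hpN : ¬ p ∣ Nat.card N := by
    intro h
    apply hYp
    refine h.trans ?_
    rw [hNdef, ← Subgroup.inf_subgroupOf_right,
      Nat.card_congr (Subgroup.subgroupOfEquivOfLe (inf_le_right : Y ⊓ X ≤ X)).toEquiv]
    exact Subgroup.card_dvd_of_le inf_le_left
  have hfacQ : (Nat.card (X ⧸ N)).factorization p = (Nat.card X).factorization p := by
    rw [Subgroup.card_eq_card_quotient_mul_card_subgroup N,
      Nat.factorization_mul (Nat.card_pos).ne' (Nat.card_pos).ne']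
    simp [Nat.factorization_eq_zero_of_not_dvd hpN]
  have hcardQ : ∀ P : Sylow p (X ⧸ N), Nat.card P = e := by
    intro P
    rw [P.card_eq_multiplicity, hfacQ, ← hfacX]
  exact gamma_core a hqa hq he1 hed hcardQ hnQ hD

end Cfsg.Agent.Lib.Helper5.U3Leaf
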