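import Mathlib

set_option autoImplicit false

namespace Cfsg.Agent.Lib.Helper5

open MulAction SubMulAction

/-- If the pointwise stabiliser of every `j`-subset is transitive on the remaining points (and there
are at least `j + 2` points) then the action is `(j + 1)`-fold transitive. -/
theorem isMultiplyPretransitive_of_fixing_transitive (j : ℕ) :
    ∀ {G α : Type*} [Group G] [MulAction G α] [Finite α], j + 2 ≤ Nat.card α →
      (∀ u : Set α, u.ncard = j → ∀ x y : α, x ∉ u → y ∉ u →
        ∃ g : G, (∀ z ∈ u, g • z = z) ∧ g • x = y) →
      IsMultiplyPretransitive G α (j + 1) := by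
  induction j with
  | zero =>
    intro G α _ _ _ hcard h
    rw [is_one_pretransitive_iff]
    refine ⟨fun x y => ?_⟩
    obtain ⟨g, -, hg⟩ := h ∅ (Set.ncard_empty α) x y (Set.notMem_empty x) (Set.notMem_empty y)
    exact ⟨g, hg⟩
  | succ j ih =>
    intro G α _ _ _ hcard h
    -- G is transitive
    have htr : IsPretransitive G α := by
      refine ⟨fun x y => ?_⟩
      have hle : j + 1 ≤ (({x, y} : Set α)ᶜ).ncard := by
        have h1 : ({x, y} : Set α).ncard ≤ 2 := by
          have := Set.ncard_insert_le x ({y} : Set α)
          rw [Set.ncard_singleton] at this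
          exact this
        have h2 := Set.ncard_add_ncard_compl ({x, y} : Set α)
        omega
      obtain ⟨u, hu, hucard⟩ := Set.exists_subset_card_eq hle
      have hx : x ∉ u := fun hxu => hu hxu (by simp)
      have hy : y ∉ u := fun hyu => hu hyu (by simp)
      obtain ⟨g, -, hg⟩ := h u hucard x y hx hy
      exact ⟨g, hg⟩
    have hne : Nonempty α := by
      have : 0 < Nat.card α := by omega
      exact (Nat.card_pos_iff.mp this).1
    obtain ⟨a⟩ := hne
    rw [ofStabilizer.isMultiplyPretransitive (G := G) (a := a)]
    apply ih
    · have := nat_card_ofStabilizer_add_one_eq (G := G) a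
      omega
    · intro u' hu' x' y' hx' hy'
      have ha' : a ∉ Subtype.val '' u' := by
        rintro ⟨z, _, hz⟩
        exact z.prop (by rw [hz]; exact Set.mem_singleton a)
      have hcardu : (insert a (Subtype.val '' u')).ncard = j + 1 := by
        rw [Set.ncard_insert_of_notMem ha' (Set.toFinite _),
          Set.ncard_image_of_injective u' Subtype.val_injective, hu']
      have hxu : (x' : α) ∉ insert a (Subtype.val '' u') := by
        rintro (hxa | ⟨z, hz, hzx⟩)
        · exact x'.prop (by rw [hxa]; exact Set.mem_singleton a)
        · exact hx' (by rwa [← Subtype.val_injective hzx])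
      have hyu : (y' : α) ∉ insert a (Subtype.val '' u') := by
        rintro (hya | ⟨z, hz, hzy⟩)
        · exact y'.prop (by rw [hya]; exact Set.mem_singleton a)
        · exact hy' (by rwa [← Subtype.val_injective hzy])
      obtain ⟨g, hgfix, hgxy⟩ := h _ hcardu (x' : α) (y' : α) hxu hyu
      have hga : g ∈ stabilizer G a := hgfix a (Set.mem_insert _ _)
      refine ⟨⟨g, hga⟩, ?_, ?_⟩
      · intro z hz
        apply Subtype.ext
        exact hgfix z (Set.mem_insert_of_mem _ ⟨z, hz, rfl⟩)
      · apply Subtype.ext
        exact hgxy

end Cfsg.Agent.Lib.Helper5
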