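/-
helper5: transitive groups of degree `p + 1` and order `(p + 1) p d`, `d < p`: an element `u` of
order `p` fixes one point `x`, is regular on the others and generates a normal subgroup of the
stabiliser of `x`; coordinates over `ZMod p`.
-/
import Mathlib
import Cfsg.Agent.Lib.Helper5.MultTrans

set_option autoImplicit false
set_option linter.unusedSectionVars false

namespace Cfsg.Agent.Lib.Helper5.PP1

open MulAction

/-- the data of an element `u` of prime order `p` fixing `x`, regular on the other points and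
normalised by the stabiliser of `x` -/
structure Data (G : Type*) {α : Type*} [Group G] [MulAction G α] (p : ℕ) (x : α) (u : G) :
    Prop where
  fix : u • x = x
  ord : orderOf u = p
  trans : ∀ z w : α, z ≠ x → w ≠ x → ∃ i : ℕ, u ^ i • z = w
  free : ∀ z : α, z ≠ x → ∀ i : ℕ, u ^ i • z = z → u ^ i = 1
  norm : ∀ g : G, g • x = x → ∃ k : ℕ, g * u * g⁻¹ = u ^ k

/-- powers indexed by `ZMod p` -/
def upow {G : Type*} [Group G] {p : ℕ} (u : G) (i : ZMod p) : G := u ^ i.val

section Upow

variable {G : Type*} [Group G] {p : ℕ} [hp : Fact p.Prime] {u : G}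

theorem upow_natCast (hu : orderOf u = p) (n : ℕ) : upow u (n : ZMod p) = u ^ n := by
  unfold upow
  rw [ZMod.val_natCast]
  have := pow_mod_orderOf u n
  rw [hu] at this
  exact this

theorem upow_zero : upow u (0 : ZMod p) = 1 := by
  unfold upow
  rw [ZMod.val_zero, pow_zero]

theorem upow_add (hu : orderOf u = p) (i j : ZMod p) :
    upow u (i + j) = upow u i * upow u j := by
  unfold upow
  rw [ZMod.val_add, ← pow_add]
  have := pow_mod_orderOf u (i.val + j.val)
  rw [hu] at this
  exact this

theorem upow_mul (hu : orderOf u = p) (k i : ZMod p) : upow u k ^ i.val = upow u (k * i) := by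
  unfold upow
  rw [← pow_mul, ZMod.val_mul]
  have := pow_mod_orderOf u (k.val * i.val)
  rw [hu] at this
  exact this.symm

theorem upow_eq_one (hu : orderOf u = p) {i : ZMod p} (h : upow u i = 1) : i = 0 := by
  unfold upow at h
  have h1 : p ∣ i.val := by
    have h0 := orderOf_dvd_of_pow_eq_one h
    rw [hu] at h0
    exact h0
  have h2 : i.val < p := ZMod.val_lt i
  have h3 : i.val = 0 := Nat.eq_zero_of_dvd_of_lt h1 h2
  exact (ZMod.val_eq_zero i).mp h3

theorem upow_neg (hu : orderOf u = p) (i : ZMod p) : upow u (-i) = (upow u i)⁻¹ := by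
  rw [eq_inv_iff_mul_eq_one, ← upow_add hu, neg_add_cancel, upow_zero]

theorem upow_mem_zpowers (i : ZMod p) : upow u i ∈ Subgroup.zpowers u :=
  Subgroup.npow_mem_zpowers u _

end Upow

namespace Data

variable {G α : Type*} [Group G] [MulAction G α] {p : ℕ} [hp : Fact p.Prime] {x : α} {u : G}

theorem fix_upow (D : Data G p x u) (i : ZMod p) : upow u i • x = x := by
  have h1 : u ∈ stabilizer G x := mem_stabilizer_iff.mpr D.fix
  exact mem_stabilizer_iff.mp ((stabilizer G x).pow_mem h1 _)

theorem trans' (D : Data G p x u) {z w : α} (hz : z ≠ x) (hw : w ≠ x) :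
    ∃ i : ZMod p, upow u i • z = w := by
  obtain ⟨n, hn⟩ := D.trans z w hz hw
  exact ⟨(n : ZMod p), by rw [upow_natCast D.ord]; exact hn⟩

theorem free' (D : Data G p x u) {z : α} (hz : z ≠ x) {i : ZMod p} (h : upow u i • z = z) :
    i = 0 :=
  upow_eq_one D.ord (D.free z hz i.val h)

theorem smul_ne (D : Data G p x u) {z : α} (hz : z ≠ x) (g : G) (hg : g • x = x) :
    g • z ≠ x := by
  intro h
  apply hz
  have h1 : g • z = g • x := by rw [h, hg]
  exact MulAction.injective g h1

theorem ne_one (D : Data G p x u) : u ≠ 1 := by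
  intro h
  have := D.ord
  rw [h, orderOf_one] at this
  exact hp.out.one_lt.ne this

theorem conj (D : Data G p x u) {g : G} (hg : g • x = x) :
    ∃ k : ZMod p, k ≠ 0 ∧ ∀ i : ZMod p, g * upow u i * g⁻¹ = upow u (k * i) := by
  obtain ⟨n, hn⟩ := D.norm g hg
  refine ⟨(n : ZMod p), ?_, ?_⟩
  · intro h0
    have h1 : g * u * g⁻¹ = 1 := by
      rw [hn, ← upow_natCast D.ord, h0, upow_zero]
    exact D.ne_one (conj_eq_one_iff.mp h1)
  · intro i
    change g * u ^ i.val * g⁻¹ = upow u ((n : ZMod p) * i)
    rw [← conj_pow, hn, ← upow_natCast D.ord n, upow_mul D.ord]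

theorem conj_mem (D : Data G p x u) {g : G} (hg : g • x = x) {v : G}
    (hv : v ∈ Subgroup.zpowers u) : g * v * g⁻¹ ∈ Subgroup.zpowers u := by
  obtain ⟨n, hn⟩ := D.norm g hg
  obtain ⟨m, rfl⟩ := Subgroup.mem_zpowers_iff.mp hv
  have h1 : g * u ^ m * g⁻¹ = (g * u * g⁻¹) ^ m := (conj_zpow).symm
  rw [h1, hn]
  exact Subgroup.zpow_mem _ (Subgroup.npow_mem_zpowers u n) m

theorem smul_upow (D : Data G p x u) {y : α} {g : G} {k : ZMod p}
    (hk : ∀ i : ZMod p, g * upow u i * g⁻¹ = upow u (k * i)) (i : ZMod p) :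
    g • (upow u i • y) = upow u (k * i) • (g • y) := by
  rw [← mul_smul, show g * upow u i = (g * upow u i * g⁻¹) * g by group, hk, mul_smul]

theorem three_point [FaithfulSMul G α] (D : Data G p x u) {g : G} {y z : α} (hy : y ≠ x)
    (hz : z ≠ x) (hyz : y ≠ z) (hgx : g • x = x) (hgy : g • y = y) (hgz : g • z = z) :
    g = 1 := by
  obtain ⟨k, hk0, hk⟩ := D.conj hgx
  obtain ⟨i, hi⟩ := D.trans' hy hz
  have hi0 : i ≠ 0 := by
    rintro rfl
    rw [upow_zero, one_smul] at hi
    exact hyz hi
  have hg_act : ∀ j : ZMod p, g • (upow u j • y) = upow u (k * j) • y := by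
    intro j
    rw [D.smul_upow hk, hgy]
  have h1 : upow u (k * i) • y = upow u i • y := by rw [← hg_act, hi, hgz]
  have h2 : upow u (-i + k * i) • y = y := by
    rw [upow_add D.ord, upow_neg D.ord, mul_smul, h1, inv_smul_smul]
  have h3 := D.free' hy h2
  have hk1 : k = 1 := by
    have : (k - 1) * i = 0 := by rw [← h3]; ring
    rcases mul_eq_zero.mp this with h | h
    · exact sub_eq_zero.mp h
    · exact absurd h hi0
  apply FaithfulSMul.eq_of_smul_eq_smul (α := α)
  intro w
  rw [one_smul]
  by_cases hw : w = x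
  · rw [hw, hgx]
  · obtain ⟨j, rfl⟩ := D.trans' hy hw
    rw [hg_act, hk1, one_mul]

/-- the coordinate map -/
def coordFun (x y : α) (u : G) : Option (ZMod p) → α
  | none => x
  | some i => upow u i • y

theorem coord_bijective (D : Data G p x u) {y : α} (hy : y ≠ x) :
    Function.Bijective (coordFun (p := p) x y u) := by
  constructor
  · intro o o' hoo
    cases o with
    | none =>
      cases o' with
      | none => rfl
      | some j =>
        exfalso
        have h1 : x = upow u j • y := hoo
        exact D.smul_ne hy (upow u j) (D.fix_upow j) h1.symm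
    | some i =>
      cases o' with
      | none =>
        exfalso
        have h1 : upow u i • y = x := hoo
        exact D.smul_ne hy (upow u i) (D.fix_upow i) h1
      | some j =>
        have h1 : upow u i • y = upow u j • y := hoo
        have h2 : upow u (-j + i) • y = y := by
          rw [upow_add D.ord, upow_neg D.ord, mul_smul, h1, inv_smul_smul]
        have h3 := D.free' hy h2
        have h4 : i = j := by
          have : i - j = 0 := by rw [← h3]; ring
          exact sub_eq_zero.mp this
        rw [h4]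
  · intro w
    by_cases hw : w = x
    · exact ⟨none, hw.symm⟩
    · obtain ⟨i, hi⟩ := D.trans' hy hw
      exact ⟨some i, hi⟩

/-- the coordinates `Option (ZMod p) ≃ α` -/
noncomputable def coord (D : Data G p x u) {y : α} (hy : y ≠ x) : Option (ZMod p) ≃ α :=
  Equiv.ofBijective _ (D.coord_bijective hy)

theorem coord_none (D : Data G p x u) {y : α} (hy : y ≠ x) : D.coord hy none = x := rfl

theorem coord_some (D : Data G p x u) {y : α} (hy : y ≠ x) (i : ZMod p) :
    D.coord hy (some i) = upow u i • y := rfl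

theorem affine (D : Data G p x u) {y : α} (hy : y ≠ x) {g : G} (hg : g • x = x) :
    ∃ k c : ZMod p, k ≠ 0 ∧ ∀ z : ZMod p, g • (upow u z • y) = upow u (k * z + c) • y := by
  obtain ⟨k, hk0, hk⟩ := D.conj hg
  obtain ⟨c, hc⟩ := D.trans' hy (D.smul_ne hy g hg)
  refine ⟨k, c, hk0, fun z => ?_⟩
  rw [D.smul_upow hk, ← hc, ← mul_smul, ← upow_add D.ord]

theorem two_trans [Finite α] [MulAction.IsPretransitive G α] (D : Data G p x u)
    (hcard : 3 ≤ Nat.card α) : MulAction.IsMultiplyPretransitive G α 2 := by
  apply Cfsg.Agent.Lib.Helper5.isMultiplyPretransitive_of_fixing_transitive 1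
  · exact hcard
  · intro s hs a b ha hb
    obtain ⟨c, rfl⟩ := Set.ncard_eq_one.mp hs
    simp only [Set.mem_singleton_iff] at ha hb
    obtain ⟨r, hr⟩ := MulAction.exists_smul_eq G x c
    have ha' : r⁻¹ • a ≠ x := by
      intro h
      apply ha
      rw [← hr, ← h, smul_inv_smul]
    have hb' : r⁻¹ • b ≠ x := by
      intro h
      apply hb
      rw [← hr, ← h, smul_inv_smul]
    obtain ⟨i, hi⟩ := D.trans' ha' hb'
    refine ⟨r * upow u i * r⁻¹, ?_, ?_⟩
    · intro z hz
      rw [Set.mem_singleton_iff] at hz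
      rw [hz, ← hr, mul_smul, mul_smul, inv_smul_smul, D.fix_upow]
    · rw [mul_smul, mul_smul, hi, smul_inv_smul]

/-- the unique-transitivity of `⟨u⟩` on the points other than `x` -/
theorem exists_unique_zpowers (D : Data G p x u) {y z : α} (hy : y ≠ x) (hz : z ≠ x) :
    ∃! v : Subgroup.zpowers u, (v : G) • y = z := by
  obtain ⟨i, hi⟩ := D.trans' hy hz
  refine ⟨⟨upow u i, upow_mem_zpowers i⟩, hi, ?_⟩
  rintro ⟨v, hv⟩ hvz
  apply Subtype.ext
  change v = upow u i
  change v • y = z at hvz
  have hfin : IsOfFinOrder u := by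
    rw [← orderOf_pos_iff, D.ord]; exact hp.out.pos
  obtain ⟨n, rfl⟩ := (Submonoid.mem_powers_iff _ _).mp
    ((hfin.mem_powers_iff_mem_zpowers).mpr hv)
  rw [← upow_natCast D.ord] at hvz ⊢
  have h2 : upow u (-i + (n : ZMod p)) • y = y := by
    rw [upow_add D.ord, upow_neg D.ord, mul_smul, hvz, ← hi, inv_smul_smul]
  have h3 := D.free' hy h2
  have h4 : (n : ZMod p) = i := by
    have : (n : ZMod p) - i = 0 := by rw [← h3]; ring
    exact sub_eq_zero.mp this
  rw [h4]

end Data

/-- a subgroup of prime order `p` of a group of order `p d`, `d < p`, is normal -/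
theorem zpowers_normal_of_card {K : Type*} [Group K] [Finite K] {p d : ℕ} [hp : Fact p.Prime]
    (hK : Nat.card K = p * d) (hd0 : 0 < d) (hd : d < p) (u : K) (hu : orderOf u = p) :
    (Subgroup.zpowers u).Normal := by
  have hpd : ¬ p ∣ d := fun h => absurd (Nat.le_of_dvd hd0 h) (by omega)
  have hfac : (Nat.card K).factorization p = 1 := by
    rw [hK, Nat.factorization_mul hp.out.ne_zero hd0.ne', Finsupp.add_apply,
      hp.out.factorization_self, Nat.factorization_eq_zero_of_not_dvd hpd]
  have hcard : Nat.card (Subgroup.zpowers u) = p ^ (Nat.card K).factorization p := by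
    rw [hfac, pow_one, Nat.card_zpowers, hu]
  let P : Sylow p K := Sylow.ofCard (Subgroup.zpowers u) hcard
  have hPcoe : (P : Subgroup K) = Subgroup.zpowers u := Sylow.coe_ofCard _ _
  have h1 : Nat.card (Sylow p K) ≡ 1 [MOD p] := card_sylow_modEq_one p K
  have h2 : Nat.card (Sylow p K) ∣ (P : Subgroup K).index := P.card_dvd_index
  have h3 : (P : Subgroup K).index = d := by
    have := Subgroup.card_mul_index (P : Subgroup K)
    rw [hPcoe, Nat.card_zpowers, hu, hK] at this
    exact Nat.eq_of_mul_eq_mul_left hp.out.pos this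
  have h4 : Nat.card (Sylow p K) = 1 := by
    rw [h3] at h2
    have hle : Nat.card (Sylow p K) ≤ d := Nat.le_of_dvd hd0 h2
    have hlt : Nat.card (Sylow p K) < p := by omega
    have h5 := Nat.mod_eq_of_lt hlt
    unfold Nat.ModEq at h1
    rw [h5, Nat.mod_eq_of_lt hp.out.one_lt] at h1
    exact h1
  haveI : Subsingleton (Sylow p K) := (Nat.card_eq_one_iff_unique.mp h4).1
  have h6 := Sylow.normal_of_subsingleton P
  rw [hPcoe] at h6
  exact h6

/-- the data for a transitive permutation group of degree `p + 1` and order `(p + 1) p d` -/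
theorem exists_data {α : Type*} [Fintype α] [DecidableEq α] {p d : ℕ} (hp : p.Prime)
    (hα : Fintype.card α = p + 1) (G : Subgroup (Equiv.Perm α)) [MulAction.IsPretransitive G α]
    (hG : Nat.card G = (p + 1) * p * d) (hd : d < p) :
    ∃ (x : α) (u : G), Data G p x u := by
  haveI : Fact p.Prime := ⟨hp⟩
  have hd0 : 0 < d := by
    rcases Nat.eq_zero_or_pos d with h | h
    · rw [h, mul_zero] at hG
      have : 0 < Nat.card G := Nat.card_pos
      omega
    · exact h
  have hdvd : p ∣ Nat.card G := by
    rw [hG]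
    exact Dvd.dvd.mul_right (Dvd.intro_left _ rfl) _
  obtain ⟨u, hu⟩ := exists_prime_orderOf_dvd_card' p hdvd
  have hu' : orderOf (u : Equiv.Perm α) = p := by rw [Subgroup.orderOf_coe, hu]
  have hcyc : (u : Equiv.Perm α).IsCycle := by
    apply Equiv.Perm.isCycle_of_prime_order'
    · rw [hu']; exact hp
    · rw [hu', hα]
      have := hp.two_le
      omega
  have hsupp : (u : Equiv.Perm α).support.card = p := by rw [← hcyc.orderOf, hu']
  have hcompl : ((u : Equiv.Perm α).support)ᶜ.card = 1 := by
    rw [Finset.card_compl, hsupp, hα]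
    omega
  obtain ⟨x, hx⟩ := Finset.card_eq_one.mp hcompl
  have hmem : ∀ z : α, (u : Equiv.Perm α) z = z ↔ z = x := by
    intro z
    have h1 : z ∈ ((u : Equiv.Perm α).support)ᶜ ↔ z ∈ ({x} : Finset α) := by rw [hx]
    rw [Finset.mem_compl, Equiv.Perm.mem_support, not_not, Finset.mem_singleton] at h1
    exact h1
  have hux : (u : Equiv.Perm α) x = x := (hmem x).mpr rfl
  have hmoved : ∀ z : α, z ≠ x → (u : Equiv.Perm α) z ≠ z := fun z hz h => hz ((hmem z).mp h)
  -- the stabiliser of `x`
  have hstab : Nat.card (stabilizer G x) = p * d := by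
    have h1 := Subgroup.card_mul_index (stabilizer G x)
    rw [MulAction.index_stabilizer_of_transitive G x, Nat.card_eq_fintype_card (α := α), hα,
      hG] at h1
    have h2 : Nat.card (stabilizer G x) * (p + 1) = (p * d) * (p + 1) := by rw [h1]; ring
    exact Nat.eq_of_mul_eq_mul_right (by omega) h2
  have humem : u ∈ stabilizer G x := mem_stabilizer_iff.mpr hux
  have hu'' : orderOf (⟨u, humem⟩ : stabilizer G x) = p := by
    rw [← Subgroup.orderOf_coe]; exact hu
  have hnormal := zpowers_normal_of_card hstab hd0 hd (⟨u, humem⟩ : stabilizer G x) hu''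
  refine ⟨x, u, ⟨hux, hu, ?_, ?_, ?_⟩⟩
  · intro z w hz hw
    obtain ⟨i, hi⟩ := hcyc.exists_pow_eq (hmoved z hz) (hmoved w hw)
    refine ⟨i, ?_⟩
    change ((u ^ i : G) : Equiv.Perm α) z = w
    rw [Subgroup.coe_pow]
    exact hi
  · intro z hz i hi
    apply Subtype.ext
    rw [Subgroup.coe_pow, Subgroup.coe_one]
    apply (hcyc.pow_eq_one_iff' (hmoved z hz)).mpr
    have : ((u ^ i : G) : Equiv.Perm α) z = z := hi
    rw [Subgroup.coe_pow] at this
    exact this
  · intro g hg
    have hgmem : g ∈ stabilizer G x := mem_stabilizer_iff.mpr hg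
    have h1 := hnormal.conj_mem (⟨u, humem⟩ : stabilizer G x) (Subgroup.mem_zpowers _)
      (⟨g, hgmem⟩ : stabilizer G x)
    haveI : Finite (stabilizer G x) := Subtype.finite
    obtain ⟨n, hn⟩ := (Submonoid.mem_powers_iff _ _).mp (mem_powers_iff_mem_zpowers.mpr h1)
    refine ⟨n, ?_⟩
    have := congrArg (Subtype.val) hn
    simp only [Subgroup.coe_pow, Subgroup.coe_mul, Subgroup.coe_inv] at this
    exact this.symm

end Cfsg.Agent.Lib.Helper5.PP1
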