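/-
helper5: transitive groups of degree `p + 1`: when the two-point stabiliser is transitive on the
remaining points, the group is `PGL(2, p)` (Kerby--Tits functional equation and an induction over
the prime field).
-/
import Mathlib
import Cfsg.Agent.Lib.Helper5.PP1A
import Cfsg.Agent.Lib.Helper9.PGL2Recog2

set_option autoImplicit false
set_option linter.unusedSectionVars false

namespace Cfsg.Agent.Lib.Helper5.PP1

open MulAction

variable {G α : Type*} [Group G] [MulAction G α] {p : ℕ} [hp : Fact p.Prime] {x : α} {u : G}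

/-- a two-point stabiliser transitive on the other points has at least `p - 1` elements -/
theorem le_card_of_trans [Finite G] (D : Data G p x u) {y : α} (hy : y ≠ x)
    (hH : ∀ c c' : α, c ≠ x → c ≠ y → c' ≠ x → c' ≠ y →
      ∃ h : G, h • x = x ∧ h • y = y ∧ h • c = c') :
    p - 1 ≤ Nat.card ↥(stabilizer G x ⊓ stabilizer G y) := by
  classical
  have h1 : ∀ b : ZMod p, b ≠ 0 → upow u b • y ≠ y := by
    intro b hb h
    exact hb (D.free' hy h)
  have hex : ∀ a : (ZMod p)ˣ, ∃ h : ↥(stabilizer G x ⊓ stabilizer G y),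
      (h : G) • (upow u (1 : ZMod p) • y) = upow u (a : ZMod p) • y := by
    intro a
    obtain ⟨h, hhx, hhy, hh⟩ := hH (upow u (1 : ZMod p) • y) (upow u (a : ZMod p) • y)
      (D.smul_ne hy _ (D.fix_upow 1)) (h1 1 one_ne_zero)
      (D.smul_ne hy _ (D.fix_upow _)) (h1 _ a.ne_zero)
    exact ⟨⟨h, Subgroup.mem_inf.mpr ⟨mem_stabilizer_iff.mpr hhx, mem_stabilizer_iff.mpr hhy⟩⟩, hh⟩
  choose f hf using hex
  have hinj : Function.Injective f := by
    intro a b hab
    have h2 : upow u (a : ZMod p) • y = upow u (b : ZMod p) • y := by rw [← hf a, ← hf b, hab]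
    have h3 : upow u (-(b : ZMod p) + (a : ZMod p)) • y = y := by
      rw [upow_add D.ord, upow_neg D.ord, mul_smul, h2, inv_smul_smul]
    have h4 := D.free' hy h3
    apply Units.ext
    have : (a : ZMod p) - b = 0 := by rw [← h4]; ring
    exact sub_eq_zero.mp this
  have := Nat.card_le_card_of_injective f hinj
  rw [Nat.card_units, Nat.card_zmod] at this
  exact this

/-- **`PGL(2, p)`** -/
theorem pgl_of_data [FaithfulSMul G α] (D : Data G p x u) {y : α} (hy : y ≠ x)
    (hsw : ∃ t : G, t • x = y ∧ t • y = x)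
    (hH : ∀ c c' : α, c ≠ x → c ≠ y → c' ≠ x → c' ≠ y →
      ∃ h : G, h • x = x ∧ h • y = y ∧ h • c = c') :
    Nonempty (G ≃* Matrix.ProjGenLinGroup (Fin 2) (ZMod p)) := by
  classical
  obtain ⟨e, hedef⟩ : ∃ e : Option (ZMod p) ≃ α, e = D.coord hy := ⟨_, rfl⟩
  have he0 : e none = x := by rw [hedef]; rfl
  have hes : ∀ i : ZMod p, e (some i) = upow u i • y := by intro i; rw [hedef]; rfl
  have hey : e (some 0) = y := by rw [hes, upow_zero, one_smul]
  have hsome : ∀ a b : ZMod p, e (some a) = e (some b) → a = b :=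
    fun a b h => Option.some_injective _ (e.injective h)
  have hsn : ∀ a : ZMod p, e (some a) ≠ x := fun a h => by
    rw [← he0] at h
    exact Option.some_ne_none a (e.injective h)
  have h3 : ∀ g : G, ∀ a : ZMod p, a ≠ 0 → g • x = x → g • y = y →
      g • e (some a) = e (some a) → g = 1 := by
    intro g a ha hgx hgy hga
    refine D.three_point hy (hsn a) ?_ hgx hgy hga
    intro h
    rw [← hey] at h
    exact ha (hsome _ _ h).symm
  -- translations
  have hT : ∀ c z : ZMod p, upow u c • e (some z) = e (some (z + c)) := by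
    intro c z
    rw [hes, hes, ← mul_smul, ← upow_add D.ord, add_comm]
  have hupx : ∀ c : ZMod p, upow u c • x = x := D.fix_upow
  -- the stabiliser of `x` is affine
  have hB : ∀ g : G, g • x = x → ∃ k c : ZMod p, k ≠ 0 ∧
      ∀ z : ZMod p, g • e (some z) = e (some (k * z + c)) := by
    intro g hg
    obtain ⟨k, c, hk0, h⟩ := D.affine hy hg
    exact ⟨k, c, hk0, fun z => by rw [hes, hes, h]⟩
  have hB0 : ∀ g : G, g • x = x → g • y = y → ∃ k : ZMod p, k ≠ 0 ∧
      ∀ z : ZMod p, g • e (some z) = e (some (k * z)) := by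
    intro g hgx hgy
    obtain ⟨k, c, hk0, h⟩ := hB g hgx
    have h0 := h 0
    rw [hey, hgy, mul_zero, zero_add, ← hey] at h0
    have hc : c = 0 := (hsome 0 c h0).symm
    exact ⟨k, hk0, fun z => by rw [h z, hc, add_zero]⟩
  have hM : ∀ a : ZMod p, a ≠ 0 → ∃ h : G, h • x = x ∧ h • y = y ∧
      ∀ z : ZMod p, h • e (some z) = e (some (a * z)) := by
    intro a ha
    have h1y : e (some (1 : ZMod p)) ≠ y := by
      intro h
      rw [← hey] at h
      exact one_ne_zero (hsome _ _ h)
    have hay : e (some a) ≠ y := by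
      intro h
      rw [← hey] at h
      exact ha (hsome _ _ h)
    obtain ⟨h, hhx, hhy, hh1⟩ := hH (e (some 1)) (e (some a)) (hsn 1) h1y (hsn a) hay
    obtain ⟨k, hk0, hk⟩ := hB0 h hhx hhy
    have hka : k = a := by
      have h2 := hk 1
      rw [hh1, mul_one] at h2
      exact (hsome _ _ h2).symm
    rw [hka] at hk
    exact ⟨h, hhx, hhy, hk⟩
  have hpt : ∀ w : α, w ≠ x → w ≠ y → ∃ a : ZMod p, a ≠ 0 ∧ w = e (some a) := by
    intro w hwx hwy
    obtain ⟨o, ho⟩ := e.surjective w
    cases o with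
    | none => exact absurd (ho.symm.trans he0) hwx
    | some a =>
      refine ⟨a, ?_, ho.symm⟩
      rintro rfl
      exact hwy (ho.symm.trans hey)
  -- the swapper
  obtain ⟨t₀, ht₀x, ht₀y⟩ := hsw
  obtain ⟨a₀, ha₀, hta₀⟩ : ∃ a₀ : ZMod p, a₀ ≠ 0 ∧ t₀ • e (some 1) = e (some a₀) := by
    apply hpt
    · intro h
      rw [← ht₀y] at h
      have h' := MulAction.injective t₀ h
      rw [← hey] at h'
      exact one_ne_zero (hsome _ _ h')
    · intro h
      rw [← ht₀x] at h
      exact hsn 1 (MulAction.injective t₀ h)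
  obtain ⟨h₀, hh₀x, hh₀y, hh₀⟩ := hM a₀⁻¹ (inv_ne_zero ha₀)
  obtain ⟨t, htdef⟩ : ∃ t : G, t = h₀ * t₀ := ⟨_, rfl⟩
  have htx : t • x = y := by rw [htdef, mul_smul, ht₀x, hh₀y]
  have hty : t • y = x := by rw [htdef, mul_smul, ht₀y, hh₀x]
  have ht1 : t • e (some 1) = e (some 1) := by
    rw [htdef, mul_smul, hta₀, hh₀, inv_mul_cancel₀ ha₀]
  have htt : t * t = 1 := by
    apply h3 (t * t) 1 one_ne_zero
    · rw [mul_smul, htx, hty]
    · rw [mul_smul, hty, htx]
    · rw [mul_smul, ht1, ht1]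
  -- τ
  have hex : ∀ z : ZMod p, ∃ w : ZMod p, z ≠ 0 → (w ≠ 0 ∧ t • e (some z) = e (some w)) := by
    intro z
    by_cases hz : z = 0
    · exact ⟨0, fun h => absurd hz h⟩
    · have h1 : t • e (some z) ≠ x := by
        intro h
        rw [← hty] at h
        have h' := MulAction.injective t h
        rw [← hey] at h'
        exact hz (hsome _ _ h')
      have h2 : t • e (some z) ≠ y := by
        intro h
        rw [← htx] at h
        exact hsn z (MulAction.injective t h)
      obtain ⟨w, hw0, hw⟩ := hpt _ h1 h2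
      exact ⟨w, fun _ => ⟨hw0, hw⟩⟩
  choose τ hτ using hex
  have hτ0 : ∀ z, z ≠ 0 → τ z ≠ 0 := fun z hz => (hτ z hz).1
  have hτt : ∀ z, z ≠ 0 → t • e (some z) = e (some (τ z)) := fun z hz => (hτ z hz).2
  have hττ : ∀ z, z ≠ 0 → τ (τ z) = z := by
    intro z hz
    apply hsome
    rw [← hτt (τ z) (hτ0 z hz), ← hτt z hz, ← mul_smul, htt, one_smul]
  have hτ1 : τ 1 = 1 := by
    apply hsome
    rw [← hτt 1 one_ne_zero, ht1]
  have hτinj : ∀ a b, a ≠ 0 → b ≠ 0 → τ a = τ b → a = b := by
    intro a b ha hb h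
    rw [← hττ a ha, ← hττ b hb, h]
  -- multiplicativity
  have hτm : ∀ a z : ZMod p, a ≠ 0 → z ≠ 0 → τ (a * z) = τ a * τ z := by
    intro a z ha hz
    obtain ⟨h, hhx, hhy, hh⟩ := hM a ha
    obtain ⟨g, hgdef⟩ : ∃ g : G, g = t * h * t := ⟨_, rfl⟩
    have hgx : g • x = x := by rw [hgdef, mul_smul, mul_smul, htx, hhy, hty]
    have hgy : g • y = y := by rw [hgdef, mul_smul, mul_smul, hty, hhx, htx]
    obtain ⟨k, hk0, hk⟩ := hB0 g hgx hgy
    have key : ∀ z' : ZMod p, z' ≠ 0 → τ (a * z') = k * τ z' := by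
      intro z' hz'
      apply hsome
      have haz : a * z' ≠ 0 := mul_ne_zero ha hz'
      rw [← hτt (a * z') haz, ← hh z', ← hk, ← hτt z' hz', hgdef, ← mul_smul, ← mul_smul]
      rw [mul_assoc (t * h) t t, htt, mul_one]
    have hka : τ a = k := by
      have := key 1 one_ne_zero
      rw [mul_one, hτ1, mul_one] at this
      exact this
    rw [key z hz, hka]
  have hm1 : (-1 : ZMod p) ≠ 0 := neg_ne_zero.mpr one_ne_zero
  have hτm1 : τ (-1) = -1 := by
    have h1 : τ (-1) * τ (-1) = 1 := by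
      rw [← hτm (-1) (-1) hm1 hm1, neg_mul_neg, one_mul, hτ1]
    rcases mul_self_eq_one_iff.mp h1 with h | h
    · have h2 : (-1 : ZMod p) = 1 := hτinj _ _ hm1 one_ne_zero (by rw [h, hτ1])
      rw [h]
      exact h2.symm
    · exact h
  -- the Kerby--Tits element
  obtain ⟨β, hβdef⟩ : ∃ β : G, β = t * upow u (-1 : ZMod p) * t * upow u (1 : ZMod p) * t := ⟨_, rfl⟩
  have hβact : ∀ w : α, β • w = t • upow u (-1 : ZMod p) • t • upow u (1 : ZMod p) • t • w := by
    intro w
    rw [hβdef]
    simp only [mul_smul]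
  have hβx : β • x = x := by
    rw [hβact, htx, ← hey, hT, zero_add, ht1, hT]
    rw [show (1 : ZMod p) + -1 = 0 by ring, hey, hty]
  obtain ⟨k, c, hk0, hβ⟩ := hB β hβx
  have hβ0 : β • e (some 0) = e (some (-1)) := by
    rw [hβact, hey, hty, hupx, htx, ← hey, hT, zero_add, hτt (-1) hm1, hτm1]
  have hc : c = -1 := by
    have := hβ 0
    rw [hβ0, mul_zero, zero_add] at this
    exact (hsome _ _ this).symm
  have hβm1 : β • e (some (-1)) = e (some 0) := by
    rw [hβact, hτt (-1) hm1, hτm1, hT, neg_add_cancel, hey, hty, hupx, htx]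
  have hk : k = -1 := by
    have := hβ (-1)
    rw [hβm1, hc] at this
    have h2 := hsome _ _ this
    linear_combination h2
  have hKT : ∀ w : ZMod p, w ≠ 0 → w + 1 ≠ 0 → τ (τ w + 1) = 1 - τ (w + 1) := by
    intro w hw hw1
    have hτw : τ w ≠ 0 := hτ0 w hw
    have h1 : τ (w + 1) - 1 ≠ 0 := by
      intro h
      have h2 : τ (w + 1) = τ 1 := by rw [hτ1]; exact sub_eq_zero.mp h
      have h3 := hτinj _ _ hw1 one_ne_zero h2
      apply hw
      linear_combination h3
    have h2 : β • e (some (τ w)) = e (some (τ (τ (w + 1) - 1))) := by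
      rw [hβact, hτt (τ w) hτw, hττ w hw, hT, hτt (w + 1) hw1, hT, ← sub_eq_add_neg, hτt _ h1]
    have h3 := hβ (τ w)
    rw [h2, hk, hc] at h3
    have h4 := hsome _ _ h3
    have hτw1' : τ w + 1 ≠ 0 := by
      intro h
      have h5 : τ w = τ (-1) := by rw [hτm1]; linear_combination h
      have h6 := hτinj _ _ hw hm1 h5
      apply hw1
      rw [h6]; ring
    have h5 : τ (w + 1) - 1 = τ (-1 * τ w + -1) := by
      rw [← h4, hττ _ h1]
    have h6 : (-1 : ZMod p) * τ w + -1 = (-1) * (τ w + 1) := by ring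
    rw [h6, hτm _ _ hm1 hτw1', hτm1] at h5
    linear_combination h5
  -- induction over the prime field
  have hind : ∀ n : ℕ, 1 ≤ n → n < p → τ (n : ZMod p) = (n : ZMod p)⁻¹ := by
    intro n
    induction n with
    | zero => intro h; omega
    | succ m ih =>
      intro _ hlt
      rcases Nat.eq_zero_or_pos m with hm | hm
      · subst hm
        simp only [zero_add, Nat.cast_one, inv_one]
        exact hτ1
      · have ihm := ih hm (by omega)
        have hw : (m : ZMod p) ≠ 0 := by
          rw [Ne, ZMod.natCast_eq_zero_iff]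
          intro hdvd
          have := Nat.le_of_dvd hm hdvd
          omega
        have hw1 : (m : ZMod p) + 1 ≠ 0 := by
          have h0 : ((m + 1 : ℕ) : ZMod p) ≠ 0 := by
            rw [Ne, ZMod.natCast_eq_zero_iff]
            intro hdvd
            have := Nat.le_of_dvd (by omega) hdvd
            omega
          rwa [Nat.cast_add, Nat.cast_one] at h0
        have hkt := hKT _ hw hw1
        rw [ihm] at hkt
        have h1 : (m : ZMod p)⁻¹ + 1 = (m : ZMod p)⁻¹ * ((m : ZMod p) + 1) := by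
          rw [mul_add, inv_mul_cancel₀ hw, mul_one, add_comm]
        rw [h1, hτm _ _ (inv_ne_zero hw) hw1] at hkt
        have h2 : τ ((m : ZMod p)⁻¹) = (m : ZMod p) := by
          rw [← ihm, hττ _ hw]
        rw [h2] at hkt
        rw [Nat.cast_add, Nat.cast_one]
        apply eq_inv_of_mul_eq_one_right
        linear_combination hkt
  have hτall : ∀ z : ZMod p, z ≠ 0 → τ z = z⁻¹ := by
    intro z hz
    have h1 := hind z.val (by
      have : z.val ≠ 0 := fun h => hz ((ZMod.val_eq_zero z).mp h)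
      omega) (ZMod.val_lt z)
    rwa [ZMod.natCast_zmod_val] at h1
  apply Cfsg.Agent.Lib.Helper9.Moeb.pgl2_of_moebius e
  · intro a b ha
    obtain ⟨h, hhx, hhy, hh⟩ := hM a ha
    refine ⟨upow u b * h, ?_, fun z => ?_⟩
    · rw [he0, mul_smul, hhx, hupx]
    · rw [mul_smul, hh, hT]
  · refine ⟨t, ?_, ?_, fun z hz => ?_⟩
    · rw [he0, hey]; exact htx
    · rw [he0, hey]; exact hty
    · rw [hτt z hz, hτall z hz]
  · intro g hg
    rw [he0] at hg
    exact hB g hg

end Cfsg.Agent.Lib.Helper5.PP1
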