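/-
helper5: an abelian group `H` of additive automorphisms of a finite abelian group `A`, acting
freely on the non-zero elements, with `|H| + 1 = |A|`: then `A` is the additive group of a finite
field `K` and `H` acts as the multiplications by the non-zero elements of `K`.
-/
import Mathlib
import Cfsg.Agent.Lib.Helper5.ZPslB

set_option autoImplicit false

namespace Cfsg.Agent.Lib.Helper5.ZPsl

section Full

universe u v

variable {A : Type u} [AddCommGroup A] [Finite A] {H : Type v} [Group H] [Finite H]

/-- irreducibility: a non-zero invariant subgroup is everything -/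
theorem full_irreducible (σ : H →* AddMonoid.End A)
    (hfree : ∀ h : H, h ≠ 1 → ∀ x : A, σ h x = x → x = 0)
    (hcard : Nat.card H + 1 = Nat.card A)
    (L : AddSubgroup A) (hinv : ∀ (h : H) (x : A), x ∈ L → σ h x ∈ L) (hL : L ≠ ⊥) : L = ⊤ := by
  classical
  obtain ⟨l, hl, hl0⟩ : ∃ l ∈ L, l ≠ 0 := by
    by_contra hcon
    push Not at hcon
    apply hL
    rw [eq_bot_iff]
    intro x hx
    rw [AddSubgroup.mem_bot]
    exact hcon x hx
  have hσinv := half_sigma_inv σ
  let f : Option H → L := fun o => match o with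
    | none => ⟨0, L.zero_mem⟩
    | some h => ⟨σ h l, hinv h l hl⟩
  have hf : Function.Injective f := by
    intro o o' hoo
    cases o with
    | none =>
      cases o' with
      | none => rfl
      | some h' =>
        exfalso
        have h1 : (0 : A) = σ h' l := congrArg Subtype.val hoo
        apply hl0
        have := hσinv h' l
        rw [← h1, map_zero] at this
        exact this.symm
    | some h =>
      cases o' with
      | none =>
        exfalso
        have h1 : σ h l = (0 : A) := congrArg Subtype.val hoo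
        apply hl0
        have := hσinv h l
        rw [h1, map_zero] at this
        exact this.symm
      | some h' =>
        have h1 : σ h l = σ h' l := congrArg Subtype.val hoo
        have h2 : σ (h'⁻¹ * h) l = l := by
          rw [map_mul]
          change σ h'⁻¹ (σ h l) = l
          rw [h1, hσinv]
        have h3 : h'⁻¹ * h = 1 := by
          by_contra hne
          exact hl0 (hfree _ hne l h2)
        rw [inv_mul_eq_one] at h3
        rw [h3]
  have h1 : Nat.card (Option H) ≤ Nat.card L := Nat.card_le_card_of_injective f hf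
  rw [Finite.card_option] at h1
  obtain ⟨k, hk⟩ := AddSubgroup.card_addSubgroup_dvd_card L
  have hk1 : k = 1 := by
    rcases Nat.lt_or_ge k 2 with hk2 | hk2
    · interval_cases k
      · rw [mul_zero] at hk; omega
      · rfl
    · exfalso
      have : Nat.card L * 2 ≤ Nat.card L * k := Nat.mul_le_mul_left _ hk2
      omega
  rw [hk1, mul_one] at hk
  exact AddSubgroup.eq_top_of_card_eq L hk.symm

/-- the field generated by `H` inside the endomorphism ring -/
theorem exists_field_end_full (σ : H →* AddMonoid.End A) (hcomm : ∀ h h' : H, h * h' = h' * h)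
    (hfree : ∀ h : H, h ≠ 1 → ∀ x : A, σ h x = x → x = 0)
    (hcard : Nat.card H + 1 = Nat.card A) (k₀ : A) (hk₀ : k₀ ≠ 0) :
    ∃ (E : Type u) (_ : Field E) (_ : Finite E) (ι : E →+* AddMonoid.End A),
      (∀ h : H, ∃ s : E, ι s = σ h) ∧ Function.Bijective (fun r : E => ι r k₀) := by
  classical
  have hRcomm : ∀ x ∈ Set.range σ, ∀ y ∈ Set.range σ, x * y = y * x := by
    rintro _ ⟨h, rfl⟩ _ ⟨h', rfl⟩
    rw [← map_mul, ← map_mul, hcomm]
  -- elements of the closure commute with `σ h`
  have hcommR : ∀ r ∈ Subring.closure (Set.range σ), ∀ h : H, r * σ h = σ h * r := by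
    intro r hr h
    have hle : Subring.closure (Set.range (σ : H → AddMonoid.End A)) ≤
        Subring.centralizer (Set.range σ) := by
      rw [Subring.closure_le]
      rintro _ ⟨h', rfl⟩
      rw [SetLike.mem_coe, Subring.mem_centralizer_iff]
      rintro _ ⟨h'', rfl⟩
      exact hRcomm _ ⟨h'', rfl⟩ _ ⟨h', rfl⟩
    have h1 := hle hr
    rw [Subring.mem_centralizer_iff] at h1
    exact (h1 _ ⟨h, rfl⟩).symm
  -- non-zero elements of the closure are injective
  have hinj : ∀ r ∈ Subring.closure (Set.range σ), r ≠ 0 → Function.Injective r := by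
    intro r hr hr0
    let L : AddSubgroup A :=
      { carrier := {x | r x = 0}
        zero_mem' := map_zero r
        add_mem' := by
          intro x y hx hy
          simp only [Set.mem_setOf_eq] at hx hy ⊢
          rw [map_add, hx, hy, add_zero]
        neg_mem' := by
          intro x hx
          simp only [Set.mem_setOf_eq] at hx ⊢
          rw [map_neg, hx, neg_zero] }
    have hLmem : ∀ x, x ∈ L ↔ r x = 0 := fun x => Iff.rfl
    have hLinv : ∀ (h : H) (x : A), x ∈ L → σ h x ∈ L := by
      intro h x hx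
      rw [hLmem] at hx ⊢
      have h2 : r (σ h x) = σ h (r x) := by
        change (r * σ h) x = (σ h * r) x
        rw [hcommR r hr h]
      rw [h2, hx, map_zero]
    have hLbot : L = ⊥ := by
      by_contra hne
      have htop := full_irreducible σ hfree hcard L hLinv hne
      apply hr0
      refine DFunLike.ext _ _ fun x => ?_
      have : x ∈ L := by rw [htop]; trivial
      exact (hLmem x).mp this
    rw [injective_iff_map_eq_zero]
    intro x hx
    have : x ∈ L := (hLmem x).mpr hx
    rw [hLbot, AddSubgroup.mem_bot] at this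
    exact this
  have hfinE : Finite (AddMonoid.End A) :=
    Finite.of_injective (fun f : AddMonoid.End A => (f : A → A)) DFunLike.coe_injective
  let R : Subring (AddMonoid.End A) := Subring.closure (Set.range σ)
  letI : CommRing R := Subring.closureCommRingOfComm hRcomm
  have h01 : (0 : R) ≠ 1 := by
    intro h
    have h1 : ((0 : R) : AddMonoid.End A) k₀ = ((1 : R) : AddMonoid.End A) k₀ := by rw [h]
    exact hk₀ h1.symm
  haveI : Nontrivial R := ⟨⟨0, 1, h01⟩⟩
  haveI : NoZeroDivisors R := ⟨by
    intro r s hrs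
    by_cases hs : s = 0
    · exact Or.inr hs
    · left
      have hs' : (s : AddMonoid.End A) ≠ 0 := fun h => hs (Subtype.ext h)
      have hsinj := hinj s.1 s.2 hs'
      have hssurj : Function.Surjective (s : AddMonoid.End A) :=
        Finite.injective_iff_surjective.mp hsinj
      apply Subtype.ext
      refine DFunLike.ext _ _ fun x => ?_
      obtain ⟨y, rfl⟩ := hssurj x
      have : ((r * s : R) : AddMonoid.End A) y = 0 := by rw [hrs]; rfl
      exact this⟩
  haveI : IsDomain R := NoZeroDivisors.to_isDomain R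
  haveI : Finite R := Subtype.finite
  haveI : Fintype R := Fintype.ofFinite R
  letI : Field R := Fintype.fieldOfDomain R
  refine ⟨R, inferInstance, inferInstance, R.subtype, ?_, ?_, ?_⟩
  · intro h
    exact ⟨⟨σ h, Subring.subset_closure ⟨h, rfl⟩⟩, rfl⟩
  · intro r s hrs
    by_contra hne
    have h1 : ((r - s : R) : AddMonoid.End A) ≠ 0 := by
      intro h
      apply hne
      have : r - s = 0 := Subtype.ext h
      exact sub_eq_zero.mp this
    have h2 := hinj (r - s : R).1 (r - s : R).2 h1
    apply hk₀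
    apply h2
    have h3 : (r : AddMonoid.End A) k₀ = (s : AddMonoid.End A) k₀ := hrs
    have h4 : ((r - s : R) : AddMonoid.End A) k₀ = (r : AddMonoid.End A) k₀ -
        (s : AddMonoid.End A) k₀ := rfl
    rw [h4, h3, sub_self, map_zero]
  · let L : AddSubgroup A :=
      { carrier := {x | ∃ r ∈ Subring.closure (Set.range σ), (r : AddMonoid.End A) k₀ = x}
        zero_mem' := ⟨0, Subring.zero_mem _, rfl⟩
        add_mem' := by
          rintro x y ⟨r, hr, rfl⟩ ⟨s, hs, rfl⟩
          exact ⟨r + s, Subring.add_mem _ hr hs, rfl⟩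
        neg_mem' := by
          rintro x ⟨r, hr, rfl⟩
          exact ⟨-r, Subring.neg_mem _ hr, rfl⟩ }
    have hLmem : ∀ x, x ∈ L ↔ ∃ r ∈ Subring.closure (Set.range σ),
        (r : AddMonoid.End A) k₀ = x := fun x => Iff.rfl
    have hLinv : ∀ (h : H) (x : A), x ∈ L → σ h x ∈ L := by
      intro h x hx
      rw [hLmem] at hx ⊢
      obtain ⟨r, hr, rfl⟩ := hx
      exact ⟨σ h * r, Subring.mul_mem _ (Subring.subset_closure ⟨h, rfl⟩) hr, rfl⟩
    have hLne : L ≠ ⊥ := by
      intro h
      have : k₀ ∈ L := (hLmem k₀).mpr ⟨1, Subring.one_mem _, rfl⟩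
      rw [h, AddSubgroup.mem_bot] at this
      exact hk₀ this
    have htop := full_irreducible σ hfree hcard L hLinv hLne
    intro x
    have : x ∈ L := by rw [htop]; trivial
    obtain ⟨r, hr, hrx⟩ := (hLmem x).mp this
    exact ⟨⟨r, hr⟩, hrx⟩

theorem field_of_full_aux {E : Type u} [Field E] [Finite E] (σ : H →* AddMonoid.End A)
    (hfree : ∀ h : H, h ≠ 1 → ∀ x : A, σ h x = x → x = 0)
    (hcard : Nat.card H + 1 = Nat.card A) (k₀ : A) (hk₀ : k₀ ≠ 0)
    (ι : E →+* AddMonoid.End A) (hι : ∀ h : H, ∃ s : E, ι s = σ h)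
    (hbij : Function.Bijective (fun r : E => ι r k₀)) :
    ∃ (K : Type) (_ : Field K) (_ : Fintype K) (ψ : K ≃+ A), ψ 1 = k₀ ∧
      Fintype.card K = Nat.card H + 1 ∧
      (∀ h : H, ∃ s : K, s ≠ 0 ∧ ∀ x : K, σ h (ψ x) = ψ (s * x)) ∧
      (∀ s : K, s ≠ 0 → ∃ h : H, ∀ x : K, σ h (ψ x) = ψ (s * x)) := by
  classical
  haveI : Small.{0} E := inferInstance
  let φ : Shrink.{0} E ≃+* E := Shrink.ringEquiv E
  haveI : Finite (Shrink.{0} E) := Finite.of_equiv E (equivShrink E)
  haveI : Fintype (Shrink.{0} E) := Fintype.ofFinite _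
  let ev : E →+ A :=
    { toFun := fun r => ι r k₀
      map_zero' := by rw [map_zero]; rfl
      map_add' := fun r s => by rw [map_add]; rfl }
  let evE : E ≃+ A := AddEquiv.ofBijective ev hbij
  let ψ : Shrink.{0} E ≃+ A := (φ : Shrink.{0} E ≃+ E).trans evE
  have hψ : ∀ x, ψ x = ι (φ x) k₀ := fun x => rfl
  have hιinj : Function.Injective ι := by
    intro r s hrs
    apply hbij.1
    change ι r k₀ = ι s k₀
    rw [hrs]
  have hcardK : Fintype.card (Shrink.{0} E) = Nat.card H + 1 := by
    rw [hcard, ← Nat.card_eq_fintype_card]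
    exact Nat.card_congr ψ.toEquiv
  -- the multiplier of `h`
  have hex : ∀ h : H, ∃ s : Shrink.{0} E, ι (φ s) = σ h := by
    intro h
    obtain ⟨s₀, hs₀⟩ := hι h
    exact ⟨φ.symm s₀, by rw [RingEquiv.apply_symm_apply, hs₀]⟩
  choose f hf using hex
  have hιφinj : ∀ s s' : Shrink.{0} E, ι (φ s) = ι (φ s') → s = s' := by
    intro s s' h
    exact φ.injective (hιinj h)
  have hfne : ∀ h : H, f h ≠ 0 := by
    intro h h0
    apply hk₀
    have := half_sigma_inv σ h k₀
    rw [← hf h, h0, map_zero, map_zero] at this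
    change σ h⁻¹ 0 = k₀ at this
    rw [map_zero] at this
    exact this.symm
  have hact : ∀ (h : H) (x : Shrink.{0} E), σ h (ψ x) = ψ (f h * x) := by
    intro h x
    rw [hψ, hψ, map_mul, map_mul, hf]
    rfl
  let θ : H →* Shrink.{0} E :=
    { toFun := f
      map_one' := by
        apply hιφinj
        rw [hf, map_one, map_one, map_one]
      map_mul' := by
        intro h h'
        apply hιφinj
        rw [hf, map_mul, map_mul, map_mul, hf, hf] }
  have hθ : ∀ h, θ h = f h := fun h => rfl
  have hθinj : Function.Injective θ.toHomUnits := by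
    intro h h' hh
    have h1 : f h = f h' := by
      have := congrArg Units.val hh
      rw [MonoidHom.coe_toHomUnits, MonoidHom.coe_toHomUnits] at this
      exact this
    have h2 : σ h = σ h' := by rw [← hf h, ← hf h', h1]
    have h3 : σ (h'⁻¹ * h) k₀ = k₀ := by
      rw [map_mul]
      change σ h'⁻¹ (σ h k₀) = k₀
      rw [h2, half_sigma_inv]
    have h4 : h'⁻¹ * h = 1 := by
      by_contra hne
      exact hk₀ (hfree _ hne k₀ h3)
    rw [inv_mul_eq_one] at h4
    exact h4.symm
  have hθbij : Function.Bijective θ.toHomUnits := by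
    rw [Nat.bijective_iff_injective_and_card]
    refine ⟨hθinj, ?_⟩
    rw [Nat.card_units, Nat.card_eq_fintype_card (α := Shrink.{0} E), hcardK]
    omega
  refine ⟨Shrink.{0} E, inferInstance, inferInstance, ψ, ?_, hcardK, ?_, ?_⟩
  · rw [hψ, map_one, map_one]; rfl
  · intro h
    exact ⟨f h, hfne h, hact h⟩
  · intro s hs
    obtain ⟨h, hh⟩ := hθbij.2 (Units.mk0 s hs)
    have h1 : f h = s := by
      have := congrArg Units.val hh
      rw [MonoidHom.coe_toHomUnits, Units.val_mk0] at this
      exact this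
    refine ⟨h, fun x => ?_⟩
    rw [hact, h1]

/-- **the field of a transitive abelian group of automorphisms** -/
theorem field_of_full (σ : H →* AddMonoid.End A) (hcomm : ∀ h h' : H, h * h' = h' * h)
    (hfree : ∀ h : H, h ≠ 1 → ∀ x : A, σ h x = x → x = 0)
    (hcard : Nat.card H + 1 = Nat.card A) (k₀ : A) (hk₀ : k₀ ≠ 0) :
    ∃ (K : Type) (_ : Field K) (_ : Fintype K) (ψ : K ≃+ A), ψ 1 = k₀ ∧
      Fintype.card K = Nat.card H + 1 ∧
      (∀ h : H, ∃ s : K, s ≠ 0 ∧ ∀ x : K, σ h (ψ x) = ψ (s * x)) ∧
      (∀ s : K, s ≠ 0 → ∃ h : H, ∀ x : K, σ h (ψ x) = ψ (s * x)) := by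
  obtain ⟨E, instE, finE, ι, hι, hbij⟩ := exists_field_end_full σ hcomm hfree hcard k₀ hk₀
  exact field_of_full_aux σ hfree hcard k₀ hk₀ ι hι hbij

end Full

section FullMul

universe u v

/-- multiplicative form of `field_of_full` -/
theorem field_of_full_mul {N : Type u} [Group N] [Finite N] (hNcomm : ∀ x y : N, x * y = y * x)
    {H : Type v} [Group H] [Finite H] (c : H →* MulAut N) (hcomm : ∀ h h' : H, h * h' = h' * h)
    (hfree : ∀ h : H, h ≠ 1 → ∀ x : N, c h x = x → x = 1)
    (hcard : Nat.card H + 1 = Nat.card N) (k₀ : N) (hk₀ : k₀ ≠ 1) :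
    ∃ (K : Type) (_ : Field K) (_ : Fintype K) (ψ : K → N), Function.Bijective ψ ∧
      (∀ x y : K, ψ (x + y) = ψ x * ψ y) ∧ ψ 1 = k₀ ∧
      Fintype.card K = Nat.card H + 1 ∧
      (∀ h : H, ∃ s : K, s ≠ 0 ∧ ∀ x : K, c h (ψ x) = ψ (s * x)) ∧
      (∀ s : K, s ≠ 0 → ∃ h : H, ∀ x : K, c h (ψ x) = ψ (s * x)) := by
  letI : CommGroup N := { (inferInstance : Group N) with mul_comm := hNcomm }
  let σ : H →* AddMonoid.End (Additive N) :=
    { toFun := fun h => MonoidHom.toAdditive (c h).toMonoidHom
      map_one' := by rw [map_one]; rfl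
      map_mul' := fun h h' => by rw [map_mul]; rfl }
  have hσ : ∀ (h : H) (x : Additive N), σ h x = Additive.ofMul (c h (Additive.toMul x)) :=
    fun h x => rfl
  have hfree' : ∀ h : H, h ≠ 1 → ∀ x : Additive N, σ h x = x → x = 0 := by
    intro h hh x hx
    rw [hσ] at hx
    have := hfree h hh (Additive.toMul x) (congrArg Additive.toMul hx)
    exact this
  have hcard' : Nat.card H + 1 = Nat.card (Additive N) := by rw [hcard]; rfl
  have hk₀' : Additive.ofMul k₀ ≠ 0 := fun h => hk₀ (congrArg Additive.toMul h)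
  obtain ⟨K, iK, fK, ψ, h1, h2, h3, h4⟩ :=
    field_of_full σ hcomm hfree' hcard' (Additive.ofMul k₀) hk₀'
  refine ⟨K, iK, fK, fun x => Additive.toMul (ψ x), ?_, ?_, ?_, h2, ?_, ?_⟩
  · exact (Additive.toMul.bijective).comp ψ.bijective
  · intro x y
    change Additive.toMul (ψ (x + y)) = Additive.toMul (ψ x) * Additive.toMul (ψ y)
    rw [map_add]
    rfl
  · change Additive.toMul (ψ 1) = k₀
    rw [h1]; rfl
  · intro h
    obtain ⟨s, hs0, hs⟩ := h3 h
    refine ⟨s, hs0, fun x => ?_⟩
    have := hs x
    rw [hσ] at this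
    exact congrArg Additive.toMul this
  · intro s hs0
    obtain ⟨h, hh⟩ := h4 s hs0
    exact ⟨h, fun x => congrArg Additive.toMul (hh x)⟩

end FullMul

end Cfsg.Agent.Lib.Helper5.ZPsl
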