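import Mathlib
import Cfsg.Prelude.Def_LieExceptional
import Cfsg.Agent.Lib.Helper5.FrobCount

set_option autoImplicit false
set_option linter.unusedSectionVars false

namespace Cfsg.Agent.Lib.Helper5.Zass

open Cfsg MulAction SubMulAction

section Zass

variable {G Ω : Type*} [Group G] [MulAction G Ω]

/-- a Zassenhaus group has at least three points -/
theorem zass_three (hZ : Cfsg.IsZassenhausGroup G Ω) : ∃ a b c : Ω, a ≠ b ∧ a ≠ c ∧ b ≠ c := by
  obtain ⟨hfaith, h2, h3, ⟨g₀, hg₀, a₀, b₀, hab₀, ha₀, hb₀⟩, h5⟩ := hZ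
  have : ∃ c : Ω, g₀ • c ≠ c := by
    by_contra hcon
    push Not at hcon
    apply hg₀
    apply hfaith.eq_of_smul_eq_smul
    intro c
    rw [hcon c, one_smul]
  obtain ⟨c, hc⟩ := this
  refine ⟨a₀, b₀, c, hab₀, ?_, ?_⟩
  · rintro rfl; exact hc ha₀
  · rintro rfl; exact hc hb₀

/-- the point stabiliser is transitive on the remaining points -/
theorem zass_stab_trans (hZ : Cfsg.IsZassenhausGroup G Ω) (a : Ω) :
    IsPretransitive (stabilizer G a) (ofStabilizer G a) := by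
  obtain ⟨hfaith, h2, h3, h4, h5⟩ := hZ
  refine ⟨fun x y => ?_⟩
  obtain ⟨g, hga, hgx⟩ : ∃ g : G, g • a = a ∧ g • x.1 = y.1 :=
    MulAction.is_two_pretransitive_iff.mp h2 (Ne.symm x.2) (Ne.symm y.2)
  exact ⟨⟨g, hga⟩, Subtype.ext hgx⟩

/-- the defining predicate of the Frobenius kernel of a point stabiliser -/
def PK (a : Ω) (u : G) : Prop := u • a = a ∧ (u = 1 ∨ ∀ c : Ω, u • c = c → c = a)

end Zass

section Zass2

variable {G Ω : Type*} [Group G] [MulAction G Ω]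

/-- two-point stabilisers of a Zassenhaus group are non-trivial -/
theorem zass_two_point_ne (hZ : Cfsg.IsZassenhausGroup G Ω) {a b : Ω} (hab : a ≠ b) :
    ∃ x : G, x ≠ 1 ∧ x • a = a ∧ x • b = b := by
  obtain ⟨hfaith, h2, h3, ⟨g₀, hg₀, a₀, b₀, hab₀, ha₀, hb₀⟩, h5⟩ := hZ
  obtain ⟨t, hta, htb⟩ : ∃ t : G, t • a₀ = a ∧ t • b₀ = b :=
    MulAction.is_two_pretransitive_iff.mp h2 hab₀ hab
  refine ⟨t * g₀ * t⁻¹, ?_, ?_, ?_⟩
  · intro h
    apply hg₀
    have : g₀ = t⁻¹ * (t * g₀ * t⁻¹) * t := by group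
    rw [this, h]; group
  · rw [← hta, mul_smul, mul_smul, inv_smul_smul, ha₀]
  · rw [← htb, mul_smul, mul_smul, inv_smul_smul, hb₀]

/-- an element permuting `{a, b}` normalises the two-point stabiliser -/
theorem mem_normalizer_of_perm {a b : Ω} (g : G)
    (hg : (g • a = a ∧ g • b = b) ∨ (g • a = b ∧ g • b = a)) :
    g ∈ Subgroup.normalizer ((MulAction.stabilizer G a ⊓ MulAction.stabilizer G b : Subgroup G) : Set G) := by
  have hinv : (g⁻¹ • a = a ∧ g⁻¹ • b = b) ∨ (g⁻¹ • a = b ∧ g⁻¹ • b = a) := by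
    rcases hg with ⟨h1, h2⟩ | ⟨h1, h2⟩
    · left; exact ⟨by rw [inv_smul_eq_iff, h1], by rw [inv_smul_eq_iff, h2]⟩
    · right; exact ⟨by rw [inv_smul_eq_iff, h2], by rw [inv_smul_eq_iff, h1]⟩
  have key : ∀ (g : G), ((g • a = a ∧ g • b = b) ∨ (g • a = b ∧ g • b = a)) →
      ∀ h : G, h • a = a → h • b = b → (g * h * g⁻¹) • a = a ∧ (g * h * g⁻¹) • b = b := by
    intro g hg h ha hb
    rcases hg with ⟨h1, h2⟩ | ⟨h1, h2⟩
    · have h3 : g⁻¹ • a = a := by rw [inv_smul_eq_iff, h1]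
      have h4 : g⁻¹ • b = b := by rw [inv_smul_eq_iff, h2]
      exact ⟨by rw [mul_smul, mul_smul, h3, ha, h1], by rw [mul_smul, mul_smul, h4, hb, h2]⟩
    · have h3 : g⁻¹ • a = b := by rw [inv_smul_eq_iff, h2]
      have h4 : g⁻¹ • b = a := by rw [inv_smul_eq_iff, h1]
      exact ⟨by rw [mul_smul, mul_smul, h3, hb, h2], by rw [mul_smul, mul_smul, h4, ha, h1]⟩
  rw [Subgroup.mem_normalizer_iff]
  intro h
  simp only [Subgroup.mem_inf, MulAction.mem_stabilizer_iff]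
  constructor
  · rintro ⟨ha, hb⟩
    exact key g hg h ha hb
  · rintro ⟨ha, hb⟩
    have := key g⁻¹ hinv _ ha hb
    have e : g⁻¹ * (g * h * g⁻¹) * g⁻¹⁻¹ = h := by group
    rwa [e] at this

/-- if a non-identity element of the two-point stabiliser is conjugated into it by `g`, then `g`
permutes the two points -/
theorem perm_of_conj_mem (hZ : Cfsg.IsZassenhausGroup G Ω) {a b : Ω} (hab : a ≠ b) (g x : G)
    (hx1 : x ≠ 1) (hxa : x • a = a) (hxb : x • b = b)
    (hya : (g * x * g⁻¹) • a = a) (hyb : (g * x * g⁻¹) • b = b) :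
    (g • a = a ∧ g • b = b) ∨ (g • a = b ∧ g • b = a) := by
  obtain ⟨hfaith, h2, h3, h4, h5⟩ := hZ
  have hy1 : g * x * g⁻¹ ≠ 1 := by
    intro h
    apply hx1
    have : x = g⁻¹ * (g * x * g⁻¹) * g := by group
    rw [this, h]; group
  have hga : (g * x * g⁻¹) • (g • a) = g • a := by
    rw [mul_smul, mul_smul, inv_smul_smul, hxa]
  have hgb : (g * x * g⁻¹) • (g • b) = g • b := by
    rw [mul_smul, mul_smul, inv_smul_smul, hxb]
  have hgab : g • a ≠ g • b := fun h => hab (MulAction.injective g h)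
  have h1 : g • a = a ∨ g • a = b := by
    by_contra hcon
    push Not at hcon
    exact hy1 (h3 _ a b (g • a) hab (Ne.symm hcon.2) (Ne.symm hcon.1) hya hyb hga)
  have h2' : g • b = a ∨ g • b = b := by
    by_contra hcon
    push Not at hcon
    exact hy1 (h3 _ a b (g • b) hab (Ne.symm hcon.2) (Ne.symm hcon.1) hya hyb hgb)
  rcases h1 with h1 | h1 <;> rcases h2' with h2' | h2'
  · exact absurd (h1.trans h2'.symm) hgab
  · exact Or.inl ⟨h1, h2'⟩
  · exact Or.inr ⟨h1, h2'⟩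
  · exact absurd (h1.trans h2'.symm) hgab

end Zass2

end Cfsg.Agent.Lib.Helper5.Zass
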