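import Mathlib
import Cfsg.Prelude.Def_LieExceptional
import Cfsg.Agent.Lib.Helper5.Zassenhaus
import Cfsg.Agent.Lib.Helper5.FrobAct

set_option autoImplicit false
set_option linter.unusedSectionVars false

namespace Cfsg.Agent.Lib.Helper5.Zass

open Cfsg MulAction SubMulAction Cfsg.Agent.Lib.Helper5.FrobAct

section ZassN

variable {G Ω : Type*} [Group G] [MulAction G Ω]

theorem zass_finite [Finite Ω] (hZ : Cfsg.IsZassenhausGroup G Ω) : Finite G := by
  have := hZ.1
  exact Finite.of_injective (MulAction.toPermHom G Ω) MulAction.toPerm_injective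

/-- two further points -/
theorem zass_two_more (hZ : Cfsg.IsZassenhausGroup G Ω) (a : Ω) :
    ∃ b c : Ω, b ≠ a ∧ c ≠ a ∧ b ≠ c := by
  obtain ⟨a₀, b₀, c₀, h1, h2, h3⟩ := zass_three hZ
  by_cases ha : a₀ = a
  · subst ha; exact ⟨b₀, c₀, h1.symm, h2.symm, h3⟩
  · by_cases hb : b₀ = a
    · subst hb; exact ⟨a₀, c₀, ha, h3.symm, h2⟩
    · exact ⟨a₀, b₀, ha, hb, h1⟩

/-- the Frobenius kernel of a point stabiliser of a Zassenhaus group -/
theorem zass_kernel [Finite Ω] (hZ : Cfsg.IsZassenhausGroup G Ω) (a : Ω) :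
    ∃ K : Subgroup G, (∀ x, x ∈ K ↔ PK a x) ∧
      (∀ b : Ω, b ≠ a → ∀ g : G, g • a = a →
        ∃ k ∈ K, ∃ h : G, h • a = a ∧ h • b = b ∧ g = k * h) ∧
      (∀ c d : Ω, c ≠ a → d ≠ a → ∃ k ∈ K, k • c = d) ∧
      (∀ M : Subgroup G, M ≤ stabilizer G a →
        (∀ g : G, g • a = a → ∀ x ∈ M, g * x * g⁻¹ ∈ M) → K ≤ M ∨ M ≤ K) := by
  have hfin := zass_finite hZ
  have htr := zass_stab_trans hZ a
  obtain ⟨hfaith, h2, h3, h4, h5⟩ := hZ
  have hZ : Cfsg.IsZassenhausGroup G Ω := ⟨hfaith, h2, h3, h4, h5⟩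
  have key : ∀ b : Ω, b ≠ a → ∃ K : Subgroup G, (∀ x, x ∈ K ↔ PK a x) ∧
      (∀ g : G, g • a = a →
        ∃ k ∈ K, ∃ h : G, h • a = a ∧ h • b = b ∧ g = k * h) ∧
      (∀ c d : Ω, c ≠ a → d ≠ a → ∃ k ∈ K, k • c = d) ∧
      (∀ M : Subgroup G, M ≤ stabilizer G a →
        (∀ g : G, g • a = a → ∀ x ∈ M, g * x * g⁻¹ ∈ M) → K ≤ M ∨ M ≤ K) := by
    intro b hb
    obtain ⟨b₁, c₁, hb₁, hc₁, hbc₁⟩ := zass_two_more hZ a
    obtain ⟨b', hb', hbb'⟩ : ∃ b' : Ω, b' ≠ a ∧ b ≠ b' := by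
      by_cases h : b = b₁
      · exact ⟨c₁, hc₁, by rw [h]; exact hbc₁⟩
      · exact ⟨b₁, hb₁, h⟩
    have hmemb : b ∈ ofStabilizer G a := (mem_ofStabilizer_iff G a).mpr hb
    have hmemb' : b' ∈ ofStabilizer G a := (mem_ofStabilizer_iff G a).mpr hb'
    have h1 : ∀ x : stabilizer G a, x ≠ 1 → ∀ c d : ofStabilizer G a,
        x • c = c → x • d = d → c = d := by
      intro x hx c d hc hd
      by_contra hcd
      apply hx
      have hc' : (x : G) • (c : Ω) = c := congrArg Subtype.val hc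
      have hd' : (x : G) • (d : Ω) = d := congrArg Subtype.val hd
      have hca : (c : Ω) ≠ a := (mem_ofStabilizer_iff G a).mp c.2
      have hda : (d : Ω) ≠ a := (mem_ofStabilizer_iff G a).mp d.2
      have hcd' : (c : Ω) ≠ d := fun h => hcd (Subtype.ext h)
      have := h3 (x : G) a c d (Ne.symm hca) hcd' (Ne.symm hda) x.2 hc' hd'
      exact Subtype.ext this
    have hne : stabilizer (stabilizer G a) (⟨b, hmemb⟩ : ofStabilizer G a) ≠ ⊥ := by
      obtain ⟨x, hx1, hxa, hxb⟩ := zass_two_point_ne hZ (Ne.symm hb)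
      intro hbot
      have : (⟨x, hxa⟩ : stabilizer G a) ∈
          stabilizer (stabilizer G a) (⟨b, hmemb⟩ : ofStabilizer G a) := by
        rw [mem_stabilizer_iff]
        exact Subtype.ext hxb
      rw [hbot, Subgroup.mem_bot] at this
      exact hx1 (congrArg Subtype.val this)
    obtain ⟨R, hRn, hRmem, hRdec, hRdich, hRtr⟩ :=
      frob_action h1 (⟨b, hmemb⟩ : ofStabilizer G a) ⟨b', hmemb'⟩
        (fun h => hbb' (congrArg Subtype.val h)) hne
    have hKmem : ∀ x, x ∈ R.map (stabilizer G a).subtype ↔ PK a x := by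
      intro x
      rw [Subgroup.mem_map]
      constructor
      · rintro ⟨y, hy, rfl⟩
        refine ⟨y.2, ?_⟩
        rcases (hRmem y).mp hy with h | h
        · left; rw [h]; rfl
        · right
          intro c hc
          by_contra hca
          exact h ⟨c, (mem_ofStabilizer_iff G a).mpr hca⟩ (Subtype.ext hc)
      · rintro ⟨hxa, hx⟩
        refine ⟨⟨x, hxa⟩, ?_, rfl⟩
        rw [hRmem]
        rcases hx with h | h
        · left; exact Subtype.ext h
        · right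
          intro c hc
          have hc' : x • (c : Ω) = c := congrArg Subtype.val hc
          exact (mem_ofStabilizer_iff G a).mp c.2 (h c hc')
    refine ⟨R.map (stabilizer G a).subtype, hKmem, ?_, ?_, ?_⟩
    · intro g hg
      obtain ⟨k, hk, h, hh, hgkh⟩ := hRdec ⟨g, hg⟩
      refine ⟨k, Subgroup.mem_map.mpr ⟨k, hk, rfl⟩, h, h.2, ?_, ?_⟩
      · exact congrArg Subtype.val (mem_stabilizer_iff.mp hh)
      · exact congrArg Subtype.val hgkh
    · intro c d hc hd
      obtain ⟨k, hk, hkcd⟩ := hRtr ⟨c, (mem_ofStabilizer_iff G a).mpr hc⟩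
        ⟨d, (mem_ofStabilizer_iff G a).mpr hd⟩
      exact ⟨k, Subgroup.mem_map.mpr ⟨k, hk, rfl⟩, congrArg Subtype.val hkcd⟩
    · intro M hM hMn
      have hMn' : (M.subgroupOf (stabilizer G a)).Normal := by
        refine ⟨fun x hx g => ?_⟩
        rw [Subgroup.mem_subgroupOf] at hx ⊢
        exact hMn g g.2 x hx
      rcases hRdich _ hMn' with h | h
      · left
        rintro x hx
        obtain ⟨y, hy, rfl⟩ := Subgroup.mem_map.mp hx
        exact Subgroup.mem_subgroupOf.mp (h hy)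
      · right
        intro x hx
        exact Subgroup.mem_map.mpr ⟨⟨x, hM hx⟩, h (Subgroup.mem_subgroupOf.mpr hx), rfl⟩
  obtain ⟨b₁, c₁, hb₁, hc₁, hbc₁⟩ := zass_two_more hZ a
  obtain ⟨K, hK1, hK2, hK3, hK4⟩ := key b₁ hb₁
  refine ⟨K, hK1, ?_, hK3, hK4⟩
  intro b hb g hg
  obtain ⟨K', hK1', hK2', -, -⟩ := key b hb
  obtain ⟨k, hk, h, hha, hhb, hgkh⟩ := hK2' g hg
  exact ⟨k, (hK1 k).mpr ((hK1' k).mp hk), h, hha, hhb, hgkh⟩

/-- a non-trivial normal subgroup of a Zassenhaus group is transitive -/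
theorem zass_normal_trans (hZ : Cfsg.IsZassenhausGroup G Ω) (N : Subgroup G) [N.Normal]
    (hN : N ≠ ⊥) : ∀ c d : Ω, ∃ n ∈ N, n • c = d := by
  obtain ⟨hfaith, h2, h3, h4, h5⟩ := hZ
  have hprim : IsPreprimitive G Ω := isPreprimitive_of_is_two_pretransitive h2
  have hfix : fixedPoints N Ω ≠ Set.univ := by
    intro hfix
    apply hN
    rw [eq_bot_iff]
    intro n hn
    rw [Subgroup.mem_bot]
    apply hfaith.eq_of_smul_eq_smul
    intro c
    have : c ∈ fixedPoints N Ω := by rw [hfix]; trivial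
    rw [one_smul]
    exact this ⟨n, hn⟩
  have htr : IsPretransitive N Ω := IsQuasiPreprimitive.isPretransitive_of_normal hfix
  intro c d
  obtain ⟨n, hn⟩ := htr.exists_smul_eq c d
  exact ⟨n, n.2, hn⟩

/-- a Zassenhaus group has no non-trivial normal subgroup whose non-identity elements fix at most
one point -/
theorem zass_no_frobenius_normal [Finite Ω] (hZ : Cfsg.IsZassenhausGroup G Ω) (N : Subgroup G)
    [hNn : N.Normal] (hN : N ≠ ⊥)
    (h1 : ∀ y ∈ N, y ≠ 1 → ∀ c d : Ω, y • c = c → y • d = d → c = d) : False := by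
  have hfin := zass_finite hZ
  have htr := zass_normal_trans hZ N hN
  obtain ⟨a, b, -, hba, -, -⟩ : ∃ a b c : Ω, b ≠ a ∧ c ≠ a ∧ b ≠ c := by
    obtain ⟨a₀, b₀, c₀, h1, h2, h3⟩ := zass_three hZ
    exact ⟨a₀, b₀, c₀, h1.symm, h2.symm, h3⟩
  obtain ⟨hfaith, h2, h3, h4, h5⟩ := hZ
  have htrN : IsPretransitive N Ω := ⟨fun c d => by
    obtain ⟨n, hn, hncd⟩ := htr c d
    exact ⟨⟨n, hn⟩, hncd⟩⟩
  -- a general contradiction from a transitive normal subgroup whose non-identity elements are fpf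
  have hcontra : ∀ M : Subgroup G, M.Normal → (∀ c d : Ω, ∃ m ∈ M, m • c = d) →
      (∀ m ∈ M, m ≠ 1 → ∀ c : Ω, m • c ≠ c) → False := by
    intro M hMn hMtr hMfpf
    have hMtr' : IsPretransitive M Ω := ⟨fun c d => by
      obtain ⟨m, hm, hmcd⟩ := hMtr c d
      exact ⟨⟨m, hm⟩, hmcd⟩⟩
    obtain ⟨c, hc⟩ := h5 M hMn hMtr'
    apply hc
    rw [eq_bot_iff]
    intro m hm
    rw [Subgroup.mem_bot]
    by_contra hm1
    have hm1' : (m : G) ≠ 1 := fun h => hm1 (Subtype.ext h)
    exact hMfpf m m.2 hm1' c (mem_stabilizer_iff.mp hm)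
  by_cases hreg : ∀ y ∈ N, y • a = a → y = 1
  · apply hcontra N hNn htr
    intro y hy hy1 c hc
    obtain ⟨n, hn, hnca⟩ := htr c a
    have h6 : (n * y * n⁻¹) • a = a := by
      rw [mul_smul, mul_smul, ← hnca, inv_smul_smul, hc]
    have h7 := hreg _ (hNn.conj_mem y hy n) h6
    apply hy1
    have : y = n⁻¹ * (n * y * n⁻¹) * n := by group
    rw [this, h7]; group
  · push Not at hreg
    obtain ⟨y₀, hy₀N, hy₀a, hy₀1⟩ := hreg
    have h1' : ∀ x : N, x ≠ 1 → ∀ c d : Ω, x • c = c → x • d = d → c = d := by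
      intro x hx c d hc hd
      exact h1 x x.2 (fun h => hx (Subtype.ext h)) c d hc hd
    have hne : stabilizer N a ≠ ⊥ := by
      intro hbot
      have : (⟨y₀, hy₀N⟩ : N) ∈ stabilizer N a := mem_stabilizer_iff.mpr hy₀a
      rw [hbot, Subgroup.mem_bot] at this
      exact hy₀1 (congrArg Subtype.val this)
    have hfinN : Finite N := inferInstance
    obtain ⟨R, hRn, hRmem, hRdec, hRdich, hRtr⟩ := frob_action h1' a b (Ne.symm hba) hne
    apply hcontra (R.map N.subtype)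
    · refine ⟨fun x hx g => ?_⟩
      obtain ⟨r, hr, rfl⟩ := Subgroup.mem_map.mp hx
      refine Subgroup.mem_map.mpr ⟨⟨g * r * g⁻¹, hNn.conj_mem r r.2 g⟩, ?_, rfl⟩
      rw [hRmem] at hr ⊢
      rcases hr with h | h
      · left
        apply Subtype.ext
        show g * (r : G) * g⁻¹ = 1
        rw [h]; simp
      · right
        intro c hc
        apply h (g⁻¹ • c)
        have hc' : (g * (r : G) * g⁻¹) • c = c := hc
        show (r : G) • g⁻¹ • c = g⁻¹ • c
        rw [mul_smul, mul_smul] at hc'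
        rw [eq_inv_smul_iff, hc']
    · intro c d
      obtain ⟨k, hk, hkcd⟩ := hRtr c d
      exact ⟨k, Subgroup.mem_map.mpr ⟨k, hk, rfl⟩, hkcd⟩
    · intro m hm hm1 c hc
      obtain ⟨r, hr, rfl⟩ := Subgroup.mem_map.mp hm
      rcases (hRmem r).mp hr with h | h
      · apply hm1; rw [h]; rfl
      · exact h c hc

/-- every non-trivial normal subgroup of a Zassenhaus group contains the Frobenius kernels of the
point stabilisers -/
theorem zass_normal_contains_kernel [Finite Ω] (hZ : Cfsg.IsZassenhausGroup G Ω) (N : Subgroup G)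
    [hNn : N.Normal] (hN : N ≠ ⊥) (a : Ω) (x : G) (hx : PK a x) : x ∈ N := by
  obtain ⟨K, hK1, hK2, hK3, hK4⟩ := zass_kernel hZ a
  have hM : ∀ g : G, g • a = a → ∀ x ∈ N ⊓ stabilizer G a, g * x * g⁻¹ ∈ N ⊓ stabilizer G a := by
    intro g hg x hx
    obtain ⟨hx1, hx2⟩ := Subgroup.mem_inf.mp hx
    refine Subgroup.mem_inf.mpr ⟨hNn.conj_mem x hx1 g, ?_⟩
    rw [mem_stabilizer_iff] at hx2 ⊢
    have hg' : g⁻¹ • a = a := by rw [inv_smul_eq_iff, hg]
    rw [mul_smul, mul_smul, hg', hx2, hg]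
  rcases hK4 (N ⊓ stabilizer G a) inf_le_right hM with h | h
  · exact (Subgroup.mem_inf.mp (h ((hK1 x).mpr hx))).1
  · exfalso
    apply zass_no_frobenius_normal hZ N hN
    intro y hy hy1 c d hc hd
    have h2 := hZ.2.1
    have : IsPretransitive G Ω := isPretransitive_of_is_two_pretransitive
    obtain ⟨g, hg⟩ := exists_smul_eq G c a
    have h6 : (g * y * g⁻¹) • a = a := by
      rw [mul_smul, mul_smul, ← hg, inv_smul_smul, hc]
    have h7 : g * y * g⁻¹ ∈ K :=
      h (Subgroup.mem_inf.mpr ⟨hNn.conj_mem y hy g, mem_stabilizer_iff.mpr h6⟩)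
    rcases ((hK1 _).mp h7).2 with h8 | h8
    · exfalso
      apply hy1
      have : y = g⁻¹ * (g * y * g⁻¹) * g := by group
      rw [this, h8]; group
    · have h9 : (g * y * g⁻¹) • (g • d) = g • d := by
        rw [mul_smul, mul_smul, inv_smul_smul, hd]
      have := h8 _ h9
      rw [← hg] at this
      exact (MulAction.injective g this).symm

/-- the Frobenius kernel of a point stabiliser has order one less than the degree -/
theorem zass_kernel_card [Finite Ω] (hZ : Cfsg.IsZassenhausGroup G Ω) (a : Ω) (K : Subgroup G)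
    (hK1 : ∀ x, x ∈ K ↔ PK a x) (hK3 : ∀ c d : Ω, c ≠ a → d ≠ a → ∃ k ∈ K, k • c = d) :
    Nat.card K = Nat.card Ω - 1 := by
  obtain ⟨b, -, hb, -, -⟩ := zass_two_more hZ a
  have h1 := MulAction.index_stabilizer K b
  have h2 : stabilizer K b = ⊥ := by
    rw [eq_bot_iff]
    intro k hk
    rw [Subgroup.mem_bot]
    have hkb : (k : G) • b = b := mem_stabilizer_iff.mp hk
    rcases ((hK1 k).mp k.2).2 with h | h
    · exact Subtype.ext h
    · exact absurd (h b hkb) hb
  have h3 : orbit K b = {a}ᶜ := by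
    ext c
    simp only [Set.mem_compl_iff, Set.mem_singleton_iff]
    constructor
    · rintro ⟨k, rfl⟩ hka
      apply hb
      have hka' : (k : G) • b = a := hka
      have h4 : (k : G) • a = a := ((hK1 k).mp k.2).1
      rw [← h4] at hka'
      exact MulAction.injective _ hka'
    · intro hc
      obtain ⟨k, hk, hkc⟩ := hK3 b c hb hc
      exact ⟨⟨k, hk⟩, hkc⟩
  rw [h2, Subgroup.index_bot, h3, Set.ncard_compl, Set.ncard_singleton] at h1
  exact h1

end ZassN

end Cfsg.Agent.Lib.Helper5.Zass
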