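import Mathlib
import Cfsg.Agent.Lib.Helper21.Frobenius

set_option autoImplicit false

namespace Cfsg.Agent.Lib.Helper5.SemiReg

variable {G : Type*} [Group G] [Finite G]

/-- If `H` acts semiregularly by conjugation on `F ∖ 1` and `|F| ≤ 2|H| + 1`, an `H`-invariant
subset of `F` containing `1` and another element, of size divisible by a prime dividing `|F|`,
is all of `F`. -/
theorem semireg_key (F H : Subgroup G)
    (hnorm : ∀ h ∈ H, ∀ u ∈ F, h * u * h⁻¹ ∈ F)
    (hsemi : ∀ h ∈ H, ∀ u ∈ F, u ≠ 1 → h * u * h⁻¹ = u → h = 1)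
    (hcard : Nat.card F ≤ 2 * Nat.card H + 1)
    (S : Set G) (hSF : S ⊆ F) (h1S : (1 : G) ∈ S) (hSinv : ∀ h ∈ H, ∀ u ∈ S, h * u * h⁻¹ ∈ S)
    (x : G) (hxS : x ∈ S) (hx1 : x ≠ 1) (p : ℕ) (hp : p.Prime) (hpF : p ∣ Nat.card F)
    (hpS : p ∣ S.ncard) : (F : Set G) ⊆ S := by
  by_contra hcon
  obtain ⟨y, hyF, hyS⟩ := Set.not_subset.mp hcon
  have hy1 : y ≠ 1 := fun h => hyS (h ▸ h1S)
  have horb : ∀ u ∈ F, u ≠ 1 →
      ((fun h : H => (h : G) * u * (h : G)⁻¹) '' Set.univ).ncard = Nat.card H := by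
    intro u hu hu1
    rw [Set.ncard_image_of_injective, Set.ncard_univ]
    intro h h' hh
    have hh' : (h : G) * u * (h : G)⁻¹ = (h' : G) * u * (h' : G)⁻¹ := hh
    have e : ((h' : G)⁻¹ * h) * u * ((h' : G)⁻¹ * h)⁻¹ = u := by
      calc ((h' : G)⁻¹ * h) * u * ((h' : G)⁻¹ * h)⁻¹
          = (h' : G)⁻¹ * ((h : G) * u * (h : G)⁻¹) * h' := by group
        _ = (h' : G)⁻¹ * ((h' : G) * u * (h' : G)⁻¹) * h' := by rw [hh']
        _ = u := by group
    have := hsemi _ (H.mul_mem (H.inv_mem h'.2) h.2) u hu hu1 e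
    apply Subtype.ext
    calc (h : G) = h' * ((h' : G)⁻¹ * h) := by group
      _ = h' := by rw [this, mul_one]
  have hOx : ((fun h : H => (h : G) * x * (h : G)⁻¹) '' Set.univ) ⊆ S \ {1} := by
    rintro _ ⟨h, -, rfl⟩
    refine ⟨hSinv h h.2 x hxS, ?_⟩
    intro hh
    apply hx1
    have hh' : (h : G) * x * (h : G)⁻¹ = 1 := hh
    calc x = (h : G)⁻¹ * ((h : G) * x * (h : G)⁻¹) * h := by group
      _ = 1 := by rw [hh']; group
  have hOy : ((fun h : H => (h : G) * y * (h : G)⁻¹) '' Set.univ) ⊆ (F : Set G) \ S := by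
    rintro _ ⟨h, -, rfl⟩
    refine ⟨hnorm h h.2 y hyF, ?_⟩
    intro hh
    apply hyS
    have := hSinv _ (H.inv_mem h.2) _ hh
    have e : (h : G)⁻¹ * ((h : G) * y * (h : G)⁻¹) * (h : G)⁻¹⁻¹ = y := by group
    rwa [e] at this
  have h1 := Set.ncard_le_ncard hOx (Set.toFinite _)
  have h2 := Set.ncard_le_ncard hOy (Set.toFinite _)
  rw [horb x (hSF hxS) hx1, Set.ncard_sdiff_singleton_of_mem h1S] at h1
  rw [horb y hyF hy1, Set.ncard_sdiff hSF (Set.toFinite _)] at h2
  have h3 : Nat.card F = (F : Set G).ncard := (Nat.card_coe_set_eq (F : Set G))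
  have h4 : S.ncard ≤ (F : Set G).ncard := Set.ncard_le_ncard hSF (Set.toFinite _)
  have h5 : 0 < S.ncard := (Set.ncard_pos (Set.toFinite _)).mpr ⟨1, h1S⟩
  have h6 : p ∣ 2 * S.ncard - Nat.card F := Nat.dvd_sub (Dvd.dvd.mul_left hpS 2) hpF
  have h7 : 2 * S.ncard - Nat.card F = 1 := by omega
  rw [h7] at h6
  exact hp.one_lt.ne' (Nat.dvd_one.mp h6)

/-- a finite group with a semiregular group `H` of automorphisms (by conjugation) of order at least
`(|F| - 1) / 2` is elementary abelian -/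
theorem semireg_elem_abelian (F H : Subgroup G)
    (hnorm : ∀ h ∈ H, ∀ u ∈ F, h * u * h⁻¹ ∈ F)
    (hsemi : ∀ h ∈ H, ∀ u ∈ F, u ≠ 1 → h * u * h⁻¹ = u → h = 1)
    (hcard : Nat.card F ≤ 2 * Nat.card H + 1) :
    (∀ u ∈ F, ∀ v ∈ F, u * v = v * u) ∧
      ∃ p f : ℕ, p.Prime ∧ (∀ u ∈ F, u ^ p = 1) ∧ Nat.card F = p ^ f := by
  by_cases hF : F = ⊥
  · subst hF
    refine ⟨?_, 2, 0, Nat.prime_two, ?_, ?_⟩
    · intro u hu v hv
      rw [Subgroup.mem_bot] at hu hv
      rw [hu, hv]
    · intro u hu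
      rw [Subgroup.mem_bot] at hu
      rw [hu, one_pow]
    · simp
  have hFnt : Nontrivial F := (Subgroup.nontrivial_iff_ne_bot F).mpr hF
  obtain ⟨p, hp, hpd⟩ := Nat.exists_prime_and_dvd (n := Nat.card F) (by
    intro h
    have := Finite.one_lt_card (α := F)
    omega)
  have hpf : Fact p.Prime := ⟨hp⟩
  obtain ⟨x₀, hx₀⟩ := exists_prime_orderOf_dvd_card' (G := F) p hpd
  have hx₀1 : (x₀ : G) ≠ 1 := by
    intro h
    have : x₀ = 1 := Subtype.ext h
    rw [this, orderOf_one] at hx₀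
    exact hp.one_lt.ne hx₀
  have hx₀p : (x₀ : G) ^ p = 1 := by
    have h := pow_orderOf_eq_one x₀
    rw [hx₀] at h
    exact congrArg Subtype.val h
  -- exponent p
  have hexp : ∀ u ∈ F, u ^ p = 1 := by
    have hT : (F : Set G) ⊆ {g : G | g ∈ F ∧ g ^ p = 1} := by
      apply semireg_key F H hnorm hsemi hcard {g : G | g ∈ F ∧ g ^ p = 1} (fun g hg => hg.1)
        ⟨F.one_mem, one_pow p⟩ ?_ (x₀ : G) ⟨x₀.2, hx₀p⟩ hx₀1 p hp hpd
      · have h1 := Cfsg.Agent.Lib.Helper21.frobenius_dvd_card_pow_eq_one (G := F) p hpd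
        have h2 : Nat.card {g : F // g ^ p = 1} = {g : G | g ∈ F ∧ g ^ p = 1}.ncard := by
          rw [← Nat.card_coe_set_eq]
          apply Nat.card_congr
          exact
            { toFun := fun g => ⟨(g.1 : G), g.1.2, congrArg Subtype.val g.2⟩
              invFun := fun g => ⟨⟨g.1, g.2.1⟩, Subtype.ext g.2.2⟩
              left_inv := fun g => rfl
              right_inv := fun g => rfl }
        rwa [h2] at h1
      · intro h hh u hu
        refine ⟨hnorm h hh u hu.1, ?_⟩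
        rw [conj_pow, hu.2]; group
    intro u hu
    exact (hT hu).2
  have hpg : IsPGroup p F := by
    intro g
    refine ⟨1, ?_⟩
    rw [pow_one]
    exact Subtype.ext (hexp g g.2)
  obtain ⟨f, hf⟩ := IsPGroup.iff_card.mp hpg
  refine ⟨?_, p, f, hp, hexp, hf⟩
  -- the centre
  have hcnt : Nontrivial (Subgroup.center F) := hpg.center_nontrivial
  obtain ⟨z, hz1⟩ := exists_ne (1 : Subgroup.center F)
  have hZ : (F : Set G) ⊆ {g : G | g ∈ F ∧ ∀ u ∈ F, u * g = g * u} := by
    apply semireg_key F H hnorm hsemi hcard {g : G | g ∈ F ∧ ∀ u ∈ F, u * g = g * u}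
      (fun g hg => hg.1) ⟨F.one_mem, fun u _ => by rw [mul_one, one_mul]⟩ ?_
      ((z : F) : G) ⟨(z : F).2, fun u hu => by
        have := Subgroup.mem_center_iff.mp z.2 ⟨u, hu⟩
        exact congrArg Subtype.val this⟩
      (by
        intro h
        apply hz1
        apply Subtype.ext
        apply Subtype.ext
        exact h) p hp hpd
    · have h2 : Nat.card (Subgroup.center F) =
          {g : G | g ∈ F ∧ ∀ u ∈ F, u * g = g * u}.ncard := by
        rw [← Nat.card_coe_set_eq]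
        apply Nat.card_congr
        exact
          { toFun := fun g => ⟨((g : F) : G), (g : F).2, fun u hu => by
              have := Subgroup.mem_center_iff.mp g.2 ⟨u, hu⟩
              exact congrArg Subtype.val this⟩
            invFun := fun g => ⟨⟨g.1, g.2.1⟩, by
              rw [Subgroup.mem_center_iff]
              intro u
              exact Subtype.ext (g.2.2 u u.2)⟩
            left_inv := fun g => rfl
            right_inv := fun g => rfl }
      rw [← h2]
      have hpc : IsPGroup p (Subgroup.center F) := hpg.to_subgroup _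
      rcases hpc.card_eq_or_dvd with h | h
      · exfalso
        have := Finite.one_lt_card (α := Subgroup.center F)
        omega
      · exact h
    · intro h hh g hg
      refine ⟨hnorm h hh g hg.1, fun u hu => ?_⟩
      have h3 := hg.2 (h⁻¹ * u * h) (by
        have := hnorm h⁻¹ (H.inv_mem hh) u hu
        rwa [inv_inv] at this)
      calc u * (h * g * h⁻¹) = h * ((h⁻¹ * u * h) * g) * h⁻¹ := by group
        _ = h * (g * (h⁻¹ * u * h)) * h⁻¹ := by rw [h3]
        _ = h * g * h⁻¹ * u := by group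
  intro u hu v hv
  exact (hZ hv).2 u hu

end Cfsg.Agent.Lib.Helper5.SemiReg
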