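/-
helper5: coordinates for a Zassenhaus group of degree `n + 1` whose two-point stabiliser has even
order `d = (n - 1)/2`: the points are `K ∪ {∞}` for a finite field `K` with `n` elements, the
stabiliser of `∞` consists of the maps `x ↦ s x + c` with `s` a non-zero square.
-/
import Mathlib
import Cfsg.Prelude.Def_LieExceptional
import Cfsg.Agent.Lib.Helper5.ZassNormal
import Cfsg.Agent.Lib.Helper5.ZPslA
import Cfsg.Agent.Lib.Helper5.ZPslB
import Cfsg.Agent.S0738
import Cfsg.Agent.S0741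

set_option autoImplicit false
set_option linter.unusedSectionVars false

namespace Cfsg.Agent.Lib.Helper5.ZPsl

open Cfsg MulAction Cfsg.Agent.Lib.Helper5.Zass

section Mul

universe u v

/-- conjugation action of a normalising subgroup -/
noncomputable def conjAut {G : Type*} [Group G] (Ks Hs : Subgroup G)
    (hn : ∀ h ∈ Hs, ∀ k ∈ Ks, h * k * h⁻¹ ∈ Ks) : ↥Hs →* MulAut ↥Ks where
  toFun h :=
    { toFun := fun k => ⟨(h : G) * k * (h : G)⁻¹, hn h.1 h.2 k.1 k.2⟩
      invFun := fun k => ⟨(h : G)⁻¹ * k * (h : G), by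
        have := hn (h⁻¹ : Hs).1 (h⁻¹ : Hs).2 k.1 k.2
        simpa using this⟩
      left_inv := fun k => Subtype.ext (by
        change (h : G)⁻¹ * ((h : G) * k * (h : G)⁻¹) * (h : G) = k
        group)
      right_inv := fun k => Subtype.ext (by
        change (h : G) * ((h : G)⁻¹ * k * (h : G)) * (h : G)⁻¹ = k
        group)
      map_mul' := fun k k' => Subtype.ext (by
        change (h : G) * ((k : G) * k') * (h : G)⁻¹ =
          ((h : G) * k * (h : G)⁻¹) * ((h : G) * k' * (h : G)⁻¹)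
        group) }
  map_one' := by
    apply MulEquiv.ext
    intro k
    apply Subtype.ext
    change ((1 : Hs) : G) * k * ((1 : Hs) : G)⁻¹ = k
    simp
  map_mul' h h' := by
    apply MulEquiv.ext
    intro k
    apply Subtype.ext
    change ((h * h' : Hs) : G) * k * ((h * h' : Hs) : G)⁻¹ =
      (h : G) * ((h' : G) * k * (h' : G)⁻¹) * (h : G)⁻¹
    rw [Subgroup.coe_mul]
    group

theorem conjAut_apply {G : Type*} [Group G] (Ks Hs : Subgroup G)
    (hn : ∀ h ∈ Hs, ∀ k ∈ Ks, h * k * h⁻¹ ∈ Ks) (h : Hs) (k : Ks) :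
    ((conjAut Ks Hs hn h k : Ks) : G) = (h : G) * k * (h : G)⁻¹ := rfl

/-- multiplicative form of `field_of_half` -/
theorem field_of_half_mul {N : Type u} [Group N] [Finite N] (hNcomm : ∀ x y : N, x * y = y * x)
    {H : Type v} [Group H] [Finite H] (c : H →* MulAut N) (hcomm : ∀ h h' : H, h * h' = h' * h)
    (hfree : ∀ h : H, h ≠ 1 → ∀ x : N, c h x = x → x = 1)
    (hcard : 2 * Nat.card H + 1 = Nat.card N) (k₀ : N) (hk₀ : k₀ ≠ 1) :
    ∃ (K : Type) (_ : Field K) (_ : Fintype K) (ψ : K → N), Function.Bijective ψ ∧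
      (∀ x y : K, ψ (x + y) = ψ x * ψ y) ∧ ψ 1 = k₀ ∧
      Fintype.card K = 2 * Nat.card H + 1 ∧
      (∀ h : H, ∃ s : K, s ≠ 0 ∧ IsSquare s ∧ ∀ x : K, c h (ψ x) = ψ (s * x)) ∧
      (∀ s : K, s ≠ 0 → IsSquare s → ∃ h : H, ∀ x : K, c h (ψ x) = ψ (s * x)) := by
  letI : CommGroup N := { (inferInstance : Group N) with mul_comm := hNcomm }
  let σ : H →* AddMonoid.End (Additive N) :=
    { toFun := fun h => MonoidHom.toAdditive (c h).toMonoidHom
      map_one' := by rw [map_one]; rfl
      map_mul' := fun h h' => by rw [map_mul]; rfl }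
  have hσ : ∀ (h : H) (x : Additive N), σ h x = Additive.ofMul (c h (Additive.toMul x)) :=
    fun h x => rfl
  have hfree' : ∀ h : H, h ≠ 1 → ∀ x : Additive N, σ h x = x → x = 0 := by
    intro h hh x hx
    rw [hσ] at hx
    have := hfree h hh (Additive.toMul x) (congrArg Additive.toMul hx)
    exact this
  have hcard' : 2 * Nat.card H + 1 = Nat.card (Additive N) := by rw [hcard]; rfl
  have hk₀' : Additive.ofMul k₀ ≠ 0 := fun h => hk₀ (congrArg Additive.toMul h)
  obtain ⟨K, iK, fK, ψ, h1, h2, h3, h4⟩ :=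
    field_of_half σ hcomm hfree' hcard' (Additive.ofMul k₀) hk₀'
  refine ⟨K, iK, fK, fun x => Additive.toMul (ψ x), ?_, ?_, ?_, h2, ?_, ?_⟩
  · exact (Additive.toMul.bijective).comp ψ.bijective
  · intro x y
    change Additive.toMul (ψ (x + y)) = Additive.toMul (ψ x) * Additive.toMul (ψ y)
    rw [map_add]
    rfl
  · change Additive.toMul (ψ 1) = k₀
    rw [h1]; rfl
  · intro h
    obtain ⟨s, hs0, hsq, hs⟩ := h3 h
    refine ⟨s, hs0, hsq, fun x => ?_⟩
    have := hs x
    rw [hσ] at this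
    exact congrArg Additive.toMul this
  · intro s hs0 hsq
    obtain ⟨h, hh⟩ := h4 s hs0 hsq
    exact ⟨h, fun x => congrArg Additive.toMul (hh x)⟩

end Mul

section Coord

variable {G Ω : Type*} [Group G] [MulAction G Ω]

/-- coordinates -/
theorem exists_coord [Finite G] [Fintype Ω] (hZ : Cfsg.IsZassenhausGroup G Ω) {a b : Ω}
    (hab : a ≠ b)
    (heven : Even (Nat.card ↥(MulAction.stabilizer G a ⊓ MulAction.stabilizer G b)))
    (hd : 2 * Nat.card ↥(MulAction.stabilizer G a ⊓ MulAction.stabilizer G b) ≤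
      Fintype.card Ω - 2) :
    ∃ (K : Type) (_ : Field K) (_ : Fintype K) (e : Option K ≃ Ω),
      Fintype.card K + 1 = Fintype.card Ω ∧ Fintype.card K % 4 = 1 ∧
      e none = a ∧ e (some 0) = b ∧
      (∀ c : K, ∃ g : G, g • a = a ∧ ∀ x : K, g • e (some x) = e (some (x + c))) ∧
      (∀ s : K, s ≠ 0 → IsSquare s → ∃ g : G, g • a = a ∧ g • b = b ∧
        ∀ x : K, g • e (some x) = e (some (s * x))) ∧
      (∀ g : G, g • a = a → ∃ s c : K, s ≠ 0 ∧ IsSquare s ∧
        ∀ x : K, g • e (some x) = e (some (s * x + c))) := by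
  classical
  obtain ⟨Ks, hK1, hK2, hK3, hK4⟩ := zass_kernel hZ a
  have hKcard := zass_kernel_card hZ a Ks hK1 hK3
  have h741 := Cfsg.Agent.S0741.result hZ hab heven
  have hsw := swap_inverts hZ hab heven hd
  have hZ' := hZ
  obtain ⟨hfaith, h2, h3, h4, h5⟩ := hZ
  obtain ⟨d, hddef⟩ : ∃ d : ℕ, d = Nat.card ↥(stabilizer G a ⊓ stabilizer G b) := ⟨_, rfl⟩
  have hdpos : 0 < d := by rw [hddef]; exact Nat.card_pos
  rw [← hddef] at hd h741 heven
  have h2d : 2 * d + 2 = Fintype.card Ω := by omega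
  have hKcard' : Nat.card Ks = 2 * d + 1 := by
    rw [hKcard, Nat.card_eq_fintype_card]; omega
  have hKa : ∀ k ∈ Ks, k • a = a := fun k hk => ((hK1 k).mp hk).1
  have hKfree : ∀ k ∈ Ks, ∀ y : Ω, y ≠ a → k • y = y → k = 1 := by
    intro k hk y hy hky
    rcases ((hK1 k).mp hk).2 with h | h
    · exact h
    · exact absurd (h y hky) hy
  have hKnorm : ∀ g : G, g • a = a → ∀ k ∈ Ks, g * k * g⁻¹ ∈ Ks := by
    intro g hg k hk
    rw [hK1]
    have hgi : g⁻¹ • a = a := by rw [inv_smul_eq_iff, hg]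
    refine ⟨by rw [mul_smul, mul_smul, hgi, hKa k hk, hg], ?_⟩
    by_cases hk1 : k = 1
    · left; rw [hk1]; group
    · right
      intro c hc
      have h1 : k • (g⁻¹ • c) = g⁻¹ • c := by
        have := congrArg (fun y => g⁻¹ • y) hc
        simp only [← mul_smul] at this
        rw [show g⁻¹ * (g * k * g⁻¹) = k * g⁻¹ by group, mul_smul] at this
        exact this
      by_contra hca
      have hgc : g⁻¹ • c ≠ a := by
        intro h
        apply hca
        rw [← hg, ← h, smul_inv_smul]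
      exact hk1 (hKfree k hk _ hgc h1)
  have hFle : Ks ≤ stabilizer G a := fun k hk => mem_stabilizer_iff.mpr (hKa k hk)
  have hFn : (Ks.subgroupOf (stabilizer G a)).Normal := by
    constructor
    intro n hn g
    rw [Subgroup.mem_subgroupOf] at hn ⊢
    have := hKnorm (g : G) (mem_stabilizer_iff.mp g.2) (n : G) hn
    simpa using this
  have hreg : ∀ y z : Ω, y ≠ a → z ≠ a → ∃! u : Ks, (u : G) • y = z := by
    intro y z hy hz
    obtain ⟨k, hk, hkyz⟩ := hK3 y z hy hz
    refine ⟨⟨k, hk⟩, hkyz, ?_⟩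
    intro u hu
    apply Subtype.ext
    have h1 : ((k : G)⁻¹ * (u : G)) • y = y := by rw [mul_smul, hu, ← hkyz, inv_smul_smul]
    have h2 := hKfree _ (Ks.mul_mem (Ks.inv_mem hk) u.2) y hy h1
    exact (inv_mul_eq_one.mp h2).symm
  have h738 := (Cfsg.Agent.S0738.result hZ' hab (by rw [← hddef]; exact h741) Ks hFle hFn hreg).1
  have hKcomm : ∀ x y : Ks, x * y = y * x := isMulCommutative_iff.mp h738
  have hHmem : ∀ h : G, h ∈ stabilizer G a ⊓ stabilizer G b ↔ h • a = a ∧ h • b = b := by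
    intro h; rw [Subgroup.mem_inf, mem_stabilizer_iff, mem_stabilizer_iff]
  have hHnorm : ∀ h ∈ stabilizer G a ⊓ stabilizer G b, ∀ k ∈ Ks, h * k * h⁻¹ ∈ Ks :=
    fun h hh k hk => hKnorm h ((hHmem h).mp hh).1 k hk
  obtain ⟨t₀, ht₀a, ht₀b⟩ : ∃ t₀ : G, t₀ • a = b ∧ t₀ • b = a :=
    MulAction.is_two_pretransitive_iff.mp h2 hab hab.symm
  have hHcomm : ∀ h h' : ↥(stabilizer G a ⊓ stabilizer G b), h * h' = h' * h := by
    intro h h'
    apply Subtype.ext
    have ha := (hHmem _).mp h.2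
    have ha' := (hHmem _).mp h'.2
    have e1 := hsw a b hab t₀ ht₀a ht₀b h ha.1 ha.2
    have e2 := hsw a b hab t₀ ht₀a ht₀b h' ha'.1 ha'.2
    have e3 := hsw a b hab t₀ ht₀a ht₀b ((h : G) * h') (by rw [mul_smul, ha'.1, ha.1])
      (by rw [mul_smul, ha'.2, ha.2])
    have e4 : t₀ * ((h : G) * h') * t₀⁻¹ = (t₀ * h * t₀⁻¹) * (t₀ * h' * t₀⁻¹) := by group
    rw [e1, e2, e3, mul_inv_rev] at e4
    have := congrArg (·⁻¹) e4
    simp only [mul_inv_rev, inv_inv] at this
    exact this
  have hfreeHK : ∀ h : G, h • a = a → h • b = b → h ≠ 1 → ∀ k ∈ Ks, h * k * h⁻¹ = k → k = 1 := by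
    intro h hha hhb hh1 k hk hconj
    by_contra hk1
    have hkb : k • b ≠ b := fun h' => hk1 (hKfree k hk b hab.symm h')
    have hkba : k • b ≠ a := by
      intro h'
      apply hab
      have := hKa k hk
      rw [← this] at h'
      exact (MulAction.injective k h').symm
    have hcomm : h * k = k * h := mul_inv_eq_iff_eq_mul.mp hconj
    have hfix : h • (k • b) = k • b := by rw [← mul_smul, hcomm, mul_smul, hhb]
    exact hh1 (h3 h a b (k • b) hab (Ne.symm hkb) (Ne.symm hkba) hha hhb hfix)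
  -- a non-identity element of the kernel
  haveI : Finite ↥Ks := Subtype.finite
  haveI : Finite ↥(stabilizer G a ⊓ stabilizer G b) := Subtype.finite
  obtain ⟨k₀, hk₀⟩ : ∃ k₀ : Ks, k₀ ≠ 1 := by
    have h1 : 1 < Nat.card Ks := by rw [hKcard']; omega
    haveI : Nontrivial Ks := Finite.one_lt_card_iff_nontrivial.mp h1
    exact exists_ne 1
  obtain ⟨K, iK, fK, ψ, hψbij, hψadd, -, hKc, hsq1, hsq2⟩ :=
    field_of_half_mul hKcomm (conjAut Ks (stabilizer G a ⊓ stabilizer G b) hHnorm) hHcomm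
      (by
        intro h hh x hx
        apply Subtype.ext
        have hh' := (hHmem _).mp h.2
        refine hfreeHK (h : G) hh'.1 hh'.2 (fun h1 => hh (Subtype.ext h1)) (x : G) x.2 ?_
        have := congrArg Subtype.val hx
        rw [conjAut_apply] at this
        exact this)
      (by rw [← hddef, hKcard']) k₀ hk₀
  rw [← hddef] at hKc
  have hψ0 : ψ 0 = 1 := by
    have : ψ 0 * ψ 0 = ψ 0 * 1 := by rw [mul_one, ← hψadd, add_zero]
    exact mul_left_cancel this
  -- the bijection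
  let f : Option K → Ω := fun o => match o with
    | none => a
    | some x => ((ψ x : Ks) : G) • b
  have hfinj : Function.Injective f := by
    intro o o' hoo
    cases o with
    | none =>
      cases o' with
      | none => rfl
      | some x' =>
        exfalso
        have h1 : a = ((ψ x' : Ks) : G) • b := hoo
        apply hab
        have := hKa _ (ψ x').2
        rw [← this] at h1
        exact MulAction.injective _ h1
    | some x =>
      cases o' with
      | none =>
        exfalso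
        have h1 : ((ψ x : Ks) : G) • b = a := hoo
        apply hab
        have := hKa _ (ψ x).2
        rw [← this] at h1
        exact (MulAction.injective _ h1).symm
      | some x' =>
        have h1 : ((ψ x : Ks) : G) • b = ((ψ x' : Ks) : G) • b := hoo
        have h2 : (((ψ x' : Ks) : G)⁻¹ * ((ψ x : Ks) : G)) • b = b := by
          rw [mul_smul, h1, inv_smul_smul]
        have h3 := hKfree _ (Ks.mul_mem (Ks.inv_mem (ψ x').2) (ψ x).2) b hab.symm h2
        have h4 : ψ x = ψ x' := Subtype.ext (inv_mul_eq_one.mp h3).symm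
        rw [hψbij.1 h4]
  have hfsurj : Function.Surjective f := by
    intro y
    by_cases hy : y = a
    · exact ⟨none, hy.symm⟩
    · obtain ⟨k, hk, hky⟩ := hK3 b y hab.symm hy
      obtain ⟨x, hx⟩ := hψbij.2 ⟨k, hk⟩
      refine ⟨some x, ?_⟩
      change ((ψ x : Ks) : G) • b = y
      rw [hx]
      exact hky
  let e : Option K ≃ Ω := Equiv.ofBijective f ⟨hfinj, hfsurj⟩
  have he_none : e none = a := rfl
  have he_some : ∀ x : K, e (some x) = ((ψ x : Ks) : G) • b := fun x => rfl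
  -- action of the two-point stabiliser
  have hHact : ∀ (h : G) (hh : h ∈ stabilizer G a ⊓ stabilizer G b) (s : K),
      (∀ x : K, conjAut Ks (stabilizer G a ⊓ stabilizer G b) hHnorm ⟨h, hh⟩ (ψ x) = ψ (s * x)) →
      ∀ x : K, h • e (some x) = e (some (s * x)) := by
    intro h hh s hs x
    have hh' := (hHmem _).mp hh
    have hib : h⁻¹ • b = b := by rw [inv_smul_eq_iff, hh'.2]
    rw [he_some, he_some, ← hs x, conjAut_apply]
    change h • ((ψ x : Ks) : G) • b = (h * ((ψ x : Ks) : G) * h⁻¹) • b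
    rw [mul_smul, mul_smul, hib]
  refine ⟨K, iK, fK, e, ?_, ?_, he_none, ?_, ?_, ?_, ?_⟩
  · rw [hKc]; omega
  · rw [hKc]
    obtain ⟨m, hm⟩ := heven
    omega
  · rw [he_some, hψ0]
    exact one_smul _ _
  · intro c
    refine ⟨((ψ c : Ks) : G), hKa _ (ψ c).2, fun x => ?_⟩
    rw [he_some, he_some, ← mul_smul, add_comm, hψadd]
    rfl
  · intro s hs0 hsq
    obtain ⟨h, hh⟩ := hsq2 s hs0 hsq
    have hh' := (hHmem _).mp h.2
    exact ⟨(h : G), hh'.1, hh'.2, hHact (h : G) h.2 s hh⟩
  · intro g hg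
    obtain ⟨k, hk, h, hha, hhb, rfl⟩ := hK2 b hab.symm g hg
    have hhH : h ∈ stabilizer G a ⊓ stabilizer G b := (hHmem h).mpr ⟨hha, hhb⟩
    obtain ⟨s, hs0, hsq, hs⟩ := hsq1 ⟨h, hhH⟩
    obtain ⟨c, hc⟩ := hψbij.2 ⟨k, hk⟩
    refine ⟨s, c, hs0, hsq, fun x => ?_⟩
    rw [mul_smul, hHact h hhH s hs x, he_some, he_some, add_comm, hψadd, hc, ← mul_smul]
    rfl

end Coord

end Cfsg.Agent.Lib.Helper5.ZPsl
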