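/-
helper5: transitive groups of degree `p + 1 = 2 ^ q` with a regular normal subgroup: the group acts
as a group of semi-affine maps of the field with `2 ^ q` elements.
-/
import Mathlib
import Cfsg.Agent.Lib.Helper5.PP1A
import Cfsg.Agent.Lib.Helper5.ZFull
import Cfsg.Agent.Lib.Helper5.ZPslC

set_option autoImplicit false
set_option linter.unusedSectionVars false

namespace Cfsg.Agent.Lib.Helper5.PP1

open MulAction Cfsg.Agent.Lib.Helper5.ZPsl

/-- the field with `2 ^ q` elements has `q` automorphisms -/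
theorem card_ringAut_galoisField (q : ℕ) (hq : q ≠ 0) :
    Nat.card (GaloisField 2 q ≃+* GaloisField 2 q) = q := by
  have hcomm : ∀ (φ : GaloisField 2 q ≃+* GaloisField 2 q) (r : ZMod 2),
      φ (algebraMap (ZMod 2) (GaloisField 2 q) r) = algebraMap (ZMod 2) (GaloisField 2 q) r := by
    intro φ r
    have h1 : (φ : GaloisField 2 q →+* GaloisField 2 q).comp
        (algebraMap (ZMod 2) (GaloisField 2 q)) = algebraMap (ZMod 2) (GaloisField 2 q) :=
      Subsingleton.elim _ _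
    exact RingHom.congr_fun h1 r
  let E : (GaloisField 2 q ≃+* GaloisField 2 q) ≃
      (GaloisField 2 q ≃ₐ[ZMod 2] GaloisField 2 q) :=
    { toFun := fun φ => AlgEquiv.ofRingEquiv (f := φ) (hcomm φ)
      invFun := fun ψ => ψ.toRingEquiv
      left_inv := fun φ => by ext z; rfl
      right_inv := fun ψ => by ext z; rfl }
  rw [Nat.card_congr E, IsGalois.card_aut_eq_finrank, GaloisField.finrank 2 hq]

/-- an element normalising the group of all multiplications acts semilinearly -/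
theorem semilinear_of_normalizes {G : Type*} [Group G] {K : Type*} [Field K] [Finite K]
    (N U : Subgroup G) [hNn : N.Normal] (ψ : K → N) (hψ : Function.Bijective ψ)
    (hψadd : ∀ a b : K, ψ (a + b) = ψ a * ψ b)
    (hU1 : ∀ v ∈ U, ∃ s : K, s ≠ 0 ∧ ∀ z : K, v * (ψ z : G) * v⁻¹ = (ψ (s * z) : G))
    (hU2 : ∀ s : K, s ≠ 0 → ∃ v ∈ U, ∀ z : K, v * (ψ z : G) * v⁻¹ = (ψ (s * z) : G))
    (g : G) (hg : ∀ v ∈ U, g * v * g⁻¹ ∈ U) :
    ∃ (c : K) (φ : K ≃+* K), c ≠ 0 ∧ ∀ z : K, g * (ψ z : G) * g⁻¹ = (ψ (c * φ z) : G) := by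
  classical
  let Ψ : K ≃ N := Equiv.ofBijective ψ hψ
  have hΨ : ∀ z, Ψ z = ψ z := fun z => rfl
  let γ : K → K := fun z => Ψ.symm ⟨g * (ψ z : G) * g⁻¹, hNn.conj_mem _ (ψ z).2 g⟩
  have hγ : ∀ z : K, ((ψ (γ z) : N) : G) = g * (ψ z : G) * g⁻¹ := by
    intro z
    have h1 : Ψ (γ z) = ⟨g * (ψ z : G) * g⁻¹, hNn.conj_mem _ (ψ z).2 g⟩ :=
      Equiv.apply_symm_apply _ _
    rw [hΨ] at h1
    rw [h1]
  have hψinj : ∀ a b : K, ((ψ a : N) : G) = ψ b → a = b := fun a b h => hψ.1 (Subtype.ext h)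
  have hγadd : ∀ a b : K, γ (a + b) = γ a + γ b := by
    intro a b
    apply hψinj
    rw [hγ, hψadd, hψadd, Subgroup.coe_mul, Subgroup.coe_mul, hγ, hγ]
    group
  have hγinj : Function.Injective γ := by
    intro a b h
    apply hψinj
    have h1 := hγ a
    rw [h, hγ b] at h1
    exact (mul_left_cancel (mul_right_cancel h1)).symm
  have hγ0 : γ 0 = 0 := by
    have h1 := hγadd 0 0
    rw [add_zero] at h1
    have h2 : γ 0 + γ 0 = γ 0 + 0 := by rw [add_zero]; exact h1.symm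
    exact add_left_cancel h2
  have hmul : ∀ s : K, s ≠ 0 → ∃ s' : K, ∀ z : K, γ (s * z) = s' * γ z := by
    intro s hs
    obtain ⟨v, hv, hvz⟩ := hU2 s hs
    obtain ⟨s', -, hs'⟩ := hU1 _ (hg v hv)
    refine ⟨s', fun z => ?_⟩
    apply hψinj
    rw [hγ, ← hvz, ← hs', hγ]
    group
  obtain ⟨c, hcdef⟩ : ∃ c : K, c = γ 1 := ⟨_, rfl⟩
  have hc0 : c ≠ 0 := by
    rw [hcdef]
    intro h
    rw [← hγ0] at h
    exact one_ne_zero (hγinj h)
  let φf : K → K := fun z => c⁻¹ * γ z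
  have hφf : ∀ z, φf z = c⁻¹ * γ z := fun z => rfl
  have hφ1 : φf 1 = 1 := by rw [hφf, ← hcdef, inv_mul_cancel₀ hc0]
  have hφ0 : φf 0 = 0 := by rw [hφf, hγ0, mul_zero]
  have hφadd : ∀ a b, φf (a + b) = φf a + φf b := by
    intro a b
    rw [hφf, hφf, hφf, hγadd, mul_add]
  have hφmul : ∀ a b, φf (a * b) = φf a * φf b := by
    intro a b
    by_cases ha : a = 0
    · rw [ha, zero_mul, hφ0, zero_mul]
    · obtain ⟨s', hs'⟩ := hmul a ha
      have h1 : γ a = s' * c := by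
        have h2 := hs' 1
        rw [mul_one, ← hcdef] at h2
        exact h2
      rw [hφf, hφf, hφf, hs' b, h1]
      have h3 : c⁻¹ * (s' * c) = s' := by rw [mul_comm s' c, inv_mul_cancel_left₀ hc0]
      rw [h3]
      ring
  let φh : K →+* K :=
    { toFun := φf
      map_one' := hφ1
      map_mul' := hφmul
      map_zero' := hφ0
      map_add' := hφadd }
  have hφh : ∀ z, φh z = c⁻¹ * γ z := fun z => rfl
  have hφinj : Function.Injective φh := by
    intro a b h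
    rw [hφh, hφh] at h
    exact hγinj (mul_left_cancel₀ (inv_ne_zero hc0) h)
  have hφbij : Function.Bijective φh := ⟨hφinj, Finite.injective_iff_surjective.mp hφinj⟩
  refine ⟨c, RingEquiv.ofBijective φh hφbij, hc0, fun z => ?_⟩
  have h1 : c * (RingEquiv.ofBijective φh hφbij) z = γ z := by
    change c * φh z = γ z
    rw [hφh, mul_inv_cancel_left₀ hc0]
  rw [h1, hγ]

section Main

variable {G α : Type*} [Group G] [MulAction G α] {p : ℕ} [hp : Fact p.Prime] {x : α} {u : G}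

/-- **the semi-affine case** -/
theorem semiaffine_of_regular_normal [FaithfulSMul G α] [Finite G] [Fintype α]
    (D : Data G p x u) (hα : Fintype.card α = p + 1) (N : Subgroup G) [hNn : N.Normal]
    (hNt : IsPretransitive N α) (hNr : ∀ a : α, stabilizer N a = ⊥)
    (hNc : ∀ a b : N, a * b = b * a) {q : ℕ} (hq : q ≠ 0) (hpq : p + 1 = 2 ^ q) :
    ∃ (e : α ≃ GaloisField 2 q) (y : α), y ≠ x ∧
      Nat.card ↥(stabilizer G x ⊓ stabilizer G y) ∣ q ∧
      ∀ g : G, ∃ (a : (GaloisField 2 q)ˣ) (b : GaloisField 2 q)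
        (φ : GaloisField 2 q ≃+* GaloisField 2 q), ∀ w : GaloisField 2 q,
          e (g • e.symm w) = (a : GaloisField 2 q) * φ w + b := by
  classical
  -- regularity
  have hNfree : ∀ n ∈ N, ∀ a : α, n • a = a → n = 1 := by
    intro n hn a hna
    have h1 : (⟨n, hn⟩ : N) ∈ stabilizer N a := mem_stabilizer_iff.mpr hna
    rw [hNr a, Subgroup.mem_bot] at h1
    exact congrArg Subtype.val h1
  have hNtr : ∀ a b : α, ∃ n ∈ N, n • a = b := by
    intro a b
    obtain ⟨n, hn⟩ := hNt.exists_smul_eq a b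
    exact ⟨(n : G), n.2, hn⟩
  have hNx : ∀ n ∈ N, ∀ m ∈ N, n • x = m • x → n = m := by
    intro n hn m hm h
    have h1 : (m⁻¹ * n) • x = x := by rw [mul_smul, h, inv_smul_smul]
    have h2 := hNfree _ (N.mul_mem (N.inv_mem hm) hn) x h1
    exact (inv_mul_eq_one.mp h2).symm
  have hNcard : Nat.card N = p + 1 := by
    rw [← hα, ← Nat.card_eq_fintype_card]
    apply Nat.card_congr
    refine Equiv.ofBijective (fun n : N => (n : G) • x) ⟨?_, ?_⟩
    · intro n m h
      exact Subtype.ext (hNx _ n.2 _ m.2 h)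
    · intro a
      obtain ⟨n, hn, hna⟩ := hNtr x a
      exact ⟨⟨n, hn⟩, hna⟩
  haveI : Finite N := Subtype.finite
  obtain ⟨U, hUdef⟩ : ∃ U : Subgroup G, U = Subgroup.zpowers u := ⟨_, rfl⟩
  have hUcard : Nat.card U = p := by rw [hUdef, Nat.card_zpowers, D.ord]
  have hUx : ∀ v ∈ U, v • x = x := by
    intro v hv
    rw [hUdef] at hv
    have h1 : Subgroup.zpowers u ≤ stabilizer G x := by
      rw [Subgroup.zpowers_le]
      exact mem_stabilizer_iff.mpr D.fix
    exact mem_stabilizer_iff.mp (h1 hv)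
  have hUfix : ∀ v ∈ U, ∀ a : α, a ≠ x → v • a = a → v = 1 := by
    intro v hv a ha hva
    rw [hUdef] at hv
    obtain ⟨w, -, hw⟩ := D.exists_unique_zpowers ha ha
    have h1 := hw ⟨v, hv⟩ hva
    have h2 := hw 1 (by simp)
    have h3 := h1.trans h2.symm
    exact congrArg Subtype.val h3
  have hn : ∀ h ∈ U, ∀ k ∈ N, h * k * h⁻¹ ∈ N := fun h _ k hk => hNn.conj_mem k hk h
  have hcommU : ∀ h h' : U, h * h' = h' * h := by
    subst hUdef
    exact isMulCommutative_iff.mp (Subgroup.zpowers_isMulCommutative u)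
  have hfree : ∀ h : U, h ≠ 1 → ∀ n : N, conjAut N U hn h n = n → n = 1 := by
    intro h hh n hconj
    have h1 : (h : G) * n * (h : G)⁻¹ = n := by
      have h0 := congrArg Subtype.val hconj
      rw [conjAut_apply] at h0
      exact h0
    have h2 : (h : G) * n = n * h := mul_inv_eq_iff_eq_mul.mp h1
    have h3 : (h : G) • ((n : G) • x) = (n : G) • x := by
      rw [← mul_smul, h2, mul_smul, hUx _ h.2]
    apply Subtype.ext
    apply hNfree _ n.2 x
    by_contra hne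
    exact hh (Subtype.ext (hUfix _ h.2 _ hne h3))
  obtain ⟨k₀, hk₀⟩ : ∃ k₀ : N, k₀ ≠ 1 := by
    have h1 : 1 < Nat.card N := by
      rw [hNcard]
      have := hp.out.pos
      omega
    haveI : Nontrivial N := Finite.one_lt_card_iff_nontrivial.mp h1
    exact exists_ne 1
  haveI : Finite U := Subtype.finite
  obtain ⟨K, iK, fK, ψ, hψbij, hψadd, hψ1, hKc, hs1, hs2⟩ :=
    field_of_full_mul hNc (conjAut N U hn) hcommU hfree (by rw [hUcard, hNcard]) k₀ hk₀
  -- transport to the Galois field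
  letI : Fintype (GaloisField 2 q) := Fintype.ofFinite _
  have hc : Fintype.card K = Fintype.card (GaloisField 2 q) := by
    rw [hKc, hUcard, hpq, ← Nat.card_eq_fintype_card, GaloisField.card 2 q hq]
  obtain ⟨ρ⟩ : Nonempty (K ≃+* GaloisField 2 q) := ⟨FiniteField.ringEquivOfCardEq hc⟩
  obtain ⟨ψ', hψ'def⟩ : ∃ ψ' : GaloisField 2 q → N, ψ' = fun w => ψ (ρ.symm w) := ⟨_, rfl⟩
  have hψ' : ∀ w, ψ' w = ψ (ρ.symm w) := fun w => by rw [hψ'def]
  have hψ'bij : Function.Bijective ψ' := by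
    rw [hψ'def]
    exact hψbij.comp ρ.symm.bijective
  have hψ'add : ∀ a b, ψ' (a + b) = ψ' a * ψ' b := by
    intro a b
    rw [hψ', hψ', hψ', map_add, hψadd]
  have hψ'1 : ψ' 1 = k₀ := by rw [hψ', map_one, hψ1]
  have hU1 : ∀ v ∈ U, ∃ s : GaloisField 2 q, s ≠ 0 ∧
      ∀ z, v * (ψ' z : G) * v⁻¹ = (ψ' (s * z) : G) := by
    intro v hv
    obtain ⟨s₀, hs₀, hs⟩ := hs1 ⟨v, hv⟩
    refine ⟨ρ s₀, (map_ne_zero_iff ρ ρ.injective).mpr hs₀, fun z => ?_⟩
    rw [hψ', hψ', map_mul, RingEquiv.symm_apply_apply, ← hs (ρ.symm z), conjAut_apply]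
  have hU2 : ∀ s : GaloisField 2 q, s ≠ 0 → ∃ v ∈ U,
      ∀ z, v * (ψ' z : G) * v⁻¹ = (ψ' (s * z) : G) := by
    intro s hs
    obtain ⟨h, hh⟩ := hs2 (ρ.symm s) ((map_ne_zero_iff ρ.symm ρ.symm.injective).mpr hs)
    refine ⟨(h : G), h.2, fun z => ?_⟩
    rw [hψ', hψ', map_mul, ← hh (ρ.symm z), conjAut_apply]
  have hsl : ∀ g : G, g • x = x → ∃ (c : GaloisField 2 q)
      (φ : GaloisField 2 q ≃+* GaloisField 2 q), c ≠ 0 ∧
      ∀ z, g * (ψ' z : G) * g⁻¹ = (ψ' (c * φ z) : G) := by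
    intro g hg
    apply semilinear_of_normalizes N U ψ' hψ'bij hψ'add hU1 hU2 g
    intro v hv
    rw [hUdef] at hv ⊢
    exact D.conj_mem hg hv
  have he₀bij : Function.Bijective (fun w : GaloisField 2 q => (ψ' w : G) • x) := by
    constructor
    · intro a b h
      exact hψ'bij.1 (Subtype.ext (hNx _ (ψ' a).2 _ (ψ' b).2 h))
    · intro a
      obtain ⟨n, hn, hna⟩ := hNtr x a
      obtain ⟨w, hw⟩ := hψ'bij.2 ⟨n, hn⟩
      refine ⟨w, ?_⟩
      change (ψ' w : G) • x = a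
      rw [hw]
      exact hna
  obtain ⟨e₀, he₀def⟩ : ∃ e₀ : GaloisField 2 q ≃ α, e₀ = Equiv.ofBijective _ he₀bij := ⟨_, rfl⟩
  have he₀ : ∀ w, e₀ w = (ψ' w : G) • x := fun w => by rw [he₀def]; rfl
  have hstab : ∀ g : G, g • x = x → ∀ (c : GaloisField 2 q)
      (φ : GaloisField 2 q ≃+* GaloisField 2 q),
      (∀ z, g * (ψ' z : G) * g⁻¹ = (ψ' (c * φ z) : G)) → ∀ w, g • e₀ w = e₀ (c * φ w) := by
    intro g hg c φ hcφ w
    have hgi : g⁻¹ • x = x := by rw [inv_smul_eq_iff, hg]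
    rw [he₀, he₀, ← hcφ, mul_smul, mul_smul, hgi]
  have hall : ∀ g : G, ∃ (c b : GaloisField 2 q) (φ : GaloisField 2 q ≃+* GaloisField 2 q),
      c ≠ 0 ∧ ∀ w, g • e₀ w = e₀ (c * φ w + b) := by
    intro g
    obtain ⟨n, hn, hnx⟩ := hNtr x (g • x)
    obtain ⟨b, hb⟩ := hψ'bij.2 ⟨n, hn⟩
    have hg' : (n⁻¹ * g) • x = x := by rw [mul_smul, ← hnx, inv_smul_smul]
    obtain ⟨c, φ, hc0, hcφ⟩ := hsl _ hg'
    refine ⟨c, b, φ, hc0, fun w => ?_⟩
    have h1 := hstab _ hg' c φ hcφ w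
    have h2 : g • e₀ w = n • ((n⁻¹ * g) • e₀ w) := by rw [← mul_smul, mul_inv_cancel_left]
    rw [h2, h1, he₀, he₀, ← mul_smul, add_comm, hψ'add, hb]
    rfl
  obtain ⟨y, hydef⟩ : ∃ y : α, y = e₀ 1 := ⟨_, rfl⟩
  have hyx : y ≠ x := by
    rw [hydef, he₀, hψ'1]
    intro h
    exact hk₀ (Subtype.ext (hNfree _ k₀.2 x h))
  have hHact : ∀ h : ↥(stabilizer G x ⊓ stabilizer G y),
      ∃ φ : GaloisField 2 q ≃+* GaloisField 2 q, ∀ w, (h : G) • e₀ w = e₀ (φ w) := by
    intro h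
    have hh := Subgroup.mem_inf.mp h.2
    have hhx : (h : G) • x = x := mem_stabilizer_iff.mp hh.1
    have hhy : (h : G) • y = y := mem_stabilizer_iff.mp hh.2
    obtain ⟨c, φ, hc0, hcφ⟩ := hsl _ hhx
    have h1 := hstab _ hhx c φ hcφ
    have hc1 : c = 1 := by
      have h2 := h1 1
      rw [← hydef, hhy, hydef, map_one φ, mul_one] at h2
      exact (e₀.injective h2).symm
    refine ⟨φ, fun w => ?_⟩
    rw [h1 w, hc1, one_mul]
  choose Φf hΦ using hHact
  let Φ : ↥(stabilizer G x ⊓ stabilizer G y) →* RingAut (GaloisField 2 q) :=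
    { toFun := Φf
      map_one' := by
        apply RingEquiv.ext
        intro w
        apply e₀.injective
        rw [← hΦ]
        simp
      map_mul' := by
        intro h h'
        apply RingEquiv.ext
        intro w
        apply e₀.injective
        rw [RingAut.mul_apply, ← hΦ, ← hΦ, ← hΦ, Subgroup.coe_mul, mul_smul] }
  have hΦinj : Function.Injective Φ := by
    intro h h' hhh
    apply Subtype.ext
    apply FaithfulSMul.eq_of_smul_eq_smul (α := α)
    intro a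
    obtain ⟨w, rfl⟩ := e₀.surjective a
    rw [hΦ, hΦ]
    have h1 : Φf h = Φf h' := hhh
    rw [h1]
  have hdvd := Subgroup.card_dvd_of_injective Φ hΦinj
  have hcardAut : Nat.card (RingAut (GaloisField 2 q)) = q := card_ringAut_galoisField q hq
  rw [hcardAut] at hdvd
  refine ⟨e₀.symm, y, hyx, hdvd, fun g => ?_⟩
  obtain ⟨c, b, φ, hc0, h⟩ := hall g
  refine ⟨Units.mk0 c hc0, b, φ, fun w => ?_⟩
  rw [Equiv.symm_symm, h, Equiv.symm_apply_apply, Units.val_mk0]

end Main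

end Cfsg.Agent.Lib.Helper5.PP1
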