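import Mathlib
import Cfsg.Prelude.Def_LieExceptional
import Cfsg.Agent.Lib.Helper5.Zassenhaus
import Cfsg.Agent.Lib.Helper5.ZassNormal
import Cfsg.Agent.Lib.Helper15.ZassenhausCount

set_option autoImplicit false
set_option linter.unusedSectionVars false

namespace Cfsg.Agent.Lib.Helper5.ZassOdd

open Cfsg MulAction Cfsg.Agent.Lib.Helper5.Zass

section Card

variable {G Ω : Type*} [Group G] [MulAction G Ω]

/-- the order of a doubly transitive group -/
theorem two_trans_card [Finite G] [Fintype Ω] (h2 : IsMultiplyPretransitive G Ω 2) {a b : Ω}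
    (hab : a ≠ b) :
    Nat.card G = Fintype.card Ω * (Fintype.card Ω - 1) *
      Nat.card ↥(stabilizer G a ⊓ stabilizer G b : Subgroup G) := by
  classical
  have hinj : Function.Injective (![a, b] : Fin 2 → Ω) := by
    intro i j hij
    fin_cases i <;> fin_cases j
    · rfl
    · exact absurd hij hab
    · exact absurd hij.symm hab
    · rfl
  obtain ⟨x, hx⟩ : ∃ x : Fin 2 ↪ Ω, x = ⟨![a, b], hinj⟩ := ⟨_, rfl⟩
  have hx0 : x 0 = a := by rw [hx]; rfl
  have hx1 : x 1 = b := by rw [hx]; rfl
  have hst : stabilizer G x = stabilizer G a ⊓ stabilizer G b := by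
    ext g
    rw [mem_stabilizer_iff, Subgroup.mem_inf, mem_stabilizer_iff, mem_stabilizer_iff]
    constructor
    · intro h
      have h0 := congrArg (fun y : Fin 2 ↪ Ω => y 0) h
      have h1 := congrArg (fun y : Fin 2 ↪ Ω => y 1) h
      simp only [Function.Embedding.smul_apply, hx0, hx1] at h0 h1
      exact ⟨h0, h1⟩
    · rintro ⟨h0, h1⟩
      ext i
      rw [Function.Embedding.smul_apply]
      fin_cases i
      · change g • x 0 = x 0
        rw [hx0, h0]
      · change g • x 1 = x 1
        rw [hx1, h1]
  have hidx : (stabilizer G x).index = Fintype.card Ω * (Fintype.card Ω - 1) := by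
    haveI : IsPretransitive G (Fin 2 ↪ Ω) := h2
    rw [index_stabilizer_of_transitive, Nat.card_eq_fintype_card, Fintype.card_embedding_eq,
      Fintype.card_fin, Nat.descFactorial_succ, Nat.descFactorial_succ, Nat.descFactorial_zero]
    simp [mul_comm]
  rw [← Subgroup.card_mul_index (stabilizer G x), hidx, hst, mul_comm]

end Card

end Cfsg.Agent.Lib.Helper5.ZassOdd
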