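import Mathlib

set_option autoImplicit false

namespace Cfsg.Agent.Lib.Helper5.RegNormal

open MulAction

section RN

variable {N Ω : Type*} [Group N] [MulAction N Ω]

/-- in a 2-transitive group, the non-identity elements of a regular normal subgroup are
all conjugate -/
theorem conj_of_regular (h2 : ∀ a b c d : Ω, a ≠ b → c ≠ d → ∃ n : N, n • a = c ∧ n • b = d)
    (M : Subgroup N) [hMn : M.Normal] (hreg : ∀ m ∈ M, ∀ c : Ω, m • c = c → m = 1)
    (m m' : N) (hm : m ∈ M) (hm' : m' ∈ M) (hm1 : m ≠ 1) (hm'1 : m' ≠ 1) [Nonempty Ω] :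
    ∃ y : N, y * m * y⁻¹ = m' := by
  obtain ⟨a⟩ := ‹Nonempty Ω›
  have h1 : a ≠ m • a := fun h => hm1 (hreg m hm a h.symm)
  have h1' : a ≠ m' • a := fun h => hm'1 (hreg m' hm' a h.symm)
  obtain ⟨y, hya, hyma⟩ := h2 a (m • a) a (m' • a) h1 h1'
  refine ⟨y, ?_⟩
  have hmem : m'⁻¹ * (y * m * y⁻¹) ∈ M := M.mul_mem (M.inv_mem hm') (hMn.conj_mem m hm y)
  have hfix : (m'⁻¹ * (y * m * y⁻¹)) • a = a := by
    have hya' : y⁻¹ • a = a := by rw [inv_smul_eq_iff, hya]
    rw [mul_smul, mul_smul, mul_smul, hya', hyma, inv_smul_smul]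
  have := hreg _ hmem a hfix
  calc y * m * y⁻¹ = m' * (m'⁻¹ * (y * m * y⁻¹)) := by group
    _ = m' := by rw [this, mul_one]

/-- a regular normal subgroup of a faithful 2-transitive finite group lies in every non-trivial
normal subgroup -/
theorem regular_normal_le [Finite N] [FaithfulSMul N Ω]
    (h2 : ∀ a b c d : Ω, a ≠ b → c ≠ d → ∃ n : N, n • a = c ∧ n • b = d)
    (M : Subgroup N) [hMn : M.Normal] (hreg : ∀ m ∈ M, ∀ c : Ω, m • c = c → m = 1)
    (htr : ∀ c d : Ω, ∃ m ∈ M, m • c = d)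
    (L : Subgroup N) [hLn : L.Normal] (hL : L ≠ ⊥) : M ≤ L := by
  rcases isEmpty_or_nonempty Ω with hΩ | hΩ
  · -- N is trivial
    exfalso
    apply hL
    rw [eq_bot_iff]
    intro l _
    rw [Subgroup.mem_bot]
    apply FaithfulSMul.eq_of_smul_eq_smul (α := Ω)
    intro c
    exact (hΩ.false c).elim
  -- (b)
  have hb : ∀ L' : Subgroup N, L'.Normal → (∃ m ∈ M, m ∈ L' ∧ m ≠ 1) → M ≤ L' := by
    intro L' hL'n ⟨m, hm, hmL, hm1⟩ m' hm'
    by_cases hm'1 : m' = 1
    · rw [hm'1]; exact L'.one_mem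
    obtain ⟨y, hy⟩ := conj_of_regular h2 M hreg m m' hm hm' hm1 hm'1
    rw [← hy]
    exact hL'n.conj_mem m hmL y
  by_cases hLM : ∃ m ∈ M, m ∈ L ∧ m ≠ 1
  · exact hb L hLn hLM
  exfalso
  push Not at hLM
  -- M is abelian
  have hMab : ∀ m ∈ M, ∀ m' ∈ M, m * m' = m' * m := by
    by_cases hM1 : M = ⊥
    · intro m hm m' hm'
      rw [hM1, Subgroup.mem_bot] at hm hm'
      rw [hm, hm']
    have hMnt : Nontrivial M := (Subgroup.nontrivial_iff_ne_bot M).mpr hM1
    obtain ⟨p, hp, hpd⟩ := Nat.exists_prime_and_dvd (n := Nat.card M) (by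
      intro h
      have := Finite.one_lt_card (α := M)
      omega)
    have hpf : Fact p.Prime := ⟨hp⟩
    obtain ⟨m₀, hm₀⟩ := exists_prime_orderOf_dvd_card' (G := M) p hpd
    have hm₀1 : (m₀ : N) ≠ 1 := by
      intro h
      have : m₀ = 1 := Subtype.ext h
      rw [this, orderOf_one] at hm₀
      exact hp.one_lt.ne hm₀
    have hpg : IsPGroup p M := by
      intro m
      by_cases hm1 : (m : N) = 1
      · exact ⟨0, by rw [pow_zero, pow_one]; exact Subtype.ext hm1⟩
      obtain ⟨y, hy⟩ := conj_of_regular h2 M hreg m₀ m m₀.2 m.2 hm₀1 hm1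
      refine ⟨1, ?_⟩
      apply Subtype.ext
      rw [pow_one]
      show (m : N) ^ p = 1
      rw [← hy, conj_pow]
      have : (m₀ : N) ^ p = 1 := by
        have h := pow_orderOf_eq_one m₀
        rw [hm₀] at h
        exact congrArg Subtype.val h
      rw [this]; group
    have hcnt : Nontrivial (Subgroup.center M) := hpg.center_nontrivial
    obtain ⟨z, hz1⟩ := exists_ne (1 : Subgroup.center M)
    -- the centre as a normal subgroup of N
    let Z : Subgroup N := (Subgroup.center M).map M.subtype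
    have hZmem : ∀ x : N, x ∈ Z ↔ x ∈ M ∧ ∀ m ∈ M, m * x = x * m := by
      intro x
      constructor
      · rintro ⟨w, hw, rfl⟩
        refine ⟨w.2, fun m hm => ?_⟩
        have := Subgroup.mem_center_iff.mp hw ⟨m, hm⟩
        exact congrArg Subtype.val this
      · rintro ⟨hxM, hx⟩
        refine ⟨⟨x, hxM⟩, ?_, rfl⟩
        rw [SetLike.mem_coe, Subgroup.mem_center_iff]
        intro m
        exact Subtype.ext (hx m m.2)
    have hZn : Z.Normal := by
      refine ⟨fun x hx y => ?_⟩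
      rw [hZmem] at hx ⊢
      refine ⟨hMn.conj_mem x hx.1 y, fun m hm => ?_⟩
      have h3 := hx.2 (y⁻¹ * m * y) (by
        have := hMn.conj_mem m hm y⁻¹
        rwa [inv_inv] at this)
      calc m * (y * x * y⁻¹) = y * ((y⁻¹ * m * y) * x) * y⁻¹ := by group
        _ = y * (x * (y⁻¹ * m * y)) * y⁻¹ := by rw [h3]
        _ = y * x * y⁻¹ * m := by group
    have hMZ : M ≤ Z := by
      apply hb Z hZn
      refine ⟨(z : M), (z : M).2, ⟨z, z.2, rfl⟩, ?_⟩
      intro h
      apply hz1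
      apply Subtype.ext
      apply Subtype.ext
      exact h
    intro m hm m' hm'
    exact ((hZmem m').mp (hMZ hm')).2 m hm
  -- L centralises M
  have hLc : ∀ l ∈ L, ∀ m ∈ M, l * m = m * l := by
    intro l hl m hm
    have h3 : l * m * l⁻¹ * m⁻¹ ∈ M := M.mul_mem (hMn.conj_mem m hm l) (M.inv_mem hm)
    have h4 : l * m * l⁻¹ * m⁻¹ ∈ L := by
      have : l * m * l⁻¹ * m⁻¹ = l * (m * l⁻¹ * m⁻¹) := by group
      rw [this]
      exact L.mul_mem hl (hLn.conj_mem _ (L.inv_mem hl) m)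
    have h5 : l * m * l⁻¹ * m⁻¹ = 1 := hLM _ h3 h4
    calc l * m = (l * m * l⁻¹ * m⁻¹) * (m * l) := by group
      _ = m * l := by rw [h5, one_mul]
  -- hence L ≤ M
  obtain ⟨a⟩ := hΩ
  have hLleM : L ≤ M := by
    intro l hl
    obtain ⟨m₀, hm₀, hm₀a⟩ := htr a (l • a)
    have hy1 : m₀⁻¹ * l = 1 := by
      apply FaithfulSMul.eq_of_smul_eq_smul (α := Ω)
      intro c
      obtain ⟨m, hm, rfl⟩ := htr a c
      rw [one_smul, ← mul_smul]
      have : m₀⁻¹ * l * m = m * (m₀⁻¹ * l) := by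
        have e1 := hLc l hl m hm
        have e2 := hMab m₀⁻¹ (M.inv_mem hm₀) m hm
        calc m₀⁻¹ * l * m = m₀⁻¹ * (l * m) := by group
          _ = m₀⁻¹ * (m * l) := by rw [e1]
          _ = (m₀⁻¹ * m) * l := by group
          _ = (m * m₀⁻¹) * l := by rw [e2]
          _ = m * (m₀⁻¹ * l) := by group
      rw [this, mul_smul, mul_smul, ← hm₀a, inv_smul_smul]
    have : l = m₀ := by
      calc l = m₀ * (m₀⁻¹ * l) := by group
        _ = m₀ := by rw [hy1, mul_one]
    rw [this]; exact hm₀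
  apply hL
  rw [eq_bot_iff]
  intro l hl
  rw [Subgroup.mem_bot]
  exact hLM l (hLleM hl) hl

end RN

end Cfsg.Agent.Lib.Helper5.RegNormal
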