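/-
helper5: the "kernel" `H` of a one-point stabiliser in a Zassenhaus-type action: regularity on the
remaining points, `H` contains every element whose only fixed point is `a`; class equation in
`Nat.card` form.
-/
import Mathlib

set_option autoImplicit false
set_option linter.unusedSectionVars false

namespace Cfsg.Agent.Lib.Helper5.ZassKernel

open MulAction

section
variable {G : Type*} {Ω : Type*} [Group G] [MulAction G Ω]

/-- a subgroup of `G_a` of order `|Ω| - 1` whose non-identity elements fix only `a` is transitive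
on `Ω \ {a}` -/
theorem exists_smul_eq [Finite G] [Fintype Ω] {a : Ω} (H : Subgroup G)
    (hHa : ∀ u ∈ H, u • a = a) (hHcard : Nat.card H + 1 = Fintype.card Ω)
    (hHfix : ∀ u ∈ H, u ≠ 1 → ∀ c : Ω, u • c = c → c = a)
    {c d : Ω} (hc : c ≠ a) (hd : d ≠ a) : ∃ k ∈ H, k • c = d := by
  classical
  have : Fintype H := Fintype.ofFinite H
  have hinj : Function.Injective (fun k : H => (k : G) • c) := by
    intro k k' hk
    by_contra hne
    have h1 : ((k' : G)⁻¹ * (k : G)) • c = c := by
      rw [mul_smul, inv_smul_eq_iff]; exact hk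
    have h2 : (k' : G)⁻¹ * (k : G) ≠ 1 := by
      intro h3
      apply hne
      apply Subtype.ext
      exact (inv_mul_eq_one.mp h3).symm
    exact hc (hHfix _ (H.mul_mem (H.inv_mem k'.2) k.2) h2 c h1)
  have hHc := hHcard
  rw [Nat.card_eq_fintype_card] at hHc
  have himg : (Finset.univ : Finset H).image (fun k : H => (k : G) • c) =
      Finset.univ.erase a := by
    apply Finset.eq_of_subset_of_card_le
    · intro z hz
      obtain ⟨k, -, rfl⟩ := Finset.mem_image.mp hz
      rw [Finset.mem_erase]
      refine ⟨?_, Finset.mem_univ _⟩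
      intro hka
      have hka' : (k : G) • a = a := hHa _ k.2
      exact hc (MulAction.injective (k : G) (hka.trans hka'.symm))
    · rw [Finset.card_erase_of_mem (Finset.mem_univ a), Finset.card_univ,
        Finset.card_image_of_injective _ hinj, Finset.card_univ]
      omega
  have hd' : d ∈ Finset.univ.erase a := Finset.mem_erase.mpr ⟨hd, Finset.mem_univ _⟩
  rw [← himg] at hd'
  obtain ⟨k, -, hk⟩ := Finset.mem_image.mp hd'
  exact ⟨k, k.2, hk⟩

/-- such a subgroup contains every element of `G_a` whose only fixed point is `a` -/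
theorem mem_of_fix_only [Finite G] [Fintype Ω] {a : Ω}
    (h3 : ∀ g : G, ∀ c d f : Ω, c ≠ d → d ≠ f → c ≠ f → g • c = c → g • d = d → g • f = f →
      g = 1)
    (H : Subgroup G) (hHa : ∀ u ∈ H, u • a = a) (hHcard : Nat.card H + 1 = Fintype.card Ω)
    (hHfix : ∀ u ∈ H, u ≠ 1 → ∀ c : Ω, u • c = c → c = a)
    {g : G} (hga : g • a = a) (hgfix : ∀ c : Ω, g • c = c → c = a) : g ∈ H := by
  classical
  have : Fintype H := Fintype.ofFinite H
  by_contra hgH
  have hex : ∀ c : Ω, ∃ k : H, c ≠ a → (k : G) • c = g • c := by
    intro c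
    by_cases hc : c = a
    · exact ⟨1, fun h => absurd hc h⟩
    · have hgc : g • c ≠ a := by
        intro h
        apply hc
        exact MulAction.injective g (h.trans hga.symm)
      obtain ⟨k, hk, hkc⟩ := exists_smul_eq H hHa hHcard hHfix hc hgc
      exact ⟨⟨k, hk⟩, fun _ => hkc⟩
  choose F hF using hex
  have hHc := hHcard
  rw [Nat.card_eq_fintype_card] at hHc
  have hmaps : ∀ c ∈ Finset.univ.erase a, F c ∈ (Finset.univ : Finset H).erase 1 := by
    intro c hc
    have hca : c ≠ a := Finset.ne_of_mem_erase hc
    rw [Finset.mem_erase]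
    refine ⟨?_, Finset.mem_univ _⟩
    intro h1
    have := hF c hca
    rw [h1, Subgroup.coe_one, one_smul] at this
    exact hca (hgfix c this.symm)
  have hcard : ((Finset.univ : Finset H).erase 1).card <
      (Finset.univ.erase a : Finset Ω).card := by
    rw [Finset.card_erase_of_mem (Finset.mem_univ _), Finset.card_erase_of_mem (Finset.mem_univ _),
      Finset.card_univ, Finset.card_univ]
    have : 0 < Fintype.card H := Fintype.card_pos
    omega
  obtain ⟨c, hc, d, hd, hcd, hFcd⟩ :=
    Finset.exists_ne_map_eq_of_card_lt_of_maps_to hcard hmaps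
  have hca : c ≠ a := Finset.ne_of_mem_erase hc
  have hda : d ≠ a := Finset.ne_of_mem_erase hd
  have h1 := hF c hca
  have h2 := hF d hda
  rw [← hFcd] at h2
  have hka : ((F c : H) : G) • a = a := hHa _ (F c).2
  have hone : ((F c : H) : G)⁻¹ * g = 1 := by
    apply h3 _ c d a hcd hda hca
    · rw [mul_smul, inv_smul_eq_iff]; exact h1.symm
    · rw [mul_smul, inv_smul_eq_iff]; exact h2.symm
    · rw [mul_smul, hga, inv_smul_eq_iff]; exact hka.symm
  apply hgH
  have hgF : g = ((F c : H) : G) := (inv_mul_eq_one.mp hone).symm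
  rw [hgF]
  exact (F c).2

end

/-- class equation for one class, `Nat.card` form -/
theorem card_centralizer_mul_card_conj {G : Type*} [Group G] [Finite G] (x : G) :
    Nat.card (Subgroup.centralizer ({x} : Set G)) * Nat.card {t : G // IsConj x t} =
      Nat.card G := by
  rw [Subgroup.nat_card_centralizer_nat_card_stabilizer]
  have h1 := Subgroup.card_mul_index (MulAction.stabilizer (ConjAct G) x)
  rw [MulAction.index_stabilizer] at h1
  have h2 : (MulAction.orbit (ConjAct G) x).ncard = Nat.card {t : G // IsConj x t} := by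
    rw [← Nat.card_coe_set_eq]
    apply Nat.card_congr
    apply Equiv.subtypeEquivRight
    intro t
    rw [ConjAct.mem_orbit_conjAct]
    exact isConj_comm
  rw [h2] at h1
  exact h1

end Cfsg.Agent.Lib.Helper5.ZassKernel
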