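import Mathlib
import Cfsg.Agent.S0677

set_option autoImplicit false

namespace Cfsg.Agent.Lib.Helper5.OddInv

open scoped Pointwise

section

variable {E : Type*} [Group E] [Finite E]

/-- a group of odd order has no non-identity real elements -/
theorem eq_one_of_conj_eq_inv (hodd : Odd (Nat.card E)) {x y : E} (h : y * x * y⁻¹ = x⁻¹) :
    x = 1 := by
  obtain ⟨k, hk⟩ := hodd
  have h2 : (y * y) * x * (y * y)⁻¹ = x := by
    calc (y * y) * x * (y * y)⁻¹ = y * (y * x * y⁻¹) * y⁻¹ := by group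
      _ = y * x⁻¹ * y⁻¹ := by rw [h]
      _ = (y * x * y⁻¹)⁻¹ := by group
      _ = x := by rw [h, inv_inv]
  have hcomm : Commute (y * y) x := by
    have h3 : (y * y) * x = x * (y * y) := by
      calc (y * y) * x = ((y * y) * x * (y * y)⁻¹) * (y * y) := by group
        _ = x * (y * y) := by rw [h2]
    exact h3
  have hy2 : (y * y) ^ (k + 1) = y := by
    rw [← pow_two, ← pow_mul, show 2 * (k + 1) = Nat.card E + 1 by omega, pow_succ,
      pow_card_eq_one', one_mul]
  have hcomm' : Commute y x := by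
    rw [← hy2]; exact hcomm.pow_left (k + 1)
  have h3 : x = x⁻¹ := by
    calc x = x * y * y⁻¹ := (mul_inv_cancel_right x y).symm
      _ = y * x * y⁻¹ := by rw [hcomm'.eq]
      _ = x⁻¹ := h
  have hx2 : x * x = 1 := by
    calc x * x = x * x⁻¹ := congrArg (fun z => x * z) h3
      _ = 1 := mul_inv_cancel x
  have h4 : x ^ (2 * k + 1) = 1 := by rw [← hk]; exact pow_card_eq_one'
  rw [pow_succ, pow_mul, pow_two, hx2, one_pow, one_mul] at h4
  exact h4

/-- an involutory automorphism of a group of odd order fixes some Sylow subgroup -/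
theorem exists_invariant_sylow (hodd : Odd (Nat.card E)) (φ : MulAut E) (hφ : φ * φ = 1) (q : ℕ)
    [Fact q.Prime] : ∃ Q : Sylow q E, ∀ x ∈ Q, φ x ∈ Q := by
  classical
  haveI : Fintype (Sylow q E) := Fintype.ofFinite _
  have hcard : Odd (Fintype.card (Sylow q E)) := by
    rw [← Nat.card_eq_fintype_card]
    obtain ⟨P⟩ : Nonempty (Sylow q E) := inferInstance
    have h1 : Nat.card (Sylow q E) ∣ (P : Subgroup E).index := Sylow.card_dvd_index P
    have h2 : (P : Subgroup E).index ∣ Nat.card E := Subgroup.index_dvd_card _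
    exact hodd.of_dvd_nat (dvd_trans h1 h2)
  obtain ⟨Q, hQ⟩ := Cfsg.Agent.S0677.exists_fixed_of_odd (X := Sylow q E) hcard φ hφ
  refine ⟨Q, fun x hx => ?_⟩
  have h1 : φ • x ∈ φ • (Q : Subgroup E) := Subgroup.smul_mem_pointwise_smul x φ Q hx
  rw [← Sylow.pointwise_smul_def, hQ] at h1
  exact h1

/-- conjugation preserving a finite subgroup is bijective on it -/
theorem conj_mem_iff (Q : Subgroup E) (y : E) (hy : ∀ x ∈ Q, y * x * y⁻¹ ∈ Q) (x : E) :
    y * x * y⁻¹ ∈ Q ↔ x ∈ Q := by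
  constructor
  · intro hx
    have hinj : Function.Injective (fun z : Q => (⟨y * z * y⁻¹, hy z z.2⟩ : Q)) := by
      intro z w hzw
      have h1 : y * (z : E) * y⁻¹ = y * (w : E) * y⁻¹ := congrArg Subtype.val hzw
      apply Subtype.ext
      have h2 := congrArg (fun t => y⁻¹ * t * y) h1
      simpa [mul_assoc] using h2
    obtain ⟨z, hz⟩ := (Finite.injective_iff_surjective.mp hinj) ⟨y * x * y⁻¹, hx⟩
    have h1 : y * (z : E) * y⁻¹ = y * x * y⁻¹ := congrArg Subtype.val hz
    have h2 := congrArg (fun t => y⁻¹ * t * y) h1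
    have h3 : (z : E) = x := by simpa [mul_assoc] using h2
    rw [← h3]; exact z.2
  · exact hy x

/-- an involutory automorphism fixing a cyclic Sylow subgroup of a group of odd order centralizes
or inverts it -/
theorem fix_or_inv (hodd : Odd (Nat.card E)) (φ : MulAut E) (hφ : φ * φ = 1) {q : ℕ}
    [Fact q.Prime] (Q : Sylow q E) [IsCyclic Q] (hinv : ∀ x ∈ Q, φ x ∈ Q) :
    (∀ x ∈ Q, φ x = x) ∨ (∀ x ∈ Q, φ x = x⁻¹) := by
  have hφφ : ∀ x, φ (φ x) = x := fun x => by
    have := congrArg (fun ψ : MulAut E => ψ x) hφ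
    simpa using this
  let ψ : MulAut ↥(Q : Subgroup E) :=
    { toFun := fun x => ⟨φ x, hinv x x.2⟩
      invFun := fun x => ⟨φ x, hinv x x.2⟩
      left_inv := fun x => Subtype.ext (hφφ x)
      right_inv := fun x => Subtype.ext (hφφ x)
      map_mul' := fun x y => Subtype.ext (by simp) }
  have hψ : ∀ x : ↥(Q : Subgroup E), ((ψ x : ↥(Q : Subgroup E)) : E) = φ x := fun x => rfl
  have hψψ : ψ * ψ = 1 := by
    ext x
    simp only [MulAut.mul_apply, MulAut.one_apply, hψ, hφφ]
  have hcop : (Nat.card ↥(Q : Subgroup E)).Coprime (Nat.card (Subgroup.zpowers ψ)) := by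
    rw [Nat.card_zpowers]
    have h1 : orderOf ψ ∣ 2 := orderOf_dvd_of_pow_eq_one (by rw [pow_two, hψψ])
    have h2 : Odd (Nat.card ↥(Q : Subgroup E)) :=
      hodd.of_dvd_nat (Subgroup.card_subgroup_dvd_card _)
    exact Nat.Coprime.coprime_dvd_right h1 (Nat.coprime_two_right.mpr h2)
  rcases IsPGroup.smul_mul_inv_trivial_or_surjective (G := ↥(Q : Subgroup E)) Q.2
    (K := Subgroup.zpowers ψ) hcop with h | h
  · left
    intro x hx
    have h1 := h ⟨x, hx⟩ ⟨ψ, Subgroup.mem_zpowers ψ⟩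
    have h2 : ψ ⟨x, hx⟩ = ⟨x, hx⟩ := mul_inv_eq_one.mp h1
    exact congrArg Subtype.val h2
  · right
    intro x hx
    obtain ⟨k, y, hky⟩ := h ⟨x, hx⟩
    have hk : (k : MulAut ↥(Q : Subgroup E)) = 1 ∨ (k : MulAut ↥(Q : Subgroup E)) = ψ := by
      obtain ⟨j, hj⟩ := Subgroup.mem_zpowers_iff.mp k.2
      have hsq : ψ ^ (2 : ℤ) = 1 := by
        rw [show (2 : ℤ) = ((2 : ℕ) : ℤ) by norm_num, zpow_natCast, pow_two, hψψ]
      rcases Int.even_or_odd' j with ⟨m, hm | hm⟩
      · left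
        rw [← hj, hm, zpow_mul, hsq, one_zpow]
      · right
        rw [← hj, hm, zpow_add, zpow_mul, hsq, one_zpow, one_mul, zpow_one]
    have hky' : (k : MulAut ↥(Q : Subgroup E)) y * y⁻¹ = ⟨x, hx⟩ := hky
    rcases hk with hk | hk
    · rw [hk, MulAut.one_apply, mul_inv_cancel] at hky'
      have hx1 : x = 1 := (congrArg Subtype.val hky').symm
      rw [hx1, map_one, inv_one]
    · rw [hk] at hky'
      have hx1 : x = φ y * (y : E)⁻¹ := (congrArg Subtype.val hky').symm
      rw [hx1, map_mul, map_inv, hφφ, mul_inv_rev, inv_inv]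

/-- **Inversion lemma.** Let `E` be a group of odd order with cyclic Sylow subgroups and `φ` an
involutory automorphism. If no `φ`-invariant, `φ`-centralized Sylow subgroup is central in its
normalizer, then `φ` inverts `E`. -/
theorem inverts_of_odd (hodd : Odd (Nat.card E)) [IsZGroup E] (φ : MulAut E) (hφ : φ * φ = 1)
    (hX : ∀ (q : ℕ) [Fact q.Prime], q ∣ Nat.card E → ∀ Q : Sylow q E,
       (∀ x ∈ Q, φ x ∈ Q) → (∀ x ∈ Q, φ x = x) →
       (∀ y : E, (∀ x ∈ Q, y * x * y⁻¹ ∈ Q) → ∀ x ∈ Q, y * x * y⁻¹ = x) → False) :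
    ∀ x : E, φ x = x⁻¹ := by
  classical
  have hφφ : ∀ x, φ (φ x) = x := fun x => by
    have := congrArg (fun ψ : MulAut E => ψ x) hφ
    simpa using this
  obtain ⟨C, hCmem⟩ : ∃ C : Subgroup E, ∀ x, x ∈ C ↔ φ x = x :=
    ⟨{ carrier := {x | φ x = x}
       mul_mem' := fun {x y} hx hy => by
         change φ (x * y) = x * y
         rw [map_mul, hx, hy]
       one_mem' := map_one φ
       inv_mem' := fun {x} hx => by
         change φ x⁻¹ = x⁻¹
         rw [map_inv, hx] }, fun x => Iff.rfl⟩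
  have hC : C = ⊥ := by
    by_contra hCne
    have hcard : Nat.card C ≠ 1 := fun h => hCne (Subgroup.eq_bot_of_card_eq C h)
    obtain ⟨q, hq⟩ : ∃ q, q = (Nat.card C).minFac := ⟨_, rfl⟩
    haveI : Fact q.Prime := ⟨hq ▸ Nat.minFac_prime hcard⟩
    have hqC : q ∣ Nat.card C := hq ▸ Nat.minFac_dvd _
    have hqE : q ∣ Nat.card E := dvd_trans hqC (Subgroup.card_subgroup_dvd_card C)
    obtain ⟨Q, hQinv⟩ := exists_invariant_sylow hodd φ hφ q
    rcases fix_or_inv hodd φ hφ Q hQinv with hfix | hinvQ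
    swap
    · -- inverted: contradiction
      obtain ⟨x₀', hx₀'⟩ := exists_prime_orderOf_dvd_card' (G := ↥C) q hqC
      obtain ⟨x₀, hx₀def⟩ : ∃ x₀ : E, x₀ = (x₀' : E) := ⟨_, rfl⟩
      have hx₀C : φ x₀ = x₀ := by rw [hx₀def]; exact (hCmem _).mp x₀'.2
      have hx₀o : orderOf x₀ = q := by rw [hx₀def, Subgroup.orderOf_coe, hx₀']
      have hpg : IsPGroup q (Subgroup.zpowers x₀) :=
        IsPGroup.of_card (n := 1) (by rw [Nat.card_zpowers, hx₀o, pow_one])
      obtain ⟨Q', hQ'⟩ := hpg.exists_le_sylow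
      obtain ⟨g, hg⟩ := MulAction.exists_smul_eq E Q Q'
      have hx₀Q' : x₀ ∈ (Q' : Subgroup E) := hQ' (Subgroup.mem_zpowers x₀)
      rw [← hg, Sylow.smul_def, Sylow.pointwise_smul_def,
        Subgroup.mem_pointwise_smul_iff_inv_smul_mem] at hx₀Q'
      obtain ⟨x₁, hx₁def⟩ : ∃ x₁ : E, x₁ = g⁻¹ * x₀ * g := ⟨_, rfl⟩
      have hx₁Q : x₁ ∈ (Q : Subgroup E) := by
        rw [hx₁def]
        have : (MulAut.conj g)⁻¹ • x₀ = g⁻¹ * x₀ * g := by
          rw [← map_inv, MulAut.smul_def, MulAut.conj_apply, inv_inv]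
        rw [← this]; exact hx₀Q'
      have hx₁inv : φ x₁ = x₁⁻¹ := hinvQ x₁ hx₁Q
      have hx₀x₁ : x₀ = g * x₁ * g⁻¹ := by rw [hx₁def]; group
      have h1 : φ g * x₁⁻¹ * (φ g)⁻¹ = g * x₁ * g⁻¹ := by
        rw [← hx₁inv, ← map_inv, ← map_mul, ← map_mul, ← hx₀x₁, hx₀C]
      have h2 : (g⁻¹ * φ g) * x₁⁻¹ * (g⁻¹ * φ g)⁻¹ = (x₁⁻¹)⁻¹ := by
        calc (g⁻¹ * φ g) * x₁⁻¹ * (g⁻¹ * φ g)⁻¹ = g⁻¹ * (φ g * x₁⁻¹ * (φ g)⁻¹) * g := by group
          _ = g⁻¹ * (g * x₁ * g⁻¹) * g := by rw [h1]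
          _ = (x₁⁻¹)⁻¹ := by group
      have h3 := eq_one_of_conj_eq_inv hodd h2
      have h4 : x₁ = 1 := inv_eq_one.mp h3
      have h5 : x₀ = 1 := by rw [hx₀x₁, h4]; group
      rw [h5, orderOf_one] at hx₀o
      exact (Fact.out : q.Prime).one_lt.ne hx₀o
    · -- centralized
      apply hX q hqE Q hQinv hfix
      intro y hy x hx
      have hQC : (Q : Subgroup E) ≤ C := fun z hz => (hCmem z).mpr (hfix z hz)
      obtain ⟨N, hNdef⟩ : ∃ N : Subgroup E, N = Subgroup.centralizer ((Q : Subgroup E) : Set E) :=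
        ⟨_, rfl⟩
      have hNmem : ∀ n : E, n ∈ N ↔ ∀ z ∈ (Q : Subgroup E), z * n = n * z := by
        intro n
        rw [hNdef, Subgroup.mem_centralizer_iff]
        rfl
      have hφN : ∀ n ∈ N, φ n ∈ N := by
        intro n hn
        rw [hNmem] at hn ⊢
        intro z hz
        have := congrArg φ (hn z hz)
        rw [map_mul, map_mul, hfix z hz] at this
        exact this
      have hyφ : y⁻¹ * φ y ∈ N := by
        rw [hNmem]
        intro z hz
        have h1 : φ (y * z * y⁻¹) = y * z * y⁻¹ := hfix _ (hy z hz)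
        rw [map_mul, map_mul, map_inv, hfix z hz] at h1
        calc z * (y⁻¹ * φ y) = y⁻¹ * (y * z * y⁻¹) * φ y := by group
          _ = y⁻¹ * (φ y * z * (φ y)⁻¹) * φ y := by rw [h1]
          _ = y⁻¹ * φ y * z := by group
      -- parity: a fixed point of φ on the coset y N
      obtain ⟨n, hn, hfixn⟩ : ∃ n ∈ N, φ (y * n) = y * n := by
        by_contra hcon
        push Not at hcon
        haveI : Fintype ↥N := Fintype.ofFinite _
        have hev := Cfsg.Agent.S0677.even_card_of_involution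
          ((Finset.univ : Finset ↥N).image (fun n : ↥N => y * (n : E))) (fun z => φ z)
          (by
            intro z hz
            obtain ⟨n, -, rfl⟩ := Finset.mem_image.mp hz
            refine Finset.mem_image.mpr ⟨⟨y⁻¹ * φ y * φ n, N.mul_mem hyφ (hφN n n.2)⟩,
              Finset.mem_univ _, ?_⟩
            change y * (y⁻¹ * φ y * φ (n : E)) = φ (y * (n : E))
            rw [map_mul]; group)
          (fun z _ => hφφ z)
          (by
            intro z hz
            obtain ⟨n, -, rfl⟩ := Finset.mem_image.mp hz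
            exact hcon n n.2)
        rw [Finset.card_image_of_injective _ (fun n m hnm => Subtype.ext (mul_left_cancel hnm)),
          Finset.card_univ, ← Nat.card_eq_fintype_card] at hev
        have hoddN : Odd (Nat.card ↥N) := hodd.of_dvd_nat (Subgroup.card_subgroup_dvd_card N)
        exact (Nat.not_even_iff_odd.mpr hoddN) hev
      obtain ⟨y', hy'def⟩ : ∃ y' : E, y' = y * n := ⟨_, rfl⟩
      have hy'C : y' ∈ C := by rw [hy'def]; exact (hCmem _).mpr hfixn
      have hnz : ∀ z ∈ (Q : Subgroup E), n * z * n⁻¹ = z := by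
        intro z hz
        have := (hNmem n).mp hn z hz
        rw [← this]; group
      have hy'conj : ∀ z ∈ (Q : Subgroup E), y' * z * y'⁻¹ = y * z * y⁻¹ := by
        intro z hz
        rw [hy'def]
        calc y * n * z * (y * n)⁻¹ = y * (n * z * n⁻¹) * y⁻¹ := by group
          _ = y * z * y⁻¹ := by rw [hnz z hz]
      have hy'norm : ∀ z ∈ (Q : Subgroup E), y' * z * y'⁻¹ ∈ (Q : Subgroup E) := by
        intro z hz
        rw [hy'conj z hz]; exact hy z hz
      -- work inside C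
      have hcyc : IsCyclic ↥(Q.subtype hQC : Sylow q ↥C) :=
        isCyclic_of_surjective _ (Subgroup.subgroupOfEquivOfLe hQC).symm.surjective
      have hNC := IsCyclic.normalizer_le_centralizer (G := ↥C) (p := q) hq.symm
        (P := Q.subtype hQC) hcyc
      have hmemN : (⟨y', hy'C⟩ : ↥C) ∈
          Subgroup.normalizer (((Q.subtype hQC : Sylow q ↥C) : Subgroup ↥C) : Set ↥C) := by
        rw [Subgroup.mem_normalizer_iff]
        intro h
        rw [Sylow.coe_subtype, Subgroup.mem_subgroupOf, Subgroup.mem_subgroupOf]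
        exact (conj_mem_iff (Q : Subgroup E) y' hy'norm (h : E)).symm
      have hmemC := hNC hmemN
      rw [Subgroup.mem_centralizer_iff] at hmemC
      have h1 := hmemC ⟨x, hQC hx⟩ (by
        change (⟨x, hQC hx⟩ : ↥C) ∈ ((Q.subtype hQC : Sylow q ↥C) : Subgroup ↥C)
        rw [Sylow.coe_subtype, Subgroup.mem_subgroupOf]
        exact hx)
      have h2 : x * y' = y' * x := congrArg Subtype.val h1
      rw [← hy'conj x hx, ← h2]
      group
  -- conclusion
  have hinj : Function.Injective (fun x : E => x⁻¹ * φ x) := by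
    intro x y hxy
    have hxy' : x⁻¹ * φ x = y⁻¹ * φ y := hxy
    have h1 : φ (y * x⁻¹) = y * x⁻¹ := by
      rw [map_mul, map_inv]
      have h2 : φ y = y * (x⁻¹ * φ x) := by rw [hxy']; group
      rw [h2]; group
    have h2 : y * x⁻¹ ∈ C := (hCmem _).mpr h1
    rw [hC, Subgroup.mem_bot] at h2
    exact (mul_inv_eq_one.mp h2).symm
  have hsurj := Finite.injective_iff_surjective.mp hinj
  intro z
  obtain ⟨x, rfl⟩ := hsurj z
  change φ (x⁻¹ * φ x) = (x⁻¹ * φ x)⁻¹
  rw [map_mul, map_inv, hφφ, mul_inv_rev, inv_inv]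

end

end Cfsg.Agent.Lib.Helper5.OddInv
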