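import Mathlib
import Cfsg.Prelude.Def_LieExceptional
import Cfsg.Agent.Lib.Helper5.ZassOdd
import Cfsg.Agent.Lib.Helper5.OddInv
import Cfsg.Agent.Lib.Helper18.FrobComp

set_option autoImplicit false
set_option linter.unusedSectionVars false

namespace Cfsg.Agent.Lib.Helper5.ZassOdd

open Cfsg MulAction Cfsg.Agent.Lib.Helper5.Zass

section Basic

variable {G Ω : Type*} [Group G] [MulAction G Ω]

/-- a non-identity element of a two-point stabiliser fixes no third point -/
theorem fix_of_two_point (hZ : IsZassenhausGroup G Ω) {a b : Ω} (hab : a ≠ b) {x : G}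
    (hx1 : x ≠ 1) (hxa : x • a = a) (hxb : x • b = b) {c : Ω} (hc : x • c = c) :
    c = a ∨ c = b := by
  by_contra hcon
  push Not at hcon
  exact hx1 (hZ.2.2.1 x a b c hab (Ne.symm hcon.2) (Ne.symm hcon.1) hxa hxb hc)

/-- an element conjugating a non-identity element of the two-point stabiliser into it fixes or
swaps the two points -/
theorem fix_or_swap (hZ : IsZassenhausGroup G Ω) {a b : Ω} (hab : a ≠ b) {x g : G}
    (hx1 : x ≠ 1) (hxa : x • a = a) (hxb : x • b = b)
    (hga : (g * x * g⁻¹) • a = a) (hgb : (g * x * g⁻¹) • b = b) :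
    (g • a = a ∧ g • b = b) ∨ (g • a = b ∧ g • b = a) := by
  have h1 : x • (g⁻¹ • a) = g⁻¹ • a := by
    have := congrArg (fun z => g⁻¹ • z) hga
    simpa [mul_smul] using this
  have h2 : x • (g⁻¹ • b) = g⁻¹ • b := by
    have := congrArg (fun z => g⁻¹ • z) hgb
    simpa [mul_smul] using this
  rcases fix_of_two_point hZ hab hx1 hxa hxb h1 with ha | ha <;>
    rcases fix_of_two_point hZ hab hx1 hxa hxb h2 with hb | hb
  · exact absurd (MulAction.injective g⁻¹ (ha.trans hb.symm)) hab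
  · left
    exact ⟨(inv_smul_eq_iff.mp ha).symm, (inv_smul_eq_iff.mp hb).symm⟩
  · right
    exact ⟨(inv_smul_eq_iff.mp hb).symm, (inv_smul_eq_iff.mp ha).symm⟩
  · exact absurd (MulAction.injective g⁻¹ (ha.trans hb.symm)) hab

/-- an involution swapping two points, when the two-point stabiliser has odd order -/
theorem exists_swap_involution [Finite G] (hZ : IsZassenhausGroup G Ω) {a b : Ω} (hab : a ≠ b)
    (hodd : Odd (Nat.card ↥(stabilizer G a ⊓ stabilizer G b : Subgroup G))) :
    ∃ τ : G, τ * τ = 1 ∧ τ • a = b ∧ τ • b = a := by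
  obtain ⟨s, hsa, hsb⟩ : ∃ s : G, s • a = b ∧ s • b = a :=
    MulAction.is_two_pretransitive_iff.mp hZ.2.1 hab (Ne.symm hab)
  obtain ⟨k, hk⟩ := hodd
  have hssE : s * s ∈ (stabilizer G a ⊓ stabilizer G b : Subgroup G) := by
    rw [Subgroup.mem_inf, mem_stabilizer_iff, mem_stabilizer_iff, mul_smul, mul_smul, hsa, hsb,
      hsa]
    exact ⟨rfl, rfl⟩
  have hpow : (s * s) ^ (2 * k + 1) = 1 := by
    have h1 : (⟨s * s, hssE⟩ : ↥(stabilizer G a ⊓ stabilizer G b : Subgroup G)) ^
        Nat.card ↥(stabilizer G a ⊓ stabilizer G b : Subgroup G) = 1 := pow_card_eq_one'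
    rw [hk] at h1
    exact congrArg Subtype.val h1
  have hkE : ∀ j : ℕ, (s * s) ^ j ∈ (stabilizer G a ⊓ stabilizer G b : Subgroup G) :=
    fun j => Subgroup.pow_mem _ hssE j
  refine ⟨(s * s) ^ k * s, ?_, ?_, ?_⟩
  · have h1 : (s * s) ^ k * s * ((s * s) ^ k * s) = (s * s) ^ (2 * k + 1) := by
      have e1 : (s * s) ^ k = s ^ (2 * k) := by rw [← pow_two, ← pow_mul]
      have e2 : (s * s) ^ (2 * k + 1) = s ^ (2 * (2 * k + 1)) := by rw [← pow_two, ← pow_mul]
      rw [e1, e2, ← pow_succ, ← pow_add]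
      congr 1
      ring
    rw [h1, hpow]
  · rw [mul_smul, hsa]
    exact mem_stabilizer_iff.mp (Subgroup.mem_inf.mp (hkE k)).2
  · rw [mul_smul, hsb]
    exact mem_stabilizer_iff.mp (Subgroup.mem_inf.mp (hkE k)).1

end Basic

section ZGroup

variable {G Ω : Type*} [Group G] [MulAction G Ω]

/-- the two-point stabiliser of odd order in a Zassenhaus group has cyclic Sylow subgroups -/
theorem isZGroup_two_point [Finite G] [Finite Ω] (hZ : IsZassenhausGroup G Ω) {a b : Ω}
    (hab : a ≠ b) (hodd : Odd (Nat.card ↥(stabilizer G a ⊓ stabilizer G b : Subgroup G))) :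
    IsZGroup ↥(stabilizer G a ⊓ stabilizer G b : Subgroup G) := by
  classical
  obtain ⟨K, hK1, hK2, hK3, hK4⟩ := zass_kernel hZ a
  have hLmem : ∀ g : ↥(stabilizer G a), (g : G) • a = a := fun g => mem_stabilizer_iff.mp g.2
  obtain ⟨KL, hKL⟩ : ∃ KL : Subgroup ↥(stabilizer G a), KL = K.subgroupOf (stabilizer G a) :=
    ⟨_, rfl⟩
  obtain ⟨EL, hEL⟩ : ∃ EL : Subgroup ↥(stabilizer G a),
      EL = (stabilizer G a ⊓ stabilizer G b : Subgroup G).subgroupOf (stabilizer G a) := ⟨_, rfl⟩
  have hKLmem : ∀ n : ↥(stabilizer G a), n ∈ KL ↔ PK a (n : G) := by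
    intro n; rw [hKL, Subgroup.mem_subgroupOf, hK1]
  have hELmem : ∀ h : ↥(stabilizer G a), h ∈ EL ↔ (h : G) • b = b := by
    intro h
    rw [hEL, Subgroup.mem_subgroupOf, Subgroup.mem_inf, mem_stabilizer_iff, mem_stabilizer_iff]
    constructor
    · exact fun hh => hh.2
    · exact fun hh => ⟨hLmem h, hh⟩
  haveI hKLn : KL.Normal := by
    refine ⟨fun n hn g => ?_⟩
    rw [hKLmem] at hn ⊢
    have hga : (g : G) • a = a := hLmem g
    obtain ⟨hna, hn'⟩ := hn
    refine ⟨?_, ?_⟩
    · change ((g : G) * (n : G) * (g : G)⁻¹) • a = a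
      rw [mul_smul, mul_smul, inv_smul_eq_iff.mpr hga.symm, hna, hga]
    · rcases hn' with h1 | h1
      · left
        change (g : G) * (n : G) * (g : G)⁻¹ = 1
        rw [h1]; group
      · right
        intro c hc
        change ((g : G) * (n : G) * (g : G)⁻¹) • c = c at hc
        have h2 : (n : G) • ((g : G)⁻¹ • c) = (g : G)⁻¹ • c := by
          have := congrArg (fun z => (g : G)⁻¹ • z) hc
          simpa [mul_smul] using this
        have h3 := h1 _ h2
        rw [inv_smul_eq_iff] at h3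
        rw [h3, hga]
  have hKLne : KL ≠ ⊥ := by
    obtain ⟨b', c', hb', hc', hbc'⟩ := zass_two_more hZ a
    obtain ⟨k, hk, hkc⟩ := hK3 b' c' hb' hc'
    have hkL : k ∈ stabilizer G a := ((hK1 k).mp hk).1
    intro hbot
    have h1 : (⟨k, hkL⟩ : ↥(stabilizer G a)) ∈ KL := by
      rw [hKL, Subgroup.mem_subgroupOf]; exact hk
    rw [hbot, Subgroup.mem_bot] at h1
    have h2 : k = 1 := congrArg Subtype.val h1
    rw [h2, one_smul] at hkc
    exact hbc' hkc
  have hfpf : ∀ h ∈ EL, h ≠ 1 → KL ⊓ Subgroup.centralizer {h} = ⊥ := by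
    intro h hh hh1
    rw [eq_bot_iff]
    intro n hn
    obtain ⟨hn1, hn2⟩ := Subgroup.mem_inf.mp hn
    rw [Subgroup.mem_bot]
    rw [hKLmem] at hn1
    rw [hELmem] at hh
    have hcomm : (h : G) * (n : G) = (n : G) * (h : G) := by
      have := Subgroup.mem_centralizer_iff.mp hn2 h (Set.mem_singleton h)
      exact congrArg Subtype.val this
    have hh1' : (h : G) ≠ 1 := fun e => hh1 (Subtype.ext e)
    rcases hn1.2 with h1 | h1
    · exact Subtype.ext h1
    · exfalso
      have h2 : (h : G) • ((n : G) • b) = (n : G) • b := by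
        rw [smul_smul, hcomm, mul_smul, hh]
      rcases fix_of_two_point hZ hab hh1' (hLmem h) hh h2 with h3 | h3
      · apply hab
        have : (n : G) • b = (n : G) • a := by rw [h3, hn1.1]
        exact (MulAction.injective _ this).symm
      · exact hab (h1 b h3).symm
  have hcyc := Cfsg.Agent.Lib.Helper18.isCyclic_sylow_of_fpf KL EL hKLne hfpf
  have hELcard : Nat.card ↥EL = Nat.card ↥(stabilizer G a ⊓ stabilizer G b : Subgroup G) := by
    rw [hEL]
    exact Nat.card_congr (Subgroup.subgroupOfEquivOfLe inf_le_left).toEquiv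
  haveI hZEL : IsZGroup ↥EL := by
    refine ⟨fun p hp P => ?_⟩
    haveI := Fact.mk hp
    by_cases hp2 : p = 2
    · subst hp2
      obtain ⟨n, hn⟩ := P.2.exists_card_eq
      have h1 : Nat.card ↥(P : Subgroup ↥EL) ∣ Nat.card ↥EL := Subgroup.card_subgroup_dvd_card _
      rw [hELcard] at h1
      have h2 : Odd (Nat.card ↥(P : Subgroup ↥EL)) := hodd.of_dvd_nat h1
      have h3 : Nat.card ↥(P : Subgroup ↥EL) = 1 := by
        rcases Nat.eq_zero_or_pos n with h0 | h0
        · rw [hn, h0, pow_zero]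
        · exfalso
          rw [hn] at h2
          have : Even (2 ^ n) := (Nat.even_pow' (by omega)).mpr even_two
          exact (Nat.not_even_iff_odd.mpr h2) this
      haveI : Subsingleton ↥(P : Subgroup ↥EL) := (Nat.card_eq_one_iff_unique.mp h3).1
      exact isCyclic_of_subsingleton
    · exact hcyc p hp2 P
  subst hEL
  exact IsZGroup.of_injective
    (f := (Subgroup.subgroupOfEquivOfLe (H := (stabilizer G a ⊓ stabilizer G b : Subgroup G))
      (K := stabilizer G a) inf_le_left).symm.toMonoidHom)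
    (Subgroup.subgroupOfEquivOfLe _).symm.injective

end ZGroup

section Core

variable {G Ω : Type*} [Group G] [MulAction G Ω]

/-- **Zassenhaus groups with two-point stabiliser of odd order and no normal `q`-complements**:
an involution swapping two points inverts their stabiliser. -/
theorem zass_inverts [Finite G] [Fintype Ω] (hZ : IsZassenhausGroup G Ω) {a b : Ω} (hab : a ≠ b)
    (hodd : Odd (Nat.card ↥(stabilizer G a ⊓ stabilizer G b : Subgroup G)))
    (hnil : ∀ q : ℕ, q.Prime → q ∣ Nat.card ↥(stabilizer G a ⊓ stabilizer G b : Subgroup G) →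
      ¬ ∃ N : Subgroup G, N.Normal ∧ N.index = q ^ (Nat.card G).factorization q)
    (τ : G) (hττ : τ * τ = 1) (hτa : τ • a = b) (hτb : τ • b = a) :
    ∀ x ∈ (stabilizer G a ⊓ stabilizer G b : Subgroup G), τ * x * τ⁻¹ = x⁻¹ := by
  classical
  haveI hZG : IsZGroup ↥(stabilizer G a ⊓ stabilizer G b : Subgroup G) :=
    isZGroup_two_point hZ hab hodd
  have hGcard := two_trans_card hZ.2.1 hab
  obtain ⟨E, hE⟩ : ∃ E : Subgroup G, E = stabilizer G a ⊓ stabilizer G b := ⟨_, rfl⟩
  rw [← hE] at hodd hnil hGcard hZG ⊢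
  have hEmem : ∀ x, x ∈ E ↔ x • a = a ∧ x • b = b := by
    intro x
    rw [hE, Subgroup.mem_inf, mem_stabilizer_iff, mem_stabilizer_iff]
  have hτinv : τ⁻¹ = τ := inv_eq_of_mul_eq_one_left hττ
  have hτE : ∀ x ∈ E, τ * x * τ⁻¹ ∈ E := by
    intro x hx
    rw [hEmem] at hx ⊢
    rw [hτinv]
    constructor
    · rw [mul_smul, mul_smul, hτa, hx.2, hτb]
    · rw [mul_smul, mul_smul, hτb, hx.1, hτa]
  have hττx : ∀ x : G, τ * (τ * x * τ⁻¹) * τ⁻¹ = x := by
    intro x
    rw [hτinv]
    calc τ * (τ * x * τ) * τ = (τ * τ) * x * (τ * τ) := by group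
      _ = x := by rw [hττ, one_mul, mul_one]
  let φ : MulAut ↥E :=
    { toFun := fun x => ⟨τ * x * τ⁻¹, hτE x x.2⟩
      invFun := fun x => ⟨τ * x * τ⁻¹, hτE x x.2⟩
      left_inv := fun x => Subtype.ext (hττx x)
      right_inv := fun x => Subtype.ext (hττx x)
      map_mul' := fun x y => Subtype.ext (by
        change τ * ((x : G) * (y : G)) * τ⁻¹ = τ * (x : G) * τ⁻¹ * (τ * (y : G) * τ⁻¹)
        group) }
  have hφ : ∀ x : ↥E, ((φ x : ↥E) : G) = τ * x * τ⁻¹ := fun x => rfl
  have hφφ : φ * φ = 1 := by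
    apply MulEquiv.ext
    intro x
    apply Subtype.ext
    rw [MulAut.mul_apply, MulAut.one_apply, hφ, hφ, hττx]
  have key := Cfsg.Agent.Lib.Helper5.OddInv.inverts_of_odd hodd φ hφφ (by
    intro q _ hqE Q hQinv hQfix hQnc
    have hqpr : q.Prime := Fact.out
    obtain ⟨QG, hQG⟩ : ∃ QG : Subgroup G, QG = (Q : Subgroup ↥E).map E.subtype := ⟨_, rfl⟩
    have hQGmem : ∀ x : G, x ∈ QG ↔ ∃ hx : x ∈ E, (⟨x, hx⟩ : ↥E) ∈ Q := by
      intro x
      rw [hQG, Subgroup.mem_map]
      constructor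
      · rintro ⟨y, hy, rfl⟩
        exact ⟨y.2, hy⟩
      · rintro ⟨hx, hxQ⟩
        exact ⟨⟨x, hx⟩, hxQ, rfl⟩
    have hQGE : QG ≤ E := fun x hx => ((hQGmem x).mp hx).1
    have hQGcard : Nat.card QG = q ^ (Nat.card E).factorization q := by
      rw [hQG, Subgroup.card_map_of_injective E.subtype_injective]
      exact Sylow.card_eq_multiplicity Q
    have hqodd : q ≠ 2 := by
      intro h
      subst h
      exact (Nat.not_even_iff_odd.mpr hodd) (even_iff_two_dvd.mpr hqE)
    have hfpos : 0 < (Nat.card E).factorization q :=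
      hqpr.factorization_pos_of_dvd Nat.card_pos.ne' hqE
    obtain ⟨x₀, hx₀Q, hx₀1⟩ : ∃ x₀ ∈ QG, x₀ ≠ 1 := by
      have h1 : Nat.card QG ≠ 1 := by
        rw [hQGcard]
        exact (Nat.one_lt_pow hfpos.ne' hqpr.one_lt).ne'
      by_contra hcon
      push Not at hcon
      apply h1
      have : QG = ⊥ := (Subgroup.eq_bot_iff_forall _).mpr hcon
      rw [this]
      exact Subgroup.card_bot
    have hx₀E := (hEmem x₀).mp (hQGE hx₀Q)
    have hfp : fixedPoints ↥QG Ω = {a, b} := by
      ext c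
      rw [mem_fixedPoints]
      simp only [Set.mem_insert_iff, Set.mem_singleton_iff]
      constructor
      · intro hc
        have := hc ⟨x₀, hx₀Q⟩
        exact fix_of_two_point hZ hab hx₀1 hx₀E.1 hx₀E.2 this
      · rintro (rfl | rfl) g
        · exact ((hEmem _).mp (hQGE g.2)).1
        · exact ((hEmem _).mp (hQGE g.2)).2
    have hmod : Fintype.card Ω ≡ 2 [MOD q] := by
      have hpg : IsPGroup q ↥QG := IsPGroup.of_card hQGcard
      have := hpg.card_modEq_card_fixedPoints Ω
      rw [Nat.card_eq_fintype_card, hfp, Nat.card_coe_set_eq, Set.ncard_pair hab] at this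
      exact this
    obtain ⟨a0, b0, c0, h01, h02, h12⟩ := zass_three hZ
    have hN : 3 ≤ Fintype.card Ω := Fintype.two_lt_card_iff.mpr ⟨a0, b0, c0, h01, h02, h12⟩
    have hqN : ¬ q ∣ Fintype.card Ω := by
      intro h
      have h2 : q ∣ 2 := (hmod.dvd_iff (dvd_refl q)).mp h
      have h3 := Nat.le_of_dvd (by norm_num) h2
      have h4 := hqpr.two_le
      omega
    have hqN1 : ¬ q ∣ Fintype.card Ω - 1 := by
      intro h
      have hmod1 : Fintype.card Ω - 1 ≡ 1 [MOD q] := by
        have h3 : Fintype.card Ω - 1 + 1 ≡ 1 + 1 [MOD q] := by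
          rw [Nat.sub_add_cancel (by omega)]
          exact hmod
        exact Nat.ModEq.add_right_cancel' 1 h3
      have h2 : q ∣ 1 := (hmod1.dvd_iff (dvd_refl q)).mp h
      exact hqpr.one_lt.ne' (Nat.dvd_one.mp h2)
    have hfact : (Nat.card G).factorization q = (Nat.card E).factorization q := by
      have hN0 : Fintype.card Ω ≠ 0 := by omega
      have hN10 : Fintype.card Ω - 1 ≠ 0 := by omega
      rw [hGcard, Nat.factorization_mul (Nat.mul_ne_zero hN0 hN10) Nat.card_pos.ne',
        Finsupp.add_apply, Nat.factorization_mul hN0 hN10, Finsupp.add_apply,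
        Nat.factorization_eq_zero_of_not_dvd hqN, Nat.factorization_eq_zero_of_not_dvd hqN1,
        zero_add, zero_add]
    obtain ⟨P, hPdef⟩ : ∃ P : Sylow q G, (P : Subgroup G) = QG :=
      ⟨Sylow.ofCard QG (by rw [hQGcard, hfact]), Sylow.coe_ofCard _ _⟩
    have hτcent : ∀ x ∈ QG, τ * x * τ⁻¹ = x := by
      intro x hx
      obtain ⟨hxE, hxQ⟩ := (hQGmem x).mp hx
      have := hQfix ⟨x, hxE⟩ hxQ
      exact congrArg Subtype.val this
    have hEcent : ∀ y ∈ E, (∀ x ∈ QG, y * x * y⁻¹ ∈ QG) → ∀ x ∈ QG, y * x * y⁻¹ = x := by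
      intro y hy hnorm x hx
      obtain ⟨hxE, hxQ⟩ := (hQGmem x).mp hx
      have h1 := hQnc ⟨y, hy⟩ (by
        intro z hz
        have hz' : (z : G) ∈ QG := (hQGmem _).mpr ⟨z.2, hz⟩
        obtain ⟨h3, h4⟩ := (hQGmem _).mp (hnorm z hz')
        exact h4) ⟨x, hxE⟩ hxQ
      exact congrArg Subtype.val h1
    have hP : Subgroup.normalizer ((P : Subgroup G) : Set G) ≤
        Subgroup.centralizer ((P : Subgroup G) : Set G) := by
      rw [hPdef]
      intro g hg
      rw [Subgroup.mem_normalizer_iff] at hg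
      rw [Subgroup.mem_centralizer_iff]
      have hgnorm : ∀ x ∈ QG, g * x * g⁻¹ ∈ QG := fun x hx => (hg x).mp hx
      have hgx₀E := (hEmem _).mp (hQGE (hgnorm x₀ hx₀Q))
      rcases fix_or_swap hZ hab hx₀1 hx₀E.1 hx₀E.2 hgx₀E.1 hgx₀E.2 with ⟨hga, hgb⟩ | ⟨hga, hgb⟩
      · have hgE : g ∈ E := (hEmem g).mpr ⟨hga, hgb⟩
        intro x hx
        have h4 := hEcent g hgE hgnorm x hx
        calc x * g = (g * x * g⁻¹) * g := by rw [h4]
          _ = g * x := by group
      · have hτgE : τ * g ∈ E :=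
          (hEmem _).mpr ⟨by rw [mul_smul, hga, hτb], by rw [mul_smul, hgb, hτa]⟩
        have hconj : ∀ x : G, (τ * g) * x * (τ * g)⁻¹ = τ * (g * x * g⁻¹) * τ⁻¹ := by
          intro x; group
        have hτgnorm : ∀ x ∈ QG, (τ * g) * x * (τ * g)⁻¹ ∈ QG := by
          intro x hx
          have h1 := hgnorm x hx
          rw [hconj, hτcent _ h1]
          exact h1
        intro x hx
        have h3 := hEcent (τ * g) hτgE hτgnorm x hx
        rw [hconj, hτcent _ (hgnorm x hx)] at h3
        calc x * g = (g * x * g⁻¹) * g := by rw [h3]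
          _ = g * x := by group
    have hcomp := MonoidHom.ker_transferSylow_isComplement' P hP
    apply hnil q hqpr hqE
    refine ⟨(MonoidHom.transferSylow P hP).ker, inferInstance, ?_⟩
    rw [hcomp.symm.index_eq_card]
    exact Sylow.card_eq_multiplicity P)
  intro x hx
  exact congrArg Subtype.val (key ⟨x, hx⟩)

end Core

end Cfsg.Agent.Lib.Helper5.ZassOdd
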