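import Mathlib
import Cfsg.Prelude.Def_LieExceptional
import Cfsg.Agent.Lib.Helper5.ZassOdd2

set_option autoImplicit false
set_option linter.unusedSectionVars false

namespace Cfsg.Agent.Lib.Helper5.ZassOdd

open Cfsg MulAction Cfsg.Agent.Lib.Helper5.Zass

section Simple

variable {G Ω : Type*} [Group G] [MulAction G Ω]

/-- a simple Zassenhaus group has no normal `q`-complement for `q` dividing the order of a
two-point stabiliser -/
theorem no_normal_complement_of_simple [Finite G] [Fintype Ω] (hZ : IsZassenhausGroup G Ω)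
    {a b : Ω} (hab : a ≠ b) [IsSimpleGroup G] :
    ∀ q : ℕ, q.Prime → q ∣ Nat.card ↥(stabilizer G a ⊓ stabilizer G b : Subgroup G) →
      ¬ ∃ N : Subgroup G, N.Normal ∧ N.index = q ^ (Nat.card G).factorization q := by
  intro q hq hqe
  rintro ⟨N, hNn, hNi⟩
  have hGcard := two_trans_card hZ.2.1 hab
  obtain ⟨a0, b0, c0, h01, h02, h12⟩ := zass_three hZ
  have hN3 : 3 ≤ Fintype.card Ω := Fintype.two_lt_card_iff.mpr ⟨a0, b0, c0, h01, h02, h12⟩
  have hqG : q ∣ Nat.card G := by
    rw [hGcard]
    exact Dvd.dvd.mul_left hqe _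
  have hv : 0 < (Nat.card G).factorization q :=
    hq.factorization_pos_of_dvd Nat.card_pos.ne' hqG
  rcases hNn.eq_bot_or_eq_top with h | h
  · rw [h, Subgroup.index_bot] at hNi
    have h1 : Fintype.card Ω ∣ q ^ (Nat.card G).factorization q := by
      rw [← hNi, hGcard, mul_assoc]
      exact Dvd.intro _ rfl
    have h2 : Fintype.card Ω - 1 ∣ q ^ (Nat.card G).factorization q := by
      rw [← hNi, hGcard, mul_comm (Fintype.card Ω), mul_assoc]
      exact Dvd.intro _ rfl
    obtain ⟨m, -, hm⟩ := (Nat.dvd_prime_pow hq).mp h1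
    obtain ⟨m', -, hm'⟩ := (Nat.dvd_prime_pow hq).mp h2
    have hm0 : m ≠ 0 := by
      intro h0
      rw [h0, pow_zero] at hm
      omega
    have hm'0 : m' ≠ 0 := by
      intro h0
      rw [h0, pow_zero] at hm'
      omega
    have h3 : q ∣ Fintype.card Ω := by rw [hm]; exact dvd_pow_self q hm0
    have h4 : q ∣ Fintype.card Ω - 1 := by rw [hm']; exact dvd_pow_self q hm'0
    have h5 : q ∣ Fintype.card Ω - (Fintype.card Ω - 1) := Nat.dvd_sub h3 h4
    rw [show Fintype.card Ω - (Fintype.card Ω - 1) = 1 by omega] at h5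
    exact hq.one_lt.ne' (Nat.dvd_one.mp h5)
  · rw [h, Subgroup.index_top] at hNi
    have := Nat.one_lt_pow hv.ne' hq.one_lt
    omega

end Simple

end Cfsg.Agent.Lib.Helper5.ZassOdd
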