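/-
helper5: norm of a linear character induced from a point stabiliser of a 2-transitive group
(Mackey-type computation by hand), and value of an induced function at an element with a
unique fixed point.
-/
import Mathlib
import Cfsg.Prelude.Def_Characters
import Cfsg.Agent.Lib.Lead.CharInd
import Cfsg.Agent.Lib.Helper6.CharNorm

set_option autoImplicit false

namespace Cfsg.Agent.Lib.Helper5.IndIrr

open Cfsg Cfsg.Agent.CharLib Cfsg.Agent.Lib.Helper6
open scoped ComplexConjugate

universe u v

section generic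
variable {G : Type u} [Group G]

theorem extendByZero_conj_mem (A : Subgroup G) (μ : A → ℂ) (hcl : IsClassFunction A μ)
    {q : G} (hq : q ∈ A) (y : G) :
    extendByZero A μ (q⁻¹ * y * q) = extendByZero A μ y := by
  by_cases hy : y ∈ A
  · have h1 : q⁻¹ * y * q =
        (((⟨q, hq⟩ : A)⁻¹ * ⟨y, hy⟩ * ((⟨q, hq⟩ : A)⁻¹)⁻¹ : A) : G) := by
      simp only [Subgroup.coe_mul, Subgroup.coe_inv, inv_inv]
    rw [h1, extendByZero_apply_coe, hcl, ← extendByZero_apply_coe A μ ⟨y, hy⟩]
  · have h2 : q⁻¹ * y * q ∉ A := by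
      intro h
      apply hy
      have := A.mul_mem (A.mul_mem hq h) (A.inv_mem hq)
      simpa [mul_assoc] using this
    rw [extendByZero_apply_of_not_mem A μ h2, extendByZero_apply_of_not_mem A μ hy]

theorem card_filter_mem [Fintype G] (A : Subgroup G) [DecidablePred (· ∈ A)] :
    (Finset.univ.filter (fun x : G => x ∈ A)).card = Nat.card A := by
  classical
  haveI : Fintype A := Fintype.ofFinite A
  rw [Nat.card_eq_fintype_card]
  exact (Fintype.card_of_subtype _ (fun x => by simp)).symm

/-- If `G = A ∪ A τ A` and the "cross term" at `τ` vanishes, the induced function of a linear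
character `μ` of `A` has norm one. -/
theorem classInner_indFun_self_eq_one [Fintype G] (A : Subgroup G) [Fintype A]
    (μ : A → ℂ) (hμ : IsCharacter A μ) (hμ1 : μ 1 = 1) (τ : G)
    (hdc : ∀ x : G, x ∉ A → ∃ p ∈ A, ∃ q ∈ A, x = p * τ * q)
    (hτ : ∑ g : A, μ g * conj (extendByZero A μ (τ⁻¹ * (g : G) * τ)) = 0) :
    classInner (indFun A μ) (indFun A μ) = 1 := by
  classical
  have hcl : IsClassFunction A μ := IsCharacter.isClassFunction hμ
  obtain ⟨T, hT⟩ : ∃ T : G → ℂ,
      T = fun x => ∑ g : A, μ g * conj (extendByZero A μ (x⁻¹ * (g : G) * x)) := ⟨_, rfl⟩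
  have hTdef : ∀ x, T x = ∑ g : A, μ g * conj (extendByZero A μ (x⁻¹ * (g : G) * x)) := by
    intro x; rw [hT]
  have hTr : ∀ x : G, ∀ q ∈ A, T (x * q) = T x := by
    intro x q hq
    rw [hTdef, hTdef]
    apply Finset.sum_congr rfl
    intro g _
    rw [show (x * q)⁻¹ * (g : G) * (x * q) = q⁻¹ * (x⁻¹ * (g : G) * x) * q by group,
      extendByZero_conj_mem A μ hcl hq]
  have hTl : ∀ x : G, ∀ p ∈ A, T (p * x) = T x := by
    intro x p hp
    rw [hTdef, hTdef]
    rw [← Equiv.sum_comp (MulAut.conj (⟨p, hp⟩ : A)).toEquiv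
      (fun g : A => μ g * conj (extendByZero A μ ((p * x)⁻¹ * (g : G) * (p * x))))]
    apply Finset.sum_congr rfl
    intro g _
    have e1 : (p * x)⁻¹ * (((MulAut.conj (⟨p, hp⟩ : A)).toEquiv g : A) : G) * (p * x) =
        x⁻¹ * (g : G) * x := by
      simp only [MulEquiv.toEquiv_eq_coe, MulEquiv.coe_toEquiv, MulAut.conj_apply,
        Subgroup.coe_mul, Subgroup.coe_inv]
      group
    have e2 : μ ((MulAut.conj (⟨p, hp⟩ : A)).toEquiv g) = μ g := by
      simp only [MulEquiv.toEquiv_eq_coe, MulEquiv.coe_toEquiv, MulAut.conj_apply]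
      exact hcl g ⟨p, hp⟩
    beta_reduce
    rw [e1, e2]
  have hT1 : T 1 = (Nat.card A : ℂ) := by
    rw [hTdef]
    rw [Finset.sum_congr rfl (g := fun _ => (1 : ℂ)) (by
      intro g _
      rw [inv_one, one_mul, mul_one, extendByZero_apply_coe]
      exact IsCharacter.mul_conj_eq_one_of_apply_one hμ hμ1 g)]
    rw [Finset.sum_const, Finset.card_univ, nsmul_eq_mul, mul_one, Nat.card_eq_fintype_card]
  have hTA : ∀ x ∈ A, T x = (Nat.card A : ℂ) := by
    intro x hx
    have := hTr 1 x hx
    rw [one_mul] at this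
    rw [this, hT1]
  have hTn : ∀ x, x ∉ A → T x = 0 := by
    intro x hx
    obtain ⟨p, hp, q, hq, rfl⟩ := hdc x hx
    rw [hTr _ q hq, hTl _ p hp, hTdef]
    exact hτ
  rw [frobenius_reciprocity A μ (indFun_isClassFunction A μ)]
  have hA0 : (Nat.card A : ℂ) ≠ 0 := by
    rw [Nat.cast_ne_zero]
    exact Nat.card_pos.ne'
  have key : ∑ g : A, μ g * conj (indFun A μ (g : G)) = (Nat.card A : ℂ)⁻¹ * ∑ x : G, T x := by
    have h1 : ∀ g : A, μ g * conj (indFun A μ (g : G)) =
        ∑ x : G, (Nat.card A : ℂ)⁻¹ * (μ g * conj (extendByZero A μ (x⁻¹ * (g : G) * x))) := by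
      intro g
      simp only [indFun, map_mul, map_inv₀, Complex.conj_natCast, map_sum, Finset.mul_sum]
      apply Finset.sum_congr rfl
      intro x _
      ring
    rw [Finset.sum_congr rfl (fun g _ => h1 g), Finset.sum_comm, Finset.mul_sum]
    apply Finset.sum_congr rfl
    intro x _
    rw [hTdef, Finset.mul_sum]
  have hsum : ∑ x : G, T x = (Nat.card A : ℂ) * (Nat.card A : ℂ) := by
    rw [Finset.sum_congr rfl (g := fun x => (if x ∈ A then (1 : ℂ) else 0) * (Nat.card A : ℂ)) (by
      intro x _
      by_cases hx : x ∈ A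
      · rw [if_pos hx, one_mul, hTA x hx]
      · rw [if_neg hx, zero_mul, hTn x hx])]
    rw [← Finset.sum_mul, Finset.sum_boole, card_filter_mem]
  simp only [classInner]
  rw [key, hsum]
  field_simp

/-- Value of an induced function at an element of `A = G_a` whose only fixed point is `a`. -/
theorem indFun_eq_one_of_fix {Ω : Type v} [Fintype G] [MulAction G Ω] {a : Ω} (A : Subgroup G)
    (hA : ∀ x, x ∈ A ↔ x • a = a) (μ : A → ℂ) (hcl : IsClassFunction A μ) (u : G) (huA : u ∈ A)
    (hfix : ∀ c : Ω, u • c = c → c = a) (hμu : μ ⟨u, huA⟩ = 1) :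
    indFun A μ u = 1 := by
  classical
  have hterm : ∀ x : G, extendByZero A μ (x⁻¹ * u * x) = if x ∈ A then 1 else 0 := by
    intro x
    by_cases hx : x ∈ A
    · rw [if_pos hx]
      have h1 : x⁻¹ * u * x =
          (((⟨x, hx⟩ : A)⁻¹ * ⟨u, huA⟩ * ((⟨x, hx⟩ : A)⁻¹)⁻¹ : A) : G) := by
        simp only [Subgroup.coe_mul, Subgroup.coe_inv, inv_inv]
      rw [h1, extendByZero_apply_coe, hcl, hμu]
    · rw [if_neg hx]
      apply extendByZero_apply_of_not_mem
      intro hmem
      apply hx
      rw [hA] at hmem ⊢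
      have h2 : u • (x • a) = x • a := by
        have := congrArg (fun z => x • z) hmem
        simpa [mul_smul] using this
      exact hfix _ h2
  have hA0 : (Nat.card A : ℂ) ≠ 0 := by
    rw [Nat.cast_ne_zero]
    exact Nat.card_pos.ne'
  simp only [indFun]
  rw [Finset.sum_congr rfl (fun x _ => hterm x), Finset.sum_boole, card_filter_mem]
  exact inv_mul_cancel₀ hA0

end generic

section twotrans
variable {G : Type u} {Ω : Type v} [Group G] [Fintype G] [MulAction G Ω] [Fintype Ω]

/-- In a 2-transitive group with point stabiliser `A = H ⋊ E` (`H` regular on the remaining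
points, `E` a two-point stabiliser of odd order inverted by an involution `τ` swapping the two
points), a non-trivial linear character of `A` trivial on `H` induces to a function of norm 1. -/
theorem two_trans_ind_norm {a b : Ω} (hab : a ≠ b)
    (h2t : ∀ c d c' d' : Ω, c ≠ d → c' ≠ d' → ∃ g : G, g • c = c' ∧ g • d = d')
    (A E : Subgroup G) [Fintype A] (hA : ∀ x, x ∈ A ↔ x • a = a)
    (hE : ∀ x, x ∈ E ↔ x • a = a ∧ x • b = b)
    (hodd : Odd (Nat.card E))
    (τ : G) (hττ : τ * τ = 1) (hτa : τ • a = b) (hτb : τ • b = a)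
    (hinv : ∀ x ∈ E, τ * x * τ⁻¹ = x⁻¹)
    (H : Subgroup G) (hHA : H ≤ A) (hHcard : Nat.card H + 1 = Fintype.card Ω)
    (hHfix : ∀ u ∈ H, u ≠ 1 → ∀ c : Ω, u • c = c → c = a)
    (μ : A → ℂ) (hμ : IsCharacter A μ) (hμ1 : μ 1 = 1)
    (hμH : ∀ u : A, (u : G) ∈ H → μ u = 1) (hμne : μ ≠ fun _ => 1) :
    classInner (indFun A μ) (indFun A μ) = 1 := by
  classical
  have hτinv : τ⁻¹ = τ := inv_eq_of_mul_eq_one_left hττ
  have hcl : IsClassFunction A μ := IsCharacter.isClassFunction hμ
  have hmul := IsCharacter.map_mul_of_apply_one hμ hμ1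
  apply classInner_indFun_self_eq_one A μ hμ hμ1 τ
  · intro x hx
    have hc : x • a ≠ a := fun h => hx ((hA x).mpr h)
    obtain ⟨p, hpa, hpb⟩ := h2t a b a (x • a) hab (Ne.symm hc)
    refine ⟨p, (hA p).mpr hpa, τ⁻¹ * p⁻¹ * x, ?_, by group⟩
    rw [hA, mul_smul, mul_smul, ← hpb, inv_smul_smul, inv_smul_eq_iff, hτa]
  · have hterm : ∀ g : A, μ g * conj (extendByZero A μ (τ⁻¹ * (g : G) * τ)) =
        if (g : G) ∈ E then μ g * μ g else 0 := by
      intro g
      have hga : (g : G) • a = a := (hA _).mp g.2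
      by_cases hg : (g : G) ∈ E
      · rw [if_pos hg]
        have h1 := hinv _ hg
        rw [hτinv] at h1
        have h2 : τ⁻¹ * (g : G) * τ = ((g⁻¹ : A) : G) := by
          calc τ⁻¹ * (g : G) * τ = τ * (g : G) * τ := by rw [hτinv]
            _ = (g : G)⁻¹ := h1
            _ = ((g⁻¹ : A) : G) := rfl
        rw [h2, extendByZero_apply_coe]
        have h3 : μ g⁻¹ * μ g = 1 := by rw [← hmul, inv_mul_cancel, hμ1]
        have h4 := IsCharacter.mul_conj_eq_one_of_apply_one hμ hμ1 g
        have h5 : μ g⁻¹ = conj (μ g) := by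
          calc μ g⁻¹ = μ g⁻¹ * (μ g * conj (μ g)) := by rw [h4, mul_one]
            _ = (μ g⁻¹ * μ g) * conj (μ g) := by ring
            _ = conj (μ g) := by rw [h3, one_mul]
        rw [h5, Complex.conj_conj]
      · rw [if_neg hg]
        have h2 : τ⁻¹ * (g : G) * τ ∉ A := by
          intro hmem
          apply hg
          rw [hE]
          refine ⟨hga, ?_⟩
          rw [hA, mul_smul, mul_smul, hτa, inv_smul_eq_iff, hτa] at hmem
          exact hmem
        rw [extendByZero_apply_of_not_mem A μ h2, map_zero, mul_zero]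
    rw [Finset.sum_congr rfl (fun g _ => hterm g)]
    by_cases hex : ∃ g0 : A, (g0 : G) ∈ E ∧ μ g0 * μ g0 ≠ 1
    · obtain ⟨g0, hg0E, hg0⟩ := hex
      obtain ⟨S, hS⟩ : ∃ S : ℂ, S = ∑ g : A, (if (g : G) ∈ E then μ g * μ g else 0) := ⟨_, rfl⟩
      rw [← hS]
      have h1 : (μ g0 * μ g0) * S = S := by
        rw [hS, Finset.mul_sum]
        rw [← Equiv.sum_comp (Equiv.mulLeft g0)
          (fun g : A => if (g : G) ∈ E then μ g * μ g else 0)]
        apply Finset.sum_congr rfl
        intro g _
        show μ g0 * μ g0 * (if (g : G) ∈ E then μ g * μ g else 0) =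
          if ((g0 * g : A) : G) ∈ E then μ (g0 * g) * μ (g0 * g) else 0
        have hiff : ((g0 * g : A) : G) ∈ E ↔ (g : G) ∈ E := by
          rw [Subgroup.coe_mul]
          exact E.mul_mem_cancel_left hg0E
        by_cases hg : (g : G) ∈ E
        · rw [if_pos hg, if_pos (hiff.mpr hg), hmul]; ring
        · rw [if_neg hg, if_neg (fun h => hg (hiff.mp h)), mul_zero]
      have h2 : (μ g0 * μ g0 - 1) * S = 0 := by rw [sub_mul, h1, one_mul, sub_self]
      rcases mul_eq_zero.mp h2 with h3 | h3
      · exact absurd (sub_eq_zero.mp h3) hg0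
      · exact h3
    · push Not at hex
      exfalso
      apply hμne
      obtain ⟨k, hk⟩ := hodd
      have hμE : ∀ g : A, (g : G) ∈ E → μ g = 1 := by
        intro g hg
        have hsq := hex g hg
        have hpow : g ^ (2 * k + 1) = 1 := by
          apply Subtype.ext
          rw [Subgroup.coe_pow, Subgroup.coe_one]
          have h1 : (⟨(g : G), hg⟩ : E) ^ Nat.card E = 1 := pow_card_eq_one'
          rw [hk] at h1
          exact congrArg Subtype.val h1
        have h2 : μ (g ^ (2 * k + 1)) = μ g ^ (2 * k + 1) := map_pow (linCharHom hμ hμ1) g _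
        rw [hpow, hμ1] at h2
        calc μ g = (μ g * μ g) ^ k * μ g := by rw [hsq, one_pow, one_mul]
          _ = μ g ^ (2 * k + 1) := by ring
          _ = 1 := h2.symm
      have : Fintype H := Fintype.ofFinite H
      have hinj : Function.Injective (fun h : H => (h : G) • b) := by
        intro h h' hh
        by_contra hne
        have h1 : ((h' : G)⁻¹ * (h : G)) • b = b := by
          rw [mul_smul, inv_smul_eq_iff]; exact hh
        have h2 : (h' : G)⁻¹ * (h : G) ≠ 1 := by
          intro h3
          apply hne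
          apply Subtype.ext
          exact (inv_mul_eq_one.mp h3).symm
        exact hab (hHfix _ (H.mul_mem (H.inv_mem h'.2) h.2) h2 b h1).symm
      have hHc := hHcard
      rw [Nat.card_eq_fintype_card] at hHc
      have himg : (Finset.univ : Finset H).image (fun h : H => (h : G) • b) =
          Finset.univ.erase a := by
        apply Finset.eq_of_subset_of_card_le
        · intro c hc
          obtain ⟨h, -, rfl⟩ := Finset.mem_image.mp hc
          rw [Finset.mem_erase]
          refine ⟨?_, Finset.mem_univ _⟩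
          intro hba
          have hha : (h : G) • a = a := (hA _).mp (hHA h.2)
          exact hab (MulAction.injective (h : G) (hba.trans hha.symm)).symm
        · rw [Finset.card_erase_of_mem (Finset.mem_univ a), Finset.card_univ,
            Finset.card_image_of_injective _ hinj, Finset.card_univ]
          omega
      have hdec : ∀ g : A, μ g = 1 := by
        intro g
        have hga : (g : G) • a = a := (hA _).mp g.2
        have hgb : (g : G) • b ∈ Finset.univ.erase a := by
          rw [Finset.mem_erase]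
          refine ⟨?_, Finset.mem_univ _⟩
          intro hba
          exact hab (MulAction.injective (g : G) (hba.trans hga.symm)).symm
        rw [← himg] at hgb
        obtain ⟨h, -, hh⟩ := Finset.mem_image.mp hgb
        have hhA : (h : G) ∈ A := hHA h.2
        have heE : (h : G)⁻¹ * (g : G) ∈ E := by
          rw [hE]
          constructor
          · rw [mul_smul, hga, inv_smul_eq_iff, (hA _).mp hhA]
          · rw [mul_smul, inv_smul_eq_iff]; exact hh.symm
        have heA : (h : G)⁻¹ * (g : G) ∈ A := A.mul_mem (A.inv_mem hhA) g.2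
        have hg : g = (⟨(h : G), hhA⟩ : A) * ⟨(h : G)⁻¹ * (g : G), heA⟩ := by
          apply Subtype.ext
          rw [Subgroup.coe_mul]
          simp
        calc μ g = μ ((⟨(h : G), hhA⟩ : A) * ⟨(h : G)⁻¹ * (g : G), heA⟩) := congrArg μ hg
          _ = μ (⟨(h : G), hhA⟩ : A) * μ ⟨(h : G)⁻¹ * (g : G), heA⟩ := hmul _ _
          _ = 1 := by rw [hμH ⟨(h : G), hhA⟩ h.2, hμE ⟨_, heA⟩ heE, one_mul]
      funext g
      exact hdec g

end twotrans

end Cfsg.Agent.Lib.Helper5.IndIrr
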