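/-
helper5: Zassenhaus groups whose point stabilisers have an abelian Frobenius kernel: the two-point
stabiliser has order `d` with `2 d ≥ n - 1`; if `2 d > n - 1` the group is sharply triply
transitive, and if `2 d = n - 1` it is simple.
-/
import Mathlib
import Cfsg.Prelude.Def_LieExceptional
import Cfsg.Agent.Lib.Helper5.ZassNormal
import Cfsg.Agent.Lib.Helper5.ZassOdd
import Cfsg.Agent.Lib.Helper5.MultTrans
import Cfsg.Agent.S0339
import Cfsg.Agent.S0741
import Cfsg.Agent.S0885

set_option autoImplicit false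
set_option linter.unusedSectionVars false

namespace Cfsg.Agent.Lib.Helper5.ZPsl

open Cfsg MulAction Cfsg.Agent.Lib.Helper5.Zass Cfsg.Agent.Lib.Helper5.ZassOdd

section F

variable {G Ω : Type*} [Group G] [MulAction G Ω]

/-- all two-point stabilisers of a doubly transitive group have the same order -/
theorem card_two_point_eq [Finite G] [Fintype Ω] (h2 : IsMultiplyPretransitive G Ω 2) {a b : Ω}
    (hab : a ≠ b) {y y' : Ω} (hyy' : y ≠ y') :
    Nat.card ↥(stabilizer G y ⊓ stabilizer G y') = Nat.card ↥(stabilizer G a ⊓ stabilizer G b) := by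
  have c1 := two_trans_card h2 hab
  have c2 := two_trans_card h2 hyy'
  rw [c1] at c2
  have hpos : 0 < Fintype.card Ω * (Fintype.card Ω - 1) := by
    have h1 : 1 < Fintype.card Ω := Fintype.one_lt_card_iff.mpr ⟨a, b, hab⟩
    exact Nat.mul_pos (by omega) (by omega)
  exact (Nat.eq_of_mul_eq_mul_left hpos c2).symm

/-- the two-point stabiliser, acting semiregularly on the remaining points, is transitive on them
when its order exceeds half their number -/
theorem two_point_trans_of_large [Finite G] [Fintype Ω]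
    (h3 : ∀ g : G, ∀ a b c : Ω, a ≠ b → b ≠ c → a ≠ c → g • a = a → g • b = b → g • c = c → g = 1)
    {a b : Ω} (hab : a ≠ b)
    (hlarge : Fintype.card Ω - 2 < 2 * Nat.card ↥(stabilizer G a ⊓ stabilizer G b))
    {c c' : Ω} (hca : c ≠ a) (hcb : c ≠ b) (hc'a : c' ≠ a) (hc'b : c' ≠ b) :
    ∃ h : G, h • a = a ∧ h • b = b ∧ h • c = c' := by
  classical
  have : Fintype G := Fintype.ofFinite G
  by_contra hcon
  push Not at hcon
  let D : Finset G := Finset.univ.filter (fun x => x • a = a ∧ x • b = b)
  have hDmem : ∀ h : G, h ∈ D ↔ h • a = a ∧ h • b = b := by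
    intro h; simp [D]
  have hDcard : D.card = Nat.card ↥(stabilizer G a ⊓ stabilizer G b) := by
    rw [Nat.card_eq_fintype_card, Fintype.card_subtype]
    congr 1
    ext x
    simp [D, Subgroup.mem_inf, mem_stabilizer_iff]
  have hinj : ∀ p : Ω, p ≠ a → p ≠ b → Set.InjOn (fun h : G => h • p) D := by
    intro p hpa hpb h hh h' hh' e
    have hh1 := (hDmem h).mp hh
    have hh'1 := (hDmem h').mp hh'
    have e0 : h • p = h' • p := e
    have e' : (h'⁻¹ * h) • p = p := by rw [mul_smul, inv_smul_eq_iff]; exact e0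
    have ea : (h'⁻¹ * h) • a = a := by rw [mul_smul, hh1.1, inv_smul_eq_iff, hh'1.1]
    have eb : (h'⁻¹ * h) • b = b := by rw [mul_smul, hh1.2, inv_smul_eq_iff, hh'1.2]
    have := h3 _ a b p hab (Ne.symm hpb) (Ne.symm hpa) ea eb e'
    exact (inv_mul_eq_one.mp this).symm
  have hA : (D.image (fun h => h • c)).card = D.card :=
    Finset.card_image_of_injOn (hinj c hca hcb)
  have hA' : (D.image (fun h => h • c')).card = D.card :=
    Finset.card_image_of_injOn (hinj c' hc'a hc'b)
  have hdisj : Disjoint (D.image (fun h => h • c)) (D.image (fun h => h • c')) := by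
    rw [Finset.disjoint_left]
    intro p hp hp'
    obtain ⟨h, hh, rfl⟩ := Finset.mem_image.mp hp
    obtain ⟨h', hh', e⟩ := Finset.mem_image.mp hp'
    have hh1 := (hDmem h).mp hh
    have hh'1 := (hDmem h').mp hh'
    have e0 : h' • c' = h • c := e
    apply hcon (h'⁻¹ * h)
    · rw [mul_smul, hh1.1, inv_smul_eq_iff, hh'1.1]
    · rw [mul_smul, hh1.2, inv_smul_eq_iff, hh'1.2]
    · rw [mul_smul, inv_smul_eq_iff]; exact e0.symm
  have hsubgen : ∀ p : Ω, p ≠ a → p ≠ b →
      D.image (fun h => h • p) ⊆ (Finset.univ.erase a).erase b := by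
    intro p hpa hpb q hq
    obtain ⟨h, hh, rfl⟩ := Finset.mem_image.mp hq
    have hh1 := (hDmem h).mp hh
    refine Finset.mem_erase.mpr ⟨?_, Finset.mem_erase.mpr ⟨?_, Finset.mem_univ _⟩⟩
    · intro e
      apply hpb
      have e0 : h • p = b := e
      rw [← hh1.2] at e0
      exact MulAction.injective h e0
    · intro e
      apply hpa
      have e0 : h • p = a := e
      rw [← hh1.1] at e0
      exact MulAction.injective h e0
  have hsub : D.image (fun h => h • c) ∪ D.image (fun h => h • c') ⊆
      (Finset.univ.erase a).erase b :=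
    Finset.union_subset (hsubgen c hca hcb) (hsubgen c' hc'a hc'b)
  have hcard := Finset.card_le_card hsub
  have hbmem : b ∈ Finset.univ.erase a := Finset.mem_erase.mpr ⟨hab.symm, Finset.mem_univ _⟩
  rw [Finset.card_union_of_disjoint hdisj, hA, hA', Finset.card_erase_of_mem hbmem,
    Finset.card_erase_of_mem (Finset.mem_univ a), Finset.card_univ, hDcard] at hcard
  omega

/-- a Zassenhaus group has at least four points -/
theorem zass_four [Finite G] [Fintype Ω] (hZ : Cfsg.IsZassenhausGroup G Ω) :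
    4 ≤ Fintype.card Ω := by
  classical
  obtain ⟨a, b, -, hab, -, -⟩ := zass_three hZ
  obtain ⟨x, hx1, hxa, hxb⟩ := zass_two_point_ne hZ hab
  obtain ⟨hfaith, h2, h3, h4, h5⟩ := hZ
  obtain ⟨c, hc⟩ : ∃ c : Ω, x • c ≠ c := by
    by_contra hcon
    push Not at hcon
    apply hx1
    apply hfaith.eq_of_smul_eq_smul
    intro c
    rw [hcon c, one_smul]
  have hca : c ≠ a := by rintro rfl; exact hc hxa
  have hcb : c ≠ b := by rintro rfl; exact hc hxb
  have hxca : x • c ≠ a := by
    intro h; apply hca; rw [← hxa] at h; exact MulAction.injective x h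
  have hxcb : x • c ≠ b := by
    intro h; apply hcb; rw [← hxb] at h; exact MulAction.injective x h
  have hsub : ({a, b, c, x • c} : Finset Ω) ⊆ Finset.univ := Finset.subset_univ _
  have hcard : ({a, b, c, x • c} : Finset Ω).card = 4 := by
    rw [Finset.card_insert_of_notMem, Finset.card_insert_of_notMem, Finset.card_insert_of_notMem,
      Finset.card_singleton]
    · simp only [Finset.mem_singleton]; exact fun h => hc h.symm
    · simp only [Finset.mem_insert, Finset.mem_singleton, not_or]
      exact ⟨hcb.symm, hxcb.symm⟩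
    · simp only [Finset.mem_insert, Finset.mem_singleton, not_or]
      exact ⟨hab, hca.symm, hxca.symm⟩
  have := Finset.card_le_card hsub
  rw [hcard, Finset.card_univ] at this
  exact this

/-- large two-point stabilisers: sharply triply transitive -/
theorem sharp_three_of_large [Finite G] [Fintype Ω] (hZ : Cfsg.IsZassenhausGroup G Ω) {a b : Ω}
    (hab : a ≠ b)
    (hlarge : Fintype.card Ω - 2 < 2 * Nat.card ↥(stabilizer G a ⊓ stabilizer G b)) :
    IsMultiplyPretransitive G Ω 3 ∧ ∀ t : Fin 3 ↪ Ω, stabilizer G t = ⊥ := by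
  have h4c := zass_four hZ
  obtain ⟨hfaith, h2, h3, h4, h5⟩ := hZ
  constructor
  · apply Cfsg.Agent.Lib.Helper5.isMultiplyPretransitive_of_fixing_transitive 2
    · rw [Nat.card_eq_fintype_card]; exact h4c
    · intro u hu p p' hp hp'
      obtain ⟨y, y', hyy', rfl⟩ := Set.ncard_eq_two.mp hu
      have hcard' : Fintype.card Ω - 2 < 2 * Nat.card ↥(stabilizer G y ⊓ stabilizer G y') := by
        rw [card_two_point_eq h2 hab hyy']; exact hlarge
      simp only [Set.mem_insert_iff, Set.mem_singleton_iff, not_or] at hp hp'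
      obtain ⟨g, hg1, hg2, hg3⟩ := two_point_trans_of_large h3 hyy' hcard' hp.1 hp.2 hp'.1 hp'.2
      refine ⟨g, ?_, hg3⟩
      intro z hz
      simp only [Set.mem_insert_iff, Set.mem_singleton_iff] at hz
      rcases hz with rfl | rfl
      · exact hg1
      · exact hg2
  · intro t
    rw [eq_bot_iff]
    intro g hg
    rw [mem_stabilizer_iff] at hg
    rw [Subgroup.mem_bot]
    have e : ∀ i : Fin 3, g • t i = t i := by
      intro i
      have := congrArg (fun f : Fin 3 ↪ Ω => f i) hg
      simpa [Function.Embedding.smul_apply] using this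
    exact h3 g (t 0) (t 1) (t 2) (t.injective.ne (by decide)) (t.injective.ne (by decide))
      (t.injective.ne (by decide)) (e 0) (e 1) (e 2)

/-- a regular normal abelian subgroup of the point stabiliser: the Frobenius kernel is abelian -/
theorem kernel_comm_of_regular [Finite Ω] (hZ : Cfsg.IsZassenhausGroup G Ω) (x : Ω)
    (F : Subgroup G) (hFle : F ≤ MulAction.stabilizer G x) (hFab : IsMulCommutative F)
    (hreg : ∀ y z : Ω, y ≠ x → z ≠ x → ∃! u : F, (u : G) • y = z) :
    ∀ u v : G, PK x u → PK x v → u * v = v * u := by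
  obtain ⟨Ks, hK1, hK2, hK3, hK4⟩ := zass_kernel hZ x
  obtain ⟨y₀, -, hy₀, -, -⟩ := zass_two_more hZ x
  have hFK : ∀ u ∈ F, PK x u := by
    intro u hu
    refine ⟨mem_stabilizer_iff.mp (hFle hu), ?_⟩
    by_cases hu1 : u = 1
    · exact Or.inl hu1
    · right
      intro c hc
      by_contra hcx
      obtain ⟨w, -, hw⟩ := hreg c c hcx hcx
      have e1 := hw ⟨u, hu⟩ hc
      have e2 := hw 1 (one_smul _ _)
      apply hu1
      have := e1.trans e2.symm
      exact congrArg Subtype.val this
  have hKF : ∀ k : G, PK x k → k ∈ F := by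
    intro k hk
    have hkx : k • x = x := hk.1
    have hky : k • y₀ ≠ x := by
      intro h; apply hy₀; rw [← hkx] at h; exact MulAction.injective k h
    obtain ⟨u, hu, -⟩ := hreg y₀ (k • y₀) hy₀ hky
    have huK : (u : G) ∈ Ks := (hK1 _).mpr (hFK u u.2)
    have hkK : k ∈ Ks := (hK1 _).mpr hk
    have hfix : ((u : G)⁻¹ * k) • y₀ = y₀ := by rw [mul_smul, inv_smul_eq_iff, hu]
    have hmem : (u : G)⁻¹ * k ∈ Ks := Ks.mul_mem (Ks.inv_mem huK) hkK
    rcases ((hK1 _).mp hmem).2 with h | h
    · have : (u : G) = k := inv_mul_eq_one.mp h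
      rw [← this]; exact u.2
    · exact absurd (h y₀ hfix) hy₀
  intro u v hu hv
  have h1 := isMulCommutative_iff.mp hFab ⟨u, hKF u hu⟩ ⟨v, hKF v hv⟩
  exact congrArg Subtype.val h1

/-- abelian kernel: `2 d ≥ n - 1` -/
theorem ineq_of_comm_kernel [Finite G] [Fintype Ω] (hZ : Cfsg.IsZassenhausGroup G Ω) {a b : Ω}
    (hab : a ≠ b) (hcomm : ∀ u v : G, PK a u → PK a v → u * v = v * u) :
    Fintype.card Ω - 2 ≤ 2 * Nat.card ↥(stabilizer G a ⊓ stabilizer G b) := by
  obtain ⟨Ks, hK1, hK2, hK3, hK4⟩ := zass_kernel hZ a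
  have hKcard := zass_kernel_card hZ a Ks hK1 hK3
  have h4c := zass_four hZ
  rcases Nat.even_or_odd (Nat.card ↥(stabilizer G a ⊓ stabilizer G b)) with he | ho
  · exact Cfsg.Agent.S0741.result hZ hab he
  · have hKle : Ks ≤ stabilizer G a := fun k hk => mem_stabilizer_iff.mpr ((hK1 k).mp hk).1
    have hKfix : ∀ u ∈ Ks, u ≠ 1 → ∀ c : Ω, u • c = c → c = a := by
      intro u hu hu1 c hc
      rcases ((hK1 u).mp hu).2 with h | h
      · exact absurd h hu1
      · exact h c hc
    have hKc : Nat.card Ks + 1 = Fintype.card Ω := by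
      rw [hKcard, Nat.card_eq_fintype_card]; omega
    rcases Cfsg.Agent.S0885.result hZ hab (Fintype.card Ω - 1) _ (by omega) rfl ho Ks hKle hKc
      hKfix with h | ⟨-, ⟨u, v, huv⟩, -⟩
    · omega
    · exfalso
      apply huv
      apply Subtype.ext
      exact hcomm u v ((hK1 u).mp u.2) ((hK1 v).mp v.2)

/-- abelian kernel and `2 d = n - 1`: the group is simple -/
theorem normal_eq_top_of_half [Finite G] [Fintype Ω] (hZ : Cfsg.IsZassenhausGroup G Ω) {a b : Ω}
    (hab : a ≠ b)
    (h2d : 2 * Nat.card ↥(stabilizer G a ⊓ stabilizer G b) + 2 = Fintype.card Ω)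
    (hcomm : ∀ u v : G, PK a u → PK a v → u * v = v * u)
    (N : Subgroup G) [N.Normal] (hN : N ≠ ⊥) : N = ⊤ := by
  have hZN : Cfsg.IsZassenhausGroup N Ω := Cfsg.Agent.S0339.result hZ N hN
  have hcommN : ∀ u v : N, PK a u → PK a v → u * v = v * u := by
    intro u v hu hv
    apply Subtype.ext
    have hu' : PK a (u : G) := by
      refine ⟨hu.1, ?_⟩
      rcases hu.2 with h | h
      · left; rw [h]; rfl
      · right; exact h
    have hv' : PK a (v : G) := by
      refine ⟨hv.1, ?_⟩
      rcases hv.2 with h | h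
      · left; rw [h]; rfl
      · right; exact h
    exact hcomm u v hu' hv'
  have hineq := ineq_of_comm_kernel hZN hab hcommN
  have c1 := two_trans_card (G := G) hZ.2.1 hab
  have c2 := two_trans_card (G := N) hZN.2.1 hab
  have hle : Nat.card N ≤ Nat.card G := Subgroup.card_le_card_group N
  have hpos : 0 < Fintype.card Ω * (Fintype.card Ω - 1) := by
    have h1 : 1 < Fintype.card Ω := Fintype.one_lt_card_iff.mpr ⟨a, b, hab⟩
    exact Nat.mul_pos (by omega) (by omega)
  rw [c1, c2] at hle
  have hle' := Nat.le_of_mul_le_mul_left hle hpos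
  have heq : Nat.card ↥(stabilizer (↥N) a ⊓ stabilizer (↥N) b) =
      Nat.card ↥(stabilizer G a ⊓ stabilizer G b) := by omega
  apply (Subgroup.card_eq_iff_eq_top N).mp
  rw [c1, c2, heq]

end F

end Cfsg.Agent.Lib.Helper5.ZPsl
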