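/-
helper5: recognition of `PSL(2, K)` as a group of Moebius transformations `x ↦ (a x + b)/(c x + d)`
with `a d - b c = 1` of `K ∪ {∞}` (on top of helper9's Moebius action of `GL(2, K)`).
-/
import Mathlib
import Cfsg.Agent.Lib.Helper9.PGL2Recog

set_option autoImplicit false

namespace Cfsg.Agent.Lib.Helper5.ZPsl

open scoped MatrixGroups
open Matrix Cfsg.Agent.Lib.Helper9.Moeb

section Recog

variable {K : Type*} [Field K]

/-- the Moebius action of `SL(2, K)` on `K ∪ {∞}` -/
noncomputable def slMoeb : SpecialLinearGroup (Fin 2) K →* Equiv.Perm (Option K) :=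
  (moebHom (K := K)).comp Matrix.SpecialLinearGroup.toGL

theorem slMoeb_apply (M : SpecialLinearGroup (Fin 2) K) :
    slMoeb M = moebHom (Matrix.SpecialLinearGroup.toGL M) := rfl

theorem ker_slMoeb :
    (slMoeb (K := K)).ker = Subgroup.center (SpecialLinearGroup (Fin 2) K) := by
  ext M
  rw [MonoidHom.mem_ker, slMoeb_apply, ← Matrix.SpecialLinearGroup.toGL_mem_center_iff,
    ← ker_moebHom, MonoidHom.mem_ker]

/-- upper triangular matrices of determinant one act as `x ↦ a² x + a b` -/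
theorem slMoeb_upper (M : SpecialLinearGroup (Fin 2) K) (h : M.1 1 0 = 0) :
    M.1 0 0 ≠ 0 ∧ slMoeb M none = none ∧
      ∀ x : K, slMoeb M (some x) = some (M.1 0 0 ^ 2 * x + M.1 0 0 * M.1 0 1) := by
  obtain ⟨h00, h11, hnone, hsome⟩ := moeb_upper (Matrix.SpecialLinearGroup.toGL M) h
  have hdet : M.1 0 0 * M.1 1 1 = 1 := by
    have := M.2
    rw [Matrix.det_fin_two, h, mul_zero, sub_zero] at this
    exact this
  refine ⟨h00, hnone, fun x => ?_⟩
  rw [slMoeb_apply, hsome]
  congr 1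
  have h11' : M.1 1 1 ≠ 0 := h11
  change (M.1 0 0 * x + M.1 0 1) / M.1 1 1 = _
  rw [div_eq_iff h11']
  linear_combination (-(M.1 0 0 * x + M.1 0 1)) * hdet

/-- the Weyl element of `SL(2, K)` -/
def wS : SpecialLinearGroup (Fin 2) K :=
  ⟨!![0, -1; 1, 0], by simp [Matrix.det_fin_two]⟩

theorem slMoeb_none (M : SpecialLinearGroup (Fin 2) K) :
    slMoeb M none = cls ![M.1 0 0, M.1 1 0] := by
  rw [slMoeb_apply, moebHom_apply, mulVec_none]
  rfl

theorem slMoeb_some (M : SpecialLinearGroup (Fin 2) K) (x : K) :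
    slMoeb M (some x) = cls ![M.1 0 0 * x + M.1 0 1, M.1 1 0 * x + M.1 1 1] := by
  rw [slMoeb_apply, moebHom_apply, mulVec_some]
  rfl

theorem slMoeb_w_none : slMoeb (wS (K := K)) none = some 0 := by
  rw [slMoeb_none]
  simp [cls, wS]

theorem slMoeb_w_zero : slMoeb (wS (K := K)) (some 0) = none := by
  rw [slMoeb_some]
  simp [cls, wS]

theorem slMoeb_w_some (x : K) (hx : x ≠ 0) : slMoeb (wS (K := K)) (some x) = some (-x⁻¹) := by
  rw [slMoeb_some]
  simp [cls, wS, hx, neg_div]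

/-- upper triangular matrix of determinant one -/
def upS (a b : K) (ha : a ≠ 0) : SpecialLinearGroup (Fin 2) K :=
  ⟨!![a, b; 0, a⁻¹], by simp [Matrix.det_fin_two, ha]⟩

theorem upS_10 (a b : K) (ha : a ≠ 0) : (upS a b ha).1 1 0 = 0 := by simp [upS]
theorem upS_00 (a b : K) (ha : a ≠ 0) : (upS a b ha).1 0 0 = a := by simp [upS]
theorem upS_01 (a b : K) (ha : a ≠ 0) : (upS a b ha).1 0 1 = b := by simp [upS]

theorem slMoeb_upS (a b : K) (ha : a ≠ 0) :
    slMoeb (upS a b ha) none = none ∧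
      ∀ x : K, slMoeb (upS a b ha) (some x) = some (a ^ 2 * x + a * b) := by
  obtain ⟨-, h1, h2⟩ := slMoeb_upper (upS a b ha) (upS_10 a b ha)
  refine ⟨h1, fun x => ?_⟩
  rw [h2, upS_00, upS_01]

/-- Bruhat decomposition in `SL(2, K)` -/
theorem bruhatS (M : SpecialLinearGroup (Fin 2) K) (h : M.1 1 0 ≠ 0) :
    ∃ U B : SpecialLinearGroup (Fin 2) K, U.1 1 0 = 0 ∧ B.1 1 0 = 0 ∧ M = U * wS * B := by
  have hd : M.1 0 0 * M.1 1 1 - M.1 0 1 * M.1 1 0 = 1 := by
    have := M.2
    rw [Matrix.det_fin_two] at this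
    exact this
  refine ⟨upS 1 (M.1 0 0 / M.1 1 0) one_ne_zero, upS (M.1 1 0) (M.1 1 1) h, upS_10 _ _ _,
    upS_10 _ _ _, ?_⟩
  apply Subtype.ext
  rw [Matrix.SpecialLinearGroup.coe_mul, Matrix.SpecialLinearGroup.coe_mul]
  ext i j
  fin_cases i <;> fin_cases j
  · simp [upS, wS, Matrix.mul_apply, Fin.sum_univ_two]
    field_simp
  · simp [upS, wS, Matrix.mul_apply, Fin.sum_univ_two]
    field_simp
    linear_combination (-1 : K) * hd
  · simp [upS, wS, Matrix.mul_apply, Fin.sum_univ_two]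
  · simp [upS, wS, Matrix.mul_apply, Fin.sum_univ_two]

variable {G α : Type*} [Group G] [MulAction G α] [FaithfulSMul G α]

/-- **Recognition of `PSL(2, K)`**: a group acting faithfully on `α ≃ K ∪ {∞}`, containing the
maps `x ↦ a² x + b` and `x ↦ -1/x`, whose stabiliser of `∞` consists of maps `x ↦ a² x + b`, is
isomorphic to `PSL(2, K)`. -/
theorem psl2_of_moebius (e : Option K ≃ α)
    (haff : ∀ a b : K, a ≠ 0 → ∃ g : G, g • e none = e none ∧
      ∀ x : K, g • e (some x) = e (some (a ^ 2 * x + b)))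
    (hinv : ∃ t : G, t • e none = e (some 0) ∧ t • e (some 0) = e none ∧
      ∀ x : K, x ≠ 0 → t • e (some x) = e (some (-x⁻¹)))
    (hstab : ∀ g : G, g • e none = e none → ∃ a b : K, a ≠ 0 ∧
      ∀ x : K, g • e (some x) = e (some (a ^ 2 * x + b))) :
    Nonempty (G ≃* Matrix.ProjectiveSpecialLinearGroup (Fin 2) K) := by
  let Ψ : G →* Equiv.Perm (Option K) :=
    (e.symm.permCongrHom).toMonoidHom.comp (MulAction.toPermHom G α)
  have hΨ : ∀ (g : G) (y : Option K), Ψ g y = e.symm (g • e y) := fun g y => rfl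
  have hΨinj : Function.Injective Ψ := by
    intro g g' hgg
    apply MulAction.toPerm_injective (α := G) (β := α)
    exact (e.symm.permCongrHom).injective hgg
  -- elements fixing ∞
  have h1 : ∀ g : G, g • e none = e none → Ψ g ∈ (slMoeb (K := K)).range := by
    intro g hg
    obtain ⟨a, b, ha, hx⟩ := hstab g hg
    obtain ⟨m1, m2⟩ := slMoeb_upS a (b / a) ha
    refine ⟨upS a (b / a) ha, ?_⟩
    apply Equiv.ext
    intro y
    cases y with
    | none => rw [m1, hΨ, hg, Equiv.symm_apply_apply]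
    | some x =>
      rw [m2, hΨ, hx, Equiv.symm_apply_apply]
      congr 2
      field_simp
  obtain ⟨t, ht1, ht2, ht3⟩ := hinv
  have h2 : Ψ t = slMoeb (wS (K := K)) := by
    apply Equiv.ext
    intro y
    cases y with
    | none => rw [slMoeb_w_none, hΨ, ht1, Equiv.symm_apply_apply]
    | some x =>
      by_cases hx : x = 0
      · subst hx
        rw [slMoeb_w_zero, hΨ, ht2, Equiv.symm_apply_apply]
      · rw [slMoeb_w_some x hx, hΨ, ht3 x hx, Equiv.symm_apply_apply]
  have h2' : Ψ t ∈ (slMoeb (K := K)).range := ⟨wS, h2.symm⟩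
  have h3 : ∀ g : G, Ψ g ∈ (slMoeb (K := K)).range := by
    intro g
    by_cases hg : g • e none = e none
    · exact h1 g hg
    · obtain ⟨y, hy⟩ := e.surjective (g • e none)
      cases y with
      | none => exact absurd hy.symm hg
      | some b =>
        obtain ⟨n, hn1, hn2⟩ := haff 1 b one_ne_zero
        have hn0 : n • e (some 0) = e (some b) := by rw [hn2]; simp
        have hg' : (t * n⁻¹ * g) • e none = e none := by
          rw [mul_smul, mul_smul, ← hy, ← hn0, inv_smul_smul, ht2]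
        have e1 : Ψ g = Ψ n * (Ψ t)⁻¹ * Ψ (t * n⁻¹ * g) := by
          rw [← map_inv, ← map_mul, ← map_mul]
          congr 1
          group
        rw [e1]
        exact Subgroup.mul_mem _ (Subgroup.mul_mem _ (h1 n hn1) (Subgroup.inv_mem _ h2')) (h1 _ hg')
  -- conversely
  have h4 : ∀ M : SpecialLinearGroup (Fin 2) K, M.1 1 0 = 0 → slMoeb M ∈ Ψ.range := by
    intro M hM
    obtain ⟨h00, hnone, hsome⟩ := slMoeb_upper M hM
    obtain ⟨g, hg1, hg2⟩ := haff (M.1 0 0) (M.1 0 0 * M.1 0 1) h00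
    refine ⟨g, ?_⟩
    apply Equiv.ext
    intro y
    cases y with
    | none => rw [hnone, hΨ, hg1, Equiv.symm_apply_apply]
    | some x => rw [hsome, hΨ, hg2, Equiv.symm_apply_apply]
  have h5 : slMoeb (wS (K := K)) ∈ Ψ.range := ⟨t, h2⟩
  have h6 : ∀ M : SpecialLinearGroup (Fin 2) K, slMoeb M ∈ Ψ.range := by
    intro M
    by_cases hM : M.1 1 0 = 0
    · exact h4 M hM
    · obtain ⟨U, B, hU, hB, rfl⟩ := bruhatS M hM
      rw [map_mul, map_mul]
      exact Subgroup.mul_mem _ (Subgroup.mul_mem _ (h4 U hU) h5) (h4 B hB)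
  have hrange : Ψ.range = (slMoeb (K := K)).range := by
    apply le_antisymm
    · rintro _ ⟨g, rfl⟩
      exact h3 g
    · rintro _ ⟨M, rfl⟩
      exact h6 M
  have e1 : G ≃* Ψ.range := MonoidHom.ofInjective hΨinj
  have e2 : Ψ.range ≃* (slMoeb (K := K)).range := MulEquiv.subgroupCongr hrange
  have e3 : SpecialLinearGroup (Fin 2) K ⧸ (slMoeb (K := K)).ker ≃* (slMoeb (K := K)).range :=
    QuotientGroup.quotientKerEquivRange _
  have e4 : SpecialLinearGroup (Fin 2) K ⧸ (slMoeb (K := K)).ker ≃*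
      SpecialLinearGroup (Fin 2) K ⧸ Subgroup.center (SpecialLinearGroup (Fin 2) K) :=
    QuotientGroup.quotientMulEquivOfEq ker_slMoeb
  exact ⟨((e1.trans e2).trans e3.symm).trans e4⟩

end Recog

end Cfsg.Agent.Lib.Helper5.ZPsl
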