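/-
helper5: Zassenhaus groups with `2 d = n - 1`, `d` odd, in which elements interchanging two points
invert their stabiliser: isomorphic to `PSL(2, q)`, `q ≡ 3 mod 4`.
-/
import Mathlib
import Cfsg.Prelude.Def_LieExceptional
import Cfsg.Agent.Lib.Helper5.ZPslC
import Cfsg.Agent.Lib.Helper5.ZPslE
import Cfsg.Agent.Lib.Helper5.ZPslF

set_option autoImplicit false
set_option linter.unusedSectionVars false

namespace Cfsg.Agent.Lib.Helper5.ZPsl

open Cfsg MulAction Cfsg.Agent.Lib.Helper5.Zass Cfsg.Agent.Lib.Helper5.ZassOdd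

section G

variable {G Ω : Type*} [Group G] [MulAction G Ω]

/-- coordinates, core version: only `2 d + 2 = |Ω|` and the inversion property are used -/
theorem exists_coord_core [Finite G] [Fintype Ω] (hZ : Cfsg.IsZassenhausGroup G Ω) {a b : Ω}
    (hab : a ≠ b)
    (h2d : 2 * Nat.card ↥(MulAction.stabilizer G a ⊓ MulAction.stabilizer G b) + 2 =
      Fintype.card Ω)
    (hinvt : ∀ g : G, g • a = b → g • b = a → ∀ h : G, h • a = a → h • b = b →
      g * h * g⁻¹ = h⁻¹) :
    ∃ (K : Type) (_ : Field K) (_ : Fintype K) (e : Option K ≃ Ω),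
      Fintype.card K + 1 = Fintype.card Ω ∧
      Fintype.card K = 2 * Nat.card ↥(MulAction.stabilizer G a ⊓ MulAction.stabilizer G b) + 1 ∧
      e none = a ∧ e (some 0) = b ∧
      (∀ c : K, ∃ g : G, g • a = a ∧ ∀ x : K, g • e (some x) = e (some (x + c))) ∧
      (∀ s : K, s ≠ 0 → IsSquare s → ∃ g : G, g • a = a ∧ g • b = b ∧
        ∀ x : K, g • e (some x) = e (some (s * x))) ∧
      (∀ g : G, g • a = a → ∃ s c : K, s ≠ 0 ∧ IsSquare s ∧
        ∀ x : K, g • e (some x) = e (some (s * x + c))) := by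
  classical
  obtain ⟨Ks, hK1, hK2, hK3, hK4⟩ := zass_kernel hZ a
  have hKcard := zass_kernel_card hZ a Ks hK1 hK3
  have hZ' := hZ
  obtain ⟨hfaith, h2, h3, h4, h5⟩ := hZ
  obtain ⟨d, hddef⟩ : ∃ d : ℕ, d = Nat.card ↥(stabilizer G a ⊓ stabilizer G b) := ⟨_, rfl⟩
  have hdpos : 0 < d := by rw [hddef]; exact Nat.card_pos
  rw [← hddef] at h2d
  have h741 : Fintype.card Ω - 2 ≤ 2 * d := by omega
  have hKcard' : Nat.card Ks = 2 * d + 1 := by
    rw [hKcard, Nat.card_eq_fintype_card]; omega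
  have hKa : ∀ k ∈ Ks, k • a = a := fun k hk => ((hK1 k).mp hk).1
  have hKfree : ∀ k ∈ Ks, ∀ y : Ω, y ≠ a → k • y = y → k = 1 := by
    intro k hk y hy hky
    rcases ((hK1 k).mp hk).2 with h | h
    · exact h
    · exact absurd (h y hky) hy
  have hKnorm : ∀ g : G, g • a = a → ∀ k ∈ Ks, g * k * g⁻¹ ∈ Ks := by
    intro g hg k hk
    rw [hK1]
    have hgi : g⁻¹ • a = a := by rw [inv_smul_eq_iff, hg]
    refine ⟨by rw [mul_smul, mul_smul, hgi, hKa k hk, hg], ?_⟩
    by_cases hk1 : k = 1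
    · left; rw [hk1]; group
    · right
      intro c hc
      have h1 : k • (g⁻¹ • c) = g⁻¹ • c := by
        have := congrArg (fun y => g⁻¹ • y) hc
        simp only [← mul_smul] at this
        rw [show g⁻¹ * (g * k * g⁻¹) = k * g⁻¹ by group, mul_smul] at this
        exact this
      by_contra hca
      have hgc : g⁻¹ • c ≠ a := by
        intro h
        apply hca
        rw [← hg, ← h, smul_inv_smul]
      exact hk1 (hKfree k hk _ hgc h1)
  have hFle : Ks ≤ stabilizer G a := fun k hk => mem_stabilizer_iff.mpr (hKa k hk)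
  have hFn : (Ks.subgroupOf (stabilizer G a)).Normal := by
    constructor
    intro n hn g
    rw [Subgroup.mem_subgroupOf] at hn ⊢
    have := hKnorm (g : G) (mem_stabilizer_iff.mp g.2) (n : G) hn
    simpa using this
  have hreg : ∀ y z : Ω, y ≠ a → z ≠ a → ∃! u : Ks, (u : G) • y = z := by
    intro y z hy hz
    obtain ⟨k, hk, hkyz⟩ := hK3 y z hy hz
    refine ⟨⟨k, hk⟩, hkyz, ?_⟩
    intro u hu
    apply Subtype.ext
    have h1 : ((k : G)⁻¹ * (u : G)) • y = y := by rw [mul_smul, hu, ← hkyz, inv_smul_smul]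
    have h2 := hKfree _ (Ks.mul_mem (Ks.inv_mem hk) u.2) y hy h1
    exact (inv_mul_eq_one.mp h2).symm
  have h738 := (Cfsg.Agent.S0738.result hZ' hab (by rw [← hddef]; exact h741) Ks hFle hFn hreg).1
  have hKcomm : ∀ x y : Ks, x * y = y * x := isMulCommutative_iff.mp h738
  have hHmem : ∀ h : G, h ∈ stabilizer G a ⊓ stabilizer G b ↔ h • a = a ∧ h • b = b := by
    intro h; rw [Subgroup.mem_inf, mem_stabilizer_iff, mem_stabilizer_iff]
  have hHnorm : ∀ h ∈ stabilizer G a ⊓ stabilizer G b, ∀ k ∈ Ks, h * k * h⁻¹ ∈ Ks :=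
    fun h hh k hk => hKnorm h ((hHmem h).mp hh).1 k hk
  obtain ⟨t₀, ht₀a, ht₀b⟩ : ∃ t₀ : G, t₀ • a = b ∧ t₀ • b = a :=
    MulAction.is_two_pretransitive_iff.mp h2 hab hab.symm
  have hHcomm : ∀ h h' : ↥(stabilizer G a ⊓ stabilizer G b), h * h' = h' * h := by
    intro h h'
    apply Subtype.ext
    have ha := (hHmem _).mp h.2
    have ha' := (hHmem _).mp h'.2
    have e1 := hinvt t₀ ht₀a ht₀b h ha.1 ha.2
    have e2 := hinvt t₀ ht₀a ht₀b h' ha'.1 ha'.2
    have e3 := hinvt t₀ ht₀a ht₀b ((h : G) * h') (by rw [mul_smul, ha'.1, ha.1])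
      (by rw [mul_smul, ha'.2, ha.2])
    have e4 : t₀ * ((h : G) * h') * t₀⁻¹ = (t₀ * h * t₀⁻¹) * (t₀ * h' * t₀⁻¹) := by group
    rw [e1, e2, e3, mul_inv_rev] at e4
    have := congrArg (·⁻¹) e4
    simp only [mul_inv_rev, inv_inv] at this
    exact this
  have hfreeHK : ∀ h : G, h • a = a → h • b = b → h ≠ 1 → ∀ k ∈ Ks, h * k * h⁻¹ = k → k = 1 := by
    intro h hha hhb hh1 k hk hconj
    by_contra hk1
    have hkb : k • b ≠ b := fun h' => hk1 (hKfree k hk b hab.symm h')
    have hkba : k • b ≠ a := by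
      intro h'
      apply hab
      have := hKa k hk
      rw [← this] at h'
      exact (MulAction.injective k h').symm
    have hcomm : h * k = k * h := mul_inv_eq_iff_eq_mul.mp hconj
    have hfix : h • (k • b) = k • b := by rw [← mul_smul, hcomm, mul_smul, hhb]
    exact hh1 (h3 h a b (k • b) hab (Ne.symm hkb) (Ne.symm hkba) hha hhb hfix)
  -- a non-identity element of the kernel
  haveI : Finite ↥Ks := Subtype.finite
  haveI : Finite ↥(stabilizer G a ⊓ stabilizer G b) := Subtype.finite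
  obtain ⟨k₀, hk₀⟩ : ∃ k₀ : Ks, k₀ ≠ 1 := by
    have h1 : 1 < Nat.card Ks := by rw [hKcard']; omega
    haveI : Nontrivial Ks := Finite.one_lt_card_iff_nontrivial.mp h1
    exact exists_ne 1
  obtain ⟨K, iK, fK, ψ, hψbij, hψadd, -, hKc, hsq1, hsq2⟩ :=
    field_of_half_mul hKcomm (conjAut Ks (stabilizer G a ⊓ stabilizer G b) hHnorm) hHcomm
      (by
        intro h hh x hx
        apply Subtype.ext
        have hh' := (hHmem _).mp h.2
        refine hfreeHK (h : G) hh'.1 hh'.2 (fun h1 => hh (Subtype.ext h1)) (x : G) x.2 ?_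
        have := congrArg Subtype.val hx
        rw [conjAut_apply] at this
        exact this)
      (by rw [← hddef, hKcard']) k₀ hk₀
  rw [← hddef] at hKc
  have hψ0 : ψ 0 = 1 := by
    have : ψ 0 * ψ 0 = ψ 0 * 1 := by rw [mul_one, ← hψadd, add_zero]
    exact mul_left_cancel this
  -- the bijection
  let f : Option K → Ω := fun o => match o with
    | none => a
    | some x => ((ψ x : Ks) : G) • b
  have hfinj : Function.Injective f := by
    intro o o' hoo
    cases o with
    | none =>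
      cases o' with
      | none => rfl
      | some x' =>
        exfalso
        have h1 : a = ((ψ x' : Ks) : G) • b := hoo
        apply hab
        have := hKa _ (ψ x').2
        rw [← this] at h1
        exact MulAction.injective _ h1
    | some x =>
      cases o' with
      | none =>
        exfalso
        have h1 : ((ψ x : Ks) : G) • b = a := hoo
        apply hab
        have := hKa _ (ψ x).2
        rw [← this] at h1
        exact (MulAction.injective _ h1).symm
      | some x' =>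
        have h1 : ((ψ x : Ks) : G) • b = ((ψ x' : Ks) : G) • b := hoo
        have h2 : (((ψ x' : Ks) : G)⁻¹ * ((ψ x : Ks) : G)) • b = b := by
          rw [mul_smul, h1, inv_smul_smul]
        have h3 := hKfree _ (Ks.mul_mem (Ks.inv_mem (ψ x').2) (ψ x).2) b hab.symm h2
        have h4 : ψ x = ψ x' := Subtype.ext (inv_mul_eq_one.mp h3).symm
        rw [hψbij.1 h4]
  have hfsurj : Function.Surjective f := by
    intro y
    by_cases hy : y = a
    · exact ⟨none, hy.symm⟩
    · obtain ⟨k, hk, hky⟩ := hK3 b y hab.symm hy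
      obtain ⟨x, hx⟩ := hψbij.2 ⟨k, hk⟩
      refine ⟨some x, ?_⟩
      change ((ψ x : Ks) : G) • b = y
      rw [hx]
      exact hky
  let e : Option K ≃ Ω := Equiv.ofBijective f ⟨hfinj, hfsurj⟩
  have he_none : e none = a := rfl
  have he_some : ∀ x : K, e (some x) = ((ψ x : Ks) : G) • b := fun x => rfl
  -- action of the two-point stabiliser
  have hHact : ∀ (h : G) (hh : h ∈ stabilizer G a ⊓ stabilizer G b) (s : K),
      (∀ x : K, conjAut Ks (stabilizer G a ⊓ stabilizer G b) hHnorm ⟨h, hh⟩ (ψ x) = ψ (s * x)) →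
      ∀ x : K, h • e (some x) = e (some (s * x)) := by
    intro h hh s hs x
    have hh' := (hHmem _).mp hh
    have hib : h⁻¹ • b = b := by rw [inv_smul_eq_iff, hh'.2]
    rw [he_some, he_some, ← hs x, conjAut_apply]
    change h • ((ψ x : Ks) : G) • b = (h * ((ψ x : Ks) : G) * h⁻¹) • b
    rw [mul_smul, mul_smul, hib]
  refine ⟨K, iK, fK, e, ?_, ?_, he_none, ?_, ?_, ?_, ?_⟩
  · rw [hKc]; omega
  · rw [hKc, hddef]
  · rw [he_some, hψ0]
    exact one_smul _ _
  · intro c
    refine ⟨((ψ c : Ks) : G), hKa _ (ψ c).2, fun x => ?_⟩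
    rw [he_some, he_some, ← mul_smul, add_comm, hψadd]
    rfl
  · intro s hs0 hsq
    obtain ⟨h, hh⟩ := hsq2 s hs0 hsq
    have hh' := (hHmem _).mp h.2
    exact ⟨(h : G), hh'.1, hh'.2, hHact (h : G) h.2 s hh⟩
  · intro g hg
    obtain ⟨k, hk, h, hha, hhb, rfl⟩ := hK2 b hab.symm g hg
    have hhH : h ∈ stabilizer G a ⊓ stabilizer G b := (hHmem h).mpr ⟨hha, hhb⟩
    obtain ⟨s, hs0, hsq, hs⟩ := hsq1 ⟨h, hhH⟩
    obtain ⟨c, hc⟩ := hψbij.2 ⟨k, hk⟩
    refine ⟨s, c, hs0, hsq, fun x => ?_⟩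
    rw [mul_smul, hHact h hhH s hs x, he_some, he_some, add_comm, hψadd, hc, ← mul_smul]
    rfl


/-- the odd case of Zassenhaus' theorem (given the inversion property) -/
theorem psl_of_half_odd [Finite G] [Fintype Ω] (hZ : Cfsg.IsZassenhausGroup G Ω) {a b : Ω}
    (hab : a ≠ b)
    (hodd : Odd (Nat.card ↥(MulAction.stabilizer G a ⊓ MulAction.stabilizer G b)))
    (h2d : 2 * Nat.card ↥(MulAction.stabilizer G a ⊓ MulAction.stabilizer G b) + 2 =
      Fintype.card Ω)
    (hinvt : ∀ g : G, g • a = b → g • b = a → ∀ h : G, h • a = a → h • b = b →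
      g * h * g⁻¹ = h⁻¹) :
    ∃ (K : Type) (_ : Field K) (_ : Fintype K), ringChar K ≠ 2 ∧
      Nonempty (G ≃* Matrix.ProjectiveSpecialLinearGroup (Fin 2) K) := by
  classical
  obtain ⟨K, iK, fK, e, hc1, hcK, he1, he2, hT, hM, hB⟩ := exists_coord_core hZ hab h2d hinvt
  obtain ⟨d, hddef⟩ : ∃ d : ℕ, d = Nat.card ↥(stabilizer G a ⊓ stabilizer G b) := ⟨_, rfl⟩
  rw [← hddef] at hodd h2d hcK
  haveI hfaith : FaithfulSMul G Ω := hZ.1
  have h2 := hZ.2.1
  -- swappers are involutions
  have hswsq : ∀ g : G, g • a = b → g • b = a → g * g = 1 := by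
    intro g hga hgb
    have hgga : (g * g) • a = a := by rw [mul_smul, hga, hgb]
    have hggb : (g * g) • b = b := by rw [mul_smul, hgb, hga]
    have h1 := hinvt g hga hgb (g * g) hgga hggb
    have h3 : g * (g * g) * g⁻¹ = g * g := by group
    rw [h3] at h1
    have h4 : (g * g) ^ 2 = 1 := by
      rw [pow_two]
      nth_rewrite 2 [h1]
      exact mul_inv_cancel _
    have hmem : g * g ∈ stabilizer G a ⊓ stabilizer G b :=
      Subgroup.mem_inf.mpr ⟨mem_stabilizer_iff.mpr hgga, mem_stabilizer_iff.mpr hggb⟩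
    have h5 : orderOf (g * g) ∣ d := by
      rw [hddef]
      have := orderOf_dvd_natCard (⟨g * g, hmem⟩ : ↥(stabilizer G a ⊓ stabilizer G b))
      rwa [Subgroup.orderOf_mk] at this
    have h6 : orderOf (g * g) ∣ 2 := orderOf_dvd_of_pow_eq_one h4
    rcases (Nat.dvd_prime Nat.prime_two).mp h6 with h | h
    · exact orderOf_eq_one_iff.mp h
    · rw [h] at h5
      obtain ⟨m, hm⟩ := hodd
      omega
  obtain ⟨t₀, ht₀a, ht₀b⟩ : ∃ t₀ : G, t₀ • a = b ∧ t₀ • b = a :=
    MulAction.is_two_pretransitive_iff.mp h2 hab hab.symm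
  have hchar : ringChar K ≠ 2 := by
    intro h
    have := FiniteField.even_card_of_char_two h
    omega
  have hmod : Fintype.card K % 4 = 3 := by
    obtain ⟨m, hm⟩ := hodd
    omega
  have hneg1 : ¬ IsSquare (-1 : K) := by
    rw [FiniteField.isSquare_neg_one_iff]
    exact fun h => h hmod
  have hm1 : (-1 : K) ≠ 0 := neg_ne_zero.mpr one_ne_zero
  have hnegsq : ∀ y : K, ¬ IsSquare y → IsSquare (-y) := by
    intro y hy
    have hy0 : y ≠ 0 := by rintro rfl; exact hy ⟨0, by ring⟩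
    have h1 := FiniteField.pow_dichotomy hchar hy0
    have h2' := FiniteField.pow_dichotomy hchar hm1
    have h1' : y ^ (Fintype.card K / 2) = -1 := by
      rcases h1 with h | h
      · exact absurd ((FiniteField.isSquare_iff hchar hy0).mpr h) hy
      · exact h
    have h2'' : (-1 : K) ^ (Fintype.card K / 2) = -1 := by
      rcases h2' with h | h
      · exact absurd ((FiniteField.isSquare_iff hchar hm1).mpr h) hneg1
      · exact h
    rw [FiniteField.isSquare_iff hchar (neg_ne_zero.mpr hy0), neg_eq_neg_one_mul, mul_pow, h1',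
      h2'']
    norm_num
  have hsome : ∀ x y : K, e (some x) = e (some y) → x = y :=
    fun x y h => Option.some_injective _ (e.injective h)
  have hsn : ∀ x : K, e (some x) ≠ e none := fun x h => Option.some_ne_none x (e.injective h)
  -- point stabilisers have odd order
  have hstabodd : ∀ c : Ω, Odd (Nat.card (stabilizer G c)) := by
    intro c
    haveI : IsPretransitive G Ω := MulAction.isPretransitive_of_is_two_pretransitive (h2 := h2)
    have h1 := Subgroup.card_mul_index (stabilizer G c)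
    rw [MulAction.index_stabilizer_of_transitive G c, Nat.card_eq_fintype_card (α := Ω),
      two_trans_card h2 hab, ← hddef, ← h2d] at h1
    have h3 : Nat.card (stabilizer G c) = (2 * d + 1) * d := by
      have h4 : Nat.card ↥(stabilizer G c) * (2 * d + 2) = ((2 * d + 1) * d) * (2 * d + 2) := by
        rw [h1]
        have : 2 * d + 2 - 1 = 2 * d + 1 := by omega
        rw [this]; ring
      exact Nat.eq_of_mul_eq_mul_right (by omega) h4
    rw [h3]
    exact (odd_two_mul_add_one d).mul hodd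
  -- the image of `1` under `t₀`
  obtain ⟨y₁, hy₁0, hy₁⟩ : ∃ y₁ : K, y₁ ≠ 0 ∧ t₀ • e (some 1) = e (some y₁) := by
    obtain ⟨o, ho⟩ := e.surjective (t₀ • e (some 1))
    cases o with
    | none =>
      exfalso
      rw [he1, ← ht₀b, ← he2] at ho
      exact one_ne_zero (hsome _ _ (MulAction.injective t₀ ho)).symm
    | some y =>
      refine ⟨y, ?_, ho.symm⟩
      rintro rfl
      rw [he2, ← ht₀a, ← he1] at ho
      exact hsn 1 (MulAction.injective t₀ ho).symm
  have hy₁ns : ¬ IsSquare (y₁⁻¹) := by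
    intro hsq
    have hs0 : y₁⁻¹ ≠ 0 := inv_ne_zero hy₁0
    obtain ⟨h, hha, hhb, hh⟩ := hM y₁⁻¹ hs0 hsq
    have hua : (h * t₀) • a = b := by rw [mul_smul, ht₀a, hhb]
    have hub : (h * t₀) • b = a := by rw [mul_smul, ht₀b, hha]
    have huc : (h * t₀) • e (some 1) = e (some 1) := by
      rw [mul_smul, hy₁, hh, inv_mul_cancel₀ hy₁0]
    have hu2 := hswsq _ hua hub
    have hu1 : h * t₀ ≠ 1 := by
      intro h1
      rw [h1, one_smul] at hua
      exact hab hua
    have ho : orderOf (h * t₀) = 2 := orderOf_eq_prime (by rw [pow_two]; exact hu2) hu1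
    have hmem : h * t₀ ∈ stabilizer G (e (some 1)) := mem_stabilizer_iff.mpr huc
    have hdvd : 2 ∣ Nat.card (stabilizer G (e (some 1))) := by
      rw [← ho]
      have := orderOf_dvd_natCard (⟨h * t₀, hmem⟩ : ↥(stabilizer G (e (some 1))))
      rwa [Subgroup.orderOf_mk] at this
    have := hstabodd (e (some 1))
    rw [Nat.odd_iff] at this
    omega
  -- normalisation
  have hs₁ : IsSquare (-y₁⁻¹) := hnegsq _ hy₁ns
  have hs₁0 : -y₁⁻¹ ≠ 0 := neg_ne_zero.mpr (inv_ne_zero hy₁0)
  obtain ⟨h₁, hh₁a, hh₁b, hh₁⟩ := hM (-y₁⁻¹) hs₁0 hs₁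
  obtain ⟨t, htdef⟩ : ∃ t : G, t = h₁ * t₀ := ⟨_, rfl⟩
  have hta : t • a = b := by rw [htdef, mul_smul, ht₀a, hh₁b]
  have htb : t • b = a := by rw [htdef, mul_smul, ht₀b, hh₁a]
  have ht1 : t • e (some 1) = e (some (-1)) := by
    rw [htdef, mul_smul, hy₁, hh₁, neg_mul, inv_mul_cancel₀ hy₁0]
  have htt : t * t = 1 := hswsq t hta htb
  have hte1 : t • e none = e (some 0) := by rw [he1, he2]; exact hta
  have hte2 : t • e (some 0) = e none := by rw [he1, he2]; exact htb
  -- τ
  have hex : ∀ x : K, ∃ y : K, x ≠ 0 → (y ≠ 0 ∧ t • e (some x) = e (some y)) := by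
    intro x
    by_cases hx : x = 0
    · exact ⟨0, fun h => absurd hx h⟩
    · obtain ⟨o, ho⟩ := e.surjective (t • e (some x))
      cases o with
      | none =>
        exfalso
        rw [← hte2] at ho
        exact hx (hsome _ _ (MulAction.injective t ho)).symm
      | some y =>
        refine ⟨y, fun _ => ⟨?_, ho.symm⟩⟩
        rintro rfl
        rw [← hte1] at ho
        exact hsn x (MulAction.injective t ho).symm
  choose τ hτ using hex
  have hτ0 : ∀ x, x ≠ 0 → τ x ≠ 0 := fun x hx => (hτ x hx).1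
  have hτt : ∀ x, x ≠ 0 → t • e (some x) = e (some (τ x)) := fun x hx => (hτ x hx).2
  have hττ : ∀ x, x ≠ 0 → τ (τ x) = x := by
    intro x hx
    apply hsome
    rw [← hτt (τ x) (hτ0 x hx), ← hτt x hx, ← mul_smul, htt, one_smul]
  have hτs : ∀ s x : K, s ≠ 0 → IsSquare s → x ≠ 0 → τ (s * x) = s⁻¹ * τ x := by
    intro s x hs hsq hx
    obtain ⟨h, hha, hhb, hh2⟩ := hM s hs hsq
    have h1 := hinvt t hta htb h hha hhb
    have h2' : t * h = h⁻¹ * t := mul_inv_eq_iff_eq_mul.mp h1
    apply hsome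
    have hsx : s * x ≠ 0 := mul_ne_zero hs hx
    rw [← hτt (s * x) hsx, ← hh2 x, ← mul_smul, h2', mul_smul, hτt x hx, inv_smul_eq_iff, hh2,
      mul_inv_cancel_left₀ hs]
  have hτ1 : τ 1 = -1 := by
    apply hsome
    rw [← hτt 1 one_ne_zero, ht1]
  have hτsq : ∀ s : K, s ≠ 0 → IsSquare s → τ s = -s⁻¹ := by
    intro s hs hsq
    have := hτs s 1 hs hsq one_ne_zero
    rwa [mul_one, hτ1, mul_neg, mul_one] at this
  have hτall : ∀ x : K, x ≠ 0 → τ x = -x⁻¹ := by
    intro x hx
    by_cases hsq : IsSquare x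
    · exact hτsq x hx hsq
    · have hinvns : ¬ IsSquare x⁻¹ := by
        rintro ⟨r, hr⟩
        apply hsq
        refine ⟨r⁻¹, ?_⟩
        rw [← mul_inv, ← hr, inv_inv]
      have hs := hnegsq _ hinvns
      have hs0 : -x⁻¹ ≠ 0 := neg_ne_zero.mpr (inv_ne_zero hx)
      have h1 := hτsq _ hs0 hs
      rw [inv_neg, inv_inv, neg_neg] at h1
      calc τ x = τ (τ (-x⁻¹)) := by rw [h1]
        _ = -x⁻¹ := hττ _ hs0
  have hrec := psl2_of_moebius (G := G) e
    (by
      intro a' b' ha'
      obtain ⟨m, hm1', hm2, hm3⟩ := hM (a' ^ 2) (pow_ne_zero 2 ha') ⟨a', sq a'⟩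
      obtain ⟨k, hk1, hk2⟩ := hT b'
      refine ⟨k * m, ?_, fun x => ?_⟩
      · rw [mul_smul, he1, hm1', hk1]
      · rw [mul_smul, hm3, hk2])
    ⟨t, hte1, hte2, fun x hx => by rw [hτt x hx, hτall x hx]⟩
    (by
      intro g hg
      rw [he1] at hg
      obtain ⟨s, c, hs0, ⟨r, hr⟩, hsc⟩ := hB g hg
      have hr0 : r ≠ 0 := by
        rintro rfl
        exact hs0 (by rw [hr, mul_zero])
      refine ⟨r, c, hr0, fun x => ?_⟩
      rw [hsc, hr, sq])
  exact ⟨K, iK, fK, hchar, hrec⟩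

end G

end Cfsg.Agent.Lib.Helper5.ZPsl
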