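/-
helper5: the functional equation argument of Zassenhaus' theorem. A group acting on `K ∪ {∞}`
(`K` a finite field with `|K| ≡ 1 mod 4`) whose stabiliser of `∞` consists of the maps
`x ↦ s x + c` (`s` a non-zero square), such that elements interchanging `0` and `∞` are
involutions inverting the stabiliser of `0, ∞`, and every `x ≠ 0` is fixed by such an element:
then some element acts as `x ↦ 1/x`.
-/
import Mathlib

set_option autoImplicit false

namespace Cfsg.Agent.Lib.Helper5.ZPsl

section FE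

variable {K : Type*} [Field K] [Fintype K]

/-- a non-zero square `x` with `x + 1` a non-square -/
theorem exists_sq_add_one_nonsq (hchar : ringChar K ≠ 2) :
    ∃ x : K, x ≠ 0 ∧ IsSquare x ∧ ¬ IsSquare (x + 1) := by
  classical
  by_contra hcon
  push Not at hcon
  obtain ⟨ν, hν⟩ := FiniteField.exists_nonsquare hchar
  have hodd : Fintype.card K % 2 = 1 := FiniteField.odd_card_of_char_ne_two hchar
  have hf2 : (Polynomial.X ^ 2 : Polynomial K).degree = 2 := by
    rw [Polynomial.degree_X_pow]; rfl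
  have hg2 : (Polynomial.X ^ 2 - Polynomial.C ν : Polynomial K).degree = 2 := by
    rw [Polynomial.degree_X_pow_sub_C (by norm_num) ν]; rfl
  obtain ⟨a, b, hab⟩ := FiniteField.exists_root_sum_quadratic hf2 hg2 hodd
  simp only [Polynomial.eval_pow, Polynomial.eval_X, Polynomial.eval_sub, Polynomial.eval_C] at hab
  have hν' : ν = a ^ 2 + b ^ 2 := by linear_combination -hab
  apply hν
  by_cases hb : b = 0
  · rw [hν', hb]; exact ⟨a, by ring⟩
  · have h1 : IsSquare ((a / b) ^ 2 + 1) := by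
      by_cases ha : a = 0
      · rw [ha, zero_div, zero_pow two_ne_zero, zero_add]
        exact ⟨1, (mul_one 1).symm⟩
      · exact hcon _ (pow_ne_zero 2 (div_ne_zero ha hb)) ⟨a / b, by ring⟩
    obtain ⟨r, hr⟩ := h1
    rw [hν']
    refine ⟨b * r, ?_⟩
    have : a ^ 2 + b ^ 2 = b ^ 2 * ((a / b) ^ 2 + 1) := by field_simp
    rw [this, hr]; ring

variable {G Ω : Type*} [Group G] [MulAction G Ω]

/-- **the functional equation argument** -/
theorem exists_inversion (e : Option K ≃ Ω) (hcard : Fintype.card K % 4 = 1)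
    (hT : ∀ c : K, ∃ g : G, g • e none = e none ∧ ∀ x : K, g • e (some x) = e (some (x + c)))
    (hM : ∀ s : K, s ≠ 0 → IsSquare s → ∃ g : G, g • e none = e none ∧
      ∀ x : K, g • e (some x) = e (some (s * x)))
    (hB : ∀ g : G, g • e none = e none → ∃ s c : K, s ≠ 0 ∧ IsSquare s ∧
      ∀ x : K, g • e (some x) = e (some (s * x + c)))
    (hinv : ∀ g : G, g • e none = e (some 0) → g • e (some 0) = e none →
      g * g = 1 ∧ ∀ h : G, h • e none = e none → h • e (some 0) = e (some 0) →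
        g * h * g⁻¹ = h⁻¹)
    (hfix : ∀ x : K, x ≠ 0 → ∃ w : G, w • e none = e (some 0) ∧ w • e (some 0) = e none ∧
      w • e (some x) = e (some x)) :
    ∃ t : G, t • e none = e (some 0) ∧ t • e (some 0) = e none ∧
      ∀ x : K, x ≠ 0 → t • e (some x) = e (some x⁻¹) := by
  classical
  have hchar : ringChar K ≠ 2 := by
    intro h
    have := FiniteField.even_card_of_char_two h
    omega
  have hneg1 : IsSquare (-1 : K) := FiniteField.isSquare_neg_one_iff.mpr (by omega)
  have hsome : ∀ x y : K, e (some x) = e (some y) → x = y :=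
    fun x y h => Option.some_injective _ (e.injective h)
  have hsn : ∀ x : K, e (some x) ≠ e none := fun x h => Option.some_ne_none x (e.injective h)
  have hm1 : (-1 : K) ≠ 0 := neg_ne_zero.mpr one_ne_zero
  obtain ⟨t, ht1, ht2, ht3⟩ := hfix 1 one_ne_zero
  obtain ⟨htt, htinv⟩ := hinv t ht1 ht2
  -- τ
  have hex : ∀ x : K, ∃ y : K, x ≠ 0 → (y ≠ 0 ∧ t • e (some x) = e (some y)) := by
    intro x
    by_cases hx : x = 0
    · exact ⟨0, fun h => absurd hx h⟩
    · obtain ⟨o, ho⟩ := e.surjective (t • e (some x))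
      cases o with
      | none =>
        exfalso
        rw [← ht2] at ho
        exact hx (hsome _ _ (MulAction.injective t ho)).symm
      | some y =>
        refine ⟨y, fun _ => ⟨?_, ho.symm⟩⟩
        rintro rfl
        rw [← ht1] at ho
        exact hsn x (MulAction.injective t ho).symm
  choose τ hτ using hex
  have hτ0 : ∀ x, x ≠ 0 → τ x ≠ 0 := fun x hx => (hτ x hx).1
  have hτt : ∀ x, x ≠ 0 → t • e (some x) = e (some (τ x)) := fun x hx => (hτ x hx).2
  have hττ : ∀ x, x ≠ 0 → τ (τ x) = x := by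
    intro x hx
    apply hsome
    rw [← hτt (τ x) (hτ0 x hx), ← hτt x hx, ← mul_smul, htt, one_smul]
  have hτinj : ∀ x y, x ≠ 0 → y ≠ 0 → τ x = τ y → x = y := by
    intro x y hx hy h
    rw [← hττ x hx, ← hττ y hy, h]
  have hτs : ∀ s x : K, s ≠ 0 → IsSquare s → x ≠ 0 → τ (s * x) = s⁻¹ * τ x := by
    intro s x hs hsq hx
    obtain ⟨h, hh1, hh2⟩ := hM s hs hsq
    have hh0 : h • e (some 0) = e (some 0) := by rw [hh2, mul_zero]
    have h1 := htinv h hh1 hh0
    have h2 : t * h = h⁻¹ * t := mul_inv_eq_iff_eq_mul.mp h1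
    apply hsome
    have hsx : s * x ≠ 0 := mul_ne_zero hs hx
    rw [← hτt (s * x) hsx, ← hh2 x, ← mul_smul, h2, mul_smul, hτt x hx, inv_smul_eq_iff, hh2,
      mul_inv_cancel_left₀ hs]
  have hτ1 : τ 1 = 1 := by
    apply hsome
    rw [← hτt 1 one_ne_zero, ht3]
  have hτsq : ∀ s : K, s ≠ 0 → IsSquare s → τ s = s⁻¹ := by
    intro s hs hsq
    have := hτs s 1 hs hsq one_ne_zero
    rwa [mul_one, hτ1, mul_one] at this
  have hτneg : ∀ x : K, x ≠ 0 → τ (-x) = -τ x := by
    intro x hx
    have := hτs (-1) x hm1 hneg1 hx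
    rwa [neg_one_mul, inv_neg_one, neg_one_mul] at this
  have hτm1 : τ (-1) = -1 := by
    have := hτneg 1 one_ne_zero
    rwa [hτ1] at this
  -- the functional equation
  have hFE : ∀ x : K, x ≠ 0 → x + 1 ≠ 0 → τ (τ x + 1) = 1 - τ (x + 1) := by
    intro x hx hx1
    obtain ⟨k, hk1, hk2⟩ := hT 1
    obtain ⟨k', hk'1, hk'2⟩ := hT (-1)
    have hβ1 : (t * k' * t * k * t) • e none = e none := by
      rw [mul_smul, mul_smul, mul_smul, mul_smul, ht1, hk2, zero_add, ht3, hk'2,
        add_neg_cancel, ht2]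
    obtain ⟨s, c, hs0, hsq, hsc⟩ := hB _ hβ1
    have hc : c = -1 := by
      have := hsc 0
      rw [mul_smul, mul_smul, mul_smul, mul_smul, ht2, hk1, ht1, hk'2, zero_add,
        hτt (-1) hm1, hτm1, mul_zero, zero_add] at this
      exact (hsome _ _ this).symm
    have hs : s = -1 := by
      have := hsc (-1)
      rw [mul_smul, mul_smul, mul_smul, mul_smul, hτt (-1) hm1, hτm1,
        hk2, neg_add_cancel, ht2, hk'1, ht1, hc] at this
      have h1 := hsome _ _ this
      linear_combination h1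
    have hτx1 : τ x + 1 ≠ 0 := by
      intro h
      have h1 : τ x = τ (-1) := by rw [hτm1]; linear_combination h
      have h2 := hτinj x (-1) hx hm1 h1
      apply hx1
      rw [h2]; ring
    have := hsc x
    rw [mul_smul, mul_smul, mul_smul, mul_smul, hτt x hx, hk2, hτt _ hτx1, hk'2, hs, hc] at this
    have hne : τ (τ x + 1) + -1 ≠ 0 := by
      intro h
      rw [h, ht2] at this
      exact hsn _ this.symm
    rw [hτt _ hne] at this
    have h1 := hsome _ _ this
    have h2 : τ (τ (τ (τ x + 1) + -1)) = τ (-(x + 1)) := by rw [h1]; congr 1; ring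
    rw [hττ _ hne, hτneg _ hx1] at h2
    linear_combination h2
  -- a non-square of the form `x₀ + 1`
  obtain ⟨x₀, hx₀, hx₀sq, hx₀n⟩ := exists_sq_add_one_nonsq hchar
  obtain ⟨ν, hνdef⟩ : ∃ ν : K, ν = x₀ + 1 := ⟨_, rfl⟩
  rw [← hνdef] at hx₀n
  have hν0 : ν ≠ 0 := by rintro rfl; exact hx₀n ⟨0, by ring⟩
  have hquot : ∀ y : K, ¬ IsSquare y → IsSquare (y / ν) := by
    intro y hy
    have hy0 : y ≠ 0 := by rintro rfl; exact hy ⟨0, by ring⟩
    have h1 := FiniteField.pow_dichotomy hchar hy0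
    have h2 := FiniteField.pow_dichotomy hchar hν0
    rw [FiniteField.isSquare_iff hchar (div_ne_zero hy0 hν0), div_pow]
    have h1' : y ^ (Fintype.card K / 2) = -1 := by
      rcases h1 with h | h
      · exact absurd ((FiniteField.isSquare_iff hchar hy0).mpr h) hy
      · exact h
    have h2' : ν ^ (Fintype.card K / 2) = -1 := by
      rcases h2 with h | h
      · exact absurd ((FiniteField.isSquare_iff hchar hν0).mpr h) hx₀n
      · exact h
    rw [h1', h2']
    norm_num
  obtain ⟨ω, hωdef⟩ : ∃ ω : K, ω = ν * τ ν := ⟨_, rfl⟩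
  have hτnon : ∀ y : K, ¬ IsSquare y → τ y = ω / y := by
    intro y hy
    have hy0 : y ≠ 0 := by rintro rfl; exact hy ⟨0, by ring⟩
    have hq := hquot y hy
    have hq0 : y / ν ≠ 0 := div_ne_zero hy0 hν0
    have := hτs (y / ν) ν hq0 hq hν0
    rw [div_mul_cancel₀ _ hν0] at this
    rw [this, hωdef, inv_div]; ring
  have hω : ω = 1 := by
    have hx₀1 : x₀ + 1 ≠ 0 := by rw [← hνdef]; exact hν0
    have hfe := hFE x₀ hx₀ hx₀1
    rw [hτsq x₀ hx₀ hx₀sq, ← hνdef, hτnon ν hx₀n] at hfe
    have hns : ¬ IsSquare (x₀⁻¹ + 1) := by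
      intro h
      apply hx₀n
      have : ν = (x₀⁻¹ + 1) * x₀ := by
        rw [hνdef, add_mul, inv_mul_cancel₀ hx₀, one_mul, add_comm]
      rw [this]
      exact h.mul hx₀sq
    rw [hτnon _ hns] at hfe
    have h1 : x₀⁻¹ + 1 = ν / x₀ := by
      rw [hνdef, add_div, div_self hx₀, one_div, add_comm]
    rw [h1] at hfe
    have h3 : ω * x₀ - (ν - ω) = ν * (ω / (ν / x₀) - (1 - ω / ν)) := by
      field_simp
    rw [hfe, sub_self, mul_zero] at h3
    have h2 : ω * ν = ν := by rw [hνdef] at h3 ⊢; linear_combination h3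
    exact mul_right_cancel₀ hν0 (by rw [h2, one_mul])
  refine ⟨t, ht1, ht2, fun x hx => ?_⟩
  rw [hτt x hx]
  congr 2
  by_cases hsq : IsSquare x
  · exact hτsq x hx hsq
  · rw [hτnon x hsq, hω, one_div]

end FE

end Cfsg.Agent.Lib.Helper5.ZPsl
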