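/-
helper5: Zassenhaus groups with `2 d + 2 = n` and abelian Frobenius kernel are `PSL(2, K)` with
`|K| + 1 = n` (the variants of `psl_of_half_odd` and of S0731 recording the cardinality of `K`).
-/
import Mathlib
import Cfsg.Prelude.Def_LieExceptional
import Cfsg.Agent.Lib.Helper5.ZPslF
import Cfsg.Agent.Lib.Helper5.ZPslG
import Cfsg.Agent.S0742
import Cfsg.Agent.S0739

set_option autoImplicit false
set_option linter.unusedSectionVars false

namespace Cfsg.Agent.Lib.Helper5.ZPsl

open Cfsg MulAction Cfsg.Agent.Lib.Helper5.Zass Cfsg.Agent.Lib.Helper5.ZassOdd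

section G

variable {G Ω : Type*} [Group G] [MulAction G Ω]

/-- the odd case of Zassenhaus' theorem (given the inversion property), with the cardinality -/
theorem psl_of_half_odd_card [Finite G] [Fintype Ω] (hZ : Cfsg.IsZassenhausGroup G Ω) {a b : Ω}
    (hab : a ≠ b)
    (hodd : Odd (Nat.card ↥(MulAction.stabilizer G a ⊓ MulAction.stabilizer G b)))
    (h2d : 2 * Nat.card ↥(MulAction.stabilizer G a ⊓ MulAction.stabilizer G b) + 2 =
      Fintype.card Ω)
    (hinvt : ∀ g : G, g • a = b → g • b = a → ∀ h : G, h • a = a → h • b = b →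
      g * h * g⁻¹ = h⁻¹) :
    ∃ (K : Type) (_ : Field K) (_ : Fintype K), Fintype.card K + 1 = Fintype.card Ω ∧
      Nonempty (G ≃* Matrix.ProjectiveSpecialLinearGroup (Fin 2) K) := by
  classical
  obtain ⟨K, iK, fK, e, hc1, hcK, he1, he2, hT, hM, hB⟩ := exists_coord_core hZ hab h2d hinvt
  obtain ⟨d, hddef⟩ : ∃ d : ℕ, d = Nat.card ↥(stabilizer G a ⊓ stabilizer G b) := ⟨_, rfl⟩
  rw [← hddef] at hodd h2d hcK
  haveI hfaith : FaithfulSMul G Ω := hZ.1
  have h2 := hZ.2.1
  -- swappers are involutions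
  have hswsq : ∀ g : G, g • a = b → g • b = a → g * g = 1 := by
    intro g hga hgb
    have hgga : (g * g) • a = a := by rw [mul_smul, hga, hgb]
    have hggb : (g * g) • b = b := by rw [mul_smul, hgb, hga]
    have h1 := hinvt g hga hgb (g * g) hgga hggb
    have h3 : g * (g * g) * g⁻¹ = g * g := by group
    rw [h3] at h1
    have h4 : (g * g) ^ 2 = 1 := by
      rw [pow_two]
      nth_rewrite 2 [h1]
      exact mul_inv_cancel _
    have hmem : g * g ∈ stabilizer G a ⊓ stabilizer G b :=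
      Subgroup.mem_inf.mpr ⟨mem_stabilizer_iff.mpr hgga, mem_stabilizer_iff.mpr hggb⟩
    have h5 : orderOf (g * g) ∣ d := by
      rw [hddef]
      have := orderOf_dvd_natCard (⟨g * g, hmem⟩ : ↥(stabilizer G a ⊓ stabilizer G b))
      rwa [Subgroup.orderOf_mk] at this
    have h6 : orderOf (g * g) ∣ 2 := orderOf_dvd_of_pow_eq_one h4
    rcases (Nat.dvd_prime Nat.prime_two).mp h6 with h | h
    · exact orderOf_eq_one_iff.mp h
    · rw [h] at h5
      obtain ⟨m, hm⟩ := hodd
      omega
  obtain ⟨t₀, ht₀a, ht₀b⟩ : ∃ t₀ : G, t₀ • a = b ∧ t₀ • b = a :=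
    MulAction.is_two_pretransitive_iff.mp h2 hab hab.symm
  have hchar : ringChar K ≠ 2 := by
    intro h
    have := FiniteField.even_card_of_char_two h
    omega
  have hmod : Fintype.card K % 4 = 3 := by
    obtain ⟨m, hm⟩ := hodd
    omega
  have hneg1 : ¬ IsSquare (-1 : K) := by
    rw [FiniteField.isSquare_neg_one_iff]
    exact fun h => h hmod
  have hm1 : (-1 : K) ≠ 0 := neg_ne_zero.mpr one_ne_zero
  have hnegsq : ∀ y : K, ¬ IsSquare y → IsSquare (-y) := by
    intro y hy
    have hy0 : y ≠ 0 := by rintro rfl; exact hy ⟨0, by ring⟩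
    have h1 := FiniteField.pow_dichotomy hchar hy0
    have h2' := FiniteField.pow_dichotomy hchar hm1
    have h1' : y ^ (Fintype.card K / 2) = -1 := by
      rcases h1 with h | h
      · exact absurd ((FiniteField.isSquare_iff hchar hy0).mpr h) hy
      · exact h
    have h2'' : (-1 : K) ^ (Fintype.card K / 2) = -1 := by
      rcases h2' with h | h
      · exact absurd ((FiniteField.isSquare_iff hchar hm1).mpr h) hneg1
      · exact h
    rw [FiniteField.isSquare_iff hchar (neg_ne_zero.mpr hy0), neg_eq_neg_one_mul, mul_pow, h1',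
      h2'']
    norm_num
  have hsome : ∀ x y : K, e (some x) = e (some y) → x = y :=
    fun x y h => Option.some_injective _ (e.injective h)
  have hsn : ∀ x : K, e (some x) ≠ e none := fun x h => Option.some_ne_none x (e.injective h)
  -- point stabilisers have odd order
  have hstabodd : ∀ c : Ω, Odd (Nat.card (stabilizer G c)) := by
    intro c
    haveI : IsPretransitive G Ω := MulAction.isPretransitive_of_is_two_pretransitive (h2 := h2)
    have h1 := Subgroup.card_mul_index (stabilizer G c)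
    rw [MulAction.index_stabilizer_of_transitive G c, Nat.card_eq_fintype_card (α := Ω),
      two_trans_card h2 hab, ← hddef, ← h2d] at h1
    have h3 : Nat.card (stabilizer G c) = (2 * d + 1) * d := by
      have h4 : Nat.card ↥(stabilizer G c) * (2 * d + 2) = ((2 * d + 1) * d) * (2 * d + 2) := by
        rw [h1]
        have : 2 * d + 2 - 1 = 2 * d + 1 := by omega
        rw [this]; ring
      exact Nat.eq_of_mul_eq_mul_right (by omega) h4
    rw [h3]
    exact (odd_two_mul_add_one d).mul hodd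
  -- the image of `1` under `t₀`
  obtain ⟨y₁, hy₁0, hy₁⟩ : ∃ y₁ : K, y₁ ≠ 0 ∧ t₀ • e (some 1) = e (some y₁) := by
    obtain ⟨o, ho⟩ := e.surjective (t₀ • e (some 1))
    cases o with
    | none =>
      exfalso
      rw [he1, ← ht₀b, ← he2] at ho
      exact one_ne_zero (hsome _ _ (MulAction.injective t₀ ho)).symm
    | some y =>
      refine ⟨y, ?_, ho.symm⟩
      rintro rfl
      rw [he2, ← ht₀a, ← he1] at ho
      exact hsn 1 (MulAction.injective t₀ ho).symm
  have hy₁ns : ¬ IsSquare (y₁⁻¹) := by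
    intro hsq
    have hs0 : y₁⁻¹ ≠ 0 := inv_ne_zero hy₁0
    obtain ⟨h, hha, hhb, hh⟩ := hM y₁⁻¹ hs0 hsq
    have hua : (h * t₀) • a = b := by rw [mul_smul, ht₀a, hhb]
    have hub : (h * t₀) • b = a := by rw [mul_smul, ht₀b, hha]
    have huc : (h * t₀) • e (some 1) = e (some 1) := by
      rw [mul_smul, hy₁, hh, inv_mul_cancel₀ hy₁0]
    have hu2 := hswsq _ hua hub
    have hu1 : h * t₀ ≠ 1 := by
      intro h1
      rw [h1, one_smul] at hua
      exact hab hua
    have ho : orderOf (h * t₀) = 2 := orderOf_eq_prime (by rw [pow_two]; exact hu2) hu1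
    have hmem : h * t₀ ∈ stabilizer G (e (some 1)) := mem_stabilizer_iff.mpr huc
    have hdvd : 2 ∣ Nat.card (stabilizer G (e (some 1))) := by
      rw [← ho]
      have := orderOf_dvd_natCard (⟨h * t₀, hmem⟩ : ↥(stabilizer G (e (some 1))))
      rwa [Subgroup.orderOf_mk] at this
    have := hstabodd (e (some 1))
    rw [Nat.odd_iff] at this
    omega
  -- normalisation
  have hs₁ : IsSquare (-y₁⁻¹) := hnegsq _ hy₁ns
  have hs₁0 : -y₁⁻¹ ≠ 0 := neg_ne_zero.mpr (inv_ne_zero hy₁0)
  obtain ⟨h₁, hh₁a, hh₁b, hh₁⟩ := hM (-y₁⁻¹) hs₁0 hs₁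
  obtain ⟨t, htdef⟩ : ∃ t : G, t = h₁ * t₀ := ⟨_, rfl⟩
  have hta : t • a = b := by rw [htdef, mul_smul, ht₀a, hh₁b]
  have htb : t • b = a := by rw [htdef, mul_smul, ht₀b, hh₁a]
  have ht1 : t • e (some 1) = e (some (-1)) := by
    rw [htdef, mul_smul, hy₁, hh₁, neg_mul, inv_mul_cancel₀ hy₁0]
  have htt : t * t = 1 := hswsq t hta htb
  have hte1 : t • e none = e (some 0) := by rw [he1, he2]; exact hta
  have hte2 : t • e (some 0) = e none := by rw [he1, he2]; exact htb
  -- τ
  have hex : ∀ x : K, ∃ y : K, x ≠ 0 → (y ≠ 0 ∧ t • e (some x) = e (some y)) := by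
    intro x
    by_cases hx : x = 0
    · exact ⟨0, fun h => absurd hx h⟩
    · obtain ⟨o, ho⟩ := e.surjective (t • e (some x))
      cases o with
      | none =>
        exfalso
        rw [← hte2] at ho
        exact hx (hsome _ _ (MulAction.injective t ho)).symm
      | some y =>
        refine ⟨y, fun _ => ⟨?_, ho.symm⟩⟩
        rintro rfl
        rw [← hte1] at ho
        exact hsn x (MulAction.injective t ho).symm
  choose τ hτ using hex
  have hτ0 : ∀ x, x ≠ 0 → τ x ≠ 0 := fun x hx => (hτ x hx).1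
  have hτt : ∀ x, x ≠ 0 → t • e (some x) = e (some (τ x)) := fun x hx => (hτ x hx).2
  have hττ : ∀ x, x ≠ 0 → τ (τ x) = x := by
    intro x hx
    apply hsome
    rw [← hτt (τ x) (hτ0 x hx), ← hτt x hx, ← mul_smul, htt, one_smul]
  have hτs : ∀ s x : K, s ≠ 0 → IsSquare s → x ≠ 0 → τ (s * x) = s⁻¹ * τ x := by
    intro s x hs hsq hx
    obtain ⟨h, hha, hhb, hh2⟩ := hM s hs hsq
    have h1 := hinvt t hta htb h hha hhb
    have h2' : t * h = h⁻¹ * t := mul_inv_eq_iff_eq_mul.mp h1
    apply hsome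
    have hsx : s * x ≠ 0 := mul_ne_zero hs hx
    rw [← hτt (s * x) hsx, ← hh2 x, ← mul_smul, h2', mul_smul, hτt x hx, inv_smul_eq_iff, hh2,
      mul_inv_cancel_left₀ hs]
  have hτ1 : τ 1 = -1 := by
    apply hsome
    rw [← hτt 1 one_ne_zero, ht1]
  have hτsq : ∀ s : K, s ≠ 0 → IsSquare s → τ s = -s⁻¹ := by
    intro s hs hsq
    have := hτs s 1 hs hsq one_ne_zero
    rwa [mul_one, hτ1, mul_neg, mul_one] at this
  have hτall : ∀ x : K, x ≠ 0 → τ x = -x⁻¹ := by
    intro x hx
    by_cases hsq : IsSquare x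
    · exact hτsq x hx hsq
    · have hinvns : ¬ IsSquare x⁻¹ := by
        rintro ⟨r, hr⟩
        apply hsq
        refine ⟨r⁻¹, ?_⟩
        rw [← mul_inv, ← hr, inv_inv]
      have hs := hnegsq _ hinvns
      have hs0 : -x⁻¹ ≠ 0 := neg_ne_zero.mpr (inv_ne_zero hx)
      have h1 := hτsq _ hs0 hs
      rw [inv_neg, inv_inv, neg_neg] at h1
      calc τ x = τ (τ (-x⁻¹)) := by rw [h1]
        _ = -x⁻¹ := hττ _ hs0
  have hrec := psl2_of_moebius (G := G) e
    (by
      intro a' b' ha'
      obtain ⟨m, hm1', hm2, hm3⟩ := hM (a' ^ 2) (pow_ne_zero 2 ha') ⟨a', sq a'⟩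
      obtain ⟨k, hk1, hk2⟩ := hT b'
      refine ⟨k * m, ?_, fun x => ?_⟩
      · rw [mul_smul, he1, hm1', hk1]
      · rw [mul_smul, hm3, hk2])
    ⟨t, hte1, hte2, fun x hx => by rw [hτt x hx, hτall x hx]⟩
    (by
      intro g hg
      rw [he1] at hg
      obtain ⟨s, c, hs0, ⟨r, hr⟩, hsc⟩ := hB g hg
      have hr0 : r ≠ 0 := by
        rintro rfl
        exact hs0 (by rw [hr, mul_zero])
      refine ⟨r, c, hr0, fun x => ?_⟩
      rw [hsc, hr, sq])
  exact ⟨K, iK, fK, hc1, hrec⟩

/-- a Zassenhaus group with `2 d + 2 = n` and commutative Frobenius kernel is `PSL(2, K)` with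
`|K| + 1 = n` -/
theorem psl_card_of_half [Finite G] [Fintype Ω] (hZ : Cfsg.IsZassenhausGroup G Ω) {x y : Ω}
    (hxy : x ≠ y) (hcomm : ∀ u v : G, PK x u → PK x v → u * v = v * u)
    (h2d : 2 * Nat.card ↥(stabilizer G x ⊓ stabilizer G y) + 2 = Fintype.card Ω) :
    ∃ (K : Type) (_ : Field K) (_ : Fintype K), Fintype.card K + 1 = Fintype.card Ω ∧
      Nonempty (G ≃* Matrix.ProjectiveSpecialLinearGroup (Fin 2) K) := by
  classical
  obtain ⟨d, hddef⟩ : ∃ d : ℕ, d = Nat.card ↥(stabilizer G x ⊓ stabilizer G y) := ⟨_, rfl⟩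
  have hdpos : 0 < d := by rw [hddef]; exact Nat.card_pos
  rcases Nat.even_or_odd (Nat.card ↥(stabilizer G x ⊓ stabilizer G y)) with he | ho
  · obtain ⟨p, f, K, iK, fK, hp, hp2, hKc, hΩc, hiso⟩ :=
      Cfsg.Agent.S0742.result hZ hxy he (by omega)
    exact ⟨K, iK, fK, by rw [hKc, hΩc], hiso⟩
  · -- simplicity
    have hnil : ∀ q : ℕ, q.Prime →
        q ∣ Nat.card ↥(stabilizer G x ⊓ stabilizer G y) →
        ¬ ∃ N : Subgroup G, N.Normal ∧ N.index = q ^ (Nat.card G).factorization q := by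
      rintro q hq hqd ⟨N, hNn, hidx⟩
      have hcG := two_trans_card (G := G) hZ.2.1 hxy
      have hGpos : 0 < Nat.card G := Nat.card_pos
      have hqG : q ∣ Nat.card G := by
        rw [hcG]; exact Dvd.dvd.mul_left hqd _
      have hk' : 0 < (Nat.card G).factorization q :=
        hq.factorization_pos_of_dvd hGpos.ne' hqG
      obtain ⟨k, hkdef⟩ : ∃ k : ℕ, k = (Nat.card G).factorization q := ⟨_, rfl⟩
      rw [← hkdef] at hidx hk'
      have hk : 0 < k := hk'
      by_cases hN : N = ⊥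
      · rw [hN, Subgroup.index_bot, hcG, ← h2d, ← hddef] at hidx
        have h1 : (2 * d + 1) ∣ q ^ k := by
          rw [← hidx]
          have : 2 * d + 2 - 1 = 2 * d + 1 := by omega
          rw [this]
          exact Dvd.dvd.mul_right (Dvd.intro_left _ rfl) _
        have h2 : (2 * d + 2) ∣ q ^ k := by
          rw [← hidx]
          exact Dvd.dvd.mul_right (Dvd.intro _ rfl) _
        obtain ⟨i, -, hi⟩ := (Nat.dvd_prime_pow hq).mp h1
        obtain ⟨j, -, hj⟩ := (Nat.dvd_prime_pow hq).mp h2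
        have hi0 : i ≠ 0 := by
          rintro rfl
          rw [pow_zero] at hi
          omega
        have hj0 : j ≠ 0 := by
          rintro rfl
          rw [pow_zero] at hj
          omega
        have hq1 : q ∣ 2 * d + 1 := by rw [hi]; exact dvd_pow_self q hi0
        have hq2 : q ∣ 2 * d + 2 := by rw [hj]; exact dvd_pow_self q hj0
        have hq3 : q ∣ 1 := by
          have := Nat.dvd_sub hq2 hq1
          have e : 2 * d + 2 - (2 * d + 1) = 1 := by omega
          rwa [e] at this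
        exact hq.one_lt.ne' (Nat.dvd_one.mp hq3)
      · haveI := hNn
        have htop := normal_eq_top_of_half hZ hxy h2d hcomm N hN
        rw [htop, Subgroup.index_top] at hidx
        have : 1 < q ^ k := Nat.one_lt_pow hk.ne' hq.one_lt
        omega
    have h739 := Cfsg.Agent.S0739.result hZ hxy ho hnil
    exact psl_of_half_odd_card hZ hxy ho h2d
      (fun g hga hgb h hha hhb => h739.2.2 g hga hgb h
        (Subgroup.mem_inf.mpr ⟨mem_stabilizer_iff.mpr hha, mem_stabilizer_iff.mpr hhb⟩))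

end G

end Cfsg.Agent.Lib.Helper5.ZPsl
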