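/-
S4504 (planner helper13), LAYER A leaf RED `sylow_normal_of_reducible` (frozen statement in
notes/S4504_A_leaves.lean): a REDUCIBLE faithful character of degree `(p-1)/2` of a group generated by the
conjugates of a Sylow `p`-subgroup `P` (`p ∥ |G|`) forces `P` normal.
Copy-adaptation of helper21's `S4503R.top_case`: every irreducible constituent has degree `< (p-1)/2`.
-/
import Mathlib
import Cfsg.Prelude.Def_Blocks
import Cfsg.Prelude.Def_Perm
import Cfsg.Agent.Lib.Helper13.BRPDefs
import Cfsg.Agent.Lib.Helper21.S4503R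
import Cfsg.Agent.Lib.Lead.ItoD
import Cfsg.Agent.S0732

set_option autoImplicit false

namespace Cfsg.Agent.Lib.Helper5.BRPRED

open Cfsg Cfsg.Agent.Lib.Helper8.DOM Cfsg.Agent.Lib.Helper27.DO Cfsg.Agent.CharLib
open Cfsg.Agent.Lib.Helper13.BRP Cfsg.Agent.Lib.Helper21.S4503R

universe u

/-- a character of degree `0` vanishes -/
theorem character_eq_zero_of_apply_one {G : Type u} [Group G] {θ : G → ℂ} (hθ : IsCharacter G θ)
    (h1 : θ 1 = 0) : θ = 0 := by
  obtain ⟨n, ρ, rfl⟩ := hθ
  have h : ρ.character 1 = (Module.finrank ℂ (Fin n → ℂ) : ℂ) := Representation.char_one ρ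
  rw [h1] at h
  have hn : n = 0 := by
    have h2 : (Module.finrank ℂ (Fin n → ℂ) : ℂ) = (n : ℂ) := by simp
    rw [h2] at h
    exact_mod_cast h.symm
  subst hn
  funext g
  show LinearMap.trace ℂ (Fin 0 → ℂ) (ρ g) = 0
  have : ρ g = 0 := Subsingleton.elim _ _
  rw [this, map_zero]

/-- an irreducible constituent of a reducible character has strictly smaller degree -/
theorem constituent_degree_lt {G : Type u} [Group G] [Fintype G] {χ ψ : G → ℂ} (hχ : IsCharacter G χ)
    (hred : ¬ IsIrrCharacter G χ) (hψ : IsIrrCharacter G ψ) (hc : classInner χ ψ ≠ 0) {d e : ℕ}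
    (hd : χ 1 = d) (he : ψ 1 = e) : e < d := by
  have hle : e ≤ d := Ito.constituent_degree_le hχ hψ hc hd he
  rcases Nat.lt_or_ge e d with h | h
  · exact h
  · exfalso
    have hed : e = d := le_antisymm hle h
    have hsub := Cfsg.Agent.Lib.Helper6.IsCharacter.sub_constituent hχ hψ hc
    have h0 : (χ - ψ) 1 = 0 := by rw [Pi.sub_apply, hd, he, hed, sub_self]
    have hz := character_eq_zero_of_apply_one hsub h0
    have hχψ : χ = ψ := sub_eq_zero.mp hz
    exact hred (hχψ ▸ hψ)

/-- **RED** -/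
theorem sylow_normal_of_reducible {p : ℕ} [Fact p.Prime] (hS : SmallForm.{u} p)
    {G : Type u} [Group G] [Finite G] (hdiv : p ∣ Nat.card G) (hsq : ¬ p ^ 2 ∣ Nat.card G)
    (χ : G → ℂ) (hχ : IsCharacter G χ) (hfaith : ∀ g : G, χ g = χ 1 → g = 1)
    (hdeg : 2 * charDegree χ + 1 = p) (hred : ¬ IsIrrCharacter G χ) (P : Sylow p G)
    (htop : Subgroup.normalClosure ((P : Subgroup G) : Set G) = ⊤) : (P : Subgroup G).Normal := by
  classical
  have hp : Fact p.Prime := inferInstance
  let _ : Fintype G := Fintype.ofFinite G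
  by_contra hPn
  obtain ⟨d, hd⟩ := IsCharacter.apply_one hχ
  have hdd : charDegree χ = d := charDegree_eq hd
  have key : ∀ ψ : G → ℂ, IsIrrCharacter G ψ → classInner χ ψ ≠ 0 → ∀ g : G, ψ (g ^ p) = ψ 1 := by
    intro ψ hψ hc g
    obtain ⟨e, he0, he⟩ := IsIrrCharacter.apply_one_pos hψ
    have hed : e < d := constituent_degree_lt hχ hred hψ hc hd he
    rcases quotient_data hψ with hf | ⟨K, hKn, β, hK, hβ, hβf, hβψ, hKψ⟩
    · exfalso
      apply hPn
      exact hS G ⟨hdiv, hsq, ψ, IsIrrCharacter.isCharacter hψ, hf, by rw [charDegree_eq he]; omega⟩ P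
    · have := hKn
      have hcardeq : Nat.card G = Nat.card (G ⧸ K) * Nat.card K :=
        Subgroup.card_eq_card_quotient_mul_card_subgroup K
      have hK1 : 1 < Nat.card K := K.one_lt_card_iff_ne_bot.mpr hK
      have hqpos : 0 < Nat.card (G ⧸ K) := Nat.card_pos
      have hdvdq : Nat.card (G ⧸ K) ∣ Nat.card G := ⟨Nat.card K, hcardeq⟩
      have hsq' : ¬ p ^ 2 ∣ Nat.card (G ⧸ K) := fun h => hsq (h.trans hdvdq)
      have hβ1 : β 1 = e := by
        rw [← QuotientGroup.mk_one, hβψ, he]
      have hβdeg : charDegree β = e := charDegree_eq hβ1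
      obtain ⟨Q, hQ⟩ := IsPGroup.exists_le_sylow (P.isPGroup'.map (QuotientGroup.mk' K))
      have hQn : (Q : Subgroup (G ⧸ K)).Normal := by
        by_cases hpd : p ∣ Nat.card (G ⧸ K)
        · exact hS (G ⧸ K) ⟨hpd, hsq', β, hβ, hβf, by rw [hβdeg]; omega⟩ Q
        · have hbot : (Q : Subgroup (G ⧸ K)) = ⊥ := by
            rw [← Subgroup.card_eq_one, Sylow.card_eq_multiplicity,
              Nat.factorization_eq_zero_of_not_dvd hpd, pow_zero]
          rw [hbot]
          infer_instance
      have hQcard : Nat.card (Q : Subgroup (G ⧸ K)) ∣ p := by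
        rw [Sylow.card_eq_multiplicity]
        by_cases hpd : p ∣ Nat.card (G ⧸ K)
        · rw [factorization_eq_one hp.out hpd hsq' Nat.card_pos.ne', pow_one]
        · rw [Nat.factorization_eq_zero_of_not_dvd hpd, pow_zero]
          exact one_dvd _
      have hL : ((Q : Subgroup (G ⧸ K)).comap (QuotientGroup.mk' K)) = ⊤ := by
        have hLn : ((Q : Subgroup (G ⧸ K)).comap (QuotientGroup.mk' K)).Normal := hQn.comap _
        have hPL : (P : Subgroup G) ≤ (Q : Subgroup (G ⧸ K)).comap (QuotientGroup.mk' K) :=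
          Subgroup.map_le_iff_le_comap.mp hQ
        have h3 := Subgroup.normalClosure_le_normal hPL
        rw [htop] at h3
        exact top_le_iff.mp h3
      have hgQ : ((g : G) : G ⧸ K) ∈ (Q : Subgroup (G ⧸ K)) := by
        have h4 : g ∈ ((Q : Subgroup (G ⧸ K)).comap (QuotientGroup.mk' K)) := by
          rw [hL]
          trivial
        exact h4
      have hpow : ((g : G) : G ⧸ K) ^ p = 1 := by
        have h1 : orderOf (⟨(g : G ⧸ K), hgQ⟩ : (Q : Subgroup (G ⧸ K))) ∣
            Nat.card (Q : Subgroup (G ⧸ K)) := orderOf_dvd_natCard _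
        have h2 : (⟨(g : G ⧸ K), hgQ⟩ : (Q : Subgroup (G ⧸ K))) ^ p = 1 :=
          orderOf_dvd_iff_pow_eq_one.mp (h1.trans hQcard)
        have h5 := congrArg Subtype.val h2
        simpa using h5
      have hgK : g ^ p ∈ K := by
        rw [← QuotientGroup.eq_one_iff, QuotientGroup.mk_pow]
        exact hpow
      exact hKψ _ hgK
  have hpow : ∀ g : G, g ^ p = 1 := by
    intro g
    by_contra hg
    have hne : χ (g ^ p) ≠ χ 1 := fun h => hg (hfaith _ h)
    obtain ⟨ψ, hψ, hc, hne'⟩ := Ito.exists_constituent_ne hχ hne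
    exact hne' (key ψ hψ hc g)
  have hGp : IsPGroup p G := fun g => ⟨1, by rw [pow_one]; exact hpow g⟩
  have htopP : (⊤ : Subgroup G) = P := P.is_maximal' (hGp.to_subgroup ⊤) le_top
  apply hPn
  rw [← htopP]
  infer_instance

end Cfsg.Agent.Lib.Helper5.BRPRED
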