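import Mathlib
import Cfsg.Prelude.Def_Classical
import Cfsg.Agent.Lib.Helper25.SpinAll
import Cfsg.Agent.Lib.Helper25.SpinIndex
import Cfsg.Agent.Lib.Helper15.QuadClass

set_option autoImplicit false
set_option linter.unusedSectionVars false
set_option linter.unusedVariables false
set_option linter.unusedSimpArgs false

/-!
# The centre of `Ω(Q)` consists of `±1`

For a quadratic form `Q` on `F^ι` (`F` finite, `|ι| ≥ 4`, polar form nondegenerate, not the
exceptional case `O⁺₄(2)`), every element of the centre of `Ω(Q)` (the commutator subgroup of the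
isometry group) has matrix `1` or `-1`.  Built on helper25's Cartan–Dieudonné / spinor norm
libraries and helper15's Chevalley–Warning lemma.
-/

namespace Cfsg.Agent.Lib.Helper5.OmegaCenter
open Module QuadraticMap Matrix Cfsg.Agent.Lib.Helper25.CD Cfsg.Agent.Lib.Helper25.Spin

section abstract
variable {F : Type*} [Field F] {V : Type*} [AddCommGroup V] [Module F V] (Q : QuadraticForm F V)

lemma polar_self_of_sing {x : V} (hx : Q x = 0) : polar Q x x = 0 := by
  rw [polar_self, hx, smul_zero]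

/-- fixed points of a product of two reflections in independent nonsingular vectors -/
lemma fix_two_refl {u v : V} (hu : Q u ≠ 0) (hv : Q v ≠ 0)
    (hind : ∀ a b : F, a • u + b • v = 0 → a = 0 ∧ b = 0) {x : V}
    (hx : reflE Q u (reflE Q v x) = x) : polar Q u x = 0 ∧ polar Q v x = 0 := by
  have h1 : reflE Q v x = reflE Q u x := by
    have := congrArg (reflE Q u) hx
    rw [reflE_reflE] at this
    exact this
  rw [reflE_apply, reflE_apply] at h1
  have h2 : ((Q u)⁻¹ * polar Q u x) • u + (-((Q v)⁻¹ * polar Q v x)) • v = 0 := by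
    rw [neg_smul, ← sub_eq_add_neg, sub_eq_zero]
    exact (sub_right_injective h1).symm
  obtain ⟨hB, hA⟩ := hind _ _ h2
  exact ⟨(mul_eq_zero.mp hB).resolve_left (inv_ne_zero hu),
    (mul_eq_zero.mp (neg_eq_zero.mp hA)).resolve_left (inv_ne_zero hv)⟩

/-- an isometry commuting with a product of two reflections preserves their plane -/
lemma plane_invariant [FiniteDimensional F V] (hQ : (polarBilin Q).Nondegenerate)
    {u v : V} (hu : Q u ≠ 0) (hv : Q v ≠ 0)
    (hind : ∀ a b : F, a • u + b • v = 0 → a = 0 ∧ b = 0)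
    {ζ : V ≃ₗ[F] V} (hζ : ζ ∈ OG Q)
    (hcomm : ζ * (reflE Q u * reflE Q v) = (reflE Q u * reflE Q v) * ζ) :
    ∀ w ∈ Submodule.span F ({u, v} : Set V), ζ w ∈ Submodule.span F ({u, v} : Set V) := by
  obtain ⟨P, hPdef⟩ : ∃ P, P = Submodule.span F ({u, v} : Set V) := ⟨_, rfl⟩
  rw [← hPdef]
  have huP : u ∈ P := by rw [hPdef]; exact Submodule.subset_span (Or.inl rfl)
  have hvP : v ∈ P := by rw [hPdef]; exact Submodule.subset_span (Or.inr rfl)
  have hcomm' : ζ⁻¹ * (reflE Q u * reflE Q v) = (reflE Q u * reflE Q v) * ζ⁻¹ :=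
    (Commute.inv_left (show Commute ζ (reflE Q u * reflE Q v) from hcomm)).eq
  have hK : ∀ x, x ∈ perp Q P → ζ⁻¹ x ∈ perp Q P := by
    intro x hx
    have hxu : polar Q u x = 0 := hx u huP
    have hxv : polar Q v x = 0 := hx v hvP
    have hfix : reflE Q u (reflE Q v x) = x := by
      rw [reflE_of_perp Q hxv, reflE_of_perp Q hxu]
    have h2 : reflE Q u (reflE Q v (ζ⁻¹ x)) = ζ⁻¹ x := by
      have := congrArg (fun f : V ≃ₗ[F] V => f x) hcomm'
      simp only [LinearEquiv.mul_apply] at this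
      rw [hfix] at this
      exact this.symm
    obtain ⟨h3, h4⟩ := fix_two_refl Q hu hv hind h2
    intro p hp
    rw [hPdef] at hp
    obtain ⟨a, b, rfl⟩ := Submodule.mem_span_pair.1 hp
    show polar Q (a • u + b • v) (ζ⁻¹ x) = 0
    rw [polar_add_left, polar_smul_left, polar_smul_left, h3, h4, smul_zero, smul_zero, add_zero]
  intro w hw
  have h5 : ζ w ∈ perp Q (perp Q P) := by
    intro x hx
    show polar Q x (ζ w) = 0
    have h6 := polar_of_iso Q hζ (ζ⁻¹ x) w
    rw [apply_inv_self'] at h6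
    rw [h6, polar_comm]
    exact hK x hx w hw
  rw [perp, perp, LinearMap.BilinForm.orthogonal_orthogonal hQ (polarBilin_isRefl Q)] at h5
  exact h5

/-- decomposition along a hyperbolic pair -/
lemma hyp_decomp' {x y : V} (hx : Q x = 0) (hy : Q y = 0) (hxy : polar Q x y = 1) :
    ∀ w : V, ∃ a b : F, ∃ s : V, polar Q x s = 0 ∧ polar Q y s = 0 ∧ w = a • x + b • y + s := by
  intro w
  refine ⟨polar Q w y, polar Q w x, w - (polar Q w y • x + polar Q w x • y), ?_, ?_, by abel⟩
  · rw [polar_sub_right, polar_add_right, polar_smul_right, polar_smul_right,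
      polar_self_of_sing Q hx, hxy, smul_zero, smul_eq_mul, mul_one, zero_add, polar_comm Q x w,
      sub_self]
  · rw [polar_sub_right, polar_add_right, polar_smul_right, polar_smul_right,
      polar_self_of_sing Q hy, polar_comm Q y x, hxy, smul_zero, smul_eq_mul, mul_one, add_zero,
      polar_comm Q y w, sub_self]

lemma hyp_sup {x y : V} (hx : Q x = 0) (hy : Q y = 0) (hxy : polar Q x y = 1) :
    Submodule.span F ({x, y} : Set V) ⊔ perp Q (Submodule.span F ({x, y} : Set V)) = ⊤ := by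
  rw [eq_top_iff]
  intro w _
  obtain ⟨a, b, s, hs1, hs2, rfl⟩ := hyp_decomp' Q hx hy hxy w
  refine Submodule.mem_sup.2 ⟨a • x + b • y, ?_, s, ?_, rfl⟩
  · exact Submodule.mem_span_pair.2 ⟨a, b, rfl⟩
  · intro p hp
    obtain ⟨c, d, rfl⟩ := Submodule.mem_span_pair.1 hp
    show polar Q (c • x + d • y) s = 0
    rw [polar_add_left, polar_smul_left, polar_smul_left, hs1, hs2, smul_zero, smul_zero, add_zero]

/-- a linear map acting as `l` on all vectors of norm `c` is the scalar `l` -/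
lemma scalar_of_norm_class {x y r : V} (hx : Q x = 0) (hy : Q y = 0) (hxy : polar Q x y = 1)
    {c : F} (hr : Q r = c) (hxr : polar Q x r = 0) (hyr : polar Q y r = 0)
    (ζ : V ≃ₗ[F] V) (l : F) (hζ : ∀ v, Q v = c → ζ v = l • v) : ∀ w, ζ w = l • w := by
  have h1 : ζ r = l • r := hζ r hr
  have hζx : ζ x = l • x := by
    have h2 : Q (x + r) = c := by rw [Q_add Q, hx, hr, hxr, zero_add, add_zero]
    have h3 := hζ _ h2
    rw [map_add, h1, smul_add] at h3
    exact add_right_cancel h3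
  have hζy : ζ y = l • y := by
    have h2 : Q (y + r) = c := by rw [Q_add Q, hy, hr, hyr, zero_add, add_zero]
    have h3 := hζ _ h2
    rw [map_add, h1, smul_add] at h3
    exact add_right_cancel h3
  intro w
  obtain ⟨a, b, s, hs1, hs2, rfl⟩ := hyp_decomp' Q hx hy hxy w
  have hζs : ζ s = l • s := by
    have h2 : Q (s + ((c - Q s) • x + y)) = c := by
      rw [Q_add Q, Q_add Q, QuadraticMap.map_smul, hx, hy, polar_add_right, polar_smul_right,
        polar_smul_left, polar_comm Q s x, hs1, polar_comm Q s y, hs2, hxy]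
      simp only [smul_eq_mul, mul_zero, mul_one, add_zero, zero_add]
      ring
    have h3 := hζ _ h2
    rw [map_add, map_add, map_smul, hζx, hζy, smul_add, smul_add] at h3
    have h4 : (c - Q s) • l • x = l • (c - Q s) • x := smul_comm _ _ _
    rw [h4] at h3
    exact add_right_cancel h3
  rw [map_add, map_add, map_smul, map_smul, hζx, hζy, hζs, smul_add, smul_add,
    smul_comm a l x, smul_comm b l y]

end abstract

section matrix
variable {ι : Type} [Fintype ι] [DecidableEq ι] {F : Type*} [Field F] [Fintype F]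
  (Q : QuadraticForm F (ι → F))

/-- the centre of `Ω`, as a subgroup of the isometry group -/
def CZ : Subgroup ↥(Cfsg.isometryGroup F ⇑Q) :=
  (Subgroup.center ↥(Cfsg.Omega F ⇑Q)).map (Cfsg.Omega F ⇑Q).subtype

lemma mem_CZ (g : ↥(Cfsg.isometryGroup F ⇑Q)) :
    g ∈ CZ Q ↔ g ∈ Cfsg.Omega F ⇑Q ∧ ∀ w ∈ Cfsg.Omega F ⇑Q, w * g = g * w := by
  constructor
  · rintro ⟨z, hz, rfl⟩
    refine ⟨z.2, fun w hw => ?_⟩
    have h1 := Subgroup.mem_center_iff.mp hz ⟨w, hw⟩
    exact congrArg Subtype.val h1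
  · rintro ⟨hg, hcomm⟩
    refine ⟨⟨g, hg⟩, Subgroup.mem_center_iff.mpr ?_, rfl⟩
    intro w
    exact Subtype.ext (hcomm w.1 w.2)

lemma CZ_conj {g : ↥(Cfsg.isometryGroup F ⇑Q)} (hg : g ∈ CZ Q) (k : ↥(Cfsg.isometryGroup F ⇑Q)) :
    k * g * k⁻¹ ∈ CZ Q := by
  rw [mem_CZ] at hg ⊢
  obtain ⟨hg1, hg2⟩ := hg
  have hn : (Cfsg.Omega F ⇑Q).Normal := inferInstance
  refine ⟨hn.conj_mem g hg1 k, fun w hw => ?_⟩
  have hw' : k⁻¹ * w * k ∈ Cfsg.Omega F ⇑Q := by
    have := hn.conj_mem w hw k⁻¹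
    rwa [inv_inv] at this
  have h1 := hg2 _ hw'
  calc w * (k * g * k⁻¹) = k * ((k⁻¹ * w * k) * g) * k⁻¹ := by group
    _ = k * (g * (k⁻¹ * w * k)) * k⁻¹ := by rw [h1]
    _ = k * g * k⁻¹ * w := by group

/-- transitivity of the isometry group on nonsingular vectors of equal norm -/
lemma exists_iso_map (hQ : (polarBilin Q).Nondegenerate)
    (hex : Fintype.card F ≠ 2 ∨ Fintype.card ι ≠ 4) {u u' : ι → F} (hu : Q u ≠ 0)
    (h : Q u' = Q u) : ∃ k : ↥(Cfsg.isometryGroup F ⇑Q), toOG Q k u' = u := by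
  have hex' : Fintype.card F ≠ 2 ∨ finrank F (ι → F) ≠ 4 := by
    rw [Module.finrank_fintype_fun_eq_card]; exact hex
  have key : ∃ ρ ∈ RG Q, ρ u' = u := by
    by_cases h2 : (2 : F) = 0
    · have : CharP F 2 := CharTwo.of_one_ne_zero_of_two_eq_zero one_ne_zero h2
      exact trans_all Q hQ hex' hu h
    · exact exists_RG_map_odd h2 Q hu h
  obtain ⟨ρ, hρ, hρu⟩ := key
  refine ⟨ofOG Q ρ (RG_le_OG Q hρ), ?_⟩
  rw [toOG_ofOG]
  exact hρu

/-- an element of the centre of `Ω` commutes with `r_u r_v` when `Q u = Q v` -/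
lemma comm_pair (hQ : (polarBilin Q).Nondegenerate)
    (hex : Fintype.card F ≠ 2 ∨ Fintype.card ι ≠ 4) {g : ↥(Cfsg.isometryGroup F ⇑Q)}
    (hg : g ∈ CZ Q) {u v : ι → F} (hu : Q u ≠ 0) (huv : Q v = Q u) :
    toOG Q g * (reflE Q u * reflE Q v) = (reflE Q u * reflE Q v) * toOG Q g := by
  have hv : Q v ≠ 0 := by rw [huv]; exact hu
  have hmem : wordG Q [u, v] ∈ Cfsg.Omega F ⇑Q := by
    rw [mem_omega_iff' Q hQ hex (by
      intro w hw
      simp only [List.mem_cons, List.not_mem_nil, or_false] at hw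
      rcases hw with rfl | rfl
      · exact hu
      · exact hv)]
    refine ⟨⟨1, rfl⟩, ?_⟩
    rw [normProd_cons, normProd_cons, normProd_nil, mul_one, huv]
    exact ⟨Q u, rfl⟩
  have h1 := ((mem_CZ Q g).mp hg).2 _ hmem
  have h2 : wordG Q [u, v] = reflM Q u * reflM Q v := by
    rw [wordG_cons, wordG_singleton]
  rw [h2] at h1
  have h3 := congrArg (toOG Q) h1
  simp only [map_mul, toOG_reflM] at h3
  exact h3.symm

variable (hQ : (polarBilin Q).Nondegenerate) (hex : Fintype.card F ≠ 2 ∨ Fintype.card ι ≠ 4)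

/-- a hyperbolic pair and, for each scalar, a vector of that norm orthogonal to it -/
lemma exists_hyp (hQ : (polarBilin Q).Nondegenerate) (hn : 4 ≤ Fintype.card ι) :
    ∃ x y : ι → F, Q x = 0 ∧ Q y = 0 ∧ polar Q x y = 1 ∧
      ∀ c : F, ∃ r : ι → F, Q r = c ∧ polar Q x r = 0 ∧ polar Q y r = 0 := by
  have hfin : finrank F (ι → F) = Fintype.card ι := Module.finrank_fintype_fun_eq_card F
  obtain ⟨x, hx0, hx⟩ := Cfsg.Agent.Lib.Helper15.exists_singular_of_three_le Q
    (by rw [hfin]; omega)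
  obtain ⟨y0, hy0⟩ : ∃ y0, polar Q x y0 ≠ 0 := by
    by_contra hcon
    push Not at hcon
    exact hx0 (hQ.1 x (fun y => by rw [polarBilin_apply_apply]; exact hcon y))
  obtain ⟨y1, hy1def⟩ : ∃ y1, y1 = (polar Q x y0)⁻¹ • y0 := ⟨_, rfl⟩
  have hxy1 : polar Q x y1 = 1 := by
    rw [hy1def, polar_smul_right, smul_eq_mul, inv_mul_cancel₀ hy0]
  obtain ⟨y, hydef⟩ : ∃ y, y = y1 - Q y1 • x := ⟨_, rfl⟩
  have hxy : polar Q x y = 1 := by
    rw [hydef, polar_sub_right, polar_smul_right, polar_self_of_sing Q hx, smul_zero, sub_zero,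
      hxy1]
  have hy : Q y = 0 := by
    have h1 : y1 = y + Q y1 • x := by rw [hydef]; abel
    have h2 : Q y1 = Q (y + Q y1 • x) := by rw [← h1]
    rw [Q_add Q, QuadraticMap.map_smul, hx, polar_smul_right, polar_comm Q y x, hxy] at h2
    simp only [smul_eq_mul, mul_zero, mul_one, add_zero] at h2
    linear_combination -h2
  refine ⟨x, y, hx, hy, hxy, ?_⟩
  obtain ⟨P, hPdef⟩ : ∃ P, P = Submodule.span F ({x, y} : Set (ι → F)) := ⟨_, rfl⟩
  have hPW : P ⊔ perp Q P = ⊤ := by rw [hPdef]; exact hyp_sup Q hx hy hxy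
  have hnd := nondeg_perp Q hQ P hPW
  have hxP : x ∈ P := by rw [hPdef]; exact Submodule.subset_span (Or.inl rfl)
  have hyP : y ∈ P := by rw [hPdef]; exact Submodule.subset_span (Or.inr rfl)
  have hPfin : finrank F P ≤ 2 := by
    classical
    rw [hPdef]
    have h1 : ({x, y} : Set (ι → F)) = (({x, y} : Finset (ι → F)) : Set (ι → F)) := by simp
    rw [h1]
    exact (finrank_span_finset_le_card _).trans Finset.card_le_two
  have hRfin : 2 ≤ finrank F (perp Q P) := by
    have h1 := LinearMap.BilinForm.finrank_orthogonal hQ P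
    rw [hfin] at h1
    have h2 : finrank F (perp Q P) = Fintype.card ι - finrank F P := h1
    omega
  intro c
  obtain ⟨r, hr⟩ := exists_rep (QR Q (perp Q P)) hnd hRfin c
  exact ⟨(r : ι → F), hr, r.2 x hxP, r.2 y hyP⟩

/-- the main step: an element of the centre of `Ω` stabilises every nonsingular line -/
lemma center_line (hQ : (polarBilin Q).Nondegenerate)
    (hex : Fintype.card F ≠ 2 ∨ Fintype.card ι ≠ 4) (hn : 4 ≤ Fintype.card ι)
    {g : ↥(Cfsg.isometryGroup F ⇑Q)} (hg : g ∈ CZ Q) {v : ι → F} (hv : Q v ≠ 0) :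
    ∃ a : F, toOG Q g v = a • v := by
  obtain ⟨x, y, hx, hy, hxy, hrep⟩ := exists_hyp Q hQ hn
  obtain ⟨r, hr, hxr, hyr⟩ := hrep (Q v)
  have hr0 : Q r ≠ 0 := by rw [hr]; exact hv
  have hrne : r ≠ 0 := by
    rintro rfl
    exact hr0 (QuadraticMap.map_zero Q)
  -- first for `r` and every central element
  have key : ∀ g' : ↥(Cfsg.isometryGroup F ⇑Q), g' ∈ CZ Q → ∃ a : F, toOG Q g' r = a • r := by
    intro g' hg'
    have hQ1 : Q (x + r) = Q r := by rw [Q_add Q, hx, hxr, zero_add, add_zero]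
    have hQ2 : Q (y + r) = Q r := by rw [Q_add Q, hy, hyr, zero_add, add_zero]
    have hind1 : ∀ a b : F, a • r + b • (x + r) = 0 → a = 0 ∧ b = 0 := by
      intro a b hab
      have h1 := congrArg (fun t => polar Q t y) hab
      simp only [polar_add_left, polar_smul_left, polar_comm Q r y, hyr, hxy, smul_eq_mul,
        mul_zero, mul_one, add_zero, zero_add] at h1
      have hb : b = 0 := by
        have h0 : polar Q (0 : ι → F) y = 0 := by simp [polar]
        rw [h0] at h1
        exact h1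
      rw [hb, zero_smul, add_zero] at hab
      exact ⟨(smul_eq_zero.mp hab).resolve_right hrne, hb⟩
    have hind2 : ∀ a b : F, a • r + b • (y + r) = 0 → a = 0 ∧ b = 0 := by
      intro a b hab
      have h1 := congrArg (fun t => polar Q x t) hab
      simp only [polar_add_right, polar_smul_right, hxr, hxy, smul_eq_mul,
        mul_zero, mul_one, add_zero, zero_add] at h1
      have hb : b = 0 := by
        have h0 : polar Q x (0 : ι → F) = 0 := by simp [polar]
        rw [h0] at h1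
        exact h1
      rw [hb, zero_smul, add_zero] at hab
      exact ⟨(smul_eq_zero.mp hab).resolve_right hrne, hb⟩
    have hp1 := plane_invariant Q hQ hr0 (by rw [hQ1]; exact hr0) hind1 (toOG_mem_OG Q g')
      (comm_pair Q hQ hex hg' hr0 hQ1) r (Submodule.subset_span (Or.inl rfl))
    have hp2 := plane_invariant Q hQ hr0 (by rw [hQ2]; exact hr0) hind2 (toOG_mem_OG Q g')
      (comm_pair Q hQ hex hg' hr0 hQ2) r (Submodule.subset_span (Or.inl rfl))
    obtain ⟨a, b, hab⟩ := Submodule.mem_span_pair.1 hp1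
    obtain ⟨a', b', hab'⟩ := Submodule.mem_span_pair.1 hp2
    have h1 : polar Q (toOG Q g' r) y = b := by
      rw [← hab, polar_add_left, polar_smul_left, polar_smul_left, polar_add_left,
        polar_comm Q r y, hyr, hxy]
      simp
    have h2 : polar Q (toOG Q g' r) y = 0 := by
      rw [← hab', polar_add_left, polar_smul_left, polar_smul_left, polar_add_left,
        polar_comm Q r y, hyr, polar_self_of_sing Q hy]
      simp
    have hb : b = 0 := by rw [← h1, h2]
    refine ⟨a, ?_⟩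
    rw [← hab, hb, zero_smul, add_zero]
  -- transport to `v`
  obtain ⟨k, hk⟩ := exists_iso_map Q hQ hex hv hr
  have hg' : k⁻¹ * g * (k⁻¹)⁻¹ ∈ CZ Q := CZ_conj Q hg k⁻¹
  rw [inv_inv] at hg'
  obtain ⟨a, ha⟩ := key _ hg'
  refine ⟨a, ?_⟩
  have h1 : g * k = k * (k⁻¹ * g * k) := by group
  have h2 : toOG Q (g * k) r = toOG Q (k * (k⁻¹ * g * k)) r := by rw [← h1]
  rw [map_mul, map_mul, LinearEquiv.mul_apply, LinearEquiv.mul_apply, hk, ha, map_smul, hk] at h2
  exact h2

/-- an element of the centre of `Ω` is central in the whole isometry group -/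
lemma center_comm (hQ : (polarBilin Q).Nondegenerate)
    (hex : Fintype.card F ≠ 2 ∨ Fintype.card ι ≠ 4) (hn : 4 ≤ Fintype.card ι)
    {g : ↥(Cfsg.isometryGroup F ⇑Q)} (hg : g ∈ CZ Q) (k : ↥(Cfsg.isometryGroup F ⇑Q)) :
    g * k = k * g := by
  have h1 : reflSet Q ⊆ (Subgroup.centralizer {g} : Set ↥(Cfsg.isometryGroup F ⇑Q)) := by
    intro r hr
    obtain ⟨v, hv, rfl⟩ := (mem_reflSet_iff Q r).1 hr
    obtain ⟨a, ha⟩ := center_line Q hQ hex hn hg hv
    have ha0 : a ≠ 0 := by
      rintro rfl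
      rw [zero_smul] at ha
      have hv0 : v = 0 := (LinearEquiv.map_eq_zero_iff (toOG Q g)).mp ha
      rw [hv0] at hv
      exact hv (QuadraticMap.map_zero Q)
    have h2 := conj_reflM Q g v
    rw [← toOG_apply, ha] at h2
    have h3 : reflM Q (a • v) = reflM Q v := by
      apply toOG_injective
      rw [toOG_reflM, toOG_reflM, reflE_smul Q ha0]
    rw [h3] at h2
    rw [SetLike.mem_coe, Subgroup.mem_centralizer_iff]
    intro h hh
    rw [Set.mem_singleton_iff] at hh
    rw [hh]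
    calc g * reflM Q v = g * reflM Q v * g⁻¹ * g := by group
      _ = reflM Q v * g := by rw [h2]
  have h2 : Subgroup.closure (reflSet Q) ≤ Subgroup.centralizer {g} :=
    (Subgroup.closure_le _).2 h1
  rw [reflSet_closure Q hQ hex] at h2
  have h3 := h2 (Subgroup.mem_top k)
  rw [Subgroup.mem_centralizer_iff] at h3
  exact h3 g rfl

/-- elements of the centre of `Ω` are `±1` -/
theorem center_pm_one (hQ : (polarBilin Q).Nondegenerate)
    (hex : Fintype.card F ≠ 2 ∨ Fintype.card ι ≠ 4) (hn : 4 ≤ Fintype.card ι)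
    {g : ↥(Cfsg.isometryGroup F ⇑Q)} (hg : g ∈ CZ Q) :
    ((g : GL ι F) : Matrix ι ι F) = 1 ∨ ((g : GL ι F) : Matrix ι ι F) = -1 := by
  obtain ⟨x, y, hx, hy, hxy, hrep⟩ := exists_hyp Q hQ hn
  obtain ⟨r, hr, hxr, hyr⟩ := hrep 1
  have hr0 : Q r ≠ 0 := by rw [hr]; exact one_ne_zero
  obtain ⟨l, hl⟩ := center_line Q hQ hex hn hg hr0
  have hall : ∀ v, Q v = 1 → toOG Q g v = l • v := by
    intro v hv
    obtain ⟨k, hk⟩ := exists_iso_map Q hQ hex (u := v) (u' := r) (by rw [hv]; exact one_ne_zero)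
      (by rw [hr, hv])
    have h1 := center_comm Q hQ hex hn hg k
    have h2 : toOG Q (g * k) r = toOG Q (k * g) r := by rw [h1]
    rw [map_mul, map_mul, LinearEquiv.mul_apply, LinearEquiv.mul_apply, hk, hl, map_smul, hk] at h2
    exact h2
  have hsc := scalar_of_norm_class Q hx hy hxy hr hxr hyr (toOG Q g) l hall
  have hl2 : l * l = 1 := by
    have h1 := toOG_mem_OG Q g r
    rw [hl, QuadraticMap.map_smul, hr, smul_eq_mul, mul_one] at h1
    exact h1
  have hl3 : l = 1 ∨ l = -1 := by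
    have h1 : (l - 1) * (l + 1) = 0 := by linear_combination hl2
    rcases mul_eq_zero.mp h1 with h | h
    · left; linear_combination h
    · right; linear_combination h
  have hM : ∀ w, ((g : GL ι F) : Matrix ι ι F) *ᵥ w = l • w := fun w => by
    rw [← toOG_apply]; exact hsc w
  rcases hl3 with h | h
  · left
    apply Matrix.toLin'.injective
    apply LinearMap.ext
    intro w
    rw [Matrix.toLin'_apply, hM, h, one_smul, Matrix.toLin'_one]
    rfl
  · right
    apply Matrix.toLin'.injective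
    apply LinearMap.ext
    intro w
    rw [Matrix.toLin'_apply, hM, h, Matrix.toLin'_apply, Matrix.neg_mulVec, Matrix.one_mulVec,
      neg_smul, one_smul]

end matrix

section card
variable {ι : Type} [Fintype ι] [DecidableEq ι] {F : Type*} [Field F] [Fintype F]
  (Q : QuadraticForm F (ι → F))

lemma coe_mem_CZ (z : ↥(Cfsg.Omega F ⇑Q)) (hz : z ∈ Subgroup.center ↥(Cfsg.Omega F ⇑Q)) :
    (z : ↥(Cfsg.isometryGroup F ⇑Q)) ∈ CZ Q := ⟨z, hz, rfl⟩

lemma eq_of_coe_eq {a b : ↥(Cfsg.Omega F ⇑Q)}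
    (h : (((a : ↥(Cfsg.isometryGroup F ⇑Q)) : GL ι F) : Matrix ι ι F)
      = (((b : ↥(Cfsg.isometryGroup F ⇑Q)) : GL ι F) : Matrix ι ι F)) : a = b :=
  Subtype.ext (Subtype.ext (Units.ext h))

/-- if `-1 ∉ Ω` (or the characteristic is two) then `|PΩ| = |Ω|` -/
theorem card_POmega_of_not (hQ : (polarBilin Q).Nondegenerate)
    (hex : Fintype.card F ≠ 2 ∨ Fintype.card ι ≠ 4) (hn : 4 ≤ Fintype.card ι)
    (hneg : (2 : F) = 0 ∨ ¬ ∃ g : ↥(Cfsg.isometryGroup F ⇑Q), g ∈ Cfsg.Omega F ⇑Q ∧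
      ((g : GL ι F) : Matrix ι ι F) = -1) :
    Nat.card (Cfsg.POmega F ⇑Q) = Nat.card ↥(Cfsg.Omega F ⇑Q) := by
  have hbot : Subgroup.center ↥(Cfsg.Omega F ⇑Q) = ⊥ := by
    rw [Subgroup.eq_bot_iff_forall]
    intro z hz
    have h1 := center_pm_one Q hQ hex hn (coe_mem_CZ Q z hz)
    have h2 : (((z : ↥(Cfsg.isometryGroup F ⇑Q)) : GL ι F) : Matrix ι ι F) = 1 := by
      rcases h1 with h | h
      · exact h
      · rcases hneg with h2 | h2
        · rw [h]
          have h3 : (-1 : F) = 1 := by linear_combination -h2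
          ext i j
          rw [Matrix.neg_apply]
          by_cases hij : i = j
          · rw [hij, Matrix.one_apply_eq, h3]
          · rw [Matrix.one_apply_ne hij, neg_zero]
        · exact absurd ⟨_, z.2, h⟩ h2
    apply eq_of_coe_eq Q
    rw [h2]
    rfl
  have h3 := Subgroup.card_eq_card_quotient_mul_card_subgroup
    (Subgroup.center ↥(Cfsg.Omega F ⇑Q))
  rw [Subgroup.card_eq_one.mpr hbot, mul_one] at h3
  exact h3.symm

/-- if `-1 ∈ Ω` and the characteristic is odd then `2 |PΩ| = |Ω|` -/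
theorem card_POmega_of_mem (hQ : (polarBilin Q).Nondegenerate)
    (hex : Fintype.card F ≠ 2 ∨ Fintype.card ι ≠ 4) (hn : 4 ≤ Fintype.card ι)
    (h2 : (2 : F) ≠ 0) (hneg : ∃ g : ↥(Cfsg.isometryGroup F ⇑Q), g ∈ Cfsg.Omega F ⇑Q ∧
      ((g : GL ι F) : Matrix ι ι F) = -1) :
    2 * Nat.card (Cfsg.POmega F ⇑Q) = Nat.card ↥(Cfsg.Omega F ⇑Q) := by
  obtain ⟨g₀, hg₀, hM₀⟩ := hneg
  have hne : Nonempty ι := by
    rw [← Fintype.card_pos_iff]; omega
  obtain ⟨i₀⟩ := hne
  have hz₀ : (⟨g₀, hg₀⟩ : ↥(Cfsg.Omega F ⇑Q)) ∈ Subgroup.center ↥(Cfsg.Omega F ⇑Q) := by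
    rw [Subgroup.mem_center_iff]
    intro w
    apply eq_of_coe_eq Q
    show ((w : ↥(Cfsg.isometryGroup F ⇑Q)) : GL ι F).1 * (g₀ : GL ι F).1
      = (g₀ : GL ι F).1 * ((w : ↥(Cfsg.isometryGroup F ⇑Q)) : GL ι F).1
    have hM₀' : (g₀ : GL ι F).1 = -1 := hM₀
    rw [hM₀', mul_neg, mul_one, neg_mul, one_mul]
  have hcard : Nat.card ↥(Subgroup.center ↥(Cfsg.Omega F ⇑Q)) = 2 := by
    rw [Nat.card_eq_two_iff]
    refine ⟨1, ⟨⟨g₀, hg₀⟩, hz₀⟩, ?_, ?_⟩
    · intro h
      have h3 := congrArg (fun z : ↥(Subgroup.center ↥(Cfsg.Omega F ⇑Q)) =>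
        ((((z : ↥(Cfsg.Omega F ⇑Q)) : ↥(Cfsg.isometryGroup F ⇑Q)) : GL ι F) :
          Matrix ι ι F) i₀ i₀) h
      have h4 : (1 : F) = -1 := by
        have h5 : ((g₀ : GL ι F) : Matrix ι ι F) i₀ i₀ = -1 := by
          rw [hM₀, Matrix.neg_apply, Matrix.one_apply_eq]
        have h6 : ((((1 : ↥(Subgroup.center ↥(Cfsg.Omega F ⇑Q))) : ↥(Cfsg.Omega F ⇑Q)) :
            ↥(Cfsg.isometryGroup F ⇑Q)) : GL ι F).1 i₀ i₀ = 1 := by
          show (1 : Matrix ι ι F) i₀ i₀ = 1
          exact Matrix.one_apply_eq i₀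
        exact h6.symm.trans (h3.trans h5)
      apply h2
      linear_combination h4
    · ext z
      simp only [Set.mem_insert_iff, Set.mem_singleton_iff, Set.mem_univ, iff_true]
      have h1 := center_pm_one Q hQ hex hn (coe_mem_CZ Q z.1 z.2)
      rcases h1 with h | h
      · left
        apply Subtype.ext
        apply eq_of_coe_eq Q
        rw [h]
        rfl
      · right
        apply Subtype.ext
        apply eq_of_coe_eq Q
        rw [h]
        exact hM₀.symm
  have h3 := Subgroup.card_eq_card_quotient_mul_card_subgroup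
    (Subgroup.center ↥(Cfsg.Omega F ⇑Q))
  rw [hcard] at h3
  rw [h3, mul_comm]

end card

end Cfsg.Agent.Lib.Helper5.OmegaCenter
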