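import Mathlib
import Cfsg.Agent.Lib.Helper5.USubA

/-!
Maximality of the symplectic subfield subgroup in the special unitary group: the rational vectors
are centres of transvection groups of the subfield group; a proper overgroup contains a
transvection group whose centre is `v₁ + ω v₂` for a rational totally isotropic independent pair,
rational transvections move such pairs transitively, and then every isotropic vector is a centre.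
-/

set_option autoImplicit false
set_option linter.unusedSectionVars false
set_option linter.unusedVariables false
set_option linter.unusedSimpArgs false

namespace Cfsg.Agent.Lib.Helper5.USub
open Cfsg Matrix Cfsg.Agent.Lib.Helper14 Cfsg.Agent.Lib.Helper5.SpMax
  Cfsg.Agent.Lib.Helper5.UForm Cfsg.Agent.Lib.Helper5.HermBridge
  Cfsg.Agent.Lib.Helper5.SUGen Cfsg.Agent.Lib.Helper5.SUMax

section Gen
variable {F : Type*} [Field F] {n : ℕ}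

/-- `F₀`-linear independence of two vectors -/
def Ind (F₀ : Subfield F) (x₁ x₂ : Fin n → F) : Prop :=
  ∀ s t : F, s ∈ F₀ → t ∈ F₀ → s • x₁ + t • x₂ = 0 → s = 0 ∧ t = 0

lemma ind_ne_zero {F₀ : Subfield F} {x₁ x₂ : Fin n → F} (h : Ind F₀ x₁ x₂) : x₁ ≠ 0 := by
  intro h0
  have := (h 1 0 F₀.one_mem F₀.zero_mem (by rw [h0, smul_zero, zero_smul, add_zero])).1
  exact one_ne_zero this

/-- a rational totally isotropic independent pair -/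
def T2 (q : ℕ) (F₀ : Subfield F) (P : GL (Fin n) F) (x₁ x₂ : Fin n → F) : Prop :=
  IsRat F₀ P x₁ ∧ IsRat F₀ P x₂ ∧ Cfsg.hermForm n F q x₁ x₂ = 0 ∧ Ind F₀ x₁ x₂

/-- rational isometries in `M` -/
def RM (q : ℕ) (F₀ : Subfield F) (P : GL (Fin n) F) (M : Subgroup (GL (Fin n) F))
    (g : GL (Fin n) F) : Prop :=
  g ∈ M ∧ g ∈ Cfsg.GU n F q ∧
    ∀ x, IsRat F₀ P x → IsRat F₀ P ((g : Matrix (Fin n) (Fin n) F) *ᵥ x)

variable {q : ℕ} {F₀ : Subfield F} {P : GL (Fin n) F} {M : Subgroup (GL (Fin n) F)}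

lemma RM_mul {g₁ g₂ : GL (Fin n) F} (h₁ : RM q F₀ P M g₁) (h₂ : RM q F₀ P M g₂) :
    RM q F₀ P M (g₂ * g₁) := by
  refine ⟨M.mul_mem h₂.1 h₁.1, (Cfsg.GU n F q).mul_mem h₂.2.1 h₁.2.1, fun x hx => ?_⟩
  rw [Units.val_mul, ← Matrix.mulVec_mulVec]
  exact h₂.2.2 _ (h₁.2.2 _ hx)

lemma T2_move {g : GL (Fin n) F} (hg : RM q F₀ P M g) {x₁ x₂ : Fin n → F}
    (h : T2 q F₀ P x₁ x₂) :
    T2 q F₀ P ((g : Matrix (Fin n) (Fin n) F) *ᵥ x₁)
      ((g : Matrix (Fin n) (Fin n) F) *ᵥ x₂) := by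
  obtain ⟨h1, h2, h3, h4⟩ := h
  refine ⟨hg.2.2 _ h1, hg.2.2 _ h2, ?_, ?_⟩
  · rw [mem_GU.mp hg.2.1]; exact h3
  · intro s t hs ht hst
    apply h4 s t hs ht
    apply mulVec_inj g
    rw [Matrix.mulVec_add, Matrix.mulVec_smul, Matrix.mulVec_smul, Matrix.mulVec_zero]
    exact hst

lemma exists_both {V : Type*} [AddCommGroup V] (p : V → Prop)
    (hp : ∀ x y, p x → p y → p (x + y)) (φ ψ : V → F)
    (hφ : ∀ x y, φ (x + y) = φ x + φ y) (hψ : ∀ x y, ψ (x + y) = ψ x + ψ y)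
    {z₁ z₂ : V} (h1 : p z₁) (h1' : φ z₁ ≠ 0) (h2 : p z₂) (h2' : ψ z₂ ≠ 0) :
    ∃ z, p z ∧ φ z ≠ 0 ∧ ψ z ≠ 0 := by
  by_cases ha : ψ z₁ = 0
  · by_cases hb : φ z₂ = 0
    · refine ⟨z₁ + z₂, hp _ _ h1 h2, ?_, ?_⟩
      · rw [hφ, hb, add_zero]; exact h1'
      · rw [hψ, ha, zero_add]; exact h2'
    · exact ⟨z₂, h2, hb, h2'⟩
  · exact ⟨z₁, h1, h1', ha⟩

lemma mult_of_not_ind (ω : F) {x₁ x₂ : Fin n → F} (h₁ : IsRat F₀ P x₁) (h₂ : IsRat F₀ P x₂)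
    (h : ¬ Ind F₀ x₁ x₂) :
    ∃ (κ : F) (r : Fin n → F), IsRat F₀ P r ∧ x₁ + ω • x₂ = κ • r := by
  by_contra hcon
  apply h
  intro s t hs ht hst
  have ht0 : t = 0 := by
    by_contra ht0
    apply hcon
    refine ⟨1 + ω * (-(s / t)), x₁, h₁, ?_⟩
    have hx2 : x₂ = (-(s / t)) • x₁ := by
      funext i
      have e := congrFun hst i
      simp only [Pi.add_apply, Pi.smul_apply, smul_eq_mul, Pi.zero_apply] at e ⊢
      have e' : t * (x₂ i - -(s / t) * x₁ i) = 0 := by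
        have : t * (s / t) = s := mul_div_cancel₀ _ ht0
        linear_combination e + x₁ i * this
      have := (mul_eq_zero.mp e').resolve_left ht0
      exact sub_eq_zero.mp this
    rw [add_smul, one_smul, mul_smul, ← hx2]
  refine ⟨?_, ht0⟩
  by_contra hs0
  apply hcon
  rw [ht0, zero_smul, add_zero] at hst
  have hx1 : x₁ = 0 := (smul_eq_zero.mp hst).resolve_left hs0
  exact ⟨ω, x₂, h₂, by rw [hx1, zero_add]⟩

lemma ind_mulVec {u u' : Fin n → F} (h : ∀ s t : F, s • u + t • u' = 0 → s = 0 ∧ t = 0) :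
    Ind F₀ ((P : Matrix (Fin n) (Fin n) F) *ᵥ u) ((P : Matrix (Fin n) (Fin n) F) *ᵥ u') := by
  intro s t _ _ hst
  apply h
  apply mulVec_inj P
  rw [Matrix.mulVec_add, Matrix.mulVec_smul, Matrix.mulVec_smul, Matrix.mulVec_zero]
  exact hst

end Gen

section Main
variable {F : Type*} [Field F] [Fintype F] {q n : ℕ}

/-- the data of a symplectic rational structure for the standard unitary form -/
structure Setup (hF : Fintype.card F = q ^ 2) (F₀ : Subfield F) (ζ : F) (P : GL (Fin n) F) :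
    Prop where
  card : Nat.card F₀ = q
  z0 : ζ ≠ 0
  zs : frobQ hF ζ = -ζ
  form : ∀ x y, IsRat F₀ P x → IsRat F₀ P y → ζ * Cfsg.hermForm n F q x y ∈ F₀
  iso : ∀ x, IsRat F₀ P x → Cfsg.hermForm n F q x x = 0

lemma good_move {hF : Fintype.card F = q ^ 2} {F₀ : Subfield F} {P : GL (Fin n) F}
    {M : Subgroup (GL (Fin n) F)} {g : GL (Fin n) F} (hg : RM q F₀ P M g) {ω : F}
    {v₁ v₂ : Fin n → F} (h : v₁ + ω • v₂ ∈ Sset hF M) :
    (g : Matrix (Fin n) (Fin n) F) *ᵥ v₁ + ω • ((g : Matrix (Fin n) (Fin n) F) *ᵥ v₂) ∈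
      Sset hF M := by
  have := Sset_mulVec_mem hF hg.1 hg.2.1 h
  rwa [Matrix.mulVec_add, Matrix.mulVec_smul] at this

namespace Setup
variable {hF : Fintype.card F = q ^ 2} {F₀ : Subfield F} {ζ : F} {P : GL (Fin n) F}
  {M : Subgroup (GL (Fin n) F)} (S : Setup hF F₀ ζ P)
include S

lemma fix_iff (x : F) : x ∈ F₀ ↔ frobQ hF x = x := mem_iff hF F₀ S.card x

lemma skew {x y : Fin n → F} (hx : IsRat F₀ P x) (hy : IsRat F₀ P y) :
    Cfsg.hermForm n F q y x = -Cfsg.hermForm n F q x y := by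
  have hf := herm_unitary (n := n) hF
  have h1 := S.iso _ (isRat_add hx hy)
  rw [hf.add_left, u_add_right hf, u_add_right hf, S.iso x hx, S.iso y hy] at h1
  linear_combination h1

lemma coef_mem {c : F} (hc : frobQ hF c = -c) {x y : Fin n → F} (hx : IsRat F₀ P x)
    (hy : IsRat F₀ P y) : c * Cfsg.hermForm n F q x y ∈ F₀ := by
  have h1 : c / ζ ∈ F₀ := by
    rw [S.fix_iff, map_div₀, hc, S.zs, neg_div_neg_eq]
  have h2 := S.form x y hx hy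
  have h3 : c * Cfsg.hermForm n F q x y = (c / ζ) * (ζ * Cfsg.hermForm n F q x y) := by
    rw [← mul_assoc, div_mul_cancel₀ _ S.z0]
  rw [h3]
  exact F₀.mul_mem h1 h2

lemma skew_of_mem {l : F} (hl : l ∈ F₀) : frobQ hF (l * ζ) = -(l * ζ) := by
  rw [map_mul, (S.fix_iff l).mp hl, S.zs, mul_neg]

lemma rat_mem_Sset (hn : 0 < n)
    (hHM : Cfsg.Geo.subfieldSubgroup F₀ P ⊓
      (Cfsg.GU n F q ⊓ Cfsg.Geo.specialLinear (Fin n) F) ≤ M) {w : Fin n → F}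
    (hw : IsRat F₀ P w) : w ∈ Sset hF M := by
  intro c hc g hg
  refine hHM ⟨mem_subfield_of_maps hn g (fun x hx =>
    ⟨1, x + (c * Cfsg.hermForm n F q x w) • w,
      isRat_add hx (isRat_smul (S.coef_mem hc hx hw) hw), ?_⟩),
    tv_mem_G hF (S.iso w hw) hc hg⟩
  rw [hg, one_smul]

lemma decomp_vec {ω : F} (hω : frobQ hF ω ≠ ω) (x : Fin n → F) :
    ∃ x₁ x₂ : Fin n → F, IsRat F₀ P x₁ ∧ IsRat F₀ P x₂ ∧ x = x₁ + ω • x₂ := by
  have h := fun i => decomp_field hF F₀ S.card hω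
    ((((P⁻¹ : GL (Fin n) F) : Matrix (Fin n) (Fin n) F) *ᵥ x) i)
  choose α β hα hβ hαβ using h
  refine ⟨(P : Matrix (Fin n) (Fin n) F) *ᵥ α, (P : Matrix (Fin n) (Fin n) F) *ᵥ β,
    isRat_mulVec hα, isRat_mulVec hβ, ?_⟩
  have h1 : ((P⁻¹ : GL (Fin n) F) : Matrix (Fin n) (Fin n) F) *ᵥ x = α + ω • β := by
    funext i
    rw [hαβ i]
    simp
  calc x = (P : Matrix (Fin n) (Fin n) F) *ᵥ
        (((P⁻¹ : GL (Fin n) F) : Matrix (Fin n) (Fin n) F) *ᵥ x) := (mul_inv_mulVec P x).symm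
    _ = _ := by rw [h1, Matrix.mulVec_add, Matrix.mulVec_smul]

lemma field_unique {ω : F} (hω : frobQ hF ω ≠ ω) {α β : F} (hα : α ∈ F₀) (hβ : β ∈ F₀)
    (h : α + ω * β = 0) : α = 0 ∧ β = 0 := by
  have hβ0 : β = 0 := by
    by_contra hβ0
    apply hω
    have : ω = -α / β := by
      rw [eq_div_iff hβ0]
      linear_combination h
    rw [← S.fix_iff, this]
    exact F₀.div_mem (F₀.neg_mem hα) hβ
  refine ⟨?_, hβ0⟩
  rw [hβ0, mul_zero, add_zero] at h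
  exact h

lemma decomp_unique {ω : F} (hω : frobQ hF ω ≠ ω) {d₁ d₂ : Fin n → F} (h₁ : IsRat F₀ P d₁)
    (h₂ : IsRat F₀ P d₂) (h : d₁ + ω • d₂ = 0) : d₁ = 0 ∧ d₂ = 0 := by
  have h1 : ((P⁻¹ : GL (Fin n) F) : Matrix (Fin n) (Fin n) F) *ᵥ d₁ +
      ω • (((P⁻¹ : GL (Fin n) F) : Matrix (Fin n) (Fin n) F) *ᵥ d₂) = 0 := by
    rw [← Matrix.mulVec_smul, ← Matrix.mulVec_add, h, Matrix.mulVec_zero]
  have h2 : ∀ i, (((P⁻¹ : GL (Fin n) F) : Matrix (Fin n) (Fin n) F) *ᵥ d₁) i = 0 ∧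
      (((P⁻¹ : GL (Fin n) F) : Matrix (Fin n) (Fin n) F) *ᵥ d₂) i = 0 := fun i => by
    apply S.field_unique hω (h₁ i) (h₂ i)
    have := congrFun h1 i
    simpa using this
  have e1 : ((P⁻¹ : GL (Fin n) F) : Matrix (Fin n) (Fin n) F) *ᵥ d₁ = 0 :=
    funext fun i => (h2 i).1
  have e2 : ((P⁻¹ : GL (Fin n) F) : Matrix (Fin n) (Fin n) F) *ᵥ d₂ = 0 :=
    funext fun i => (h2 i).2
  refine ⟨?_, ?_⟩
  · rw [← mul_inv_mulVec P d₁, e1, Matrix.mulVec_zero]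
  · rw [← mul_inv_mulVec P d₂, e2, Matrix.mulVec_zero]

lemma ind_not_mult {ω : F} (hω : frobQ hF ω ≠ ω) {y₁ y₂ : Fin n → F} (h₁ : IsRat F₀ P y₁)
    (h₂ : IsRat F₀ P y₂) (hind : Ind F₀ y₁ y₂) {κ : F} {r : Fin n → F} (hr : IsRat F₀ P r)
    (h : y₁ + ω • y₂ = κ • r) : False := by
  obtain ⟨κ₁, κ₂, hκ₁, hκ₂, hκ⟩ := decomp_field hF F₀ S.card hω κ
  have h0 : (y₁ - κ₁ • r) + ω • (y₂ - κ₂ • r) = 0 := by
    have h3 : κ • r = κ₁ • r + (ω * κ₂) • r := by rw [← add_smul, ← hκ]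
    rw [h3] at h
    rw [smul_sub, smul_smul, sub_add_sub_comm, h, sub_self]
  obtain ⟨e1, e2⟩ := S.decomp_unique hω (isRat_sub h₁ (isRat_smul hκ₁ hr))
    (isRat_sub h₂ (isRat_smul hκ₂ hr)) h0
  have e1' : y₁ = κ₁ • r := sub_eq_zero.mp e1
  have e2' : y₂ = κ₂ • r := sub_eq_zero.mp e2
  have h3 : κ₂ • y₁ + (-κ₁) • y₂ = 0 := by
    rw [e1', e2', smul_smul, smul_smul, ← add_smul]
    have : κ₂ * κ₁ + -κ₁ * κ₂ = 0 := by ring
    rw [this, zero_smul]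
  obtain ⟨hk2, hk1⟩ := hind _ _ hκ₂ (F₀.neg_mem hκ₁) h3
  have hy1 : y₁ = 0 := by rw [e1', neg_eq_zero.mp hk1, zero_smul]
  exact ind_ne_zero hind hy1

lemma dual1 {ω : F} (hω : frobQ hF ω ≠ ω) {v : Fin n → F} (hv0 : v ≠ 0) :
    ∃ z, IsRat F₀ P z ∧ Cfsg.hermForm n F q v z ≠ 0 := by
  have hf := herm_unitary (n := n) hF
  by_contra hcon
  have hcon' : ∀ z, IsRat F₀ P z → Cfsg.hermForm n F q v z = 0 := by
    intro z hz
    by_contra hne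
    exact hcon ⟨z, hz, hne⟩
  apply hv0
  apply u_eq_zero_of_forall_right hf
  intro x
  obtain ⟨x₁, x₂, h₁, h₂, rfl⟩ := S.decomp_vec hω x
  rw [u_add_right hf, u_smul_right hf, hcon' x₁ h₁, hcon' x₂ h₂, mul_zero, add_zero]

lemma dual2 {ω : F} (hω : frobQ hF ω ≠ ω) {v₁ v₂ : Fin n → F} (h₁ : IsRat F₀ P v₁)
    (h₂ : IsRat F₀ P v₂) (hind : Ind F₀ v₁ v₂) :
    ∃ z, IsRat F₀ P z ∧ Cfsg.hermForm n F q v₁ z = 0 ∧ Cfsg.hermForm n F q v₂ z ≠ 0 := by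
  have hf := herm_unitary (n := n) hF
  have hz := S.z0
  by_contra hcon
  have hcon' : ∀ z, IsRat F₀ P z → Cfsg.hermForm n F q v₁ z = 0 →
      Cfsg.hermForm n F q v₂ z = 0 := by
    intro z hzr hz1
    by_contra hz2
    exact hcon ⟨z, hzr, hz1, hz2⟩
  obtain ⟨z₀, hz₀, hne⟩ := S.dual1 hω (ind_ne_zero hind)
  have hD : ζ * Cfsg.hermForm n F q v₁ z₀ ≠ 0 := mul_ne_zero hz hne
  obtain ⟨μ, hμmem, hμd⟩ : ∃ μ, μ ∈ F₀ ∧
      μ * (ζ * Cfsg.hermForm n F q v₁ z₀) = ζ * Cfsg.hermForm n F q v₂ z₀ :=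
    ⟨(ζ * Cfsg.hermForm n F q v₂ z₀) / (ζ * Cfsg.hermForm n F q v₁ z₀),
      F₀.div_mem (S.form _ _ h₂ hz₀) (S.form _ _ h₁ hz₀), div_mul_cancel₀ _ hD⟩
  have hall : ∀ z, IsRat F₀ P z → Cfsg.hermForm n F q (v₂ - μ • v₁) z = 0 := by
    intro z hzr
    obtain ⟨t, htmem, htd⟩ : ∃ t, t ∈ F₀ ∧
        t * (ζ * Cfsg.hermForm n F q v₁ z₀) = ζ * Cfsg.hermForm n F q v₁ z :=
      ⟨(ζ * Cfsg.hermForm n F q v₁ z) / (ζ * Cfsg.hermForm n F q v₁ z₀),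
        F₀.div_mem (S.form _ _ h₁ hzr) (S.form _ _ h₁ hz₀), div_mul_cancel₀ _ hD⟩
    have htfix : frobQ hF t = t := (S.fix_iff t).mp htmem
    have hz' : IsRat F₀ P (z - t • z₀) := isRat_sub hzr (isRat_smul htmem hz₀)
    have e1 : Cfsg.hermForm n F q v₁ (z - t • z₀) = 0 := by
      rw [u_sub_right hf, u_smul_right hf, htfix]
      have : ζ * (Cfsg.hermForm n F q v₁ z - t * Cfsg.hermForm n F q v₁ z₀) = 0 := by
        linear_combination -htd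
      exact (mul_eq_zero.mp this).resolve_left hz
    have e2 := hcon' _ hz' e1
    rw [u_sub_right hf, u_smul_right hf, htfix] at e2
    rw [u_sub_left hf, hf.smul_left]
    have : (ζ * Cfsg.hermForm n F q v₁ z₀) * ζ *
        (Cfsg.hermForm n F q v₂ z - μ * Cfsg.hermForm n F q v₁ z) = 0 := by
      linear_combination (ζ * Cfsg.hermForm n F q v₁ z₀) * ζ * e2
        - ζ * Cfsg.hermForm n F q v₁ z * hμd + ζ * Cfsg.hermForm n F q v₂ z₀ * htd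
    exact (mul_eq_zero.mp this).resolve_left (mul_ne_zero hD hz)
  have hzero : v₂ - μ • v₁ = 0 := by
    by_contra hne0
    obtain ⟨z, hzr, hzne⟩ := S.dual1 hω hne0
    exact hzne (hall z hzr)
  have := (hind (-μ) 1 (F₀.neg_mem hμmem) F₀.one_mem
    (by rw [neg_smul, one_smul, neg_add_eq_sub]; exact hzero)).2
  exact one_ne_zero this

lemma exists_tv_move (hR : ∀ w, IsRat F₀ P w → w ∈ Sset hF M) {w : Fin n → F}
    (hw : IsRat F₀ P w) {l : F} (hl : l ∈ F₀) :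
    ∃ g : GL (Fin n) F, RM q F₀ P M g ∧ ∀ x, (g : Matrix (Fin n) (Fin n) F) *ᵥ x =
      x + (l * (ζ * Cfsg.hermForm n F q x w)) • w := by
  have hc := S.skew_of_mem hl
  obtain ⟨g, hgG, hg⟩ := exists_tvg hF (S.iso w hw) hc
  refine ⟨g, ⟨hR w hw _ hc g hg, hgG.1, fun x hx => ?_⟩, fun x => ?_⟩
  · rw [hg]
    exact isRat_add hx (isRat_smul (S.coef_mem hc hx hw) hw)
  · rw [hg, mul_assoc]

lemma move_ne (hR : ∀ w, IsRat F₀ P w → w ∈ Sset hF M) {a b : Fin n → F}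
    (ha : IsRat F₀ P a) (hb : IsRat F₀ P b) (hab : Cfsg.hermForm n F q a b ≠ 0) :
    ∃ g : GL (Fin n) F, RM q F₀ P M g ∧ (g : Matrix (Fin n) (Fin n) F) *ᵥ a = b ∧
      ∀ x, Cfsg.hermForm n F q x a = 0 → Cfsg.hermForm n F q x b = 0 →
        (g : Matrix (Fin n) (Fin n) F) *ᵥ x = x := by
  have hf := herm_unitary (n := n) hF
  have hne : ζ * Cfsg.hermForm n F q a b ≠ 0 := mul_ne_zero S.z0 hab
  have hl : (ζ * Cfsg.hermForm n F q a b)⁻¹ ∈ F₀ := F₀.inv_mem (S.form a b ha hb)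
  obtain ⟨g, hgR, hg⟩ := S.exists_tv_move hR (isRat_sub ha hb) hl
  refine ⟨g, hgR, ?_, ?_⟩
  · rw [hg, u_sub_right hf, S.iso a ha, zero_sub]
    have : (ζ * Cfsg.hermForm n F q a b)⁻¹ * (ζ * -Cfsg.hermForm n F q a b) = -1 := by
      rw [mul_neg, mul_neg, inv_mul_cancel₀ hne]
    rw [this, neg_one_smul]
    abel
  · intro x hxa hxb
    rw [hg, u_sub_right hf, hxa, hxb, sub_zero, mul_zero, mul_zero, zero_smul, add_zero]

lemma exists_move1 (hR : ∀ w, IsRat F₀ P w → w ∈ Sset hF M) {ω : F} (hω : frobQ hF ω ≠ ω)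
    {v v' : Fin n → F} (hv : IsRat F₀ P v) (hv' : IsRat F₀ P v') (hv0 : v ≠ 0)
    (hv'0 : v' ≠ 0) :
    ∃ g : GL (Fin n) F, RM q F₀ P M g ∧ (g : Matrix (Fin n) (Fin n) F) *ᵥ v = v' := by
  have hf := herm_unitary (n := n) hF
  obtain ⟨z₁, hz₁, hne₁⟩ := S.dual1 hω hv0
  obtain ⟨z₂, hz₂, hne₂⟩ := S.dual1 hω hv'0
  obtain ⟨z, hzr, hz1, hz2⟩ := exists_both (IsRat F₀ P) (fun x y hx hy => isRat_add hx hy)
    (fun z => Cfsg.hermForm n F q v z) (fun z => Cfsg.hermForm n F q v' z)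
    (fun x y => u_add_right hf v x y) (fun x y => u_add_right hf v' x y) hz₁ hne₁ hz₂ hne₂
  obtain ⟨g₁, hg₁, e₁, -⟩ := S.move_ne hR hv hzr hz1
  obtain ⟨g₂, hg₂, e₂, -⟩ := S.move_ne hR hzr hv' (u_symm_ne hf hz2)
  refine ⟨g₂ * g₁, RM_mul hg₁ hg₂, ?_⟩
  rw [Units.val_mul, ← Matrix.mulVec_mulVec, e₁, e₂]

lemma exists_move2 (hR : ∀ w, IsRat F₀ P w → w ∈ Sset hF M) {ω : F} (hω : frobQ hF ω ≠ ω)
    {v₁ v₂ v₂' : Fin n → F} (h : T2 q F₀ P v₁ v₂) (h' : T2 q F₀ P v₁ v₂') :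
    ∃ g : GL (Fin n) F, RM q F₀ P M g ∧ (g : Matrix (Fin n) (Fin n) F) *ᵥ v₁ = v₁ ∧
      (g : Matrix (Fin n) (Fin n) F) *ᵥ v₂ = v₂' := by
  have hf := herm_unitary (n := n) hF
  obtain ⟨r1, r2, p12, i12⟩ := h
  obtain ⟨-, r2', p12', i12'⟩ := h'
  obtain ⟨z₁, hz₁, hp₁, hne₁⟩ := S.dual2 hω r1 r2 i12
  obtain ⟨z₂, hz₂, hp₂, hne₂⟩ := S.dual2 hω r1 r2' i12'
  obtain ⟨z, hzp, hz1, hz2⟩ := exists_both
    (fun z => IsRat F₀ P z ∧ Cfsg.hermForm n F q v₁ z = 0)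
    (fun x y hx hy => ⟨isRat_add hx.1 hy.1, by rw [u_add_right hf, hx.2, hy.2, add_zero]⟩)
    (fun z => Cfsg.hermForm n F q v₂ z) (fun z => Cfsg.hermForm n F q v₂' z)
    (fun x y => u_add_right hf v₂ x y) (fun x y => u_add_right hf v₂' x y)
    ⟨hz₁, hp₁⟩ hne₁ ⟨hz₂, hp₂⟩ hne₂
  obtain ⟨hzr, hzp⟩ := hzp
  obtain ⟨g₁, hg₁, e₁, f₁⟩ := S.move_ne hR r2 hzr hz1
  obtain ⟨g₂, hg₂, e₂, f₂⟩ := S.move_ne hR hzr r2' (u_symm_ne hf hz2)
  refine ⟨g₂ * g₁, RM_mul hg₁ hg₂, ?_, ?_⟩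
  · rw [Units.val_mul, ← Matrix.mulVec_mulVec, f₁ v₁ p12 hzp, f₂ v₁ hzp p12']
  · rw [Units.val_mul, ← Matrix.mulVec_mulVec, e₁, e₂]

lemma exists_move (hR : ∀ w, IsRat F₀ P w → w ∈ Sset hF M) {ω : F} (hω : frobQ hF ω ≠ ω)
    {v₁ v₂ v₁' v₂' : Fin n → F} (h : T2 q F₀ P v₁ v₂) (h' : T2 q F₀ P v₁' v₂') :
    ∃ g : GL (Fin n) F, RM q F₀ P M g ∧ (g : Matrix (Fin n) (Fin n) F) *ᵥ v₁ = v₁' ∧
      (g : Matrix (Fin n) (Fin n) F) *ᵥ v₂ = v₂' := by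
  obtain ⟨g₁, hg₁, e₁⟩ := S.exists_move1 hR hω h.1 h'.1 (ind_ne_zero h.2.2.2)
    (ind_ne_zero h'.2.2.2)
  have h2 := T2_move hg₁ h
  rw [e₁] at h2
  obtain ⟨g₂, hg₂, e₂, e₃⟩ := S.exists_move2 hR hω h2 h'
  refine ⟨g₂ * g₁, RM_mul hg₁ hg₂, ?_, ?_⟩
  · rw [Units.val_mul, ← Matrix.mulVec_mulVec, e₁, e₂]
  · rw [Units.val_mul, ← Matrix.mulVec_mulVec, e₃]

lemma perp_of_iso {ω : F} (hω : frobQ hF ω ≠ ω) {x₁ x₂ : Fin n → F} (h₁ : IsRat F₀ P x₁)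
    (h₂ : IsRat F₀ P x₂)
    (h : Cfsg.hermForm n F q (x₁ + ω • x₂) (x₁ + ω • x₂) = 0) :
    Cfsg.hermForm n F q x₁ x₂ = 0 := by
  have hf := herm_unitary (n := n) hF
  rw [u_expand hf, S.iso x₁ h₁, S.iso x₂ h₂, S.skew h₁ h₂] at h
  have : (frobQ hF ω - ω) * Cfsg.hermForm n F q x₁ x₂ = 0 := by linear_combination h
  rcases mul_eq_zero.mp this with h0 | h0
  · exact absurd (sub_eq_zero.mp h0) hω
  · exact h0

lemma iso_of_perp (ω : F) {x₁ x₂ : Fin n → F} (h₁ : IsRat F₀ P x₁)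
    (h₂ : IsRat F₀ P x₂) (h : Cfsg.hermForm n F q x₁ x₂ = 0) :
    Cfsg.hermForm n F q (x₁ + ω • x₂) (x₁ + ω • x₂) = 0 := by
  have hf := herm_unitary (n := n) hF
  rw [u_expand hf, S.iso x₁ h₁, S.iso x₂ h₂, S.skew h₁ h₂, h]
  ring

lemma all_mem_Sset (hR : ∀ w, IsRat F₀ P w → w ∈ Sset hF M) {ω : F} (hω : frobQ hF ω ≠ ω)
    {v₁ v₂ : Fin n → F} (hT : T2 q F₀ P v₁ v₂) (hgood : v₁ + ω • v₂ ∈ Sset hF M)
    (a : Fin n → F) (ha : Cfsg.hermForm n F q a a = 0) : a ∈ Sset hF M := by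
  obtain ⟨x₁, x₂, h₁, h₂, rfl⟩ := S.decomp_vec hω a
  have hp := S.perp_of_iso hω h₁ h₂ ha
  by_cases hind : Ind F₀ x₁ x₂
  · obtain ⟨g, hg, e1, e2⟩ := S.exists_move hR hω hT ⟨h₁, h₂, hp, hind⟩
    have := good_move hg hgood
    rwa [e1, e2] at this
  · obtain ⟨κ, r, hr, hκ⟩ := mult_of_not_ind ω h₁ h₂ hind
    rw [hκ]
    exact Sset_smul hF (hR r hr) κ

lemma exists_good (hn : 0 < n) (hR : ∀ w, IsRat F₀ P w → w ∈ Sset hF M)
    (hMG : M ≤ Cfsg.GU n F q ⊓ Cfsg.Geo.specialLinear (Fin n) F) {ω : F}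
    (hω : frobQ hF ω ≠ ω) {g : GL (Fin n) F} (hgM : g ∈ M)
    (hgH : g ∉ Cfsg.Geo.subfieldSubgroup F₀ P) :
    ∃ v₁ v₂ : Fin n → F, T2 q F₀ P v₁ v₂ ∧ v₁ + ω • v₂ ∈ Sset hF M := by
  have hgU := (hMG hgM).1
  have h1 : ∃ x, IsRat F₀ P x ∧ ¬ ∃ (κ : F) (r : Fin n → F), IsRat F₀ P r ∧
      (g : Matrix (Fin n) (Fin n) F) *ᵥ x = κ • r := by
    by_contra hcon
    apply hgH
    apply mem_subfield_of_maps hn g
    intro x hx
    by_contra hx'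
    exact hcon ⟨x, hx, hx'⟩
  obtain ⟨x, hx, hnot⟩ := h1
  have hmem := Sset_mulVec_mem hF hgM hgU (hR x hx)
  have hiso : Cfsg.hermForm n F q ((g : Matrix (Fin n) (Fin n) F) *ᵥ x)
      ((g : Matrix (Fin n) (Fin n) F) *ᵥ x) = 0 := by
    rw [mem_GU.mp hgU]; exact S.iso x hx
  obtain ⟨x₁, x₂, h₁, h₂, hdec⟩ := S.decomp_vec hω ((g : Matrix (Fin n) (Fin n) F) *ᵥ x)
  rw [hdec] at hiso hmem
  have hp := S.perp_of_iso hω h₁ h₂ hiso
  by_cases hind : Ind F₀ x₁ x₂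
  · exact ⟨x₁, x₂, ⟨h₁, h₂, hp, hind⟩, hmem⟩
  · exfalso
    obtain ⟨κ, r, hr, hκ⟩ := mult_of_not_ind ω h₁ h₂ hind
    exact hnot ⟨κ, r, hr, by rw [hdec, hκ]⟩

lemma exists_T2 (hn : 3 ≤ n) : ∃ v₁ v₂ : Fin n → F, T2 q F₀ P v₁ v₂ := by
  have hf := herm_unitary (n := n) hF
  have hz := S.z0
  obtain ⟨i0, i1, i2, h01, h02, h12⟩ := Fintype.two_lt_card_iff.mp
    (show 2 < Fintype.card (Fin n) by rw [Fintype.card_fin]; omega)
  have r0 : IsRat F₀ P ((P : Matrix (Fin n) (Fin n) F) *ᵥ (Pi.single i0 1 : Fin n → F)) :=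
    isRat_single i0
  have r1 : IsRat F₀ P ((P : Matrix (Fin n) (Fin n) F) *ᵥ (Pi.single i1 1 : Fin n → F)) :=
    isRat_single i1
  have r2 : IsRat F₀ P ((P : Matrix (Fin n) (Fin n) F) *ᵥ (Pi.single i2 1 : Fin n → F)) :=
    isRat_single i2
  by_cases hc : Cfsg.hermForm n F q
      ((P : Matrix (Fin n) (Fin n) F) *ᵥ (Pi.single i0 1 : Fin n → F))
      ((P : Matrix (Fin n) (Fin n) F) *ᵥ (Pi.single i1 1 : Fin n → F)) = 0
  · refine ⟨_, _, r0, r1, hc, ?_⟩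
    apply ind_mulVec
    intro s t hst
    have e0 := congrFun hst i0
    have e1 := congrFun hst i1
    simp [Pi.single_apply, h01, h01.symm] at e0 e1
    exact ⟨e0, e1⟩
  · obtain ⟨t₀, ht₀mem, ht₀⟩ : ∃ t, t ∈ F₀ ∧
        t * (ζ * Cfsg.hermForm n F q
          ((P : Matrix (Fin n) (Fin n) F) *ᵥ (Pi.single i0 1 : Fin n → F))
          ((P : Matrix (Fin n) (Fin n) F) *ᵥ (Pi.single i1 1 : Fin n → F))) =
        ζ * Cfsg.hermForm n F q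
          ((P : Matrix (Fin n) (Fin n) F) *ᵥ (Pi.single i0 1 : Fin n → F))
          ((P : Matrix (Fin n) (Fin n) F) *ᵥ (Pi.single i2 1 : Fin n → F)) :=
      ⟨_ / _, F₀.div_mem (S.form _ _ r0 r2) (S.form _ _ r0 r1),
        div_mul_cancel₀ _ (mul_ne_zero hz hc)⟩
    have key : (P : Matrix (Fin n) (Fin n) F) *ᵥ
        ((Pi.single i2 1 : Fin n → F) - t₀ • (Pi.single i1 1 : Fin n → F)) =
        (P : Matrix (Fin n) (Fin n) F) *ᵥ (Pi.single i2 1 : Fin n → F) -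
          t₀ • ((P : Matrix (Fin n) (Fin n) F) *ᵥ (Pi.single i1 1 : Fin n → F)) := by
      rw [Matrix.mulVec_sub, Matrix.mulVec_smul]
    refine ⟨_, (P : Matrix (Fin n) (Fin n) F) *ᵥ
        ((Pi.single i2 1 : Fin n → F) - t₀ • (Pi.single i1 1 : Fin n → F)), r0, ?_, ?_, ?_⟩
    · rw [key]; exact isRat_sub r2 (isRat_smul ht₀mem r1)
    · rw [key, u_sub_right hf, u_smul_right hf, (S.fix_iff t₀).mp ht₀mem]
      have : ζ * (Cfsg.hermForm n F q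
          ((P : Matrix (Fin n) (Fin n) F) *ᵥ (Pi.single i0 1 : Fin n → F))
          ((P : Matrix (Fin n) (Fin n) F) *ᵥ (Pi.single i2 1 : Fin n → F)) -
          t₀ * Cfsg.hermForm n F q
          ((P : Matrix (Fin n) (Fin n) F) *ᵥ (Pi.single i0 1 : Fin n → F))
          ((P : Matrix (Fin n) (Fin n) F) *ᵥ (Pi.single i1 1 : Fin n → F))) = 0 := by
        linear_combination -ht₀
      exact (mul_eq_zero.mp this).resolve_left hz
    · apply ind_mulVec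
      intro s t hst
      have e0 := congrFun hst i0
      have e2 := congrFun hst i2
      simp [Pi.single_apply, h01, h02, h12, h01.symm, h02.symm, h12.symm] at e0 e2
      exact ⟨e0, e2⟩

lemma tv_not_mem {ω : F} (hω : frobQ hF ω ≠ ω) {v₁ v₂ : Fin n → F} (hT : T2 q F₀ P v₁ v₂)
    {g : GL (Fin n) F}
    (hg : ∀ x, (g : Matrix (Fin n) (Fin n) F) *ᵥ x =
      x + (ζ * Cfsg.hermForm n F q x (v₁ + ω • v₂)) • (v₁ + ω • v₂)) :
    g ∉ Cfsg.Geo.subfieldSubgroup F₀ P := by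
  have hf := herm_unitary (n := n) hF
  intro hmem
  obtain ⟨r1, r2, p12, i12⟩ := hT
  obtain ⟨μ, hμ0, hμ⟩ := rat_of_mem_subfield g hmem
  obtain ⟨z, hzr, hz1, hz2⟩ := S.dual2 hω r1 r2 i12
  obtain ⟨r, hr, hgr⟩ := hμ z hzr
  have hzv1 : Cfsg.hermForm n F q z v₁ = 0 := u_symm_zero hf hz1
  have hzv2 : Cfsg.hermForm n F q z v₂ ≠ 0 := u_symm_ne hf hz2
  rw [hg, u_add_right hf, u_smul_right hf, hzv1, zero_add] at hgr
  obtain ⟨β, hβ⟩ : ∃ β, β = ζ * Cfsg.hermForm n F q z v₂ := ⟨_, rfl⟩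
  have hβmem : β ∈ F₀ := by rw [hβ]; exact S.form z v₂ hzr r2
  have hβ0 : β ≠ 0 := by rw [hβ]; exact mul_ne_zero S.z0 hzv2
  have hTm : ω + frobQ hF ω ∈ F₀ := by
    rw [S.fix_iff, map_add, hf.involutive, add_comm]
  have hNm : ω * frobQ hF ω ∈ F₀ := by
    rw [S.fix_iff, map_mul, hf.involutive, mul_comm]
  have hy1 : IsRat F₀ P (z + (β * (ω + frobQ hF ω)) • v₁ + (β * (ω * frobQ hF ω)) • v₂) :=
    isRat_add (isRat_add hzr (isRat_smul (F₀.mul_mem hβmem hTm) r1))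
      (isRat_smul (F₀.mul_mem hβmem hNm) r2)
  have hy2 : IsRat F₀ P ((-β) • v₁) := isRat_smul (F₀.neg_mem hβmem) r1
  have hy : (z + (β * (ω + frobQ hF ω)) • v₁ + (β * (ω * frobQ hF ω)) • v₂) +
      ω • ((-β) • v₁) = μ • r := by
    rw [← hgr, hβ]
    module
  refine S.ind_not_mult hω hy1 hy2 ?_ hr hy
  intro s t hs ht hst
  have h5 : Cfsg.hermForm n F q (s • (z + (β * (ω + frobQ hF ω)) • v₁ +
      (β * (ω * frobQ hF ω)) • v₂) + t • ((-β) • v₁)) v₂ = 0 := by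
    rw [hst, u_zero_left hf]
  simp only [hf.add_left, hf.smul_left, p12, S.iso v₂ r2] at h5
  have hs0 : s = 0 := by
    have : s * Cfsg.hermForm n F q z v₂ = 0 := by linear_combination h5
    exact (mul_eq_zero.mp this).resolve_right hzv2
  rw [hs0, zero_smul, zero_add, smul_smul] at hst
  have ht0 : t * -β = 0 := (smul_eq_zero.mp hst).resolve_right (ind_ne_zero i12)
  refine ⟨hs0, ?_⟩
  rcases mul_eq_zero.mp ht0 with h | h
  · exact h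
  · exact absurd (neg_eq_zero.mp h) hβ0

theorem maximal (hn : 3 ≤ n) (h32 : ¬ (n = 3 ∧ q = 2)) :
    Cfsg.Geo.IsMaximalIn (Cfsg.GU n F q ⊓ Cfsg.Geo.specialLinear (Fin n) F)
      (Cfsg.Geo.subfieldSubgroup F₀ P ⊓
        (Cfsg.GU n F q ⊓ Cfsg.Geo.specialLinear (Fin n) F)) := by
  obtain ⟨ω, hω⟩ := exists_moved' hF
  refine ⟨lt_of_le_of_ne inf_le_right ?_, ?_⟩
  · intro heq
    obtain ⟨v₁, v₂, hT⟩ := S.exists_T2 hn
    have haa := S.iso_of_perp ω hT.1 hT.2.1 hT.2.2.1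
    obtain ⟨g, hgG, hg⟩ := exists_tvg hF haa S.zs
    rw [← heq] at hgG
    exact S.tv_not_mem hω hT hg hgG.1
  · intro M hHM hMG
    have hR : ∀ w, IsRat F₀ P w → w ∈ Sset hF M :=
      fun w hw => S.rat_mem_Sset (by omega) hHM hw
    by_cases hMH : M ≤ Cfsg.Geo.subfieldSubgroup F₀ P ⊓
        (Cfsg.GU n F q ⊓ Cfsg.Geo.specialLinear (Fin n) F)
    · left; exact le_antisymm hMH hHM
    · right
      apply le_antisymm hMG
      obtain ⟨g, hgM, hgH⟩ := SetLike.not_le_iff_exists.mp hMH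
      have hgS : g ∉ Cfsg.Geo.subfieldSubgroup F₀ P := fun h => hgH ⟨h, hMG hgM⟩
      obtain ⟨v₁, v₂, hT, hgood⟩ := S.exists_good (by omega) hR hMG hω hgM hgS
      exact le_of_forall_mem_Sset hF hn h32 M
        (fun a ha => S.all_mem_Sset hR hω hT hgood a ha)

end Setup
end Main

end Cfsg.Agent.Lib.Helper5.USub
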