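/-
helper5: S4503 PART E market (planner helper14), leaf BRE-EASYY in `_of` form over PMULT.
From the values of an exceptional row on `P = ⟨x0⟩`: `ε = 1`, `ψ(1) = |F| c`, `∑_{x∈P} ψ(x) = 0`.
-/
import Mathlib
import Cfsg.Prelude.Def_BlockRank
import Cfsg.Agent.Lib.Helper27.DODefs
import Cfsg.Agent.Lib.Helper24.IrrFacts

set_option autoImplicit false

namespace Cfsg.Agent.Lib.Helper5.BREEASYYOf

open Cfsg Cfsg.Agent.Lib.Helper27.DO
open scoped ComplexConjugate

universe u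

section roots

variable {p : ℕ} [hp : Fact p.Prime]

theorem zeta_prim : IsPrimitiveRoot (zetaP p) p := Complex.isPrimitiveRoot_exp p hp.out.ne_zero

theorem zeta_pow_p : zetaP p ^ p = 1 := zeta_prim.pow_eq_one

theorem zeta_ne_zero : zetaP p ≠ 0 := zeta_prim.ne_zero hp.out.ne_zero

theorem conj_zeta_pow (m : ℕ) : conj (zetaP p ^ m) = (zetaP p ^ m)⁻¹ := by
  have h1 : ‖zetaP p ^ m‖ = 1 := by
    apply Complex.norm_eq_one_of_pow_eq_one (n := p) _ hp.out.ne_zero
    rw [← pow_mul, mul_comm, pow_mul, zeta_pow_p, one_pow]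
  exact (Complex.inv_eq_conj h1).symm

/-- orthogonality of the characters of a cyclic group of order `p` -/
theorem sum_orth (a b : ℕ) (ha : a < p) (hb : b < p) :
    ∑ j ∈ Finset.range p, zetaP p ^ (a * j) * conj (zetaP p ^ (b * j)) =
      if a = b then (p : ℂ) else 0 := by
  have hterm : ∀ j : ℕ, zetaP p ^ (a * j) * conj (zetaP p ^ (b * j)) =
      (zetaP p ^ a * (zetaP p ^ b)⁻¹) ^ j := by
    intro j
    rw [conj_zeta_pow, mul_pow, inv_pow, ← pow_mul, ← pow_mul]
  simp_rw [hterm]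
  split_ifs with hab
  · subst hab
    have h1 : zetaP p ^ a * (zetaP p ^ a)⁻¹ = 1 := mul_inv_cancel₀ (pow_ne_zero _ zeta_ne_zero)
    simp [h1]
  · have hξ1 : zetaP p ^ a * (zetaP p ^ b)⁻¹ ≠ 1 := by
      intro h
      have hb0 : zetaP p ^ b ≠ 0 := pow_ne_zero _ zeta_ne_zero
      have h2 : zetaP p ^ a = zetaP p ^ b := (mul_inv_eq_one₀ hb0).mp h
      exact hab (zeta_prim.pow_inj ha hb h2)
    have hξp : (zetaP p ^ a * (zetaP p ^ b)⁻¹) ^ p = 1 := by
      rw [mul_pow, inv_pow, ← pow_mul, ← pow_mul, mul_comm a, mul_comm b, pow_mul, pow_mul,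
        zeta_pow_p, one_pow, one_pow, inv_one, mul_one]
    have hgeom := geom_sum_mul (zetaP p ^ a * (zetaP p ^ b)⁻¹) p
    rw [hξp, sub_self] at hgeom
    rcases mul_eq_zero.mp hgeom with h | h
    · exact h
    · exact absurd (sub_eq_zero.mp h) hξ1

theorem sum_range_zeta : ∑ k ∈ Finset.range p, zetaP p ^ k = 0 :=
  zeta_prim.geom_sum_eq_zero hp.out.one_lt

/-- the sum of `ζ^u` over the units `u` of `ℤ/p` is `-1` -/
theorem sum_units_zeta : ∑ u : (ZMod p)ˣ, zetaP p ^ ((u : ZMod p).val) = -1 := by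
  classical
  have : NeZero p := ⟨hp.out.ne_zero⟩
  have h1 : ∑ z : ZMod p, zetaP p ^ z.val = ∑ k ∈ Finset.range p, zetaP p ^ k := by
    apply Finset.sum_bij (fun z _ => z.val)
    · intro z _
      exact Finset.mem_range.mpr (ZMod.val_lt z)
    · intro a _ b _ h
      exact ZMod.val_injective p h
    · intro k hk
      exact ⟨(k : ZMod p), Finset.mem_univ _, ZMod.val_natCast_of_lt (Finset.mem_range.mp hk)⟩
    · intro z _
      rfl
  have h2 : ∑ u : (ZMod p)ˣ, zetaP p ^ ((u : ZMod p).val) =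
      ∑ z ∈ (Finset.univ : Finset (ZMod p)).erase 0, zetaP p ^ z.val := by
    apply Finset.sum_bij (fun (u : (ZMod p)ˣ) _ => ((u : (ZMod p)ˣ) : ZMod p))
    · intro u _
      exact Finset.mem_erase.mpr ⟨Units.ne_zero u, Finset.mem_univ _⟩
    · intro a _ b _ h
      exact Units.ext h
    · intro z hz
      exact ⟨Units.mk0 z (Finset.mem_erase.mp hz).1, Finset.mem_univ _, rfl⟩
    · intro u _
      rfl
  rw [h2, Finset.sum_erase_eq_sub (Finset.mem_univ _), h1, sum_range_zeta, ZMod.val_zero, pow_zero,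
    zero_sub]

end roots

section main

variable {G : Type u} [Group G] [Finite G] {p : ℕ} [hp : Fact p.Prime]

omit hp in
theorem finsum_mem_zpowers {x0 : G} (hord : orderOf x0 = p) (f : G → ℂ) :
    ∑ᶠ x ∈ ((Subgroup.zpowers x0 : Subgroup G) : Set G), f x =
      ∑ j ∈ Finset.range p, f (x0 ^ j) := by
  classical
  have hset : ((Subgroup.zpowers x0 : Subgroup G) : Set G) =
      ↑((Finset.range (orderOf x0)).image (x0 ^ ·)) := by
    ext y
    rw [SetLike.mem_coe, mem_zpowers_iff_mem_range_orderOf, Finset.mem_coe]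
  rw [hset, finsum_mem_coe_finset, Finset.sum_image, hord]
  intro a ha b hb hab
  rw [Finset.coe_range] at ha hb
  exact pow_injOn_Iio_orderOf ha hb hab

/-- EASYY in `_of` form: `hpm` is PMULT for `χ`. -/
theorem sign_degree_of_values_of (χ : IrrCharacter G) (P : Subgroup G) (x0 : G)
    (hx0 : P = Subgroup.zpowers x0) (hord : orderOf x0 = p)
    (F : Subgroup (ZMod p)ˣ) (i : (ZMod p)ˣ) (ε : ℤ) (hε : ε = 1 ∨ ε = -1) (c : ℕ) (hc : 0 < c)
    (hval : ∀ j : ℕ, ¬ p ∣ j → (χ : G → ℂ) (x0 ^ j) = (ε : ℂ) * (c : ℂ) *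
      ∑ᶠ w ∈ (F : Set (ZMod p)ˣ), zetaP p ^ (((w : ZMod p) * (i : ZMod p)).val * j))
    (hfaith : ∀ g : G, (χ : G → ℂ) g = (χ : G → ℂ) 1 → g = 1)
    (hdeg : 2 * charDegree (χ : G → ℂ) + 1 < p)
    (hpm : ∀ k : ZMod p, ∃ m : ℕ, ∑ j ∈ Finset.range p,
      (χ : G → ℂ) (x0 ^ j) * conj (zetaP p ^ (k.val * j)) = (p : ℂ) * (m : ℂ)) :
    ε = 1 ∧ charDegree (χ : G → ℂ) = Nat.card F * c ∧ ∑ᶠ x ∈ (P : Set G), (χ : G → ℂ) x = 0 := by
  classical
  have : NeZero p := ⟨hp.out.ne_zero⟩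
  have hp2 : 2 ≤ p := hp.out.two_le
  set d : ℕ := charDegree (χ : G → ℂ) with hd
  have hχ1 : (χ : G → ℂ) 1 = (d : ℂ) := Cfsg.Agent.Lib.Helper24.irr_apply_one χ
  -- the finset of `F`
  set Fs : Finset (ZMod p)ˣ := (Set.toFinite (F : Set (ZMod p)ˣ)).toFinset with hFs
  have hFs_coe : (F : Set (ZMod p)ˣ) = ↑Fs := by rw [hFs, Set.Finite.coe_toFinset]
  have hmemFs : ∀ w, w ∈ Fs ↔ w ∈ F := by
    intro w
    rw [hFs, Set.Finite.mem_toFinset, SetLike.mem_coe]
  have hcardFs : Fs.card = Nat.card F := by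
    rw [hFs, ← Set.ncard_eq_toFinset_card (F : Set (ZMod p)ˣ)]
    rfl
  set f : ℕ := Nat.card F with hf
  -- the model values
  set h : ℕ → ℂ := fun j => (ε : ℂ) * (c : ℂ) *
    ∑ w ∈ Fs, zetaP p ^ (((w : ZMod p) * (i : ZMod p)).val * j) with hh
  have hval' : ∀ j : ℕ, ¬ p ∣ j → (χ : G → ℂ) (x0 ^ j) = h j := by
    intro j hj
    rw [hval j hj, hFs_coe, finsum_mem_coe_finset]
  have hh0 : h 0 = (ε : ℂ) * (c : ℂ) * (f : ℂ) := by
    simp only [hh, mul_zero, pow_zero, Finset.sum_const, nsmul_eq_mul, mul_one, hcardFs]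
  -- the twisted sums
  have hA : ∀ k : ZMod p, ∑ j ∈ Finset.range p,
      (χ : G → ℂ) (x0 ^ j) * conj (zetaP p ^ (k.val * j)) =
      (d : ℂ) - (ε : ℂ) * (c : ℂ) * (f : ℂ) + (ε : ℂ) * (c : ℂ) *
        ∑ w ∈ Fs, (if ((w : ZMod p) * (i : ZMod p)).val = k.val then (p : ℂ) else 0) := by
    intro k
    have hsplit : ∀ j ∈ Finset.range p, (χ : G → ℂ) (x0 ^ j) * conj (zetaP p ^ (k.val * j)) =
        ((χ : G → ℂ) (x0 ^ j) - h j) * conj (zetaP p ^ (k.val * j)) +
          h j * conj (zetaP p ^ (k.val * j)) := by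
      intro j _
      ring
    rw [Finset.sum_congr rfl hsplit, Finset.sum_add_distrib]
    have hfirst : ∑ j ∈ Finset.range p, ((χ : G → ℂ) (x0 ^ j) - h j) * conj (zetaP p ^ (k.val * j)) =
        (d : ℂ) - (ε : ℂ) * (c : ℂ) * (f : ℂ) := by
      rw [Finset.sum_eq_single 0]
      · rw [pow_zero, hχ1, hh0, mul_zero, pow_zero, map_one, mul_one]
      · intro j hj hj0
        have hjp : ¬ p ∣ j := by
          intro hdvd
          have := Nat.le_of_dvd (Nat.pos_of_ne_zero hj0) hdvd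
          have := Finset.mem_range.mp hj
          omega
        rw [hval' j hjp, sub_self, zero_mul]
      · intro h0
        exact absurd (Finset.mem_range.mpr hp.out.pos) h0
    have hsecond : ∑ j ∈ Finset.range p, h j * conj (zetaP p ^ (k.val * j)) =
        (ε : ℂ) * (c : ℂ) *
          ∑ w ∈ Fs, (if ((w : ZMod p) * (i : ZMod p)).val = k.val then (p : ℂ) else 0) := by
      have h1 : ∀ j ∈ Finset.range p, h j * conj (zetaP p ^ (k.val * j)) =
          (ε : ℂ) * (c : ℂ) * ∑ w ∈ Fs, zetaP p ^ (((w : ZMod p) * (i : ZMod p)).val * j) *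
            conj (zetaP p ^ (k.val * j)) := by
        intro j _
        simp only [hh]
        rw [mul_assoc, Finset.sum_mul]
      rw [Finset.sum_congr rfl h1, ← Finset.mul_sum, Finset.sum_comm]
      congr 1
      apply Finset.sum_congr rfl
      intro w _
      exact sum_orth _ _ (ZMod.val_lt _) (ZMod.val_lt _)
    rw [hfirst, hsecond]
  -- `k = 0`
  have hA0 : ∑ j ∈ Finset.range p, (χ : G → ℂ) (x0 ^ j) * conj (zetaP p ^ ((0 : ZMod p).val * j)) =
      (d : ℂ) - (ε : ℂ) * (c : ℂ) * (f : ℂ) := by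
    rw [hA 0]
    have : ∑ w ∈ Fs, (if ((w : ZMod p) * (i : ZMod p)).val = (0 : ZMod p).val then (p : ℂ) else 0) = 0 := by
      apply Finset.sum_eq_zero
      intro w _
      rw [if_neg]
      intro hw
      have h1 : (w : ZMod p) * (i : ZMod p) = 0 := ZMod.val_injective p hw
      have h2 : ((w * i : (ZMod p)ˣ) : ZMod p) = 0 := by rw [Units.val_mul]; exact h1
      exact Units.ne_zero _ h2
    rw [this, mul_zero, add_zero]
  -- `k = i`
  have h1F : (1 : (ZMod p)ˣ) ∈ Fs := (hmemFs 1).mpr F.one_mem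
  have hAi : ∑ j ∈ Finset.range p,
      (χ : G → ℂ) (x0 ^ j) * conj (zetaP p ^ ((i : ZMod p).val * j)) =
      (d : ℂ) - (ε : ℂ) * (c : ℂ) * (f : ℂ) + (ε : ℂ) * (c : ℂ) * (p : ℂ) := by
    rw [hA (i : ZMod p)]
    have : ∑ w ∈ Fs, (if ((w : ZMod p) * (i : ZMod p)).val = (i : ZMod p).val then (p : ℂ) else 0) = (p : ℂ) := by
      rw [Finset.sum_eq_single_of_mem 1 h1F]
      · rw [if_pos]
        rw [Units.val_one, one_mul]
      · intro w _ hw1
        rw [if_neg]
        intro hw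
        have h1 : (w : ZMod p) * (i : ZMod p) = (i : ZMod p) := ZMod.val_injective p hw
        have h2 : w * i = i := Units.ext (by rw [Units.val_mul]; exact h1)
        exact hw1 (mul_eq_right.mp h2 ▸ rfl)
    rw [this]
  -- the sum over `P`
  have hsumP : ∑ᶠ x ∈ (P : Set G), (χ : G → ℂ) x = (d : ℂ) - (ε : ℂ) * (c : ℂ) * (f : ℂ) := by
    rw [hx0, finsum_mem_zpowers hord, ← hA0]
    apply Finset.sum_congr rfl
    intro j _
    rw [ZMod.val_zero, zero_mul, pow_zero, map_one, mul_one]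
  -- integrality
  obtain ⟨m0, hm0⟩ := hpm 0
  obtain ⟨mi, hmi⟩ := hpm (i : ZMod p)
  rw [hA0] at hm0
  rw [hAi] at hmi
  have hm0' : (d : ℤ) - ε * (c : ℤ) * (f : ℤ) = (p : ℤ) * (m0 : ℤ) := by exact_mod_cast hm0
  have hmi' : (d : ℤ) - ε * (c : ℤ) * (f : ℤ) + ε * (c : ℤ) * (p : ℤ) = (p : ℤ) * (mi : ℤ) := by
    exact_mod_cast hmi
  have hdp : (2 : ℤ) * (d : ℤ) + 1 < (p : ℤ) := by exact_mod_cast hdeg
  have hc1 : (1 : ℤ) ≤ (c : ℤ) := by exact_mod_cast hc
  have hcf0 : (0 : ℤ) ≤ (c : ℤ) * (f : ℤ) := by positivity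
  have hd0 : (0 : ℤ) ≤ (d : ℤ) := by positivity
  have hp0 : (0 : ℤ) < (p : ℤ) := by exact_mod_cast hp.out.pos
  rcases hε with hε1 | hε1
  · -- `ε = 1`
    subst hε1
    have hm00 : m0 = 0 := by
      by_contra hne
      have h1 : (1 : ℤ) ≤ (m0 : ℤ) := by exact_mod_cast Nat.pos_of_ne_zero hne
      have h2 : (p : ℤ) ≤ (p : ℤ) * (m0 : ℤ) := le_mul_of_one_le_right hp0.le h1
      linarith
    rw [hm00] at hm0'
    have hdcf : (d : ℤ) = (c : ℤ) * (f : ℤ) := by
      simp only [one_mul, Nat.cast_zero, mul_zero] at hm0'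
      linarith
    have hdcf' : d = f * c := by
      have : (d : ℤ) = ((f * c : ℕ) : ℤ) := by rw [hdcf]; push_cast; ring
      exact_mod_cast this
    refine ⟨rfl, hdcf', ?_⟩
    rw [hsumP]
    have : ((d : ℤ) : ℂ) - ((1 : ℤ) : ℂ) * ((c : ℤ) : ℂ) * ((f : ℤ) : ℂ) = 0 := by
      rw [hdcf]; push_cast; ring
    simpa using this
  · -- `ε = -1` is impossible
    exfalso
    subst hε1
    -- `m0 = mi + c`
    have hrel : (m0 : ℤ) = (mi : ℤ) + (c : ℤ) := by
      have h1 : (p : ℤ) * ((m0 : ℤ) - (mi : ℤ) - (c : ℤ)) = 0 := by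
        have : (p : ℤ) * ((m0 : ℤ) - (mi : ℤ) - (c : ℤ)) =
            (p : ℤ) * (m0 : ℤ) - (p : ℤ) * (mi : ℤ) - (c : ℤ) * (p : ℤ) := by ring
        rw [this, ← hm0', ← hmi']
        ring
      rcases mul_eq_zero.mp h1 with h2 | h2
      · exact absurd h2 hp0.ne'
      · linarith
    have hmi0 : (0 : ℤ) ≤ (mi : ℤ) := by positivity
    -- `f ∣ p - 1`
    have hfdvd : f ∣ p - 1 := by
      have h1 : Nat.card F ∣ Nat.card (ZMod p)ˣ := Subgroup.card_subgroup_dvd_card F
      have h2 : Nat.card (ZMod p)ˣ = p - 1 := by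
        rw [Nat.card_eq_fintype_card, ZMod.card_units]
      rwa [h2] at h1
    obtain ⟨m, hm⟩ := hfdvd
    have hm1 : 1 ≤ m := by
      rcases Nat.eq_zero_or_pos m with h | h
      · rw [h, mul_zero] at hm
        omega
      · exact h
    rcases Nat.lt_or_ge m 2 with hm2 | hm2
    · -- `f = p - 1`
      have hm_eq : m = 1 := by omega
      rw [hm_eq, mul_one] at hm
      have hfp : (f : ℤ) = (p : ℤ) - 1 := by
        have : f + 1 = p := by omega
        have h2 : ((f + 1 : ℕ) : ℤ) = (p : ℤ) := by exact_mod_cast this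
        push_cast at h2
        linarith
      -- `d - c = p * mi`
      have h3 : (d : ℤ) - (c : ℤ) = (p : ℤ) * (mi : ℤ) := by
        have h4 := hmi'
        rw [hfp] at h4
        linarith [h4]
      have hmi00 : mi = 0 := by
        by_contra hne
        have h1 : (1 : ℤ) ≤ (mi : ℤ) := by exact_mod_cast Nat.pos_of_ne_zero hne
        have h2 : (p : ℤ) ≤ (p : ℤ) * (mi : ℤ) := le_mul_of_one_le_right hp0.le h1
        linarith
      have hdc : d = c := by
        rw [hmi00] at h3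
        have : (d : ℤ) = (c : ℤ) := by simp only [Nat.cast_zero, mul_zero] at h3; linarith
        exact_mod_cast this
      -- `F = ⊤`
      have hFsuniv : Fs = Finset.univ := by
        rw [← Finset.card_eq_iff_eq_univ, hcardFs, ZMod.card_units]
        exact hm.symm
      have hx0val : (χ : G → ℂ) x0 = (χ : G → ℂ) 1 := by
        have h5 := hval' 1 (by
          intro hdvd
          have := Nat.le_of_dvd Nat.one_pos hdvd
          omega)
        rw [pow_one] at h5
        rw [h5, hχ1]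
        simp only [hh]
        rw [hFsuniv]
        have h6 : ∑ w : (ZMod p)ˣ, zetaP p ^ (((w : ZMod p) * (i : ZMod p)).val * 1) =
            ∑ u : (ZMod p)ˣ, zetaP p ^ ((u : ZMod p).val) := by
          have h7 := Equiv.sum_comp (Equiv.mulRight i) (fun u : (ZMod p)ˣ => zetaP p ^ ((u : ZMod p).val))
          rw [← h7]
          apply Finset.sum_congr rfl
          intro w _
          rw [mul_one, Equiv.coe_mulRight, Units.val_mul]
        rw [h6, sum_units_zeta, hdc]
        push_cast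
        ring
      have hx01 : x0 = 1 := hfaith x0 hx0val
      rw [hx01, orderOf_one] at hord
      omega
    · -- `2 f ≤ p - 1`
      have h2f : 2 * f ≤ p - 1 := by
        calc 2 * f = f * 2 := by ring
          _ ≤ f * m := Nat.mul_le_mul_left f hm2
          _ = p - 1 := hm.symm
      have h2f' : (2 : ℤ) * (f : ℤ) ≤ (p : ℤ) - 1 := by
        have h3 : 2 * f + 1 ≤ p := by omega
        have h4 : ((2 * f + 1 : ℕ) : ℤ) ≤ (p : ℤ) := by exact_mod_cast h3
        push_cast at h4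
        linarith
      -- `d + c f = p m0 ≥ p c`
      have h5 : (p : ℤ) * (c : ℤ) ≤ (p : ℤ) * (m0 : ℤ) := by
        apply mul_le_mul_of_nonneg_left _ hp0.le
        linarith
      have h6 : (c : ℤ) * ((p : ℤ) - (f : ℤ)) ≤ (d : ℤ) := by
        have : (d : ℤ) + (c : ℤ) * (f : ℤ) = (p : ℤ) * (m0 : ℤ) := by
          rw [← hm0']; ring
        nlinarith
      have h7 : ((p : ℤ) - (f : ℤ)) ≤ (c : ℤ) * ((p : ℤ) - (f : ℤ)) := by
        apply le_mul_of_one_le_left _ hc1
        linarith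
      linarith

end main

end Cfsg.Agent.Lib.Helper5.BREEASYYOf
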