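/-
helper5: S4503 PART E market (planner helper14), leaf BRE-EASYY (exact name + binders).
`sign_degree_of_values` = `BREEASYYOf.sign_degree_of_values_of` + helper15's PMULT.
-/
import Mathlib
import Cfsg.Prelude.Def_BlockRank
import Cfsg.Agent.Lib.Helper27.DODefs
import Cfsg.Agent.Lib.Helper5.BREEASYYOf
import Cfsg.Agent.Lib.Helper15.BREPMULT

set_option autoImplicit false

namespace Cfsg.Agent.Lib.Helper5.BREEASYY

open Cfsg Cfsg.Agent.Lib.Helper8.DOM Cfsg.Agent.Lib.Helper27.DO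
open scoped ComplexConjugate

universe u

variable {G : Type u} [Group G] [Finite G] {p : ℕ} [Fact p.Prime]

/-- EASYY : sign, degree and `P`-fixed part of a faithful irreducible character of small degree with the values of
an exceptional row on `P = ⟨x0⟩`. -/
theorem sign_degree_of_values (χ : IrrCharacter G) (P : Subgroup G) (x0 : G)
    (hx0 : P = Subgroup.zpowers x0) (hord : orderOf x0 = p)
    (F : Subgroup (ZMod p)ˣ) (i : (ZMod p)ˣ) (ε : ℤ) (hε : ε = 1 ∨ ε = -1) (c : ℕ) (hc : 0 < c)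
    (hval : ∀ j : ℕ, ¬ p ∣ j → (χ : G → ℂ) (x0 ^ j) = (ε : ℂ) * (c : ℂ) *
      ∑ᶠ w ∈ (F : Set (ZMod p)ˣ), zetaP p ^ (((w : ZMod p) * (i : ZMod p)).val * j))
    (hfaith : ∀ g : G, (χ : G → ℂ) g = (χ : G → ℂ) 1 → g = 1)
    (hdeg : 2 * charDegree (χ : G → ℂ) + 1 < p) :
    ε = 1 ∧ charDegree (χ : G → ℂ) = Nat.card F * c ∧ ∑ᶠ x ∈ (P : Set G), (χ : G → ℂ) x = 0 :=
  Cfsg.Agent.Lib.Helper5.BREEASYYOf.sign_degree_of_values_of χ P x0 hx0 hord F i ε hε c hc hval hfaith hdeg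
    (fun k => Cfsg.Agent.Lib.Helper15.BREPMULT.exists_sum_twist (χ : G → ℂ)
      (Cfsg.Agent.CharLib.IsIrrCharacter.isCharacter χ.2) x0 hord k)

end Cfsg.Agent.Lib.Helper5.BREEASYY
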