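import Mathlib
import Cfsg.Agent.Lib.Helper29.WDDefs
import Cfsg.Agent.Lib.Helper7.DHBGP
import Cfsg.Agent.Lib.Helper7.DHB2S
import Cfsg.Agent.Lib.Helper7.DHBSQ

/-!
S3572 market "WD", leaf FIB (planner helper29): fibres of `s ↦ p • s`.
-/

set_option autoImplicit false
set_option linter.unusedSectionVars false
set_option linter.unusedVariables false

namespace Cfsg.Agent.Lib.Helper5.WDLeaf

open Finset DihedralGroup
open Cfsg.Agent.Lib.Helper19.SchurCyclic
open Cfsg.Agent.Lib.Helper7.DHB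
open Cfsg.Agent.Lib.Helper29.WD

variable {n : ℕ} [NeZero n] {U : Type*} [Group U] {star : U → DihedralGroup n → DihedralGroup n}
variable {T T' T₁ T₂ : Finset (DihedralGroup n)}

/-- fibres of `s ↦ p • s` on `X` are `X ∩ (s + P)`, of size `≤ p`. -/
theorem pinvoff_of_dvd_fibre {p : ℕ} (hp : p.Prime) (hpn : p ∣ n) (X : Finset (ZMod n))
    (h : ∀ i : ZMod n, i ≠ 0 → p ∣ (X.filter (fun s => p • s = i)).card) : PInvOff p X := by
  classical
  intro i hi hpi t ht
  set Fi := X.filter (fun s => p • s = p • i) with hFi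
  set Ai := (univ.filter (fun t : ZMod n => p • t = 0)).image (fun t => i + t) with hAi
  have hcardA : Ai.card = p := by
    rw [hAi, Finset.card_image_of_injective _ (add_right_injective i),
      Cfsg.Agent.Lib.Helper7.DHBSQ.card_P hp hpn]
  have hsub : Fi ⊆ Ai := by
    intro s hs
    rw [hFi, Finset.mem_filter] at hs
    rw [hAi, Finset.mem_image]
    refine ⟨s - i, ?_, by abel⟩
    rw [Finset.mem_filter]
    exact ⟨Finset.mem_univ _, by rw [smul_sub, hs.2, sub_self]⟩
  have hiF : i ∈ Fi := by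
    rw [hFi, Finset.mem_filter]; exact ⟨hi, rfl⟩
  have hpos : 0 < Fi.card := Finset.card_pos.2 ⟨i, hiF⟩
  have hdvd : p ∣ Fi.card := h (p • i) hpi
  have hle : Ai.card ≤ Fi.card := by
    rw [hcardA]; exact Nat.le_of_dvd hpos hdvd
  have heq : Fi = Ai := Finset.eq_of_subset_of_card_le hsub hle
  have hmem : i + t ∈ Ai := by
    rw [hAi, Finset.mem_image]
    exact ⟨t, by rw [Finset.mem_filter]; exact ⟨Finset.mem_univ _, ht⟩, rfl⟩
  rw [← heq, hFi, Finset.mem_filter] at hmem
  exact hmem.1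

/-- `X` `P`-invariant: every fibre of `s ↦ p • s` has `0` or `p` elements. -/
theorem dvd_fibre_of_pinv {p : ℕ} (hp : p.Prime) (hpn : p ∣ n) (X : Finset (ZMod n)) (hX : PInv p X) (i : ZMod n) :
    p ∣ (X.filter (fun s => p • s = i)).card := by
  apply Cfsg.Agent.Lib.Helper7.DHBSQ.dvd_card_of_pinv hp hpn
  intro s hs t ht
  rw [Finset.mem_filter] at hs ⊢
  exact ⟨hX s hs.1 t ht, by rw [smul_add, hs.2, ht, add_zero]⟩

end Cfsg.Agent.Lib.Helper5.WDLeaf
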