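import Mathlib
import Cfsg.Agent.Lib.Helper29.WDDefs
import Cfsg.Agent.Lib.Helper7.DHBGP
import Cfsg.Agent.Lib.Helper7.DHB2S
import Cfsg.Agent.Lib.Helper7.DHBSQ
import Cfsg.Agent.Lib.Helper7.DHBALG

/-!
S3572 market "WD", leaf YYS (planner helper29): `y y* = 0` mod `p` for a `P`-invariant `Y`.
-/

set_option autoImplicit false
set_option linter.unusedSectionVars false
set_option linter.unusedVariables false

namespace Cfsg.Agent.Lib.Helper5.WDLeaf

open Finset DihedralGroup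
open Cfsg.Agent.Lib.Helper19.SchurCyclic
open Cfsg.Agent.Lib.Helper7.DHB
open Cfsg.Agent.Lib.Helper29.WD

variable {n : ℕ} [NeZero n] {U : Type*} [Group U] {star : U → DihedralGroup n → DihedralGroup n}
variable {T T' T₁ T₂ : Finset (DihedralGroup n)}

/-- `Y = π y'` gives `y y* = p π y' y'* = 0` mod `p`. -/
theorem ind_mul_ind_neg_eq_zero {p : ℕ} [Fact p.Prime] (hpn : p ∣ n) (Y : Finset (ZMod n)) (hY : PInv p Y) :
    ind (ZMod p) Y * ind (ZMod p) (Y.image Neg.neg) = 0 := by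
  have hp := (Fact.out : p.Prime)
  ext i
  rw [Cfsg.Agent.Lib.Helper7.DHBALG.coeff_ind_mul_ind, Cfsg.Agent.Lib.Helper7.DHBALG.rep_image_neg,
    Cfsg.Agent.Lib.Helper7.DHBSQ.dif_eq_card]
  have hinv : PInv p (Y.filter (fun a => a + i ∈ Y)) := by
    intro a ha t ht
    rw [Finset.mem_filter] at ha ⊢
    refine ⟨hY a ha.1 t ht, ?_⟩
    have := hY (a + i) ha.2 t ht
    have h5 : a + t + i = a + i + t := by abel
    rwa [h5]
  have hdvd := Cfsg.Agent.Lib.Helper7.DHBSQ.dvd_card_of_pinv hp hpn hinv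
  have : (((Y.filter (fun a => a + i ∈ Y)).card : ℕ) : ZMod p) = 0 :=
    (ZMod.natCast_eq_zero_iff _ _).2 hdvd
  simpa using this

end Cfsg.Agent.Lib.Helper5.WDLeaf
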