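/-
helper5: S2524, SL2 sub-leaf G2 (`isIrrCharacter_subChar`): the character of an irreducible invariant
submodule is an irreducible character in the Prelude's sense.
-/
import Mathlib
import Cfsg.Agent.Lib.Helper13.SL2SurjDefs
import Cfsg.Agent.Lib.Lead.CharDecomp

set_option autoImplicit false

namespace Cfsg.Agent.Lib.Helper5.WGSG2

open Matrix Cfsg Cfsg.Agent.Lib.Helper13.SL2Surj
open scoped ComplexConjugate

universe u

section general

variable {G : Type*} [Group G] {V V' : Type u} [AddCommGroup V] [Module ℂ V] [AddCommGroup V']
  [Module ℂ V']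

/-- the representation on an irreducible invariant submodule is irreducible -/
theorem isIrreducible_subRep (σ : Representation ℂ G V) (N : Submodule ℂ V) (hN : IsIrrSub σ N) :
    (subRep σ N hN.1).IsIrreducible := by
  obtain ⟨hinv, hne, hmin⟩ := hN
  refine { exists_pair_ne := ?_, eq_bot_or_eq_top := ?_ }
  · refine ⟨⊥, ⊤, ?_⟩
    intro h
    apply hne
    have h' : (⊥ : Submodule ℂ ↥N) = ⊤ := congrArg Subrepresentation.toSubmodule h
    rw [Submodule.eq_bot_iff]
    intro v hv
    have hmem : (⟨v, hv⟩ : ↥N) ∈ (⊤ : Submodule ℂ ↥N) := Submodule.mem_top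
    rw [← h', Submodule.mem_bot] at hmem
    exact congrArg Subtype.val hmem
  · intro W
    have hinv' : Inv σ (W.toSubmodule.map N.subtype) := by
      rintro g _ ⟨w, hw, rfl⟩
      refine ⟨subRep σ N hinv g w, W.apply_mem_toSubmodule g hw, ?_⟩
      rfl
    have hle : W.toSubmodule.map N.subtype ≤ N := by
      rintro _ ⟨w, _, rfl⟩
      exact w.2
    rcases hmin _ hle hinv' with h0 | h1
    · left
      apply Subrepresentation.toSubmodule_injective
      show W.toSubmodule = ⊥
      rw [Submodule.eq_bot_iff]
      intro w hw
      have : (N.subtype w) ∈ W.toSubmodule.map N.subtype := ⟨w, hw, rfl⟩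
      rw [h0, Submodule.mem_bot] at this
      exact Subtype.ext this
    · right
      apply Subrepresentation.toSubmodule_injective
      show W.toSubmodule = ⊤
      rw [Submodule.eq_top_iff']
      intro w
      have : (w : V) ∈ W.toSubmodule.map N.subtype := by rw [h1]; exact w.2
      obtain ⟨w', hw', hww'⟩ := this
      have : w' = w := Subtype.ext hww'
      rw [← this]
      exact hw'

/-- (G2) the character of an irreducible invariant submodule is an irreducible character in the
Prelude's sense. -/
theorem isIrrCharacter_subChar [Finite G] [FiniteDimensional ℂ V] (σ : Representation ℂ G V)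
    (N : Submodule ℂ V) (hN : IsIrrSub σ N) : Cfsg.IsIrrCharacter G (subChar σ N hN.1) :=
  Cfsg.Agent.CharLib.isIrrCharacter_of_rep (subRep σ N hN.1) (isIrreducible_subRep σ N hN)

end general

end Cfsg.Agent.Lib.Helper5.WGSG2
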