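/-
helper5: S2524, SL2 sub-leaf S2 (`wt_eq_eigSp`): for `Sp_2` the weight space of the `1 × 1` matrix `(d)`
is the eigenspace of the unitriangular elements for the character `t ↦ ψ (d t)`.
-/
import Mathlib
import Cfsg.Agent.Lib.Helper10.WGDefs
import Cfsg.Agent.Lib.Helper13.SL2SurjDefs

set_option autoImplicit false

namespace Cfsg.Agent.Lib.Helper5.WGSS2

open Matrix Cfsg Cfsg.Agent.Lib.Helper11.LS Cfsg.Agent.Lib.Helper10.WG
  Cfsg.Agent.Lib.Helper13.SL2Surj
open scoped ComplexConjugate

universe u

section sl2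

variable {F : Type*} [Field F] [Fintype F] [DecidableEq F]

theorem eq_single (S : Matrix (Fin 1) (Fin 1) F) : S = single (0 : Fin 1) (0 : Fin 1) (S 0 0) := by
  ext i j
  fin_cases i
  fin_cases j
  simp

theorem trace_single_mul (d : F) (S : Matrix (Fin 1) (Fin 1) F) :
    trace (single (0 : Fin 1) (0 : Fin 1) d * S) = d * S 0 0 := by
  simp [trace, Matrix.mul_apply]

/-- (S2) for `Sp_2` the weight space of the `1 × 1` matrix `(d)` is the eigenspace of the unitriangular
elements for the character `t ↦ ψ (d t)`. -/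
theorem wt_eq_eigSp {V : Type*} [AddCommGroup V] [Module ℂ V] (ψ : AddChar F ℂ)
    (σ : Representation ℂ (SpG F 1) V) (d : F) :
    wt ψ σ (single (0 : Fin 1) (0 : Fin 1) d) =
      eigSp σ (fun t : F => (Xs (single (0 : Fin 1) (0 : Fin 1) t) (by simp) : SpG F 1))
        (fun t : F => ψ (d * t)) := by
  ext v
  constructor
  · intro hv t
    have := hv (single (0 : Fin 1) (0 : Fin 1) t) (by simp)
    rw [trace_single_mul] at this
    simpa using this
  · intro hv S hS
    have ht := hv (S 0 0)
    have hX : (Xs S hS : SpG F 1) = Xs (single (0 : Fin 1) (0 : Fin 1) (S 0 0)) (by simp) := by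
      apply Subtype.ext
      show fromBlocks 1 S 0 1 = fromBlocks 1 (single (0 : Fin 1) (0 : Fin 1) (S 0 0)) 0 1
      rw [← eq_single S]
    rw [hX, trace_single_mul]
    exact ht

end sl2

end Cfsg.Agent.Lib.Helper5.WGSS2
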