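/-
S4504 (planner helper13), leaf BRP-PERF `commutator_eq_top_of_normalClosure` (frozen signature in msg 8060 item 5):
a group generated by the conjugates of a subgroup `P` of prime order with `N_G(P) ≠ C_G(P)` is perfect.
Proof: if `G' ≠ ⊤` then `P ∩ G' = 1` (else `P ≤ G'`, so `⟨P^G⟩ ≤ G'`); for `n ∈ N_G(P)`, `x ∈ P` the commutator
`[n,x]` lies in `P ∩ G' = 1`, so `N_G(P) ≤ C_G(P)`.
-/
import Mathlib
import Cfsg.Agent.Lib.Helper27.DODefs

set_option autoImplicit false

namespace Cfsg.Agent.Lib.Helper5.BRPPERF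

open Cfsg Cfsg.Agent.Lib.Helper8.DOM Cfsg.Agent.Lib.Helper27.DO

universe u

/-- **BRP-PERF** -/
theorem commutator_eq_top_of_normalClosure {p : ℕ} [Fact p.Prime] {G : Type u} [Group G] [Finite G]
    (P : Subgroup G) (hP : Nat.card P = p) (hSyl : ¬ p ∣ P.index)
    (hcl : Subgroup.normalClosure (P : Set G) = ⊤) (hf2 : 2 ≤ (Cz P).relIndex (Nz P)) :
    commutator G = ⊤ := by
  by_contra hne
  have hprime : Fact (Nat.card P).Prime := ⟨by rw [hP]; exact Fact.out⟩
  have hdisj : P ⊓ commutator G = ⊥ := by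
    rcases Subgroup.eq_bot_or_eq_top_of_prime_card ((commutator G).subgroupOf P) with h | h
    · rw [Subgroup.subgroupOf_eq_bot] at h
      rw [inf_comm]
      exact h.eq_bot
    · exfalso
      rw [Subgroup.subgroupOf_eq_top] at h
      have h2 : Subgroup.normalClosure (P : Set G) ≤ commutator G := Subgroup.normalClosure_le_normal h
      rw [hcl] at h2
      exact hne (top_le_iff.mp h2)
  have hNC : Nz P ≤ Cz P := by
    intro n hn
    rw [Subgroup.mem_centralizer_iff]
    intro x hx
    have hy : n * x * n⁻¹ ∈ P := (Subgroup.mem_normalizer_iff.mp hn x).mp hx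
    have h1 : n * x * n⁻¹ * x⁻¹ ∈ P := P.mul_mem hy (P.inv_mem hx)
    have h2 : n * x * n⁻¹ * x⁻¹ ∈ commutator G := by
      rw [commutator_def]
      exact Subgroup.commutator_mem_commutator (Subgroup.mem_top n) (Subgroup.mem_top x)
    have h3 : n * x * n⁻¹ * x⁻¹ ∈ P ⊓ commutator G := ⟨h1, h2⟩
    rw [hdisj, Subgroup.mem_bot] at h3
    have h4 : n * x = x * n := by
      have := congrArg (fun z => z * x * n) h3
      simpa [mul_assoc] using this
    exact h4.symm
  have h1 : (Cz P).relIndex (Nz P) = 1 := Subgroup.relIndex_eq_one.mpr hNC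
  omega

end Cfsg.Agent.Lib.Helper5.BRPPERF
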