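import Cfsg.Agent.Lib.Helper14.HallStab

/-!
# Set stabilisers and bipartition stabilisers in `Perm α` (leaf for helper14, S2534-S2538)

* `card_bipStab` : order of the stabiliser of a bipartition `{Δ, Δᶜ}` with `2 * |Δ| = |α|`.
* `exists_perm_finset`, `setStab_conj`, `bipStab_conj` : conjugacy of these stabilisers.
* `setStab_not_le_alt` : a set stabiliser contains an odd permutation.
-/

set_option autoImplicit false

namespace Cfsg.Agent.Lib.Helper5.HallBip

open Equiv Equiv.Perm Cfsg.Agent.Lib.Helper14.Hall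

variable {α : Type*} [Fintype α] [DecidableEq α]

theorem exists_perm_finset (Δ Δ' : Finset α) (h : Δ.card = Δ'.card) :
    ∃ g : Equiv.Perm α, ∀ x, g x ∈ Δ' ↔ x ∈ Δ := by
  classical
  have hc : Fintype.card {x // x ∈ Δ} = Fintype.card {x // x ∈ Δ'} := by
    rw [Fintype.card_coe, Fintype.card_coe, h]
  let e : {x // x ∈ Δ} ≃ {x // x ∈ Δ'} := Fintype.equivOfCardEq hc
  refine ⟨e.extendSubtype, fun x => ?_⟩
  by_cases hx : x ∈ Δ
  · exact iff_of_true (e.extendSubtype_mem x hx) hx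
  · exact iff_of_false (e.extendSubtype_not_mem x hx) hx

theorem apply_inv_apply (g : Equiv.Perm α) (x : α) : g (g⁻¹ x) = x :=
  Equiv.apply_symm_apply g x

/-- Transport of a "stabiliser type" condition under conjugation. -/
theorem conj_cond_iff (Δ Δ' : Finset α) (g : Equiv.Perm α) (hg : ∀ x, g x ∈ Δ' ↔ x ∈ Δ)
    (f : Equiv.Perm α) (P : Prop → Prop) :
    (∀ x, (g⁻¹ * f * g) x ∈ Δ ↔ P (x ∈ Δ)) ↔ (∀ x, f x ∈ Δ' ↔ P (x ∈ Δ')) := by
  have hg' : ∀ x, g⁻¹ x ∈ Δ ↔ x ∈ Δ' := fun x => by rw [← hg, apply_inv_apply]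
  constructor
  · intro hf y
    have := hf (g⁻¹ y)
    rw [Perm.mul_apply, Perm.mul_apply, apply_inv_apply, hg', hg'] at this
    exact this
  · intro hf x
    rw [Perm.mul_apply, Perm.mul_apply, hg', hf, hg]

theorem setStab_conj (Δ Δ' : Finset α) (g : Equiv.Perm α) (hg : ∀ x, g x ∈ Δ' ↔ x ∈ Δ) :
    setStab Δ' = (setStab Δ).map (MulAut.conj g).toMonoidHom := by
  ext f
  rw [Subgroup.mem_map_equiv, MulAut.conj_symm_apply, mem_setStab, mem_setStab]
  exact (conj_cond_iff Δ Δ' g hg f id).symm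

theorem bipStab_conj (Δ Δ' : Finset α) (g : Equiv.Perm α) (hg : ∀ x, g x ∈ Δ' ↔ x ∈ Δ) :
    bipStab Δ' = (bipStab Δ).map (MulAut.conj g).toMonoidHom := by
  ext f
  rw [Subgroup.mem_map_equiv, MulAut.conj_symm_apply, mem_bipStab, mem_bipStab]
  exact (or_congr (conj_cond_iff Δ Δ' g hg f id) (conj_cond_iff Δ Δ' g hg f Not)).symm

theorem swap_mem_setStab (Δ : Finset α) {a b : α} (hab : a ∈ Δ ↔ b ∈ Δ) :
    swap a b ∈ setStab Δ := by
  rw [mem_setStab]
  intro x
  by_cases h1 : x = a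
  · subst h1; rw [swap_apply_left]; exact hab.symm
  by_cases h2 : x = b
  · subst h2; rw [swap_apply_right]; exact hab
  rw [swap_apply_of_ne_of_ne h1 h2]

theorem setStab_not_le_alt (Δ : Finset α)
    (h : 2 ≤ Δ.card ∨ 2 ≤ Fintype.card α - Δ.card) : ¬ setStab Δ ≤ alternatingGroup α := by
  classical
  have key : ∃ a b : α, a ≠ b ∧ (a ∈ Δ ↔ b ∈ Δ) := by
    rcases h with h | h
    · obtain ⟨a, ha, b, hb, hab⟩ := Finset.one_lt_card.mp (show 1 < Δ.card by omega)
      exact ⟨a, b, hab, iff_of_true ha hb⟩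
    · have hc : 1 < Δᶜ.card := by rw [Finset.card_compl]; omega
      obtain ⟨a, ha, b, hb, hab⟩ := Finset.one_lt_card.mp hc
      rw [Finset.mem_compl] at ha hb
      exact ⟨a, b, hab, iff_of_false ha hb⟩
  obtain ⟨a, b, hab, hiff⟩ := key
  intro hle
  have h1 := hle (swap_mem_setStab Δ hiff)
  rw [Equiv.Perm.mem_alternatingGroup, Equiv.Perm.sign_swap hab] at h1
  exact absurd h1 (by decide)

theorem card_bipStab (Δ : Finset α) (h : 2 * Δ.card = Fintype.card α) (hpos : 0 < Δ.card) :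
    Nat.card (bipStab Δ) = 2 * (Δ.card.factorial) ^ 2 := by
  classical
  obtain ⟨x₀, hx₀⟩ := Finset.card_pos.mp hpos
  have hcc : Δᶜ.card = Δ.card := by rw [Finset.card_compl]; omega
  obtain ⟨t, ht⟩ := exists_perm_finset Δᶜ Δ hcc
  have ht' : ∀ x, t x ∈ Δ ↔ x ∉ Δ := fun x => by rw [ht, Finset.mem_compl]
  have htB : t ∈ bipStab Δ := Or.inr ht'
  have hidx : ((setStab Δ).subgroupOf (bipStab Δ)).index = 2 := by
    rw [Subgroup.index_eq_two_iff]
    refine ⟨⟨t, htB⟩, fun b => ?_⟩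
    show Xor ((b : Perm α) * t ∈ setStab Δ) ((b : Perm α) ∈ setStab Δ)
    rcases (mem_bipStab Δ b).mp b.2 with hb | hb
    · refine Or.inr ⟨hb, fun hbt => ?_⟩
      have := hbt x₀
      rw [Perm.mul_apply, hb, ht'] at this
      exact (this.mpr hx₀) hx₀
    · refine Or.inl ⟨fun x => ?_, fun hb' => ?_⟩
      · rw [Perm.mul_apply, hb, ht', not_not]
      · have := hb' x₀
        rw [hb] at this
        exact (this.mpr hx₀) hx₀
  have hcard := Subgroup.card_mul_index ((setStab Δ).subgroupOf (bipStab Δ))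
  rw [hidx] at hcard
  have hsub : Nat.card ((setStab Δ).subgroupOf (bipStab Δ)) = Nat.card (setStab Δ) :=
    Nat.card_congr (Subgroup.subgroupOfEquivOfLe (setStab_le_bipStab Δ)).toEquiv
  rw [← hcard, hsub, card_setStab]
  have : Fintype.card α - Δ.card = Δ.card := by omega
  rw [this]; ring

end Cfsg.Agent.Lib.Helper5.HallBip
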