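import Cfsg.Agent.Lib.Helper14.HallStab

/-!
# Counterexamples for S2534 (leaf for helper14)

* `exists_fpf_23` : for odd `n ≥ 5`, a fixed-point-free `{2,3}`-subgroup of `alternatingGroup (Fin n)`.
* `exists_no3_23` : a `{2,3}`-subgroup of `alternatingGroup (Fin 7)` stabilizing no 3-subset.
* `exists_nobip_23` : a `{2,3}`-subgroup of `alternatingGroup (Fin 8)` contained in no `bipStab Δ`
  with `|Δ| = 4`.
-/

set_option autoImplicit false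

namespace Cfsg.Agent.Lib.Helper5.HallCex

open Equiv Equiv.Perm Cfsg.Agent.Lib.Helper14.Hall

theorem prime_dvd_six {p : ℕ} (hp : p.Prime) (hd : p ∣ 6) : p = 2 ∨ p = 3 := by
  have h6 : (6 : ℕ) = 2 * 3 := by norm_num
  rw [h6] at hd
  rcases (Nat.Prime.dvd_mul hp).mp hd with h | h
  · left; exact (Nat.prime_dvd_prime_iff_eq hp Nat.prime_two).mp h
  · right; exact (Nat.prime_dvd_prime_iff_eq hp Nat.prime_three).mp h

theorem prime_dvd_twelve {p : ℕ} (hp : p.Prime) (hd : p ∣ 12) : p = 2 ∨ p = 3 := by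
  have h12 : (12 : ℕ) = 2 * 6 := by norm_num
  rw [h12] at hd
  rcases (Nat.Prime.dvd_mul hp).mp hd with h | h
  · left; exact (Nat.prime_dvd_prime_iff_eq hp Nat.prime_two).mp h
  · exact prime_dvd_six hp h

/-! ### X1 : fixed-point-free `{2,3}`-subgroups -/

/-- `Perm (Fin 2)` acting on the second coordinate of `Fin m × Fin 2` -/
def R (m : ℕ) : Perm (Fin 2) →* Perm (Fin m × Fin 2) where
  toFun ρ := Equiv.prodCongrRight (fun _ => ρ)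
  map_one' := by ext ⟨a, b⟩ <;> rfl
  map_mul' := fun ρ₁ ρ₂ => by ext ⟨a, b⟩ <;> rfl

/-- `S₃ × S₂` acting on `3 + 2m` points -/
def Φ (m : ℕ) : Perm (Fin 3) × Perm (Fin 2) →* Perm (Fin 3 ⊕ (Fin m × Fin 2)) :=
  (Equiv.Perm.sumCongrHom (Fin 3) (Fin m × Fin 2)).comp
    (MonoidHom.prodMap (MonoidHom.id _) (R m))

theorem Φ_apply (m : ℕ) (σ : Perm (Fin 3)) (ρ : Perm (Fin 2)) :
    Φ m (σ, ρ) = Equiv.Perm.sumCongr σ (R m ρ) := rfl

theorem sign_Φ (m : ℕ) (σ : Perm (Fin 3)) (ρ : Perm (Fin 2)) :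
    sign (Φ m (σ, ρ)) = sign σ * sign ρ ^ m := by
  rw [Φ_apply, Equiv.Perm.sign_sumCongr]
  congr 1
  show sign (Equiv.prodCongrRight fun _ => ρ) = _
  rw [Equiv.Perm.sign_prodCongrRight, Finset.prod_const, Finset.card_univ, Fintype.card_fin]

theorem finRotate3_ne : ∀ i : Fin 3, finRotate 3 i ≠ i := by decide

theorem swap01_ne : ∀ j : Fin 2, swap (0 : Fin 2) 1 j ≠ j := by decide

theorem exists_fpf_23 (n : ℕ) (hodd : n % 2 = 1) (h5 : 5 ≤ n) :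
    ∃ Q : Subgroup (Equiv.Perm (Fin n)), Q ≤ alternatingGroup (Fin n) ∧
      (∀ p : ℕ, p.Prime → p ∣ Nat.card Q → p = 2 ∨ p = 3) ∧ ∀ x : Fin n, ∃ g ∈ Q, g x ≠ x := by
  obtain ⟨m, hm⟩ : ∃ m, 3 + m * 2 = n := ⟨(n - 3) / 2, by omega⟩
  let e : Fin 3 ⊕ (Fin m × Fin 2) ≃ Fin n :=
    ((Equiv.sumCongr (Equiv.refl (Fin 3)) finProdFinEquiv).trans finSumFinEquiv).trans
      (finCongr hm)
  let Ψ : Perm (Fin 3) × Perm (Fin 2) →* Perm (Fin n) :=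
    (e.permCongrHom.toMonoidHom).comp (Φ m)
  have hsign : ∀ σ ρ, sign (Ψ (σ, ρ)) = sign σ * sign ρ ^ m := by
    intro σ ρ
    show sign (e.permCongr (Φ m (σ, ρ))) = _
    rw [Equiv.Perm.sign_permCongr, sign_Φ]
  have happ : ∀ σ ρ (y : Fin 3 ⊕ (Fin m × Fin 2)), Ψ (σ, ρ) (e y) = e (Φ m (σ, ρ) y) := by
    intro σ ρ y
    show e.permCongr (Φ m (σ, ρ)) (e y) = _
    rw [Equiv.permCongr_apply, Equiv.symm_apply_apply]
  refine ⟨Ψ.range ⊓ alternatingGroup (Fin n), inf_le_right, ?_, ?_⟩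
  · intro p hp hdvd
    have h1 : Nat.card ↥(Ψ.range ⊓ alternatingGroup (Fin n)) ∣ Nat.card Ψ.range :=
      Subgroup.card_dvd_of_le inf_le_left
    have h2 : Nat.card Ψ.range ∣ Nat.card (Perm (Fin 3) × Perm (Fin 2)) :=
      Subgroup.card_range_dvd Ψ
    have h3 : Nat.card (Perm (Fin 3) × Perm (Fin 2)) = 12 := by
      rw [Nat.card_prod, Nat.card_perm, Nat.card_perm, Nat.card_fin, Nat.card_fin]
      rfl
    exact prime_dvd_twelve hp (h3 ▸ (hdvd.trans (h1.trans h2)))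
  · intro x
    obtain ⟨y, rfl⟩ := e.surjective x
    rcases y with i | ⟨k, j⟩
    · refine ⟨Ψ (finRotate 3, 1),
        Subgroup.mem_inf.mpr ⟨⟨_, rfl⟩, Equiv.Perm.mem_alternatingGroup.mpr ?_⟩, ?_⟩
      · rw [hsign, sign_finRotate, Perm.sign_one, one_pow, mul_one]
        decide
      · rw [happ, Φ_apply]
        intro h
        have h1 := e.injective h
        rw [Equiv.Perm.sumCongr_apply, Sum.map_inl] at h1
        exact finRotate3_ne i (Sum.inl_injective h1)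
    · have hswap : ∀ σ : Perm (Fin 3),
          Ψ (σ, swap 0 1) (e (Sum.inr (k, j))) ≠ e (Sum.inr (k, j)) := by
        intro σ
        rw [happ, Φ_apply]
        intro h
        have h1 := e.injective h
        rw [Equiv.Perm.sumCongr_apply, Sum.map_inr] at h1
        have h2 : R m (swap 0 1) (k, j) = (k, j) := Sum.inr_injective h1
        exact swap01_ne j (congrArg Prod.snd h2)
      by_cases hme : Even m
      · refine ⟨Ψ (1, swap 0 1),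
          Subgroup.mem_inf.mpr ⟨⟨_, rfl⟩, Equiv.Perm.mem_alternatingGroup.mpr ?_⟩, hswap 1⟩
        rw [hsign, Perm.sign_one, one_mul, sign_swap (by decide), hme.neg_one_pow]
      · have hmo : Odd m := Nat.not_even_iff_odd.mp hme
        refine ⟨Ψ (swap 0 1, swap 0 1),
          Subgroup.mem_inf.mpr ⟨⟨_, rfl⟩, Equiv.Perm.mem_alternatingGroup.mpr ?_⟩, hswap _⟩
        rw [hsign, sign_swap (by decide), sign_swap (by decide), hmo.neg_one_pow]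
        decide

/-! ### X2, X3 : `A₄` on the edges of a tetrahedron -/

/-- multiplication table of the twelve elements below -/
def mt : Fin 12 → Fin 12 → Fin 12 :=
  ![![0, 1, 2, 3, 4, 5, 6, 7, 8, 9, 10, 11],
    ![1, 0, 9, 8, 6, 7, 4, 5, 3, 2, 11, 10],
    ![2, 3, 4, 5, 0, 1, 10, 11, 6, 7, 8, 9],
    ![3, 2, 7, 6, 10, 11, 0, 1, 5, 4, 9, 8],
    ![4, 5, 0, 1, 2, 3, 8, 9, 10, 11, 6, 7],
    ![5, 4, 11, 10, 8, 9, 2, 3, 1, 0, 7, 6],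
    ![6, 7, 1, 0, 9, 8, 3, 2, 11, 10, 4, 5],
    ![7, 6, 10, 11, 3, 2, 9, 8, 0, 1, 5, 4],
    ![8, 9, 5, 4, 11, 10, 1, 0, 7, 6, 2, 3],
    ![9, 8, 6, 7, 1, 0, 11, 10, 4, 5, 3, 2],
    ![10, 11, 3, 2, 7, 6, 5, 4, 9, 8, 0, 1],
    ![11, 10, 8, 9, 5, 4, 7, 6, 2, 3, 1, 0]]

/-- inversion table -/
def iv : Fin 12 → Fin 12 := ![0, 1, 4, 6, 2, 9, 3, 8, 7, 5, 10, 11]

def f7_0 : Fin 7 → Fin 7 := ![0, 1, 2, 3, 4, 5, 6]
def i7_0 : Fin 7 → Fin 7 := ![0, 1, 2, 3, 4, 5, 6]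
theorem h7_0 : ∀ i, i7_0 (f7_0 i) = i := by decide +kernel
theorem h7_0' : ∀ i, f7_0 (i7_0 i) = i := by decide +kernel
def g7_0 : Perm (Fin 7) := ⟨f7_0, i7_0, h7_0, h7_0'⟩

def f7_1 : Fin 7 → Fin 7 := ![0, 4, 3, 2, 1, 5, 6]
def i7_1 : Fin 7 → Fin 7 := ![0, 4, 3, 2, 1, 5, 6]
theorem h7_1 : ∀ i, i7_1 (f7_1 i) = i := by decide +kernel
theorem h7_1' : ∀ i, f7_1 (i7_1 i) = i := by decide +kernel
def g7_1 : Perm (Fin 7) := ⟨f7_1, i7_1, h7_1, h7_1'⟩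

def f7_2 : Fin 7 → Fin 7 := ![1, 2, 0, 5, 3, 4, 6]
def i7_2 : Fin 7 → Fin 7 := ![2, 0, 1, 4, 5, 3, 6]
theorem h7_2 : ∀ i, i7_2 (f7_2 i) = i := by decide +kernel
theorem h7_2' : ∀ i, f7_2 (i7_2 i) = i := by decide +kernel
def g7_2 : Perm (Fin 7) := ⟨f7_2, i7_2, h7_2, h7_2'⟩

def f7_3 : Fin 7 → Fin 7 := ![1, 3, 5, 0, 2, 4, 6]
def i7_3 : Fin 7 → Fin 7 := ![3, 0, 4, 1, 5, 2, 6]
theorem h7_3 : ∀ i, i7_3 (f7_3 i) = i := by decide +kernel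
theorem h7_3' : ∀ i, f7_3 (i7_3 i) = i := by decide +kernel
def g7_3 : Perm (Fin 7) := ⟨f7_3, i7_3, h7_3, h7_3'⟩

def f7_4 : Fin 7 → Fin 7 := ![2, 0, 1, 4, 5, 3, 6]
def i7_4 : Fin 7 → Fin 7 := ![1, 2, 0, 5, 3, 4, 6]
theorem h7_4 : ∀ i, i7_4 (f7_4 i) = i := by decide +kernel
theorem h7_4' : ∀ i, f7_4 (i7_4 i) = i := by decide +kernel
def g7_4 : Perm (Fin 7) := ⟨f7_4, i7_4, h7_4, h7_4'⟩

def f7_5 : Fin 7 → Fin 7 := ![2, 5, 4, 1, 0, 3, 6]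
def i7_5 : Fin 7 → Fin 7 := ![4, 3, 0, 5, 2, 1, 6]
theorem h7_5 : ∀ i, i7_5 (f7_5 i) = i := by decide +kernel
theorem h7_5' : ∀ i, f7_5 (i7_5 i) = i := by decide +kernel
def g7_5 : Perm (Fin 7) := ⟨f7_5, i7_5, h7_5, h7_5'⟩

def f7_6 : Fin 7 → Fin 7 := ![3, 0, 4, 1, 5, 2, 6]
def i7_6 : Fin 7 → Fin 7 := ![1, 3, 5, 0, 2, 4, 6]
theorem h7_6 : ∀ i, i7_6 (f7_6 i) = i := by decide +kernel
theorem h7_6' : ∀ i, f7_6 (i7_6 i) = i := by decide +kernel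
def g7_6 : Perm (Fin 7) := ⟨f7_6, i7_6, h7_6, h7_6'⟩

def f7_7 : Fin 7 → Fin 7 := ![3, 5, 1, 4, 0, 2, 6]
def i7_7 : Fin 7 → Fin 7 := ![4, 2, 5, 0, 3, 1, 6]
theorem h7_7 : ∀ i, i7_7 (f7_7 i) = i := by decide +kernel
theorem h7_7' : ∀ i, f7_7 (i7_7 i) = i := by decide +kernel
def g7_7 : Perm (Fin 7) := ⟨f7_7, i7_7, h7_7, h7_7'⟩

def f7_8 : Fin 7 → Fin 7 := ![4, 2, 5, 0, 3, 1, 6]
def i7_8 : Fin 7 → Fin 7 := ![3, 5, 1, 4, 0, 2, 6]
theorem h7_8 : ∀ i, i7_8 (f7_8 i) = i := by decide +kernel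
theorem h7_8' : ∀ i, f7_8 (i7_8 i) = i := by decide +kernel
def g7_8 : Perm (Fin 7) := ⟨f7_8, i7_8, h7_8, h7_8'⟩

def f7_9 : Fin 7 → Fin 7 := ![4, 3, 0, 5, 2, 1, 6]
def i7_9 : Fin 7 → Fin 7 := ![2, 5, 4, 1, 0, 3, 6]
theorem h7_9 : ∀ i, i7_9 (f7_9 i) = i := by decide +kernel
theorem h7_9' : ∀ i, f7_9 (i7_9 i) = i := by decide +kernel
def g7_9 : Perm (Fin 7) := ⟨f7_9, i7_9, h7_9, h7_9'⟩

def f7_10 : Fin 7 → Fin 7 := ![5, 1, 3, 2, 4, 0, 6]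
def i7_10 : Fin 7 → Fin 7 := ![5, 1, 3, 2, 4, 0, 6]
theorem h7_10 : ∀ i, i7_10 (f7_10 i) = i := by decide +kernel
theorem h7_10' : ∀ i, f7_10 (i7_10 i) = i := by decide +kernel
def g7_10 : Perm (Fin 7) := ⟨f7_10, i7_10, h7_10, h7_10'⟩

def f7_11 : Fin 7 → Fin 7 := ![5, 4, 2, 3, 1, 0, 6]
def i7_11 : Fin 7 → Fin 7 := ![5, 4, 2, 3, 1, 0, 6]
theorem h7_11 : ∀ i, i7_11 (f7_11 i) = i := by decide +kernel
theorem h7_11' : ∀ i, f7_11 (i7_11 i) = i := by decide +kernel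
def g7_11 : Perm (Fin 7) := ⟨f7_11, i7_11, h7_11, h7_11'⟩

/-- the twelve elements of `A₄` acting on the six edges of a tetrahedron (points `0..5`) -/
def el7 : Fin 12 → Perm (Fin 7) :=
  ![g7_0, g7_1, g7_2, g7_3, g7_4, g7_5, g7_6, g7_7, g7_8, g7_9, g7_10, g7_11]

def a7 : Perm (Fin 7) := swap 0 3 * swap 3 1 * swap 2 4 * swap 4 5

def b7 : Perm (Fin 7) := swap 1 4 * swap 2 3

theorem el7_mul : ∀ i j : Fin 12, el7 i * el7 j = el7 (mt i j) := by decide +kernel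

theorem el7_inv : ∀ i : Fin 12, (el7 i)⁻¹ = el7 (iv i) := by decide +kernel

theorem el7_one : el7 0 = 1 := by decide +kernel

theorem el7_exp : ∀ i : Fin 12, el7 i ^ 6 = 1 := by decide +kernel

theorem a7_eq : a7 = el7 6 := by decide +kernel

theorem b7_eq : b7 = el7 1 := by decide +kernel

theorem a7_sign : sign a7 = 1 := by decide +kernel

theorem b7_sign : sign b7 = 1 := by decide +kernel

/-- the subgroup with carrier `Set.range el7` -/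
def H7 : Subgroup (Perm (Fin 7)) where
  carrier := Set.range el7
  mul_mem' := by
    rintro _ _ ⟨i, rfl⟩ ⟨j, rfl⟩
    exact ⟨mt i j, (el7_mul i j).symm⟩
  one_mem' := ⟨0, el7_one⟩
  inv_mem' := by
    rintro _ ⟨i, rfl⟩
    exact ⟨iv i, (el7_inv i).symm⟩

theorem closure7_le : Subgroup.closure {a7, b7} ≤ H7 := by
  rw [Subgroup.closure_le]
  rintro g (rfl | rfl)
  · exact ⟨6, a7_eq.symm⟩
  · exact ⟨1, b7_eq.symm⟩

theorem closure7_alt : Subgroup.closure {a7, b7} ≤ alternatingGroup (Fin 7) := by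
  rw [Subgroup.closure_le]
  rintro g (rfl | rfl)
  · exact Equiv.Perm.mem_alternatingGroup.mpr a7_sign
  · exact Equiv.Perm.mem_alternatingGroup.mpr b7_sign

theorem closure7_primes (p : ℕ) (hp : p.Prime)
    (hdvd : p ∣ Nat.card (Subgroup.closure {a7, b7})) : p = 2 ∨ p = 3 := by
  haveI : Fact p.Prime := ⟨hp⟩
  obtain ⟨g, hg⟩ := exists_prime_orderOf_dvd_card' p hdvd
  obtain ⟨i, hi⟩ := closure7_le g.2
  have h6 : (g : Perm (Fin 7)) ^ 6 = 1 := by rw [← hi]; exact el7_exp i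
  have hd : p ∣ 6 := by
    rw [← hg, ← Subgroup.orderOf_coe]
    exact orderOf_dvd_of_pow_eq_one h6
  exact prime_dvd_six hp hd

/-- a set stable under `a7` and `b7` contains all or none of the points `0..5` -/
theorem chain7 (Δ : Finset (Fin 7)) (ha : ∀ x, a7 x ∈ Δ ↔ x ∈ Δ)
    (hb : ∀ x, b7 x ∈ Δ ↔ x ∈ Δ) :
    ((0 : Fin 7) ∈ Δ ∧ (1 : Fin 7) ∈ Δ ∧ (2 : Fin 7) ∈ Δ ∧ (3 : Fin 7) ∈ Δ ∧
      (4 : Fin 7) ∈ Δ ∧ (5 : Fin 7) ∈ Δ) ∨
    ((0 : Fin 7) ∉ Δ ∧ (1 : Fin 7) ∉ Δ ∧ (2 : Fin 7) ∉ Δ ∧ (3 : Fin 7) ∉ Δ ∧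
      (4 : Fin 7) ∉ Δ ∧ (5 : Fin 7) ∉ Δ) := by
  have e03 : a7 0 = 3 := by decide +kernel
  have e31 : a7 3 = 1 := by decide +kernel
  have e24 : a7 2 = 4 := by decide +kernel
  have e45 : a7 4 = 5 := by decide +kernel
  have e14 : b7 1 = 4 := by decide +kernel
  have h03 := ha 0
  rw [e03] at h03
  have h31 := ha 3
  rw [e31] at h31
  have h24 := ha 2
  rw [e24] at h24
  have h45 := ha 4
  rw [e45] at h45
  have h14 := hb 1
  rw [e14] at h14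
  by_cases h0 : (0 : Fin 7) ∈ Δ
  · left
    have h3 := h03.mpr h0
    have h1 := h31.mpr h3
    have h4 := h14.mpr h1
    exact ⟨h0, h1, h24.mp h4, h3, h4, h45.mpr h4⟩
  · right
    have h3 : (3 : Fin 7) ∉ Δ := fun h => h0 (h03.mp h)
    have h1 : (1 : Fin 7) ∉ Δ := fun h => h3 (h31.mp h)
    have h4 : (4 : Fin 7) ∉ Δ := fun h => h1 (h14.mp h)
    exact ⟨h0, h1, fun h => h4 (h24.mpr h), h3, h4, fun h => h4 (h45.mp h)⟩

def f8_0 : Fin 8 → Fin 8 := ![0, 1, 2, 3, 4, 5, 6, 7]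
def i8_0 : Fin 8 → Fin 8 := ![0, 1, 2, 3, 4, 5, 6, 7]
theorem h8_0 : ∀ i, i8_0 (f8_0 i) = i := by decide +kernel
theorem h8_0' : ∀ i, f8_0 (i8_0 i) = i := by decide +kernel
def g8_0 : Perm (Fin 8) := ⟨f8_0, i8_0, h8_0, h8_0'⟩

def f8_1 : Fin 8 → Fin 8 := ![0, 4, 3, 2, 1, 5, 6, 7]
def i8_1 : Fin 8 → Fin 8 := ![0, 4, 3, 2, 1, 5, 6, 7]
theorem h8_1 : ∀ i, i8_1 (f8_1 i) = i := by decide +kernel
theorem h8_1' : ∀ i, f8_1 (i8_1 i) = i := by decide +kernel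
def g8_1 : Perm (Fin 8) := ⟨f8_1, i8_1, h8_1, h8_1'⟩

def f8_2 : Fin 8 → Fin 8 := ![1, 2, 0, 5, 3, 4, 6, 7]
def i8_2 : Fin 8 → Fin 8 := ![2, 0, 1, 4, 5, 3, 6, 7]
theorem h8_2 : ∀ i, i8_2 (f8_2 i) = i := by decide +kernel
theorem h8_2' : ∀ i, f8_2 (i8_2 i) = i := by decide +kernel
def g8_2 : Perm (Fin 8) := ⟨f8_2, i8_2, h8_2, h8_2'⟩

def f8_3 : Fin 8 → Fin 8 := ![1, 3, 5, 0, 2, 4, 6, 7]
def i8_3 : Fin 8 → Fin 8 := ![3, 0, 4, 1, 5, 2, 6, 7]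
theorem h8_3 : ∀ i, i8_3 (f8_3 i) = i := by decide +kernel
theorem h8_3' : ∀ i, f8_3 (i8_3 i) = i := by decide +kernel
def g8_3 : Perm (Fin 8) := ⟨f8_3, i8_3, h8_3, h8_3'⟩

def f8_4 : Fin 8 → Fin 8 := ![2, 0, 1, 4, 5, 3, 6, 7]
def i8_4 : Fin 8 → Fin 8 := ![1, 2, 0, 5, 3, 4, 6, 7]
theorem h8_4 : ∀ i, i8_4 (f8_4 i) = i := by decide +kernel
theorem h8_4' : ∀ i, f8_4 (i8_4 i) = i := by decide +kernel
def g8_4 : Perm (Fin 8) := ⟨f8_4, i8_4, h8_4, h8_4'⟩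

def f8_5 : Fin 8 → Fin 8 := ![2, 5, 4, 1, 0, 3, 6, 7]
def i8_5 : Fin 8 → Fin 8 := ![4, 3, 0, 5, 2, 1, 6, 7]
theorem h8_5 : ∀ i, i8_5 (f8_5 i) = i := by decide +kernel
theorem h8_5' : ∀ i, f8_5 (i8_5 i) = i := by decide +kernel
def g8_5 : Perm (Fin 8) := ⟨f8_5, i8_5, h8_5, h8_5'⟩

def f8_6 : Fin 8 → Fin 8 := ![3, 0, 4, 1, 5, 2, 6, 7]
def i8_6 : Fin 8 → Fin 8 := ![1, 3, 5, 0, 2, 4, 6, 7]
theorem h8_6 : ∀ i, i8_6 (f8_6 i) = i := by decide +kernel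
theorem h8_6' : ∀ i, f8_6 (i8_6 i) = i := by decide +kernel
def g8_6 : Perm (Fin 8) := ⟨f8_6, i8_6, h8_6, h8_6'⟩

def f8_7 : Fin 8 → Fin 8 := ![3, 5, 1, 4, 0, 2, 6, 7]
def i8_7 : Fin 8 → Fin 8 := ![4, 2, 5, 0, 3, 1, 6, 7]
theorem h8_7 : ∀ i, i8_7 (f8_7 i) = i := by decide +kernel
theorem h8_7' : ∀ i, f8_7 (i8_7 i) = i := by decide +kernel
def g8_7 : Perm (Fin 8) := ⟨f8_7, i8_7, h8_7, h8_7'⟩

def f8_8 : Fin 8 → Fin 8 := ![4, 2, 5, 0, 3, 1, 6, 7]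
def i8_8 : Fin 8 → Fin 8 := ![3, 5, 1, 4, 0, 2, 6, 7]
theorem h8_8 : ∀ i, i8_8 (f8_8 i) = i := by decide +kernel
theorem h8_8' : ∀ i, f8_8 (i8_8 i) = i := by decide +kernel
def g8_8 : Perm (Fin 8) := ⟨f8_8, i8_8, h8_8, h8_8'⟩

def f8_9 : Fin 8 → Fin 8 := ![4, 3, 0, 5, 2, 1, 6, 7]
def i8_9 : Fin 8 → Fin 8 := ![2, 5, 4, 1, 0, 3, 6, 7]
theorem h8_9 : ∀ i, i8_9 (f8_9 i) = i := by decide +kernel
theorem h8_9' : ∀ i, f8_9 (i8_9 i) = i := by decide +kernel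
def g8_9 : Perm (Fin 8) := ⟨f8_9, i8_9, h8_9, h8_9'⟩

def f8_10 : Fin 8 → Fin 8 := ![5, 1, 3, 2, 4, 0, 6, 7]
def i8_10 : Fin 8 → Fin 8 := ![5, 1, 3, 2, 4, 0, 6, 7]
theorem h8_10 : ∀ i, i8_10 (f8_10 i) = i := by decide +kernel
theorem h8_10' : ∀ i, f8_10 (i8_10 i) = i := by decide +kernel
def g8_10 : Perm (Fin 8) := ⟨f8_10, i8_10, h8_10, h8_10'⟩

def f8_11 : Fin 8 → Fin 8 := ![5, 4, 2, 3, 1, 0, 6, 7]
def i8_11 : Fin 8 → Fin 8 := ![5, 4, 2, 3, 1, 0, 6, 7]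
theorem h8_11 : ∀ i, i8_11 (f8_11 i) = i := by decide +kernel
theorem h8_11' : ∀ i, f8_11 (i8_11 i) = i := by decide +kernel
def g8_11 : Perm (Fin 8) := ⟨f8_11, i8_11, h8_11, h8_11'⟩

/-- the twelve elements of `A₄` acting on the six edges of a tetrahedron (points `0..5`) -/
def el8 : Fin 12 → Perm (Fin 8) :=
  ![g8_0, g8_1, g8_2, g8_3, g8_4, g8_5, g8_6, g8_7, g8_8, g8_9, g8_10, g8_11]

def a8 : Perm (Fin 8) := swap 0 3 * swap 3 1 * swap 2 4 * swap 4 5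

def b8 : Perm (Fin 8) := swap 1 4 * swap 2 3

theorem el8_mul : ∀ i j : Fin 12, el8 i * el8 j = el8 (mt i j) := by decide +kernel

theorem el8_inv : ∀ i : Fin 12, (el8 i)⁻¹ = el8 (iv i) := by decide +kernel

theorem el8_one : el8 0 = 1 := by decide +kernel

theorem el8_exp : ∀ i : Fin 12, el8 i ^ 6 = 1 := by decide +kernel

theorem a8_eq : a8 = el8 6 := by decide +kernel

theorem b8_eq : b8 = el8 1 := by decide +kernel

theorem a8_sign : sign a8 = 1 := by decide +kernel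

theorem b8_sign : sign b8 = 1 := by decide +kernel

/-- the subgroup with carrier `Set.range el8` -/
def H8 : Subgroup (Perm (Fin 8)) where
  carrier := Set.range el8
  mul_mem' := by
    rintro _ _ ⟨i, rfl⟩ ⟨j, rfl⟩
    exact ⟨mt i j, (el8_mul i j).symm⟩
  one_mem' := ⟨0, el8_one⟩
  inv_mem' := by
    rintro _ ⟨i, rfl⟩
    exact ⟨iv i, (el8_inv i).symm⟩

theorem closure8_le : Subgroup.closure {a8, b8} ≤ H8 := by
  rw [Subgroup.closure_le]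
  rintro g (rfl | rfl)
  · exact ⟨6, a8_eq.symm⟩
  · exact ⟨1, b8_eq.symm⟩

theorem closure8_alt : Subgroup.closure {a8, b8} ≤ alternatingGroup (Fin 8) := by
  rw [Subgroup.closure_le]
  rintro g (rfl | rfl)
  · exact Equiv.Perm.mem_alternatingGroup.mpr a8_sign
  · exact Equiv.Perm.mem_alternatingGroup.mpr b8_sign

theorem closure8_primes (p : ℕ) (hp : p.Prime)
    (hdvd : p ∣ Nat.card (Subgroup.closure {a8, b8})) : p = 2 ∨ p = 3 := by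
  haveI : Fact p.Prime := ⟨hp⟩
  obtain ⟨g, hg⟩ := exists_prime_orderOf_dvd_card' p hdvd
  obtain ⟨i, hi⟩ := closure8_le g.2
  have h6 : (g : Perm (Fin 8)) ^ 6 = 1 := by rw [← hi]; exact el8_exp i
  have hd : p ∣ 6 := by
    rw [← hg, ← Subgroup.orderOf_coe]
    exact orderOf_dvd_of_pow_eq_one h6
  exact prime_dvd_six hp hd

/-- a set stable under `a8` and `b8` contains all or none of the points `0..5` -/
theorem chain8 (Δ : Finset (Fin 8)) (ha : ∀ x, a8 x ∈ Δ ↔ x ∈ Δ)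
    (hb : ∀ x, b8 x ∈ Δ ↔ x ∈ Δ) :
    ((0 : Fin 8) ∈ Δ ∧ (1 : Fin 8) ∈ Δ ∧ (2 : Fin 8) ∈ Δ ∧ (3 : Fin 8) ∈ Δ ∧
      (4 : Fin 8) ∈ Δ ∧ (5 : Fin 8) ∈ Δ) ∨
    ((0 : Fin 8) ∉ Δ ∧ (1 : Fin 8) ∉ Δ ∧ (2 : Fin 8) ∉ Δ ∧ (3 : Fin 8) ∉ Δ ∧
      (4 : Fin 8) ∉ Δ ∧ (5 : Fin 8) ∉ Δ) := by
  have e03 : a8 0 = 3 := by decide +kernel
  have e31 : a8 3 = 1 := by decide +kernel
  have e24 : a8 2 = 4 := by decide +kernel
  have e45 : a8 4 = 5 := by decide +kernel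
  have e14 : b8 1 = 4 := by decide +kernel
  have h03 := ha 0
  rw [e03] at h03
  have h31 := ha 3
  rw [e31] at h31
  have h24 := ha 2
  rw [e24] at h24
  have h45 := ha 4
  rw [e45] at h45
  have h14 := hb 1
  rw [e14] at h14
  by_cases h0 : (0 : Fin 8) ∈ Δ
  · left
    have h3 := h03.mpr h0
    have h1 := h31.mpr h3
    have h4 := h14.mpr h1
    exact ⟨h0, h1, h24.mp h4, h3, h4, h45.mpr h4⟩
  · right
    have h3 : (3 : Fin 8) ∉ Δ := fun h => h0 (h03.mp h)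
    have h1 : (1 : Fin 8) ∉ Δ := fun h => h3 (h31.mp h)
    have h4 : (4 : Fin 8) ∉ Δ := fun h => h1 (h14.mp h)
    exact ⟨h0, h1, fun h => h4 (h24.mpr h), h3, h4, fun h => h4 (h45.mp h)⟩

theorem key7 (Δ : Finset (Fin 7)) (hΔ : Δ.card = 3) (ha : ∀ x, a7 x ∈ Δ ↔ x ∈ Δ)
    (hb : ∀ x, b7 x ∈ Δ ↔ x ∈ Δ) : False := by
  rcases chain7 Δ ha hb with ⟨h0, h1, h2, h3, h4, h5⟩ | ⟨h0, h1, h2, h3, h4, h5⟩
  · have hsub : ({0, 1, 2, 3, 4, 5} : Finset (Fin 7)) ⊆ Δ := by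
      intro x hx
      simp only [Finset.mem_insert, Finset.mem_singleton] at hx
      rcases hx with rfl | rfl | rfl | rfl | rfl | rfl <;> assumption
    have h6 := Finset.card_le_card hsub
    rw [hΔ] at h6
    revert h6
    decide
  · have hsub : Δ ⊆ ({6} : Finset (Fin 7)) := by
      intro x hx
      rw [Finset.mem_singleton]
      match x, hx with
      | 0, h => exact absurd h h0
      | 1, h => exact absurd h h1
      | 2, h => exact absurd h h2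
      | 3, h => exact absurd h h3
      | 4, h => exact absurd h h4
      | 5, h => exact absurd h h5
      | 6, _ => rfl
    have h6 := Finset.card_le_card hsub
    rw [hΔ, Finset.card_singleton] at h6
    omega

theorem key8 (Δ : Finset (Fin 8)) (hΔ : Δ.card = 4) (ha : ∀ x, a8 x ∈ Δ ↔ x ∈ Δ)
    (hb : ∀ x, b8 x ∈ Δ ↔ x ∈ Δ) : False := by
  rcases chain8 Δ ha hb with ⟨h0, h1, h2, h3, h4, h5⟩ | ⟨h0, h1, h2, h3, h4, h5⟩
  · have hsub : ({0, 1, 2, 3, 4, 5} : Finset (Fin 8)) ⊆ Δ := by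
      intro x hx
      simp only [Finset.mem_insert, Finset.mem_singleton] at hx
      rcases hx with rfl | rfl | rfl | rfl | rfl | rfl <;> assumption
    have h6 := Finset.card_le_card hsub
    rw [hΔ] at h6
    revert h6
    decide
  · have hsub : Δ ⊆ ({6, 7} : Finset (Fin 8)) := by
      intro x hx
      rw [Finset.mem_insert, Finset.mem_singleton]
      match x, hx with
      | 0, h => exact absurd h h0
      | 1, h => exact absurd h h1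
      | 2, h => exact absurd h h2
      | 3, h => exact absurd h h3
      | 4, h => exact absurd h h4
      | 5, h => exact absurd h h5
      | 6, _ => exact Or.inl rfl
      | 7, _ => exact Or.inr rfl
    have h6 := Finset.card_le_card hsub
    rw [hΔ] at h6
    have h7 : ({6, 7} : Finset (Fin 8)).card = 2 := by decide
    omega

theorem exists_no3_23 : ∃ Q : Subgroup (Equiv.Perm (Fin 7)), Q ≤ alternatingGroup (Fin 7) ∧
    (∀ p : ℕ, p.Prime → p ∣ Nat.card Q → p = 2 ∨ p = 3) ∧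
    ∀ Δ : Finset (Fin 7), Δ.card = 3 → ¬ Q ≤ setStab Δ := by
  refine ⟨Subgroup.closure {a7, b7}, closure7_alt, closure7_primes, ?_⟩
  intro Δ hΔ hle
  have ha : a7 ∈ setStab Δ := hle (Subgroup.subset_closure (Set.mem_insert _ _))
  have hb : b7 ∈ setStab Δ :=
    hle (Subgroup.subset_closure (Set.mem_insert_of_mem _ (Set.mem_singleton _)))
  exact key7 Δ hΔ ha hb

theorem exists_nobip_23 : ∃ Q : Subgroup (Equiv.Perm (Fin 8)), Q ≤ alternatingGroup (Fin 8) ∧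
    (∀ p : ℕ, p.Prime → p ∣ Nat.card Q → p = 2 ∨ p = 3) ∧
    ∀ Δ : Finset (Fin 8), Δ.card = 4 → ¬ Q ≤ bipStab Δ := by
  refine ⟨Subgroup.closure {a8, b8}, closure8_alt, closure8_primes, ?_⟩
  intro Δ hΔ hle
  have ha : a8 ∈ bipStab Δ := hle (Subgroup.subset_closure (Set.mem_insert _ _))
  have hb : b8 ∈ bipStab Δ :=
    hle (Subgroup.subset_closure (Set.mem_insert_of_mem _ (Set.mem_singleton _)))
  have e6a : a8 6 = 6 := by decide +kernel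
  have e6b : b8 6 = 6 := by decide +kernel
  have ha' : ∀ x, a8 x ∈ Δ ↔ x ∈ Δ := by
    rcases ha with ha | ha
    · exact ha
    · exfalso
      have h6 := ha 6
      rw [e6a] at h6
      exact iff_not_self h6
  have hb' : ∀ x, b8 x ∈ Δ ↔ x ∈ Δ := by
    rcases hb with hb | hb
    · exact hb
    · exfalso
      have h6 := hb 6
      rw [e6b] at h6
      exact iff_not_self h6
  exact key8 Δ hΔ ha' hb'

end Cfsg.Agent.Lib.Helper5.HallCex
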