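/-
helper5: character sums over the singular cone of the frozen odd-dimensional quadratic form
`Cfsg.quadFormOdd m F` (leaf (c3) of the S2344 plan).  Pure Mathlib + the frozen definition.
-/
import Mathlib
import Cfsg.Prelude.Def_Classical

set_option autoImplicit false

namespace Cfsg.Agent.Lib.Helper5.OOGauss

open Finset

variable {F : Type*} [Field F] [Fintype F] [DecidableEq F]

/-- The complex-valued quadratic character. -/
noncomputable def chiC (F : Type*) [Field F] [Fintype F] [DecidableEq F] : MulChar F ℂ :=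
  (quadraticChar F).ringHomComp (Int.castRingHom ℂ)

theorem chiC_apply (a : F) : chiC F a = ((quadraticChar F a : ℤ) : ℂ) := rfl

theorem chiC_zero : chiC F (0 : F) = 0 := by
  rw [chiC_apply, quadraticChar_zero]; simp

theorem chiC_sq_one {a : F} (ha : a ≠ 0) : chiC F a ^ 2 = 1 := by
  rw [chiC_apply]
  have := quadraticChar_sq_one ha
  exact_mod_cast this

theorem chiC_mul_self {a : F} (ha : a ≠ 0) : chiC F a * chiC F a = 1 := by
  rw [← pow_two]; exact chiC_sq_one ha

theorem chiC_isQuadratic : (chiC F).IsQuadratic :=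
  (quadraticChar_isQuadratic (F := F)).comp _

theorem chiC_ne_one (hF : ringChar F ≠ 2) : chiC F ≠ 1 := by
  intro h
  obtain ⟨a, ha⟩ := quadraticChar_exists_neg_one' hF
  have h1 : chiC F (a : F) = 1 := by rw [h]; exact MulChar.one_apply_coe a
  rw [chiC_apply, ha] at h1
  norm_num at h1

theorem chiC_inv {a : F} (ha : a ≠ 0) : chiC F a⁻¹ = chiC F a := by
  have h1 : chiC F a⁻¹ * chiC F a = 1 := by
    rw [← map_mul, inv_mul_cancel₀ ha, map_one]
  have h2 := chiC_mul_self ha
  have h3 : chiC F a ≠ 0 := by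
    intro h; rw [h] at h2; simp at h2
  exact mul_right_cancel₀ h3 (h1.trans h2.symm)

section sums

variable (ψ : AddChar F ℂ)

/-- The quadratic Gauss sum. -/
noncomputable def gS : ℂ := gaussSum (chiC F) ψ

theorem gS_sq (hF : ringChar F ≠ 2) (hψ : ψ ≠ 1) :
    gS ψ ^ 2 = chiC F (-1) * (Fintype.card F : ℂ) :=
  gaussSum_sq (chiC_ne_one hF) chiC_isQuadratic (AddChar.IsPrimitive.of_ne_one hψ)

/-- `∑ b, ψ (c * b) = q` or `0`. -/
theorem sum_mul_left (hψ : ψ ≠ 1) (c : F) :
    ∑ b : F, ψ (c * b) = if c = 0 then (Fintype.card F : ℂ) else 0 := by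
  have := AddChar.sum_mulShift c (AddChar.IsPrimitive.of_ne_one hψ)
  simp_rw [mul_comm c]
  exact_mod_cast this

/-- The hyperbolic pair sum. -/
theorem pair_sum (hψ : ψ ≠ 1) {t : F} (ht : t ≠ 0) (α β : F) :
    ∑ a : F, ∑ b : F, ψ (t * a * b + α * b + β * a) =
      (Fintype.card F : ℂ) * ψ (-(α * β) / t) := by
  have h1 : ∀ a : F, ∑ b : F, ψ (t * a * b + α * b + β * a) =
      ψ (β * a) * (if t * a + α = 0 then (Fintype.card F : ℂ) else 0) := by
    intro a
    rw [← sum_mul_left ψ hψ, Finset.mul_sum]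
    refine Finset.sum_congr rfl fun b _ => ?_
    rw [← AddChar.map_add_eq_mul]
    congr 1; ring
  simp_rw [h1]
  rw [Finset.sum_eq_single (-α / t)]
  · have h2 : t * (-α / t) + α = 0 := by field_simp; ring
    rw [if_pos h2, mul_comm]
    congr 2
    field_simp
  · intro a _ ha
    have h2 : t * a + α ≠ 0 := by
      intro h; apply ha
      field_simp
      linear_combination h
    rw [if_neg h2, mul_zero]
  · intro h; exact absurd (Finset.mem_univ _) h

/-- The number of square roots, complex-valued. -/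
theorem card_sqrts (hF : ringChar F ≠ 2) (c : F) :
    ((Finset.univ.filter fun a : F => a ^ 2 = c).card : ℂ) = chiC F c + 1 := by
  have h := quadraticChar_card_sqrts hF c
  have h2 : {x : F | x ^ 2 = c}.toFinset = Finset.univ.filter fun a : F => a ^ 2 = c := by
    ext x; simp
  rw [h2] at h
  rw [chiC_apply]
  have h3 : (((Finset.univ.filter fun a : F => a ^ 2 = c).card : ℤ) : ℂ) =
      ((quadraticChar F c + 1 : ℤ) : ℂ) := by rw [h]
  push_cast at h3
  exact h3

/-- The quadratic Gauss sum as a sum over squares. -/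
theorem sq_sum (hF : ringChar F ≠ 2) (hψ : ψ ≠ 1) {t : F} (ht : t ≠ 0) :
    ∑ a : F, ψ (t * a ^ 2) = chiC F t * gS ψ := by
  have h1 : ∑ a : F, ψ (t * a ^ 2) =
      ∑ c : F, ∑ a ∈ Finset.univ.filter (fun a : F => a ^ 2 = c), ψ (t * a ^ 2) :=
    (Finset.sum_fiberwise Finset.univ (fun a : F => a ^ 2) (fun a => ψ (t * a ^ 2))).symm
  have h2 : ∀ c : F, ∑ a ∈ Finset.univ.filter (fun a : F => a ^ 2 = c), ψ (t * a ^ 2) =
      (chiC F c + 1) * ψ (t * c) := by
    intro c
    rw [← card_sqrts hF c]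
    rw [Finset.sum_congr rfl (fun a ha => by rw [(Finset.mem_filter.mp ha).2] :
      ∀ a ∈ Finset.univ.filter (fun a : F => a ^ 2 = c), ψ (t * a ^ 2) = ψ (t * c))]
    rw [Finset.sum_const, nsmul_eq_mul]
  rw [h1, Finset.sum_congr rfl (fun c _ => h2 c)]
  simp_rw [add_mul, one_mul]
  rw [Finset.sum_add_distrib, sum_mul_left ψ hψ t, if_neg ht, add_zero]
  -- now a Gauss sum of the shifted character
  have h3 : ∑ c : F, chiC F c * ψ (t * c) = gaussSum (chiC F) (AddChar.mulShift ψ t) := by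
    simp [gaussSum, AddChar.mulShift_apply]
  have h4 := gaussSum_mulShift (chiC F) ψ (Units.mk0 t ht)
  simp only [Units.val_mk0] at h4
  rw [h3, gS, ← h4, ← mul_assoc, chiC_mul_self ht, one_mul]

/-- The shifted square sum. -/
theorem sq_sum_shift (hF : ringChar F ≠ 2) (hψ : ψ ≠ 1) {t : F} (ht : t ≠ 0) (a₀ : F) :
    ∑ a : F, ψ (t * a ^ 2 + 2 * a₀ * a) = ψ (-(a₀ ^ 2) / t) * (chiC F t * gS ψ) := by
  rw [← sq_sum ψ hF hψ ht, Finset.mul_sum]
  rw [← Equiv.sum_comp (Equiv.addRight (a₀ / t)) (fun a => ψ (-(a₀ ^ 2) / t) * ψ (t * a ^ 2))]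
  refine Finset.sum_congr rfl fun a _ => ?_
  rw [← AddChar.map_add_eq_mul]
  congr 1
  simp only [Equiv.coe_addRight]
  field_simp
  ring

end sums

omit [Fintype F] [DecidableEq F] in
/-- Additive characters turn finite sums into products. -/
theorem addChar_sum {ι : Type*} (ψ : AddChar F ℂ) (s : Finset ι) (f : ι → F) :
    ψ (∑ i ∈ s, f i) = ∏ i ∈ s, ψ (f i) := by
  classical
  induction s using Finset.induction_on with
  | empty => simp
  | insert a s ha ih => rw [Finset.sum_insert ha, Finset.prod_insert ha, AddChar.map_add_eq_mul, ih]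

/-! ### Coordinates -/

/-- The index type of the frozen odd quadratic form. -/
abbrev Idx (m : ℕ) := Unit ⊕ (Fin m ⊕ Fin m)

/-- Assemble a vector from its coordinates. -/
def mk (m : ℕ) (p : F × (Fin m → F) × (Fin m → F)) : Idx m → F :=
  Sum.elim (fun _ => p.1) (Sum.elim p.2.1 p.2.2)

/-- Vectors are triples of coordinates. -/
def mkEquiv (m : ℕ) : F × (Fin m → F) × (Fin m → F) ≃ (Idx m → F) where
  toFun := mk m
  invFun u := (u (.inl ()), fun i => u (.inr (.inl i)), fun i => u (.inr (.inr i)))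
  left_inv p := by rcases p with ⟨a, x, y⟩; rfl
  right_inv u := by funext j; rcases j with ⟨⟩ | j | j <;> rfl

theorem quadFormOdd_mk (m : ℕ) (a : F) (x y : Fin m → F) :
    Cfsg.quadFormOdd m F (mk m (a, x, y)) = a ^ 2 + ∑ i, x i * y i := by
  simp [Cfsg.quadFormOdd, mk]

/-- The polar form of the frozen quadratic form. -/
def polar (m : ℕ) (w u : Idx m → F) : F :=
  Cfsg.quadFormOdd m F (w + u) - Cfsg.quadFormOdd m F w - Cfsg.quadFormOdd m F u

theorem polar_apply (m : ℕ) (w u : Idx m → F) :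
    polar m w u = 2 * w (.inl ()) * u (.inl ()) +
      ∑ i, (w (.inr (.inl i)) * u (.inr (.inr i)) + w (.inr (.inr i)) * u (.inr (.inl i))) := by
  unfold polar Cfsg.quadFormOdd
  simp only [Pi.add_apply]
  have h : ∀ i : Fin m,
      (w (.inr (.inl i)) + u (.inr (.inl i))) * (w (.inr (.inr i)) + u (.inr (.inr i))) =
      w (.inr (.inl i)) * w (.inr (.inr i)) + u (.inr (.inl i)) * u (.inr (.inr i)) +
      (w (.inr (.inl i)) * u (.inr (.inr i)) + w (.inr (.inr i)) * u (.inr (.inl i))) := by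
    intro i; ring
  simp_rw [h]
  rw [Finset.sum_add_distrib, Finset.sum_add_distrib]
  ring

theorem sum_eq_coord (m : ℕ) (f : (Idx m → F) → ℂ) :
    ∑ u : Idx m → F, f u =
      ∑ a : F, ∑ x : Fin m → F, ∑ y : Fin m → F, f (mk m (a, x, y)) := by
  rw [← Equiv.sum_comp (mkEquiv m) f, Fintype.sum_prod_type]
  refine Finset.sum_congr rfl fun a _ => ?_
  rw [Fintype.sum_prod_type]
  rfl

/-- Sums of products over pairs of coordinate vectors factor. -/
theorem sum_sum_prod (m : ℕ) (h : Fin m → F → F → ℂ) :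
    ∑ x : Fin m → F, ∑ y : Fin m → F, ∏ i, h i (x i) (y i) = ∏ i, ∑ a : F, ∑ b : F, h i a b := by
  have h1 : ∀ x : Fin m → F, ∑ y : Fin m → F, ∏ i, h i (x i) (y i) =
      ∏ i, ∑ b : F, h i (x i) b := by
    intro x
    exact (Fintype.prod_sum (fun i b => h i (x i) b)).symm
  simp_rw [h1]
  exact (Fintype.prod_sum (fun i a => ∑ b : F, h i a b)).symm

section sums2

variable (ψ : AddChar F ℂ)

/-- The core complete sum for `t ≠ 0`. -/
theorem core_sum (hF : ringChar F ≠ 2) (hψ : ψ ≠ 1) {t : F} (ht : t ≠ 0) (m : ℕ)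
    (w : Idx m → F) :
    ∑ u : Idx m → F, ψ (t * Cfsg.quadFormOdd m F u + polar m w u) =
      chiC F t * gS ψ * (Fintype.card F : ℂ) ^ m * ψ (-(Cfsg.quadFormOdd m F w) / t) := by
  rw [sum_eq_coord]
  set a₀ := w (.inl ()) with ha₀
  set α : Fin m → F := fun i => w (.inr (.inl i)) with hα
  set β : Fin m → F := fun i => w (.inr (.inr i)) with hβ
  have hterm : ∀ (a : F) (x y : Fin m → F),
      ψ (t * Cfsg.quadFormOdd m F (mk m (a, x, y)) + polar m w (mk m (a, x, y))) =
      ψ (t * a ^ 2 + 2 * a₀ * a) * ∏ i, ψ (t * x i * y i + α i * y i + β i * x i) := by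
    intro a x y
    rw [← addChar_sum, ← AddChar.map_add_eq_mul]
    congr 1
    rw [quadFormOdd_mk, polar_apply]
    simp only [mk, Sum.elim_inl, Sum.elim_inr]
    rw [mul_add, Finset.mul_sum, Finset.sum_add_distrib, Finset.sum_add_distrib,
      Finset.sum_add_distrib]
    have e1 : ∑ i, t * (x i * y i) = ∑ i, t * x i * y i :=
      Finset.sum_congr rfl fun i _ => by ring
    rw [e1]
    ring
  simp_rw [hterm, ← Finset.mul_sum]
  rw [← Finset.sum_mul]
  rw [sum_sum_prod m (fun i a b => ψ (t * a * b + α i * b + β i * a))]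
  simp_rw [pair_sum ψ hψ ht]
  rw [sq_sum_shift ψ hF hψ ht, Finset.prod_mul_distrib, Finset.prod_const, Finset.card_univ,
    Fintype.card_fin, ← addChar_sum ψ Finset.univ (fun i => -(α i * β i) / t)]
  have hQw : Cfsg.quadFormOdd m F w = a₀ ^ 2 + ∑ i, α i * β i := rfl
  have e2 : ψ (-(Cfsg.quadFormOdd m F w) / t) =
      ψ (-(a₀ ^ 2) / t) * ψ (∑ i, -(α i * β i) / t) := by
    rw [← AddChar.map_add_eq_mul]
    congr 1
    rw [hQw, ← Finset.sum_div, Finset.sum_neg_distrib]
    ring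
  rw [e2]
  ring

/-- The linear sum vanishes for `w ≠ 0`. -/
theorem lin_sum (hF : ringChar F ≠ 2) (hψ : ψ ≠ 1) (m : ℕ) (w : Idx m → F) (hw : w ≠ 0) :
    ∑ u : Idx m → F, ψ (polar m w u) = 0 := by
  rw [sum_eq_coord]
  set a₀ := w (.inl ()) with ha₀
  set α : Fin m → F := fun i => w (.inr (.inl i)) with hα
  set β : Fin m → F := fun i => w (.inr (.inr i)) with hβ
  have hterm : ∀ (a : F) (x y : Fin m → F),
      ψ (polar m w (mk m (a, x, y))) =
      ψ (2 * a₀ * a) * ∏ i, (ψ (β i * x i) * ψ (α i * y i)) := by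
    intro a x y
    simp_rw [← AddChar.map_add_eq_mul]
    rw [← addChar_sum, ← AddChar.map_add_eq_mul]
    congr 1
    rw [polar_apply]
    simp only [mk, Sum.elim_inl, Sum.elim_inr]
    congr 1
    exact Finset.sum_congr rfl fun i _ => by ring
  simp_rw [hterm, ← Finset.mul_sum]
  rw [← Finset.sum_mul]
  rw [sum_sum_prod m (fun i a b => ψ (β i * a) * ψ (α i * b))]
  simp_rw [← Finset.mul_sum, ← Finset.sum_mul, sum_mul_left ψ hψ]
  -- some coordinate of `w` is nonzero
  have h2 : (2 : F) ≠ 0 := Ring.two_ne_zero hF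
  by_cases h0 : a₀ = 0
  · have : ∃ i, α i ≠ 0 ∨ β i ≠ 0 := by
      by_contra hcon
      push Not at hcon
      apply hw
      funext j
      rcases j with ⟨⟩ | j | j
      · exact h0
      · exact (hcon j).1
      · exact (hcon j).2
    obtain ⟨i, hi⟩ := this
    have : (∏ i, ((if β i = 0 then (Fintype.card F : ℂ) else 0) *
        (if α i = 0 then (Fintype.card F : ℂ) else 0))) = 0 := by
      apply Finset.prod_eq_zero (Finset.mem_univ i)
      rcases hi with hi | hi
      · rw [if_neg hi, mul_zero]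
      · rw [if_neg hi, zero_mul]
    rw [this, mul_zero]
  · have : 2 * a₀ ≠ 0 := mul_ne_zero h2 h0
    rw [if_neg this, zero_mul]

/-- Inversion sum. -/
theorem inv_sum {c : F} (hc : c ≠ 0) :
    ∑ t : F, chiC F t * ψ (-c / t) = chiC F (-c) * gS ψ := by
  have hinv : Function.Involutive (fun t : F => -c / t) := by
    intro t
    by_cases ht : t = 0
    · simp [ht]
    · field_simp
  rw [← Equiv.sum_comp hinv.toPerm (fun t => chiC F t * ψ (-c / t)), gS, gaussSum,
    Finset.mul_sum]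
  refine Finset.sum_congr rfl fun t _ => ?_
  simp only [Function.Involutive.coe_toPerm]
  by_cases ht : t = 0
  · simp [ht, chiC_zero]
  · have e1 : -c / (-c / t) = t := hinv t
    rw [e1, div_eq_mul_inv, map_mul, chiC_inv ht, mul_assoc]

end sums2

section main

variable (ψ : AddChar F ℂ)

theorem card_ne_zero' : (Fintype.card F : ℂ) ≠ 0 :=
  Nat.cast_ne_zero.mpr Fintype.card_ne_zero

theorem chiC_neg (c : F) : chiC F (-c) = chiC F (-1) * chiC F c := by
  rw [← map_mul, neg_one_mul]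

theorem chiC_neg_one_mul_self : chiC F (-1 : F) * chiC F (-1 : F) = 1 :=
  chiC_mul_self (neg_ne_zero.mpr one_ne_zero)

/-- `q` times the cone sum is the complete double sum. -/
theorem card_mul_cone_sum (hψ : ψ ≠ 1) (m : ℕ) (w : Idx m → F) :
    (Fintype.card F : ℂ) *
        ∑ u ∈ Finset.univ.filter (fun u : Idx m → F => Cfsg.quadFormOdd m F u = 0),
          ψ (polar m w u) =
      ∑ t : F, ∑ u : Idx m → F, ψ (t * Cfsg.quadFormOdd m F u + polar m w u) := by
  rw [Finset.sum_comm, Finset.sum_filter, Finset.mul_sum]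
  refine Finset.sum_congr rfl fun u _ => ?_
  simp_rw [AddChar.map_add_eq_mul, ← Finset.sum_mul]
  have h1 : ∑ t : F, ψ (t * Cfsg.quadFormOdd m F u) =
      if Cfsg.quadFormOdd m F u = 0 then (Fintype.card F : ℂ) else 0 := by
    rw [← sum_mul_left ψ hψ]
    exact Finset.sum_congr rfl fun t _ => by rw [mul_comm]
  rw [h1]
  split_ifs <;> simp

/-- The part `t ≠ 0` of the double sum. -/
theorem nonzero_part (hF : ringChar F ≠ 2) (hψ : ψ ≠ 1) (m : ℕ) (w : Idx m → F) :
    ∑ t ∈ (Finset.univ : Finset F).erase 0,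
        ∑ u : Idx m → F, ψ (t * Cfsg.quadFormOdd m F u + polar m w u) =
      gS ψ * (Fintype.card F : ℂ) ^ m *
        ∑ t : F, chiC F t * ψ (-(Cfsg.quadFormOdd m F w) / t) := by
  have h1 : ∀ t ∈ (Finset.univ : Finset F).erase 0,
      ∑ u : Idx m → F, ψ (t * Cfsg.quadFormOdd m F u + polar m w u) =
      gS ψ * (Fintype.card F : ℂ) ^ m * (chiC F t * ψ (-(Cfsg.quadFormOdd m F w) / t)) := by
    intro t ht
    rw [core_sum ψ hF hψ (Finset.ne_of_mem_erase ht)]
    ring
  rw [Finset.sum_congr rfl h1, ← Finset.mul_sum]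
  congr 1
  apply Finset.sum_erase
  rw [chiC_zero, zero_mul]

omit [Fintype F] [DecidableEq F] in
theorem quadFormOdd_zero (m : ℕ) : Cfsg.quadFormOdd m F (0 : Idx m → F) = 0 := by
  simp [Cfsg.quadFormOdd]

/-- **(G1)** The cone sum at a non-singular vector. -/
theorem cone_sum_nonsingular (hF : ringChar F ≠ 2) (hψ : ψ ≠ 1) (m : ℕ) (w : Idx m → F)
    (hw : Cfsg.quadFormOdd m F w ≠ 0) :
    ∑ u ∈ Finset.univ.filter (fun u : Idx m → F => Cfsg.quadFormOdd m F u = 0),
        ψ (polar m w u) =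
      ((quadraticChar F (Cfsg.quadFormOdd m F w) : ℤ) : ℂ) * (Fintype.card F : ℂ) ^ m := by
  have hw0 : w ≠ 0 := by
    rintro rfl; exact hw (quadFormOdd_zero m)
  apply mul_left_cancel₀ (card_ne_zero' (F := F))
  rw [card_mul_cone_sum ψ hψ, ← Finset.add_sum_erase _ _ (Finset.mem_univ (0 : F)),
    nonzero_part ψ hF hψ, inv_sum ψ hw]
  simp only [zero_mul, zero_add]
  rw [lin_sum ψ hF hψ m w hw0, zero_add, ← chiC_apply, chiC_neg]
  have h1 := gS_sq ψ hF hψ
  have h2 := chiC_neg_one_mul_self (F := F)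
  calc gS ψ * (Fintype.card F : ℂ) ^ m * (chiC F (-1) * chiC F (Cfsg.quadFormOdd m F w) * gS ψ)
      = gS ψ ^ 2 * chiC F (-1) * (chiC F (Cfsg.quadFormOdd m F w) * (Fintype.card F : ℂ) ^ m) := by
        ring
    _ = (chiC F (-1) * chiC F (-1)) * ((Fintype.card F : ℂ) *
          (chiC F (Cfsg.quadFormOdd m F w) * (Fintype.card F : ℂ) ^ m)) := by rw [h1]; ring
    _ = _ := by rw [h2, one_mul]

/-- **(G2)** The cone sum at a singular non-zero vector vanishes. -/
theorem cone_sum_singular (hF : ringChar F ≠ 2) (hψ : ψ ≠ 1) (m : ℕ) (w : Idx m → F)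
    (hw0 : w ≠ 0) (hw : Cfsg.quadFormOdd m F w = 0) :
    ∑ u ∈ Finset.univ.filter (fun u : Idx m → F => Cfsg.quadFormOdd m F u = 0),
        ψ (polar m w u) = 0 := by
  apply mul_left_cancel₀ (card_ne_zero' (F := F))
  rw [card_mul_cone_sum ψ hψ, ← Finset.add_sum_erase _ _ (Finset.mem_univ (0 : F)),
    nonzero_part ψ hF hψ, hw]
  simp only [zero_mul, zero_add, neg_zero, zero_div, AddChar.map_zero_eq_one, mul_one]
  rw [lin_sum ψ hF hψ m w hw0, zero_add, MulChar.sum_eq_zero_of_ne_one (chiC_ne_one hF),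
    mul_zero, mul_zero]

omit [Fintype F] [DecidableEq F] in
theorem polar_zero_left (m : ℕ) (u : Idx m → F) : polar m 0 u = 0 := by
  unfold polar
  rw [zero_add, quadFormOdd_zero]
  ring

/-- **(G3)** The number of singular vectors. -/
theorem card_singular (hF : ringChar F ≠ 2) (m : ℕ) :
    (Finset.univ.filter (fun u : Idx m → F => Cfsg.quadFormOdd m F u = 0)).card =
      Fintype.card F ^ (2 * m) := by
  obtain ⟨ψ, hψ⟩ : ∃ ψ : AddChar F ℂ, ψ ≠ 1 := by
    refine ⟨AddChar.FiniteField.primitiveChar_to_Complex F, ?_⟩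
    have h := AddChar.FiniteField.primitiveChar_to_Complex_isPrimitive F
    have h1 := h (one_ne_zero (α := F))
    rwa [AddChar.mulShift_one] at h1
  have key : (Fintype.card F : ℂ) *
      ((Finset.univ.filter (fun u : Idx m → F => Cfsg.quadFormOdd m F u = 0)).card : ℂ) =
      (Fintype.card F : ℂ) * ((Fintype.card F : ℂ) ^ (2 * m)) := by
    have h0 := card_mul_cone_sum ψ hψ m (0 : Idx m → F)
    simp only [polar_zero_left, AddChar.map_zero_eq_one, Finset.sum_const, nsmul_eq_mul,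
      mul_one] at h0
    rw [h0, ← Finset.add_sum_erase _ _ (Finset.mem_univ (0 : F))]
    have h1 := nonzero_part ψ hF hψ m (0 : Idx m → F)
    simp only [polar_zero_left] at h1
    rw [h1]
    simp only [zero_mul, add_zero, AddChar.map_zero_eq_one, Finset.sum_const,
      nsmul_eq_mul, mul_one, quadFormOdd_zero, neg_zero, zero_div]
    rw [MulChar.sum_eq_zero_of_ne_one (chiC_ne_one hF), mul_zero, add_zero, Finset.card_univ,
      Fintype.card_fun]
    simp only [Fintype.card_sum, Fintype.card_unique, Fintype.card_fin]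
    push_cast
    ring
  have h2 := mul_left_cancel₀ (card_ne_zero' (F := F)) key
  exact_mod_cast h2

/-- For `m ≥ 1` the frozen odd form represents every scalar. -/
theorem exists_quadFormOdd_eq (m : ℕ) (hm : 1 ≤ m) (a : F) :
    ∃ w : Idx m → F, Cfsg.quadFormOdd m F w = a := by
  classical
  refine ⟨mk m (0, Pi.single (⟨0, hm⟩ : Fin m) a, Pi.single (⟨0, hm⟩ : Fin m) 1), ?_⟩
  rw [quadFormOdd_mk, Finset.sum_eq_single (⟨0, hm⟩ : Fin m)]
  · simp
  · intro b _ hb
    simp [Pi.single_eq_of_ne hb]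
  · intro h; exact absurd (Finset.mem_univ _) h

/-- **(G4)** For `m ≥ 1` there are two non-singular vectors with different cone sums. -/
theorem exists_distinct_cone_sums (hF : ringChar F ≠ 2) (hψ : ψ ≠ 1) (m : ℕ) (hm : 1 ≤ m) :
    ∃ w₁ w₂ : Idx m → F, Cfsg.quadFormOdd m F w₁ ≠ 0 ∧ Cfsg.quadFormOdd m F w₂ ≠ 0 ∧
      ∑ u ∈ Finset.univ.filter (fun u : Idx m → F => Cfsg.quadFormOdd m F u = 0),
          ψ (polar m w₁ u) ≠
        ∑ u ∈ Finset.univ.filter (fun u : Idx m → F => Cfsg.quadFormOdd m F u = 0),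
          ψ (polar m w₂ u) := by
  obtain ⟨a, ha⟩ := quadraticChar_exists_neg_one' hF
  obtain ⟨w₁, h₁⟩ := exists_quadFormOdd_eq (F := F) m hm 1
  obtain ⟨w₂, h₂⟩ := exists_quadFormOdd_eq (F := F) m hm (a : F)
  have hn₁ : Cfsg.quadFormOdd m F w₁ ≠ 0 := by rw [h₁]; exact one_ne_zero
  have hn₂ : Cfsg.quadFormOdd m F w₂ ≠ 0 := by rw [h₂]; exact a.ne_zero
  refine ⟨w₁, w₂, hn₁, hn₂, ?_⟩
  rw [cone_sum_nonsingular ψ hF hψ m w₁ hn₁, cone_sum_nonsingular ψ hF hψ m w₂ hn₂, h₁, h₂, ha,
    map_one]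
  intro h
  have hq : ((Fintype.card F : ℂ)) ^ m ≠ 0 := pow_ne_zero _ (card_ne_zero' (F := F))
  have h3 : (2 : ℂ) * (Fintype.card F : ℂ) ^ m = 0 := by
    have : ((1 : ℤ) : ℂ) * (Fintype.card F : ℂ) ^ m - ((-1 : ℤ) : ℂ) * (Fintype.card F : ℂ) ^ m
        = 0 := by rw [h, sub_self]
    push_cast at this
    linear_combination this
  rcases mul_eq_zero.mp h3 with h4 | h4
  · norm_num at h4
  · exact hq h4

end main

end Cfsg.Agent.Lib.Helper5.OOGauss
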