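import Mathlib
import Cfsg.Agent.Lib.Helper13.AltForm
import Cfsg.Agent.Lib.Helper12.ElusD

set_option autoImplicit false

/-! Similitudes of alternating forms: eigenspace pairing, parity of the commutator space,
and two abstract "no invariant alternating form up to scalars" criteria. -/

namespace Cfsg.Agent.Lib.Helper5.AltSim

open Module
open Cfsg.Agent.Lib.Helper12.Elus

variable {F : Type*} [Field F] {V : Type*} [AddCommGroup V] [Module F V]

/-- the `a`-eigenspace of `T` -/
def eig (T : V →ₗ[F] V) (a : F) : Submodule F V := LinearMap.ker (T - a • (1 : V →ₗ[F] V))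

theorem mem_eig (T : V →ₗ[F] V) (a : F) (v : V) : v ∈ eig T a ↔ T v = a • v := by
  unfold eig
  rw [LinearMap.mem_ker, LinearMap.sub_apply, LinearMap.smul_apply, Module.End.one_apply,
    sub_eq_zero]

theorem eig_one (T : V →ₗ[F] V) : eig T 1 = fixE T := by
  ext v
  rw [mem_eig, mem_fixE, one_smul]

theorem range_le_orthogonal (B : LinearMap.BilinForm F V) (T : V →ₗ[F] V) (μ a b : F)
    (hsim : ∀ u v, B (T u) (T v) = μ * B u v) (ha : a ≠ 0) (hab : a * b = μ) :
    LinearMap.range (T - b • (1 : V →ₗ[F] V)) ≤ B.orthogonal (eig T a) := by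
  rintro w ⟨v, rfl⟩
  rw [LinearMap.BilinForm.mem_orthogonal_iff]
  intro u hu
  rw [mem_eig] at hu
  have h1 : a * B u (T v) = a * (b * B u v) := by
    have h := hsim u v
    rw [hu, map_smul, LinearMap.smul_apply, smul_eq_mul] at h
    rw [h, ← hab, mul_assoc]
  have h2 : B u (T v) = b * B u v := mul_left_cancel₀ ha h1
  show B u ((T - b • (1 : V →ₗ[F] V)) v) = 0
  rw [LinearMap.sub_apply, LinearMap.smul_apply, Module.End.one_apply, map_sub, map_smul,
    smul_eq_mul, h2, sub_self]

theorem finrank_eig_le [FiniteDimensional F V] (B : LinearMap.BilinForm F V)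
    (hB : B.Nondegenerate) (T : V →ₗ[F] V) (μ a b : F)
    (hsim : ∀ u v, B (T u) (T v) = μ * B u v) (ha : a ≠ 0) (hab : a * b = μ) :
    finrank F (eig T a) ≤ finrank F (eig T b) := by
  have h1 := Submodule.finrank_mono (range_le_orthogonal B T μ a b hsim ha hab)
  rw [LinearMap.BilinForm.finrank_orthogonal hB] at h1
  have h2 : finrank F (LinearMap.range (T - b • (1 : V →ₗ[F] V))) + finrank F (eig T b) =
      finrank F V := LinearMap.finrank_range_add_finrank_ker _
  have h3 : finrank F (eig T a) ≤ finrank F V := Submodule.finrank_le _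
  omega

theorem nondegenerate_of_alt (B : LinearMap.BilinForm F V) (hA : B.IsAlt)
    (hN : ∀ u, (∀ v, B u v = 0) → u = 0) : B.Nondegenerate := by
  refine ⟨fun x hx => hN x hx, fun y hy => hN y (fun v => ?_)⟩
  exact neg_eq_zero.mp ((hA.neg_eq y v).trans (hy v))

theorem even_finrank_movR [FiniteDimensional F V] (B : LinearMap.BilinForm F V) (hA : B.IsAlt)
    (hN : ∀ u, (∀ v, B u v = 0) → u = 0) (T : V →ₗ[F] V)
    (hsim : ∀ u v, B (T u) (T v) = B u v) (hdis : fixE T ⊓ movR T = ⊥) :
    Even (finrank F (movR T)) := by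
  have hsup : fixE T ⊔ movR T = ⊤ := by
    apply Submodule.eq_top_of_finrank_eq
    have h1 := Submodule.finrank_sup_add_finrank_inf_eq (fixE T) (movR T)
    rw [hdis, finrank_bot, add_zero] at h1
    have h2 := finrank_fix_add_mov T
    omega
  have horth : ∀ u ∈ fixE T, ∀ w ∈ movR T, B u w = 0 := by
    intro u hu w hw
    have h := range_le_orthogonal B T 1 1 1 (fun u v => by rw [one_mul]; exact hsim u v)
      one_ne_zero (one_mul 1)
    have hw' : w ∈ LinearMap.range (T - (1 : F) • (1 : V →ₗ[F] V)) := by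
      rw [one_smul]; exact hw
    have hu' : u ∈ eig T 1 := by rw [eig_one]; exact hu
    exact (LinearMap.BilinForm.mem_orthogonal_iff.1 (h hw')) u hu'
  apply Cfsg.Agent.Lib.Helper13.even_finrank_of_isAlt_nondegenerate (finrank F (movR T))
    (B.restrict (movR T)) ?_ ?_ rfl
  · intro w
    exact hA _
  · apply nondegenerate_of_alt
    · intro w
      exact hA _
    · rintro ⟨w, hw⟩ hz
      have hw0 : w = 0 := by
        apply hN
        intro v
        have hv : v ∈ fixE T ⊔ movR T := by rw [hsup]; trivial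
        obtain ⟨u, hu, w', hw', rfl⟩ := Submodule.mem_sup.1 hv
        rw [map_add]
        have h1 : B w u = 0 := by
          rw [← hA.neg_eq u w, horth u hu w hw, neg_zero]
        have h2 : B w w' = 0 := hz ⟨w', hw'⟩
        rw [h1, h2, add_zero]
      exact Subtype.ext hw0

theorem sim_pow (B : LinearMap.BilinForm F V) (T : V →ₗ[F] V) (μ : F)
    (hsim : ∀ u v, B (T u) (T v) = μ * B u v) (k : ℕ) (u v : V) :
    B ((T ^ k) u) ((T ^ k) v) = μ ^ k * B u v := by
  induction k with
  | zero => simp
  | succ k ih =>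
    rw [pow_succ', Module.End.mul_apply, Module.End.mul_apply, hsim, ih, pow_succ']
    ring

theorem mu_pow_eq_one (B : LinearMap.BilinForm F V) (T : V →ₗ[F] V) (μ : F)
    (hsim : ∀ u v, B (T u) (T v) = μ * B u v) (r : ℕ) (hT : T ^ r = 1) (u v : V)
    (huv : B u v ≠ 0) : μ ^ r = 1 := by
  have h := sim_pow B T μ hsim r u v
  rw [hT, Module.End.one_apply, Module.End.one_apply] at h
  have h2 : (μ ^ r - 1) * B u v = 0 := by rw [sub_mul, one_mul, ← h, sub_self]
  rcases mul_eq_zero.1 h2 with h3 | h3
  · exact sub_eq_zero.1 h3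
  · exact absurd h3 huv

/-- semisimple criterion: an element of prime order `r` (prime to the characteristic) whose
commutator space has odd dimension and whose fixed space is larger than every other relevant
eigenspace is a similitude of no nondegenerate alternating form. -/
theorem no_similitude [FiniteDimensional F V] (n r : ℕ) [Fact r.Prime] (T : V →ₗ[F] V)
    (hT : T ^ r = 1) (hr0 : (r : F) ≠ 0) (hodd : Odd (finrank F (movR T)))
    (hμ : ∀ μ : F, μ ≠ 1 → μ ^ r = 1 → μ ^ n = 1 →
      finrank F (eig T μ) < finrank F (fixE T))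
    (μ : F) (B : LinearMap.BilinForm F V) (hμn : μ ^ n = 1) (hA : B.IsAlt)
    (hN : ∀ u, (∀ v, B u v = 0) → u = 0) (hsim : ∀ u v, B (T u) (T v) = μ * B u v) : False := by
  have hpos : 0 < finrank F (movR T) := hodd.pos
  obtain ⟨w, hw⟩ := (Module.finrank_pos_iff_exists_ne_zero (R := F) (M := movR T)).1 hpos
  have hw0 : (w : V) ≠ 0 := fun h => hw (Subtype.ext h)
  have hex : ∃ v, B w v ≠ 0 := by
    by_contra hcon
    apply hw0
    apply hN
    intro v
    by_contra h
    exact hcon ⟨v, h⟩
  obtain ⟨v, hv⟩ := hex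
  have hμr : μ ^ r = 1 := mu_pow_eq_one B T μ hsim r hT _ _ hv
  by_cases h1 : μ = 1
  · subst h1
    have := even_finrank_movR B hA hN T (fun u v => by rw [hsim, one_mul])
      (fix_inf_mov T r hT hr0)
    exact (Nat.not_even_iff_odd.2 hodd) this
  · have h2 := hμ μ h1 hμr hμn
    have h3 := finrank_eig_le B (nondegenerate_of_alt B hA hN) T μ 1 μ hsim one_ne_zero
      (one_mul μ)
    rw [eig_one] at h3
    omega

/-- unipotent criterion: an isometry with a Jordan block of size 3 complemented by fixed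
vectors preserves no nondegenerate alternating form. -/
theorem unip3_false (B : LinearMap.BilinForm F V) (hA : B.IsAlt)
    (hN : ∀ u, (∀ v, B u v = 0) → u = 0) (T : V →ₗ[F] V)
    (hsim : ∀ u v, B (T u) (T v) = B u v) (e0 e1 e2 : V) (h0 : T e0 = e0)
    (h1 : T e1 = e0 + e1) (h2 : T e2 = e0 + e1 + e2) (hne : e0 ≠ 0)
    (hspan : ∀ v : V, ∃ (u : V) (c0 c1 c2 : F), T u = u ∧ v = u + c0 • e0 + c1 • e1 + c2 • e2) : False := by
  have hfix : ∀ u, T u = u → B e0 u = 0 := by
    intro u hu
    have h := hsim e1 u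
    rw [h1, hu] at h
    simp only [map_add, LinearMap.add_apply] at h
    linear_combination h
  have h00 : B e0 e0 = 0 := hA e0
  have h11 : B e1 e1 = 0 := hA e1
  have h10 : B e1 e0 = 0 := by
    have h := hsim e2 e0
    rw [h2, h0] at h
    simp only [map_add, LinearMap.add_apply] at h
    linear_combination h - h00
  have h01 : B e0 e1 = 0 := by rw [← hA.neg_eq e1 e0, h10, neg_zero]
  have h20 : B e2 e0 = 0 := by
    have h := hsim e2 e1
    rw [h2, h1] at h
    simp only [map_add, LinearMap.add_apply] at h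
    linear_combination h - h00 - h01 - h10 - h11
  have h02 : B e0 e2 = 0 := by rw [← hA.neg_eq e2 e0, h20, neg_zero]
  apply hne
  apply hN
  intro v
  obtain ⟨u, c0, c1, c2, hu, rfl⟩ := hspan v
  simp only [map_add, map_smul, smul_eq_mul, hfix u hu, h00, h01, h02, mul_zero, add_zero]

/-- determinant trick: the multiplier `c` of a similitude of determinant one of a nondegenerate
form on `F^n` satisfies `c^n = 1`. -/
theorem sim_pow_card {n : ℕ} (B : LinearMap.BilinForm F (Fin n → F)) (hB : B.Nondegenerate)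
    (Y : Matrix (Fin n) (Fin n) F) (hY : Y.det = 1) (c : F)
    (hsim : ∀ u v, B (Y.mulVec u) (Y.mulVec v) = c * B u v) : c ^ n = 1 := by
  have h1 : B.comp (Matrix.toLin' Y) (Matrix.toLin' Y) = c • B := by
    apply LinearMap.ext₂
    intro u v
    simp only [LinearMap.BilinForm.comp_apply, Matrix.toLin'_apply, LinearMap.smul_apply,
      smul_eq_mul]
    exact hsim u v
  have h2 : LinearMap.BilinForm.toMatrix' (B.comp (Matrix.toLin' Y) (Matrix.toLin' Y)) =
      LinearMap.BilinForm.toMatrix' (c • B) := by rw [h1]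
  rw [LinearMap.BilinForm.toMatrix'_comp, LinearMap.toMatrix'_toLin', map_smul] at h2
  have h3 := congrArg Matrix.det h2
  rw [Matrix.det_mul, Matrix.det_mul, Matrix.det_transpose, hY, one_mul, mul_one,
    Matrix.det_smul, Fintype.card_fin] at h3
  have hG : (LinearMap.BilinForm.toMatrix' B).det ≠ 0 :=
    Matrix.nondegenerate_iff_det_ne_zero.1 (LinearMap.BilinForm.nondegenerate_toMatrix'_iff.2 hB)
  have h4 : (c ^ n - 1) * (LinearMap.BilinForm.toMatrix' B).det = 0 := by
    rw [sub_mul, one_mul, ← h3, sub_self]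
  rcases mul_eq_zero.1 h4 with h5 | h5
  · exact sub_eq_zero.1 h5
  · exact absurd h5 hG

end Cfsg.Agent.Lib.Helper5.AltSim
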