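import Mathlib
import Cfsg.Prelude.Def_Classical
import Cfsg.Agent.Lib.Helper5.OrthInv

/-!
# Involutions of `Cfsg.isometryGroup F Q` in characteristic two

Bridge between the abstract classification in `OrthInv` and the matrix groups of the statements,
together with a pure counting lemma for conjugacy classes of involutions.
-/

set_option autoImplicit false
set_option linter.unusedSectionVars false
set_option linter.unusedVariables false
set_option linter.unusedSimpArgs false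

namespace Cfsg.Agent.Lib.Helper5.OrthBridge
open QuadraticMap Cfsg.Agent.S0750.S0750aux Cfsg.Agent.Lib.Helper5.OrthInv

section Count

theorem count_classes {G : Type*} [Group G] (ρ : G → ℕ) (α : G → Prop) (n W : ℕ)
    (hconj : ∀ t s : G, orderOf t = 2 → orderOf s = 2 →
      (IsConj t s ↔ ρ t = ρ s ∧ (α t ↔ α s)))
    (hbd : ∀ t : G, orderOf t = 2 → 1 ≤ ρ t ∧ ρ t ≤ n ∧ (α t → ∃ k, ρ t = 2 * k ∧ 2 * k ≤ W))
    (hexN : ∀ s, 1 ≤ s → s ≤ n → ∃ t : G, orderOf t = 2 ∧ ρ t = s ∧ ¬ α t)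
    (hexA : ∀ k, 1 ≤ k → 2 * k ≤ W → ∃ t : G, orderOf t = 2 ∧ ρ t = 2 * k ∧ α t) :
    Nat.card {C : ConjClasses G // ∃ g : G, ConjClasses.mk g = C ∧ orderOf g = 2} =
      n + W / 2 := by
  classical
  have hstdN : ∀ i : Fin n, ∃ g : G, orderOf g = 2 ∧ ρ g = i.1 + 1 ∧ ¬ α g :=
    fun i => hexN (i.1 + 1) (by omega) (by have := i.2; omega)
  have hstdA : ∀ j : Fin (W / 2), ∃ g : G, orderOf g = 2 ∧ ρ g = 2 * (j.1 + 1) ∧ α g :=
    fun j => hexA (j.1 + 1) (by omega) (by have := j.2; omega)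
  choose gN hgN using hstdN
  choose gA hgA using hstdA
  let Ψ : Fin n ⊕ Fin (W / 2) → {C : ConjClasses G // ∃ g : G, ConjClasses.mk g = C ∧
      orderOf g = 2} :=
    Sum.elim (fun i => ⟨ConjClasses.mk (gN i), gN i, rfl, (hgN i).1⟩)
      (fun j => ⟨ConjClasses.mk (gA j), gA j, rfl, (hgA j).1⟩)
  have hbij : Function.Bijective Ψ := by
    constructor
    · intro u v huv
      rcases u with i | j <;> rcases v with i' | j'
      · have h : ConjClasses.mk (gN i) = ConjClasses.mk (gN i') := congrArg Subtype.val huv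
        rw [ConjClasses.mk_eq_mk_iff_isConj] at h
        obtain ⟨h1, -⟩ := (hconj _ _ (hgN i).1 (hgN i').1).mp h
        rw [(hgN i).2.1, (hgN i').2.1] at h1
        congr 1
        exact Fin.ext (by omega)
      · exfalso
        have h : ConjClasses.mk (gN i) = ConjClasses.mk (gA j') := congrArg Subtype.val huv
        rw [ConjClasses.mk_eq_mk_iff_isConj] at h
        obtain ⟨-, h1⟩ := (hconj _ _ (hgN i).1 (hgA j').1).mp h
        exact (hgN i).2.2 (h1.mpr (hgA j').2.2)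
      · exfalso
        have h : ConjClasses.mk (gA j) = ConjClasses.mk (gN i') := congrArg Subtype.val huv
        rw [ConjClasses.mk_eq_mk_iff_isConj] at h
        obtain ⟨-, h1⟩ := (hconj _ _ (hgA j).1 (hgN i').1).mp h
        exact (hgN i').2.2 (h1.mp (hgA j).2.2)
      · have h : ConjClasses.mk (gA j) = ConjClasses.mk (gA j') := congrArg Subtype.val huv
        rw [ConjClasses.mk_eq_mk_iff_isConj] at h
        obtain ⟨h1, -⟩ := (hconj _ _ (hgA j).1 (hgA j').1).mp h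
        rw [(hgA j).2.1, (hgA j').2.1] at h1
        congr 1
        exact Fin.ext (by omega)
    · rintro ⟨C, g, rfl, hg⟩
      obtain ⟨hr1, hr2, hr3⟩ := hbd g hg
      by_cases hA : α g
      · obtain ⟨k, hk, hkW⟩ := hr3 hA
        have hj : k - 1 < W / 2 := by omega
        refine ⟨Sum.inr ⟨k - 1, hj⟩, ?_⟩
        apply Subtype.ext
        change ConjClasses.mk (gA ⟨k - 1, hj⟩) = ConjClasses.mk g
        rw [ConjClasses.mk_eq_mk_iff_isConj]
        apply (hconj _ _ (hgA ⟨k - 1, hj⟩).1 hg).mpr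
        refine ⟨?_, iff_of_true (hgA ⟨k - 1, hj⟩).2.2 hA⟩
        rw [(hgA ⟨k - 1, hj⟩).2.1, hk]
        have : ((⟨k - 1, hj⟩ : Fin (W / 2)) : ℕ) = k - 1 := rfl
        omega
      · have hi : ρ g - 1 < n := by omega
        refine ⟨Sum.inl ⟨ρ g - 1, hi⟩, ?_⟩
        apply Subtype.ext
        change ConjClasses.mk (gN ⟨ρ g - 1, hi⟩) = ConjClasses.mk g
        rw [ConjClasses.mk_eq_mk_iff_isConj]
        apply (hconj _ _ (hgN ⟨ρ g - 1, hi⟩).1 hg).mpr
        refine ⟨?_, iff_of_false (hgN ⟨ρ g - 1, hi⟩).2.2 hA⟩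
        rw [(hgN ⟨ρ g - 1, hi⟩).2.1]
        have : ((⟨ρ g - 1, hi⟩ : Fin n) : ℕ) = ρ g - 1 := rfl
        omega
  rw [← Nat.card_congr (Equiv.ofBijective Ψ hbij)]
  simp [Nat.card_eq_fintype_card]

end Count

section Bridge
variable {F : Type*} [Field F] {ι : Type} [Fintype ι] [DecidableEq ι]
  (Qf : QuadraticForm F (ι → F))

/-- the linear map of a group element -/
noncomputable def tl (t : ↥(Cfsg.isometryGroup F (⇑Qf : (ι → F) → F))) :
    (ι → F) →ₗ[F] (ι → F) :=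
  Matrix.toLin' ((t : Matrix.GeneralLinearGroup ι F) : Matrix ι ι F)

lemma tl_apply (t : ↥(Cfsg.isometryGroup F (⇑Qf : (ι → F) → F))) (x : ι → F) :
    tl Qf t x = ((t : Matrix.GeneralLinearGroup ι F) : Matrix ι ι F).mulVec x :=
  Matrix.toLin'_apply _ _

lemma tl_isom (t : ↥(Cfsg.isometryGroup F (⇑Qf : (ι → F) → F))) (x : ι → F) :
    Qf (tl Qf t x) = Qf x := by
  rw [tl_apply]
  exact t.2 x x

lemma tl_mul (t s : ↥(Cfsg.isometryGroup F (⇑Qf : (ι → F) → F))) :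
    tl Qf (t * s) = tl Qf t ∘ₗ tl Qf s := by
  simp only [tl, Subgroup.coe_mul, Units.val_mul, Matrix.toLin'_mul]

lemma tl_one : tl Qf (1 : ↥(Cfsg.isometryGroup F (⇑Qf : (ι → F) → F))) = LinearMap.id := by
  simp only [tl, Subgroup.coe_one, Units.val_one, Matrix.toLin'_one]

lemma tl_inj (t s : ↥(Cfsg.isometryGroup F (⇑Qf : (ι → F) → F))) (h : tl Qf t = tl Qf s) :
    t = s := by
  apply Subtype.ext
  apply Units.ext
  exact Matrix.toLin'.injective h

/-- group element from a linear isometry -/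
noncomputable def ofLin (T T' : (ι → F) →ₗ[F] (ι → F)) (h1 : T ∘ₗ T' = LinearMap.id)
    (h2 : T' ∘ₗ T = LinearMap.id) (hT : ∀ x, Qf (T x) = Qf x) :
    ↥(Cfsg.isometryGroup F (⇑Qf : (ι → F) → F)) :=
  ⟨⟨LinearMap.toMatrix' T, LinearMap.toMatrix' T',
    by rw [← LinearMap.toMatrix'_comp, h1, LinearMap.toMatrix'_id],
    by rw [← LinearMap.toMatrix'_comp, h2, LinearMap.toMatrix'_id]⟩,
   fun u v => by
    change Qf ((LinearMap.toMatrix' T).mulVec u) = Qf u
    rw [LinearMap.toMatrix'_mulVec]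
    exact hT u⟩

lemma tl_ofLin (T T' : (ι → F) →ₗ[F] (ι → F)) (h1 : T ∘ₗ T' = LinearMap.id)
    (h2 : T' ∘ₗ T = LinearMap.id) (hT : ∀ x, Qf (T x) = Qf x) :
    tl Qf (ofLin Qf T T' h1 h2 hT) = T :=
  Matrix.toLin'_toMatrix' T

lemma exists_elt (T : (ι → F) →ₗ[F] (ι → F)) (hT : ∀ x, Qf (T x) = Qf x)
    (hTT : ∀ x, T (T x) = x) : ∃ t : ↥(Cfsg.isometryGroup F (⇑Qf : (ι → F) → F)),
    tl Qf t = T :=
  ⟨ofLin Qf T T (LinearMap.ext hTT) (LinearMap.ext hTT) hT, tl_ofLin Qf T T _ _ hT⟩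

lemma isConj_iff_lin (t s : ↥(Cfsg.isometryGroup F (⇑Qf : (ι → F) → F))) :
    IsConj t s ↔ ∃ g : (ι → F) ≃ₗ[F] (ι → F), (∀ v, Qf (g v) = Qf v) ∧
      ∀ x, g (tl Qf t x) = tl Qf s (g x) := by
  constructor
  · intro h
    obtain ⟨c, hc⟩ := isConj_iff.mp h
    have h1 : c * t = s * c := mul_inv_eq_iff_eq_mul.mp hc
    refine ⟨LinearEquiv.ofLinearMap (tl Qf c) (tl Qf c⁻¹)
      (by rw [← tl_mul, mul_inv_cancel, tl_one]) (by rw [← tl_mul, inv_mul_cancel, tl_one]),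
      fun v => tl_isom Qf c v, fun x => ?_⟩
    change tl Qf c (tl Qf t x) = tl Qf s (tl Qf c x)
    have h2 : tl Qf (c * t) x = tl Qf (s * c) x := by rw [h1]
    rwa [tl_mul, tl_mul] at h2
  · rintro ⟨g, hgQ, hg⟩
    rw [isConj_iff]
    refine ⟨ofLin Qf g g.symm (by ext x; simp) (by ext x; simp) hgQ, ?_⟩
    rw [mul_inv_eq_iff_eq_mul]
    apply tl_inj
    rw [tl_mul, tl_mul, tl_ofLin]
    exact LinearMap.ext hg

lemma tl_sq (t : ↥(Cfsg.isometryGroup F (⇑Qf : (ι → F) → F))) (ht : orderOf t = 2) (x : ι → F) :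
    tl Qf t (tl Qf t x) = x := by
  have h1 : t ^ 2 = 1 := by rw [← ht]; exact pow_orderOf_eq_one t
  rw [pow_two] at h1
  have h2 : tl Qf (t * t) x = tl Qf 1 x := by rw [h1]
  rwa [tl_mul, tl_one] at h2

lemma order_two_of (t : ↥(Cfsg.isometryGroup F (⇑Qf : (ι → F) → F)))
    (h : ∀ x, tl Qf t (tl Qf t x) = x) (hne : tl Qf t ≠ LinearMap.id) : orderOf t = 2 := by
  have : Fact (Nat.Prime 2) := ⟨Nat.prime_two⟩
  apply orderOf_eq_prime
  · rw [pow_two]
    apply tl_inj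
    rw [tl_mul, tl_one]
    exact LinearMap.ext h
  · intro h1
    apply hne
    rw [h1, tl_one]

/-- rank invariant -/
noncomputable def rk (t : ↥(Cfsg.isometryGroup F (⇑Qf : (ι → F) → F))) : ℕ :=
  Module.finrank F (LinearMap.range (tl Qf t - LinearMap.id : (ι → F) →ₗ[F] (ι → F)))

/-- type invariant -/
def al (t : ↥(Cfsg.isometryGroup F (⇑Qf : (ι → F) → F))) : Prop :=
  ∀ x, polar Qf ((tl Qf t - LinearMap.id : (ι → F) →ₗ[F] (ι → F)) x) x = 0

variable [Fintype F] [CharP F 2]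

theorem group_conj_iff (hQ : (QuadraticMap.polarBilin Qf).Nondegenerate)
    (t s : ↥(Cfsg.isometryGroup F (⇑Qf : (ι → F) → F))) (ht : orderOf t = 2)
    (hs : orderOf s = 2) : IsConj t s ↔ rk Qf t = rk Qf s ∧ (al Qf t ↔ al Qf s) := by
  constructor
  · intro h
    obtain ⟨g, hgQ, hg⟩ := (isConj_iff_lin Qf t s).mp h
    exact inv_of_conj Qf (tl Qf t) (tl Qf s) g
      (polar_of_isom Qf (fun x y => map_add g x y) hgQ) hg
  · rintro ⟨hrk, htype⟩
    obtain ⟨g, hgQ, hg⟩ := conj_of_type Qf hQ (tl Qf t) (tl Qf s) (tl_isom Qf t)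
      (tl_sq Qf t ht) (tl_isom Qf s) (tl_sq Qf s hs) hrk htype
    exact (isConj_iff_lin Qf t s).mpr ⟨g, hgQ, hg⟩

lemma bounds (hQ : (QuadraticMap.polarBilin Qf).Nondegenerate)
    (t : ↥(Cfsg.isometryGroup F (⇑Qf : (ι → F) → F))) (ht : orderOf t = 2) :
    1 ≤ rk Qf t ∧ 2 * rk Qf t ≤ Fintype.card ι ∧ (al Qf t → ∃ k, rk Qf t = 2 * k) ∧
      (al Qf t → ∀ u ∈ LinearMap.range (tl Qf t - LinearMap.id : (ι → F) →ₗ[F] (ι → F)),
        Qf u = 0) := by
  have hGood := good_of_isom Qf (tl Qf t) (tl_isom Qf t) (tl_sq Qf t ht)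
  refine ⟨?_, ?_, ?_, ?_⟩
  · by_contra hcon
    have hr : rk Qf t = 0 := by omega
    have h1 : LinearMap.range (tl Qf t - LinearMap.id : (ι → F) →ₗ[F] (ι → F)) = ⊥ :=
      Submodule.finrank_eq_zero.mp hr
    have h2 : (tl Qf t - LinearMap.id : (ι → F) →ₗ[F] (ι → F)) = 0 :=
      LinearMap.range_eq_bot.mp h1
    have h3 : tl Qf t = tl Qf 1 := by rw [tl_one]; exact sub_eq_zero.mp h2
    have h4 := tl_inj Qf t 1 h3
    rw [h4, orderOf_one] at ht
    omega
  · have h1 := rank_le Qf _ hGood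
    rw [Module.finrank_fintype_fun_eq_card] at h1
    exact h1
  · intro hal
    obtain ⟨k, hk, -⟩ := structure_alt Qf hQ _ _ hGood hal rfl
    exact ⟨k, hk⟩
  · rintro hal _ ⟨x, rfl⟩
    rw [hGood.2.2]
    exact hal x

theorem count_inv (hQ : (QuadraticMap.polarBilin Qf).Nondegenerate) (n W : ℕ)
    (hdim : Fintype.card ι = 2 * n)
    (hts : ∀ U : Submodule F (ι → F), (∀ u ∈ U, Qf u = 0) → Module.finrank F U ≤ W)
    (E : Fin n → (ι → F)) (hEli : LinearIndependent F E)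
    (hEo : ∀ i j, polar Qf (E i) (E j) = 0) (hEQ : ∀ i, Qf (E i) = 1)
    (P : Fin W → (ι → F)) (hPli : LinearIndependent F P)
    (hPo : ∀ i j, polar Qf (P i) (P j) = 0) (hPQ : ∀ i, Qf (P i) = 0) :
    Nat.card {C : ConjClasses ↥(Cfsg.isometryGroup F (⇑Qf : (ι → F) → F)) //
      ∃ g : ↥(Cfsg.isometryGroup F (⇑Qf : (ι → F) → F)),
        ConjClasses.mk g = C ∧ orderOf g = 2} = n + W / 2 := by
  apply count_classes (rk Qf) (al Qf) n W (group_conj_iff Qf hQ)
  · intro t ht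
    obtain ⟨h1, h2, h3, h4⟩ := bounds Qf hQ t ht
    refine ⟨h1, by omega, fun hal => ?_⟩
    obtain ⟨k, hk⟩ := h3 hal
    refine ⟨k, hk, ?_⟩
    have h5 := hts _ (h4 hal)
    have h6 : rk Qf t = Module.finrank F
        (LinearMap.range (tl Qf t - LinearMap.id : (ι → F) →ₗ[F] (ι → F))) := rfl
    omega
  · intro s hs1 hsn
    obtain ⟨T, hT, hTT, hTr, hTa⟩ := exists_nonalt Qf hQ (fun i : Fin s => E (Fin.castLE hsn i))
      (hEli.comp _ (Fin.castLE_injective hsn)) (fun i j => hEo _ _) (fun i => hEQ _)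
    obtain ⟨t, ht⟩ := exists_elt Qf T hT hTT
    have hne : tl Qf t ≠ LinearMap.id := by
      intro h0
      rw [ht] at h0
      rw [h0, sub_self, LinearMap.range_zero, finrank_bot] at hTr
      omega
    refine ⟨t, order_two_of Qf t (by rw [ht]; exact hTT) hne, ?_, ?_⟩
    · unfold rk
      rw [ht]
      exact hTr
    · unfold al
      rw [ht]
      exact hTa (by omega)
  · intro k hk1 hkW
    have hkk : k + k ≤ W := by omega
    obtain ⟨T, hT, hTT, hTr, hTa⟩ := exists_alt Qf hQ (fun i : Fin (k + k) => P (Fin.castLE hkk i))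
      (hPli.comp _ (Fin.castLE_injective hkk)) (fun i j => hPo _ _) (fun i => hPQ _)
    obtain ⟨t, ht⟩ := exists_elt Qf T hT hTT
    have hne : tl Qf t ≠ LinearMap.id := by
      intro h0
      rw [ht] at h0
      rw [h0, sub_self, LinearMap.range_zero, finrank_bot] at hTr
      omega
    refine ⟨t, order_two_of Qf t (by rw [ht]; exact hTT) hne, ?_, ?_⟩
    · unfold rk
      rw [ht, hTr]
      omega
    · unfold al
      rw [ht]
      exact hTa

theorem count_inv' (hQ : (QuadraticMap.polarBilin Qf).Nondegenerate) (q : (ι → F) → F)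
    (hq : ∀ x, q x = Qf x) (n W : ℕ)
    (hdim : Fintype.card ι = 2 * n)
    (hts : ∀ U : Submodule F (ι → F), (∀ u ∈ U, Qf u = 0) → Module.finrank F U ≤ W)
    (E : Fin n → (ι → F)) (hEli : LinearIndependent F E)
    (hEo : ∀ i j, polar Qf (E i) (E j) = 0) (hEQ : ∀ i, Qf (E i) = 1)
    (P : Fin W → (ι → F)) (hPli : LinearIndependent F P)
    (hPo : ∀ i j, polar Qf (P i) (P j) = 0) (hPQ : ∀ i, Qf (P i) = 0) :
    Nat.card {C : ConjClasses ↥(Cfsg.isometryGroup F q) //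
      ∃ g : ↥(Cfsg.isometryGroup F q), ConjClasses.mk g = C ∧ orderOf g = 2} = n + W / 2 := by
  obtain rfl : q = ⇑Qf := funext hq
  exact count_inv Qf hQ n W hdim hts E hEli hEo hEQ P hPli hPo hPQ

theorem orth_conj_iff (hQ : (QuadraticMap.polarBilin Qf).Nondegenerate)
    (t s : ↥(Cfsg.isometryGroup F (⇑Qf : (ι → F) → F))) (ht : orderOf t = 2)
    (hs : orderOf s = 2) :
    IsConj t s ↔ ∃ g ∈ Cfsg.preserving (Units.coeHom (Matrix ι ι F))
      (fun u v => Qf (u + v) - Qf u - Qf v),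
      g * (t : Matrix.GeneralLinearGroup ι F) * g⁻¹ = (s : Matrix.GeneralLinearGroup ι F) := by
  constructor
  · intro h
    obtain ⟨c, hc⟩ := isConj_iff.mp h
    have hc' : ∀ x, Qf (((c : Matrix.GeneralLinearGroup ι F) : Matrix ι ι F).mulVec x) = Qf x :=
      fun x => c.2 x x
    refine ⟨(c : Matrix.GeneralLinearGroup ι F), fun u v => ?_, ?_⟩
    · change Qf (((c : Matrix.GeneralLinearGroup ι F) : Matrix ι ι F).mulVec u +
        ((c : Matrix.GeneralLinearGroup ι F) : Matrix ι ι F).mulVec v) -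
        Qf (((c : Matrix.GeneralLinearGroup ι F) : Matrix ι ι F).mulVec u) -
        Qf (((c : Matrix.GeneralLinearGroup ι F) : Matrix ι ι F).mulVec v) =
        Qf (u + v) - Qf u - Qf v
      rw [← Matrix.mulVec_add, hc', hc', hc']
    · exact congrArg Subtype.val hc
  · rintro ⟨g₀, hg₀mem, hg₀⟩
    have h1 : g₀ * (t : Matrix.GeneralLinearGroup ι F) =
        (s : Matrix.GeneralLinearGroup ι F) * g₀ := mul_inv_eq_iff_eq_mul.mp hg₀
    obtain ⟨G₀, hG₀⟩ : ∃ G₀ : (ι → F) ≃ₗ[F] (ι → F),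
        ∀ x, G₀ x = (g₀ : Matrix ι ι F).mulVec x := by
      refine ⟨LinearEquiv.ofLinearMap (Matrix.toLin' (g₀ : Matrix ι ι F))
        (Matrix.toLin' ((g₀⁻¹ : Matrix.GeneralLinearGroup ι F) : Matrix ι ι F))
        (by rw [← Matrix.toLin'_mul, Units.mul_inv, Matrix.toLin'_one])
        (by rw [← Matrix.toLin'_mul, Units.inv_mul, Matrix.toLin'_one]), fun x => ?_⟩
      exact Matrix.toLin'_apply _ x
    have hpol : ∀ x y, polar Qf (G₀ x) (G₀ y) = polar Qf x y := by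
      intro x y
      simp only [polar]
      rw [hG₀, hG₀]
      exact hg₀mem x y
    have hrel : ∀ x, G₀ (tl Qf t x) = tl Qf s (G₀ x) := by
      intro x
      rw [hG₀, hG₀, tl_apply, tl_apply, Matrix.mulVec_mulVec, Matrix.mulVec_mulVec,
        ← Units.val_mul, ← Units.val_mul, h1]
    obtain ⟨hrk, htype⟩ := inv_of_conj Qf (tl Qf t) (tl Qf s) G₀ hpol hrel
    exact (group_conj_iff Qf hQ t s ht hs).mpr ⟨hrk, htype⟩

theorem orth_conj_iff' (hQ : (QuadraticMap.polarBilin Qf).Nondegenerate) (q : (ι → F) → F)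
    (hq : ∀ x, q x = Qf x)
    (t s : ↥(Cfsg.isometryGroup F q)) (ht : orderOf t = 2) (hs : orderOf s = 2) :
    IsConj t s ↔ ∃ g ∈ Cfsg.preserving (Units.coeHom (Matrix ι ι F))
      (fun u v => q (u + v) - q u - q v),
      g * (t : Matrix.GeneralLinearGroup ι F) * g⁻¹ = (s : Matrix.GeneralLinearGroup ι F) := by
  obtain rfl : q = ⇑Qf := funext hq
  exact orth_conj_iff Qf hQ t s ht hs

end Bridge

end Cfsg.Agent.Lib.Helper5.OrthBridge
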