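/-
S2332 (helper5): the abstract THREE-ROW rank-2 exclusion (for stage 1, all q, all J).
`r1 r2 r3 : (J → F) → H` three commuting additive root maps (rows 1, 2, 3 × columns J) and elementary
row operations `e12 e13 e23 e32 e21 : F → H` acting on them by shears.  If every non-zero weight of `r1`
has multiplicity `q²`, then the joint weight `(0; v; w)` does not occur for linearly independent `v, w`.
-/
import Mathlib
import Cfsg.Agent.Lib.Helper16.SLMinDefs
import Cfsg.Agent.Lib.Helper13.SLMinW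

set_option autoImplicit false
set_option linter.unusedSectionVars false
set_option linter.unusedVariables false

namespace Cfsg.Agent.Lib.Helper5.SLMin

open Matrix Module Cfsg.Agent.Lib.Helper16.SLMin Cfsg.Agent.Lib.Helper13.SLMin

section basic

variable {F : Type*} [Field F] [Fintype F] {H : Type*} [Group H] {M : Type*}
  [AddCommGroup M] [Module ℂ M] [FiniteDimensional ℂ M] (ρ : Representation ℂ H M)
  {J : Type*} [Fintype J]

/-- a root map commuting with `g`: its weight spaces are `g`-stable -/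
theorem rho_mem_wt_of_comm (ι : (J → F) → H) (g : H) (h : ∀ v, ι v * g = g * ι v) {u : J → F}
    {m : M} (hm : m ∈ wt ρ ι u) : ρ g m ∈ wt ρ ι u := by
  intro r
  have h1 : ρ (ι r) (ρ g m) = ρ g (ρ (ι r) m) := by
    show (ρ (ι r) * ρ g) m = (ρ g * ρ (ι r)) m
    rw [← map_mul, ← map_mul, h]
  rw [h1, hm r, map_smul]

/-- a root map sheared by `g` into another one -/
theorem rho_mem_wt_of_shear (ι κ : (J → F) → H) (g : H) (c : F)
    (h : ∀ v, ι v * g = g * (ι v * κ (c • v))) {u u' : J → F} {m : M}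
    (hm : m ∈ wt ρ ι u) (hm' : m ∈ wt ρ κ u') : ρ g m ∈ wt ρ ι (u + c • u') := by
  intro r
  have h1 : ρ (ι r) (ρ g m) = ρ g (ρ (ι r) (ρ (κ (c • r)) m)) := by
    show (ρ (ι r) * ρ g) m = (ρ g * (ρ (ι r) * ρ (κ (c • r)))) m
    rw [← map_mul, ← map_mul, ← map_mul, h]
  rw [h1, hm' (c • r), map_smul, hm r, map_smul, map_smul, smul_smul]
  congr 1
  rw [add_dotProduct, smul_dotProduct, dotProduct_smul, AddChar.map_add_eq_mul, mul_comm]

theorem finrank_le_of_rho_mem (g : H) (P P' : Submodule ℂ M) (h : ∀ m ∈ P, ρ g m ∈ P') :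
    finrank ℂ ↥P ≤ finrank ℂ ↥P' := by
  calc finrank ℂ ↥P = finrank ℂ ↥(Submodule.map (ρ g) P) := (finrank_map_rho ρ g P).symm
    _ ≤ finrank ℂ ↥P' := by
      apply Submodule.finrank_mono
      rintro _ ⟨m, hm, rfl⟩
      exact h m hm

end basic

section count

/-- generic counting: an injective family of points where `f ≥ c` -/
theorem card_mul_le_sum {P A : Type*} [Fintype P] [Fintype A] [DecidableEq P] (f : P → ℕ)
    (φ : A → P) (hφ : Function.Injective φ) (c : ℕ) (h : ∀ a, c ≤ f (φ a)) :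
    Fintype.card A * c ≤ ∑ p, f p := by
  classical
  calc Fintype.card A * c = ∑ _a : A, c := by
        rw [Finset.sum_const, Finset.card_univ, smul_eq_mul]
    _ ≤ ∑ a : A, f (φ a) := Finset.sum_le_sum (fun a _ => h a)
    _ = ∑ p ∈ Finset.univ.image φ, f p := by
        rw [Finset.sum_image (fun a _ b _ hab => hφ hab)]
    _ ≤ ∑ p, f p := Finset.sum_le_sum_of_subset (Finset.subset_univ _)

/-- if the sum is attained on the image, `f` vanishes outside -/
theorem eq_zero_of_not_mem_image {P A : Type*} [Fintype P] [Fintype A] [DecidableEq P] (f : P → ℕ)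
    (φ : A → P) (hφ : Function.Injective φ) (h : ∀ a, 1 ≤ f (φ a))
    (hsum : ∑ p, f p = Fintype.card A) (p : P) (hp : ∀ a, φ a ≠ p) : f p = 0 := by
  classical
  by_contra hne
  have h1 : ∑ a : A, f (φ a) = ∑ p ∈ Finset.univ.image φ, f p := by
    rw [Finset.sum_image (fun a _ b _ hab => hφ hab)]
  have h2 : Fintype.card A ≤ ∑ a : A, f (φ a) := by
    calc Fintype.card A = ∑ _a : A, 1 := by
          rw [Finset.sum_const, Finset.card_univ, smul_eq_mul, mul_one]
      _ ≤ ∑ a : A, f (φ a) := Finset.sum_le_sum (fun a _ => h a)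
  have hpn : p ∉ Finset.univ.image φ := by
    intro hmem
    obtain ⟨a, _, ha⟩ := Finset.mem_image.mp hmem
    exact hp a ha
  have h3 : ∑ p' ∈ insert p (Finset.univ.image φ), f p' ≤ ∑ p', f p' :=
    Finset.sum_le_sum_of_subset (Finset.subset_univ _)
  rw [Finset.sum_insert hpn, ← h1, hsum] at h3
  have : 1 ≤ f p := Nat.one_le_iff_ne_zero.mpr hne
  omega

end count

section threeRow

variable {F : Type*} [Field F] [Fintype F] [DecidableEq F] {H : Type*} [Group H] {M : Type*}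
  [AddCommGroup M] [Module ℂ M] [FiniteDimensional ℂ M] (ρ : Representation ℂ H M)
  {J : Type*} [Fintype J] [DecidableEq J]
  (r1 r2 r3 : (J → F) → H)

/-- rows 2 and 3 together -/
def r23 (p : J ⊕ J → F) : H := r2 (fun j => p (Sum.inl j)) * r3 (fun j => p (Sum.inr j))

variable (h1a : ∀ r s, r1 (r + s) = r1 r * r1 s) (h2a : ∀ r s, r2 (r + s) = r2 r * r2 s)
  (h3a : ∀ r s, r3 (r + s) = r3 r * r3 s)
  (h12 : ∀ v w, r1 v * r2 w = r2 w * r1 v) (h13 : ∀ v w, r1 v * r3 w = r3 w * r1 v)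
  (h23 : ∀ v w, r2 v * r3 w = r3 w * r2 v)

include h2a h3a h23 in
theorem r23_add (p p' : J ⊕ J → F) : r23 r2 r3 (p + p') = r23 r2 r3 p * r23 r2 r3 p' := by
  unfold r23
  have e1 : (fun j => (p + p') (Sum.inl j)) = (fun j => p (Sum.inl j)) + (fun j => p' (Sum.inl j)) := rfl
  have e2 : (fun j => (p + p') (Sum.inr j)) = (fun j => p (Sum.inr j)) + (fun j => p' (Sum.inr j)) := rfl
  rw [e1, e2, h2a, h3a]
  rw [mul_assoc, mul_assoc]
  congr 1
  rw [← mul_assoc, ← mul_assoc, h23]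

include h2a h3a h23 in
theorem wt_r23 (u2 u3 : J → F) :
    wt ρ (r23 r2 r3) (Sum.elim u2 u3) = wt ρ r2 u2 ⊓ wt ρ r3 u3 := by
  rw [wt_sum_elim ρ (r23 r2 r3) (r23_add r2 r3 h2a h3a h23) u2 u3]
  have e1 : (fun r : J → F => r23 r2 r3 (Sum.elim r 0)) = r2 := by
    funext r
    show r2 (fun j => Sum.elim r (0 : J → F) (Sum.inl j)) *
      r3 (fun j => Sum.elim r (0 : J → F) (Sum.inr j)) = r2 r
    have : (fun j => Sum.elim r (0 : J → F) (Sum.inr j)) = 0 := rfl
    rw [this, root_zero r3 h3a, mul_one]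
    rfl
  have e2 : (fun r : J → F => r23 r2 r3 (Sum.elim 0 r)) = r3 := by
    funext r
    show r2 (fun j => Sum.elim (0 : J → F) r (Sum.inl j)) *
      r3 (fun j => Sum.elim (0 : J → F) r (Sum.inr j)) = r3 r
    have : (fun j => Sum.elim (0 : J → F) r (Sum.inl j)) = 0 := rfl
    rw [this, root_zero r2 h2a, one_mul]
    rfl
  rw [e1, e2]

/-- the joint weight space of the three rows -/
noncomputable abbrev P3 (u1 u2 u3 : J → F) : Submodule ℂ M :=
  wt ρ r1 u1 ⊓ (wt ρ r2 u2 ⊓ wt ρ r3 u3)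

include h1a h2a h3a h12 h13 h23 in
/-- the weights of rows 2, 3 on a weight space of row 1 -/
theorem sum_P3 (v : J → F) :
    finrank ℂ ↥(wt ρ r1 v) = ∑ p : J ⊕ J → F,
      finrank ℂ ↥(P3 ρ r1 r2 r3 v (fun j => p (Sum.inl j)) (fun j => p (Sum.inr j))) := by
  rw [finrank_eq_sum_inf_wt ρ (r23 r2 r3) (r23_add r2 r3 h2a h3a h23) (wt ρ r1 v)]
  · apply Finset.sum_congr rfl
    intro p _
    have hp : p = Sum.elim (fun j => p (Sum.inl j)) (fun j => p (Sum.inr j)) := by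
      ext i
      cases i <;> rfl
    conv_lhs => rw [hp, wt_r23 ρ r2 r3 h2a h3a h23]
  · intro p m hm
    apply rho_mem_wt_of_comm ρ r1 _ _ hm
    intro w
    unfold r23
    rw [← mul_assoc, h12, mul_assoc, h13, ← mul_assoc]

section main

variable (e12 e13 e23 e32 e21 : F → H)
  (he12 : ∀ t v, r2 v * e12 t = e12 t * (r2 v * r1 (t • v)))
  (he12_1 : ∀ t v, r1 v * e12 t = e12 t * r1 v) (he12_3 : ∀ t v, r3 v * e12 t = e12 t * r3 v)
  (he13 : ∀ t v, r3 v * e13 t = e13 t * (r3 v * r1 (t • v)))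
  (he13_1 : ∀ t v, r1 v * e13 t = e13 t * r1 v) (he13_2 : ∀ t v, r2 v * e13 t = e13 t * r2 v)
  (he23 : ∀ t v, r3 v * e23 t = e23 t * (r3 v * r2 (t • v)))
  (he23_1 : ∀ t v, r1 v * e23 t = e23 t * r1 v) (he23_2 : ∀ t v, r2 v * e23 t = e23 t * r2 v)
  (he32 : ∀ t v, r2 v * e32 t = e32 t * (r2 v * r3 (t • v)))
  (he32_1 : ∀ t v, r1 v * e32 t = e32 t * r1 v) (he32_3 : ∀ t v, r3 v * e32 t = e32 t * r3 v)
  (he21 : ∀ t v, r1 v * e21 t = e21 t * (r1 v * r2 (t • v)))
  (he21_2 : ∀ t v, r2 v * e21 t = e21 t * r2 v) (he21_3 : ∀ t v, r3 v * e21 t = e21 t * r3 v)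

include he12 he12_1 he12_3 in
theorem D_le_12 (t : F) (u1 u2 u3 : J → F) :
    finrank ℂ ↥(P3 ρ r1 r2 r3 u1 u2 u3) ≤ finrank ℂ ↥(P3 ρ r1 r2 r3 u1 (u2 + t • u1) u3) := by
  apply finrank_le_of_rho_mem ρ (e12 t)
  rintro m ⟨hm1, hm2, hm3⟩
  exact ⟨rho_mem_wt_of_comm ρ r1 _ (he12_1 t) hm1, rho_mem_wt_of_shear ρ r2 r1 _ t (he12 t) hm2 hm1,
    rho_mem_wt_of_comm ρ r3 _ (he12_3 t) hm3⟩

include he12 he12_1 he12_3 in
theorem D_eq_12 (t : F) (u1 u2 u3 : J → F) :
    finrank ℂ ↥(P3 ρ r1 r2 r3 u1 u2 u3) = finrank ℂ ↥(P3 ρ r1 r2 r3 u1 (u2 + t • u1) u3) := by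
  apply le_antisymm (D_le_12 ρ r1 r2 r3 e12 he12 he12_1 he12_3 t u1 u2 u3)
  have := D_le_12 ρ r1 r2 r3 e12 he12 he12_1 he12_3 (-t) u1 (u2 + t • u1) u3
  rwa [add_assoc, ← add_smul, add_neg_cancel, zero_smul, add_zero] at this

include he13 he13_1 he13_2 in
theorem D_le_13 (t : F) (u1 u2 u3 : J → F) :
    finrank ℂ ↥(P3 ρ r1 r2 r3 u1 u2 u3) ≤ finrank ℂ ↥(P3 ρ r1 r2 r3 u1 u2 (u3 + t • u1)) := by
  apply finrank_le_of_rho_mem ρ (e13 t)
  rintro m ⟨hm1, hm2, hm3⟩
  exact ⟨rho_mem_wt_of_comm ρ r1 _ (he13_1 t) hm1, rho_mem_wt_of_comm ρ r2 _ (he13_2 t) hm2,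
    rho_mem_wt_of_shear ρ r3 r1 _ t (he13 t) hm3 hm1⟩

include he13 he13_1 he13_2 in
theorem D_eq_13 (t : F) (u1 u2 u3 : J → F) :
    finrank ℂ ↥(P3 ρ r1 r2 r3 u1 u2 u3) = finrank ℂ ↥(P3 ρ r1 r2 r3 u1 u2 (u3 + t • u1)) := by
  apply le_antisymm (D_le_13 ρ r1 r2 r3 e13 he13 he13_1 he13_2 t u1 u2 u3)
  have := D_le_13 ρ r1 r2 r3 e13 he13 he13_1 he13_2 (-t) u1 u2 (u3 + t • u1)
  rwa [add_assoc, ← add_smul, add_neg_cancel, zero_smul, add_zero] at this

include he23 he23_1 he23_2 in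
theorem D_le_23 (t : F) (u1 u2 u3 : J → F) :
    finrank ℂ ↥(P3 ρ r1 r2 r3 u1 u2 u3) ≤ finrank ℂ ↥(P3 ρ r1 r2 r3 u1 u2 (u3 + t • u2)) := by
  apply finrank_le_of_rho_mem ρ (e23 t)
  rintro m ⟨hm1, hm2, hm3⟩
  exact ⟨rho_mem_wt_of_comm ρ r1 _ (he23_1 t) hm1, rho_mem_wt_of_comm ρ r2 _ (he23_2 t) hm2,
    rho_mem_wt_of_shear ρ r3 r2 _ t (he23 t) hm3 hm2⟩

include he23 he23_1 he23_2 in
theorem D_eq_23 (t : F) (u1 u2 u3 : J → F) :
    finrank ℂ ↥(P3 ρ r1 r2 r3 u1 u2 u3) = finrank ℂ ↥(P3 ρ r1 r2 r3 u1 u2 (u3 + t • u2)) := by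
  apply le_antisymm (D_le_23 ρ r1 r2 r3 e23 he23 he23_1 he23_2 t u1 u2 u3)
  have := D_le_23 ρ r1 r2 r3 e23 he23 he23_1 he23_2 (-t) u1 u2 (u3 + t • u2)
  rwa [add_assoc, ← add_smul, add_neg_cancel, zero_smul, add_zero] at this

include he32 he32_1 he32_3 in
theorem D_le_32 (t : F) (u1 u2 u3 : J → F) :
    finrank ℂ ↥(P3 ρ r1 r2 r3 u1 u2 u3) ≤ finrank ℂ ↥(P3 ρ r1 r2 r3 u1 (u2 + t • u3) u3) := by
  apply finrank_le_of_rho_mem ρ (e32 t)
  rintro m ⟨hm1, hm2, hm3⟩
  exact ⟨rho_mem_wt_of_comm ρ r1 _ (he32_1 t) hm1, rho_mem_wt_of_shear ρ r2 r3 _ t (he32 t) hm2 hm3,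
    rho_mem_wt_of_comm ρ r3 _ (he32_3 t) hm3⟩

include he32 he32_1 he32_3 in
theorem D_eq_32 (t : F) (u1 u2 u3 : J → F) :
    finrank ℂ ↥(P3 ρ r1 r2 r3 u1 u2 u3) = finrank ℂ ↥(P3 ρ r1 r2 r3 u1 (u2 + t • u3) u3) := by
  apply le_antisymm (D_le_32 ρ r1 r2 r3 e32 he32 he32_1 he32_3 t u1 u2 u3)
  have := D_le_32 ρ r1 r2 r3 e32 he32 he32_1 he32_3 (-t) u1 (u2 + t • u3) u3
  rwa [add_assoc, ← add_smul, add_neg_cancel, zero_smul, add_zero] at this

include he21 he21_2 he21_3 in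
theorem D_le_21 (t : F) (u1 u2 u3 : J → F) :
    finrank ℂ ↥(P3 ρ r1 r2 r3 u1 u2 u3) ≤ finrank ℂ ↥(P3 ρ r1 r2 r3 (u1 + t • u2) u2 u3) := by
  apply finrank_le_of_rho_mem ρ (e21 t)
  rintro m ⟨hm1, hm2, hm3⟩
  exact ⟨rho_mem_wt_of_shear ρ r1 r2 _ t (he21 t) hm1 hm2, rho_mem_wt_of_comm ρ r2 _ (he21_2 t) hm2,
    rho_mem_wt_of_comm ρ r3 _ (he21_3 t) hm3⟩

include h1a h2a h3a h12 h13 h23 he12 he12_1 he12_3 he13 he13_1 he13_2 he23 he23_1 he23_2 he32 he32_1
  he32_3 in
/-- **Counting.**  If the `r1`-weight `v ≠ 0` has multiplicity `q²`, the joint weights `(v; u2; u3)` with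
`(u2, u3)` not both on the line `F v` do not occur. -/
theorem P3_finrank_eq_zero (v : J → F) (hv : v ≠ 0)
    (hq2 : finrank ℂ ↥(wt ρ r1 v) = Fintype.card F ^ 2) (u2 u3 : J → F)
    (hnot : ¬ ((∃ a : F, u2 = a • v) ∧ (∃ b : F, u3 = b • v))) :
    finrank ℂ ↥(P3 ρ r1 r2 r3 v u2 u3) = 0 := by
  classical
  set f : (J ⊕ J → F) → ℕ := fun p =>
    finrank ℂ ↥(P3 ρ r1 r2 r3 v (fun j => p (Sum.inl j)) (fun j => p (Sum.inr j))) with hf
  have hsum : ∑ p, f p = Fintype.card F ^ 2 := by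
    rw [← hq2]
    exact (sum_P3 ρ r1 r2 r3 h1a h2a h3a h12 h13 h23 v).symm
  have hfelim : ∀ a b : J → F, f (Sum.elim a b) = finrank ℂ ↥(P3 ρ r1 r2 r3 v a b) := fun a b => rfl
  have hq : 2 ≤ Fintype.card F := Fintype.one_lt_card
  have hsmul_inj : Function.Injective (fun c : F => c • v) := smul_left_injective F hv
  -- the q² weights on the line
  let φ₀ : F × F → (J ⊕ J → F) := fun ab => Sum.elim (ab.1 • v) (ab.2 • v)
  have hφ₀ : Function.Injective φ₀ := by
    rintro ⟨a, b⟩ ⟨a', b'⟩ h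
    have h1 : a • v = a' • v := by
      funext j
      exact congrFun h (Sum.inl j)
    have h2 : b • v = b' • v := by
      funext j
      exact congrFun h (Sum.inr j)
    rw [hsmul_inj h1, hsmul_inj h2]
  set d₀ := finrank ℂ ↥(P3 ρ r1 r2 r3 v 0 0) with hd₀
  have hfφ₀ : ∀ ab : F × F, f (φ₀ ab) = d₀ := by
    rintro ⟨a, b⟩
    show f (Sum.elim (a • v) (b • v)) = d₀
    rw [hfelim, hd₀, D_eq_12 ρ r1 r2 r3 e12 he12 he12_1 he12_3 a v 0 0,
      D_eq_13 ρ r1 r2 r3 e13 he13 he13_1 he13_2 b v (0 + a • v) 0, zero_add, zero_add]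
  have hcard2 : Fintype.card (F × F) = Fintype.card F ^ 2 := by
    rw [Fintype.card_prod, sq]
  have hcard3 : Fintype.card (F × F × F) = Fintype.card F ^ 3 := by
    rw [Fintype.card_prod, Fintype.card_prod]
    ring
  have hd₀le : d₀ ≤ 1 := by
    have h1 := card_mul_le_sum f φ₀ hφ₀ d₀ (fun ab => (hfφ₀ ab).ge)
    rw [hsum, hcard2] at h1
    have hpos : 0 < Fintype.card F ^ 2 := by positivity
    exact Nat.le_of_mul_le_mul_left (by rwa [mul_one]) hpos
  by_cases hd0 : d₀ = 0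
  · -- impossible: some weight off the line occurs, with q³ translates
    exfalso
    obtain ⟨p₁, hp₁⟩ : ∃ p₁, f p₁ ≠ 0 := by
      by_contra hcon
      push Not at hcon
      have : ∑ p, f p = 0 := Finset.sum_eq_zero (fun p _ => hcon p)
      rw [hsum] at this
      have hpos : 0 < Fintype.card F ^ 2 := by positivity
      omega
    set u2' : J → F := fun j => p₁ (Sum.inl j) with hu2'
    set u3' : J → F := fun j => p₁ (Sum.inr j) with hu3'
    have hp₁' : 1 ≤ finrank ℂ ↥(P3 ρ r1 r2 r3 v u2' u3') := Nat.one_le_iff_ne_zero.mpr hp₁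
    have hcube : ¬ (Fintype.card F ^ 3 * 1 ≤ Fintype.card F ^ 2) := by
      have : Fintype.card F ^ 2 * 2 ≤ Fintype.card F ^ 3 := by
        rw [pow_succ (Fintype.card F) 2]
        exact Nat.mul_le_mul_left _ hq
      have hpos : 0 < Fintype.card F ^ 2 := by positivity
      omega
    by_cases hu2 : ∃ a : F, u2' = a • v
    · -- then u3' is off the line
      have hu3 : ¬ ∃ b : F, u3' = b • v := by
        intro hu3
        obtain ⟨a, ha⟩ := hu2
        obtain ⟨b, hb⟩ := hu3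
        apply hp₁
        have : p₁ = φ₀ (a, b) := by
          ext i
          cases i with
          | inl j => exact congrFun ha j
          | inr j => exact congrFun hb j
        rw [this, hfφ₀, hd0]
      let φ₁ : F × F × F → (J ⊕ J → F) := fun abc =>
        Sum.elim (u2' + abc.2.2 • u3' + abc.1 • v) (u3' + abc.2.1 • v)
      have hφ₁ : Function.Injective φ₁ := by
        rintro ⟨a, b, c⟩ ⟨a', b', c'⟩ h
        have h2 : u3' + b • v = u3' + b' • v := by
          funext j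
          exact congrFun h (Sum.inr j)
        have hb : b = b' := hsmul_inj (add_left_cancel h2)
        have h1 : u2' + c • u3' + a • v = u2' + c' • u3' + a' • v := by
          funext j
          exact congrFun h (Sum.inl j)
        have h3 : (c - c') • u3' = (a' - a) • v := by
          rw [sub_smul, sub_smul, sub_eq_sub_iff_add_eq_add]
          have := h1
          rw [add_assoc, add_assoc] at this
          have h4 := add_left_cancel this
          rw [add_comm (a' • v), ← h4, add_comm]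
        have hc : c = c' := by
          by_contra hne
          apply hu3
          refine ⟨(c - c')⁻¹ * (a' - a), ?_⟩
          rw [mul_smul, ← h3, smul_smul, inv_mul_cancel₀ (sub_ne_zero.mpr hne), one_smul]
        rw [hc, sub_self, zero_smul] at h3
        have ha : a' = a := by
          have : (a' - a) • v = (0 : F) • v := by rw [zero_smul, ← h3]
          exact sub_eq_zero.mp (hsmul_inj this)
        rw [hb, hc, ha]
      have hfφ₁ : ∀ abc, 1 ≤ f (φ₁ abc) := by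
        rintro ⟨a, b, c⟩
        show 1 ≤ f (Sum.elim (u2' + c • u3' + a • v) (u3' + b • v))
        rw [hfelim, ← D_eq_13 ρ r1 r2 r3 e13 he13 he13_1 he13_2 b v _ u3',
          ← D_eq_12 ρ r1 r2 r3 e12 he12 he12_1 he12_3 a v _ u3',
          ← D_eq_32 ρ r1 r2 r3 e32 he32 he32_1 he32_3 c v u2' u3']
        exact hp₁'
      have h1 := card_mul_le_sum f φ₁ hφ₁ 1 hfφ₁
      rw [hsum, hcard3] at h1
      exact hcube h1
    · -- u2' is off the line
      let φ₁ : F × F × F → (J ⊕ J → F) := fun abc =>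
        Sum.elim (u2' + abc.1 • v) (u3' + abc.2.2 • u2' + abc.2.1 • v)
      have hφ₁ : Function.Injective φ₁ := by
        rintro ⟨a, b, c⟩ ⟨a', b', c'⟩ h
        have h1 : u2' + a • v = u2' + a' • v := by
          funext j
          exact congrFun h (Sum.inl j)
        have ha : a = a' := hsmul_inj (add_left_cancel h1)
        have h2 : u3' + c • u2' + b • v = u3' + c' • u2' + b' • v := by
          funext j
          exact congrFun h (Sum.inr j)
        have h3 : (c - c') • u2' = (b' - b) • v := by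
          rw [sub_smul, sub_smul, sub_eq_sub_iff_add_eq_add]
          have := h2
          rw [add_assoc, add_assoc] at this
          have h4 := add_left_cancel this
          rw [add_comm (b' • v), ← h4, add_comm]
        have hc : c = c' := by
          by_contra hne
          apply hu2
          refine ⟨(c - c')⁻¹ * (b' - b), ?_⟩
          rw [mul_smul, ← h3, smul_smul, inv_mul_cancel₀ (sub_ne_zero.mpr hne), one_smul]
        rw [hc, sub_self, zero_smul] at h3
        have hb : b' = b := by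
          have : (b' - b) • v = (0 : F) • v := by rw [zero_smul, ← h3]
          exact sub_eq_zero.mp (hsmul_inj this)
        rw [ha, hc, hb]
      have hfφ₁ : ∀ abc, 1 ≤ f (φ₁ abc) := by
        rintro ⟨a, b, c⟩
        show 1 ≤ f (Sum.elim (u2' + a • v) (u3' + c • u2' + b • v))
        rw [hfelim, ← D_eq_13 ρ r1 r2 r3 e13 he13 he13_1 he13_2 b v _ (u3' + c • u2'),
          ← D_eq_12 ρ r1 r2 r3 e12 he12 he12_1 he12_3 a v u2' _,
          ← D_eq_23 ρ r1 r2 r3 e23 he23 he23_1 he23_2 c v u2' u3']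
        exact hp₁'
      have h1 := card_mul_le_sum f φ₁ hφ₁ 1 hfφ₁
      rw [hsum, hcard3] at h1
      exact hcube h1
  · -- d₀ = 1: the q² weights on the line exhaust the sum
    have hd1 : d₀ = 1 := by omega
    have h := eq_zero_of_not_mem_image f φ₀ hφ₀ (fun ab => by rw [hfφ₀ ab, hd1])
      (by rw [hsum, hcard2]) (Sum.elim u2 u3) (by
        rintro ⟨a, b⟩ hab
        apply hnot
        constructor
        · refine ⟨a, ?_⟩
          funext j
          exact (congrFun hab (Sum.inl j)).symm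
        · refine ⟨b, ?_⟩
          funext j
          exact (congrFun hab (Sum.inr j)).symm)
    exact h

include h1a h2a h3a h12 h13 h23 he12 he12_1 he12_3 he13 he13_1 he13_2 he23 he23_1 he23_2 he32 he32_1
  he32_3 he21 he21_2 he21_3 in
/-- **Three-row rank-2 exclusion.** -/
theorem three_row_excl (hq2 : ∀ v : J → F, v ≠ 0 → finrank ℂ ↥(wt ρ r1 v) = Fintype.card F ^ 2)
    (v w : J → F) (hvw : LinearIndependent F ![v, w]) :
    wt ρ r1 0 ⊓ wt ρ r2 v ⊓ wt ρ r3 w = ⊥ := by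
  rw [LinearIndependent.pair_iff] at hvw
  have hv : v ≠ 0 := by
    intro h
    have := hvw 1 0 (by rw [h, smul_zero, zero_smul, add_zero])
    exact one_ne_zero this.1
  have hw : ¬ ∃ b : F, w = b • v := by
    rintro ⟨b, hb⟩
    have := hvw b (-1) (by rw [hb, neg_smul, one_smul, add_neg_cancel])
    exact one_ne_zero (neg_eq_zero.mp this.2)
  have h1 := D_le_21 ρ r1 r2 r3 e21 he21 he21_2 he21_3 1 0 v w
  rw [one_smul, zero_add] at h1
  have h2 := P3_finrank_eq_zero ρ r1 r2 r3 h1a h2a h3a h12 h13 h23 e12 e13 e23 e32 he12 he12_1 he12_3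
    he13 he13_1 he13_2 he23 he23_1 he23_2 he32 he32_1 he32_3 v hv (hq2 v hv) v w (fun h => hw h.2)
  rw [h2] at h1
  have h3 : finrank ℂ ↥(P3 ρ r1 r2 r3 0 v w) = 0 := Nat.le_zero.mp h1
  rw [inf_assoc]
  exact Submodule.finrank_eq_zero.mp h3

end main

end threeRow

end Cfsg.Agent.Lib.Helper5.SLMin
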