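/-
S2332 (helper5): leaf (C2-C) = the rank-2 exclusion `hC` of stage 1, for all `q` and all `J`,
by the three-row argument (`SLMin3Row.three_row_excl`) in `SL (Unit ⊕ (Unit ⊕ (Unit ⊕ J))) F`.
-/
import Mathlib
import Cfsg.Agent.Lib.Helper16.SLMinDefs
import Cfsg.Agent.Lib.Helper13.SLMinW
import Cfsg.Agent.Lib.Helper25.SLRoot2
import Cfsg.Agent.Lib.Helper5.SLMin3Row

set_option autoImplicit false
set_option linter.unusedSectionVars false
set_option linter.unusedVariables false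

namespace Cfsg.Agent.Lib.Helper5.SLMin

open Matrix Module Cfsg.Agent.Lib.Helper16.SLMin Cfsg.Agent.Lib.Helper13.SLMin
open Cfsg.Agent.Lib.Helper25.SLRoot

section bridge

variable {F : Type*} [Field F] {ι' : Type*} [Fintype ι'] [DecidableEq ι']

theorem dot_rad_aux (r : ι' → F) :
    (Sum.elim (0 : Unit → F) r) ⬝ᵥ (Sum.elim (1 : Unit → F) (0 : ι' → F)) = 0 := by
  rw [sumElim_dotProduct_sumElim, zero_dotProduct, dotProduct_zero, add_zero]

/-- `rad r = 1 + e₁ (0, r)ᵀ` -/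
theorem rad_eq_tvSL (r : ι' → F) :
    rad r = tvSL (Sum.elim (1 : Unit → F) (0 : ι' → F)) (Sum.elim (0 : Unit → F) r)
      (dot_rad_aux r) 1 := by
  apply Subtype.ext
  rw [rad_coe, tvSL_coe, one_smul]
  ext (i | i) (j | j) <;> simp [vecMulVec_apply, Matrix.one_apply]

theorem dot_emb_aux {a φ : ι' → F} (h : φ ⬝ᵥ a = 0) :
    (Sum.elim (0 : Unit → F) φ) ⬝ᵥ (Sum.elim (0 : Unit → F) a) = 0 := by
  rw [sumElim_dotProduct_sumElim, zero_dotProduct, zero_add, h]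

/-- `emb (1 + c a φᵀ) = 1 + c (0,a) (0,φ)ᵀ` -/
theorem emb_tvSL {a φ : ι' → F} (h : φ ⬝ᵥ a = 0) (c : F) :
    emb (tvSL a φ h c) = tvSL (Sum.elim (0 : Unit → F) a) (Sum.elim (0 : Unit → F) φ)
      (dot_emb_aux h) c := by
  apply Subtype.ext
  rw [emb_coe, tvSL_coe, tvSL_coe]
  ext (i | i) (j | j) <;> simp [vecMulVec_apply, Matrix.one_apply]

end bridge

section rel

variable {F : Type*} [Field F] {I : Type*} [Fintype I] [DecidableEq I]

/-- the shear relation -/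
theorem shear_rel {a b φ ψ : I → F} (hφa : φ ⬝ᵥ a = 0) (hψb : ψ ⬝ᵥ b = 0) (hψa : ψ ⬝ᵥ a = 0)
    (hφb : φ ⬝ᵥ b = 1) (t : F) :
    tvSL b ψ hψb 1 * tvSL a φ hφa (-t) =
      tvSL a φ hφa (-t) * (tvSL b ψ hψb 1 * tvSL a ψ hψa t) := by
  have h1 := tvSL_comm_identity hφa hψb hψa (-t) 1
  rw [hφb, mul_one, mul_one] at h1
  -- h1 : e * r = T(-t) * (r * e)
  have hT : tvSL a ψ hψa t * tvSL a ψ hψa (-t) = 1 := by
    rw [tvSL_mul, add_neg_cancel, tvSL_zero]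
  have h2 : tvSL b ψ hψb 1 * tvSL a φ hφa (-t) =
      tvSL a ψ hψa t * (tvSL a φ hφa (-t) * tvSL b ψ hψb 1) := by
    rw [h1, ← mul_assoc, hT, one_mul]
  have c1 : tvSL b ψ hψb 1 * tvSL a ψ hψa t = tvSL a ψ hψa t * tvSL b ψ hψb 1 :=
    tvSL_commute hψb hψa hψa hψb 1 t
  have c2 : tvSL a φ hφa (-t) * tvSL a ψ hψa t = tvSL a ψ hψa t * tvSL a φ hφa (-t) :=
    tvSL_commute hφa hψa hφa hψa (-t) t
  rw [h2, c1, ← mul_assoc, ← mul_assoc, c2]

theorem tvSL_one_add {a ψ ψ' : I → F} (h : ψ ⬝ᵥ a = 0) (h' : ψ' ⬝ᵥ a = 0)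
    (h'' : (ψ + ψ') ⬝ᵥ a = 0) :
    tvSL a (ψ + ψ') h'' 1 = tvSL a ψ h 1 * tvSL a ψ' h' 1 := by
  apply Subtype.ext
  show tvMat a (ψ + ψ') 1 = tvMat a ψ 1 * tvMat a ψ' 1
  rw [tvMat_mul, h, mul_zero, zero_smul, add_zero]
  unfold tvMat
  rw [vecMulVec_add, smul_add, add_assoc]

theorem tvSL_smul_eq {a ψ : I → F} (h : ψ ⬝ᵥ a = 0) (t : F) (h' : (t • ψ) ⬝ᵥ a = 0) :
    tvSL a (t • ψ) h' 1 = tvSL a ψ h t := by
  apply Subtype.ext
  show tvMat a (t • ψ) 1 = tvMat a ψ t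
  unfold tvMat
  rw [vecMulVec_smul, one_smul]

end rel

section concrete

variable {F : Type*} [Field F] {J : Type*} [Fintype J] [DecidableEq J]

/-- the index type of stage 1 -/
abbrev I3 (J : Type*) := Unit ⊕ (Unit ⊕ (Unit ⊕ J))

/-- the basis vectors / coordinate functionals of rows 1, 2, 3 -/
def E1 : I3 J → F := Sum.elim 1 0
def E2 : I3 J → F := Sum.elim 0 (Sum.elim 1 0)
def E3 : I3 J → F := Sum.elim 0 (Sum.elim 0 (Sum.elim 1 0))
/-- a functional supported on `J` -/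
def XJ (v : J → F) : I3 J → F := Sum.elim 0 (Sum.elim 0 (Sum.elim 0 v))

theorem XJ_E1 (v : J → F) : XJ v ⬝ᵥ (E1 : I3 J → F) = 0 := by
  simp [XJ, E1, sumElim_dotProduct_sumElim]
theorem XJ_E2 (v : J → F) : XJ v ⬝ᵥ (E2 : I3 J → F) = 0 := by
  simp [XJ, E2, sumElim_dotProduct_sumElim]
theorem XJ_E3 (v : J → F) : XJ v ⬝ᵥ (E3 : I3 J → F) = 0 := by
  simp [XJ, E3, sumElim_dotProduct_sumElim]
theorem E1_E1 : (E1 : I3 J → F) ⬝ᵥ (E1 : I3 J → F) = 1 := by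
  simp [E1, sumElim_dotProduct_sumElim]
theorem E2_E2 : (E2 : I3 J → F) ⬝ᵥ (E2 : I3 J → F) = 1 := by
  simp [E2, sumElim_dotProduct_sumElim]
theorem E3_E3 : (E3 : I3 J → F) ⬝ᵥ (E3 : I3 J → F) = 1 := by
  simp [E3, sumElim_dotProduct_sumElim]
theorem E1_E2 : (E1 : I3 J → F) ⬝ᵥ (E2 : I3 J → F) = 0 := by
  simp [E1, E2, sumElim_dotProduct_sumElim]
theorem E2_E1 : (E2 : I3 J → F) ⬝ᵥ (E1 : I3 J → F) = 0 := by
  simp [E1, E2, sumElim_dotProduct_sumElim]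
theorem E1_E3 : (E1 : I3 J → F) ⬝ᵥ (E3 : I3 J → F) = 0 := by
  simp [E1, E3, sumElim_dotProduct_sumElim]
theorem E3_E1 : (E3 : I3 J → F) ⬝ᵥ (E1 : I3 J → F) = 0 := by
  simp [E1, E3, sumElim_dotProduct_sumElim]
theorem E2_E3 : (E2 : I3 J → F) ⬝ᵥ (E3 : I3 J → F) = 0 := by
  simp [E2, E3, sumElim_dotProduct_sumElim]
theorem E3_E2 : (E3 : I3 J → F) ⬝ᵥ (E2 : I3 J → F) = 0 := by
  simp [E2, E3, sumElim_dotProduct_sumElim]

theorem XJ_add (v w : J → F) : XJ (v + w) = XJ v + XJ w := by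
  ext (i | i | i | i) <;> simp [XJ]

theorem XJ_smul (t : F) (v : J → F) : XJ (t • v) = t • XJ v := by
  ext (i | i | i | i) <;> simp [XJ]

theorem tvSL_congr_right {I : Type*} [Fintype I] [DecidableEq I] {a ψ ψ' : I → F} (e : ψ = ψ')
    (h : ψ ⬝ᵥ a = 0) (h' : ψ' ⬝ᵥ a = 0) (c : F) : tvSL a ψ h c = tvSL a ψ' h' c := by
  subst e
  rfl

/-- the three rows in transvection form -/
def T1 (v : J → F) : SpecialLinearGroup (I3 J) F := tvSL E1 (XJ v) (XJ_E1 v) 1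
def T2 (v : J → F) : SpecialLinearGroup (I3 J) F := tvSL E2 (XJ v) (XJ_E2 v) 1
def T3 (v : J → F) : SpecialLinearGroup (I3 J) F := tvSL E3 (XJ v) (XJ_E3 v) 1

theorem rad_eq_T1 (v : J → F) :
    rad (F := F) (ι' := Unit ⊕ (Unit ⊕ J)) (Sum.elim 0 (Sum.elim 0 v)) = T1 v := by
  rw [rad_eq_tvSL]
  rfl

theorem emb_ra_eq_T2 (v : J → F) : emb (ra (F := F) (J := J) v) = T2 v := by
  unfold ra
  rw [rad_eq_tvSL, emb_tvSL]
  rfl

theorem emb_rb_eq_T3 (v : J → F) : emb (rb (F := F) (J := J) v) = T3 v := by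
  unfold rb
  rw [rad_eq_tvSL, emb_tvSL, emb_tvSL]
  rfl

/-- the elementary row operations -/
def e12 (t : F) : SpecialLinearGroup (I3 J) F := tvSL E1 E2 E2_E1 (-t)
def e13 (t : F) : SpecialLinearGroup (I3 J) F := tvSL E1 E3 E3_E1 (-t)
def e23 (t : F) : SpecialLinearGroup (I3 J) F := tvSL E2 E3 E3_E2 (-t)
def e32 (t : F) : SpecialLinearGroup (I3 J) F := tvSL E3 E2 E2_E3 (-t)
def e21 (t : F) : SpecialLinearGroup (I3 J) F := tvSL E2 E1 E1_E2 (-t)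

theorem T1_add (r s : J → F) : T1 (r + s) = T1 r * T1 s := by
  unfold T1
  rw [tvSL_congr_right (XJ_add r s) (XJ_E1 (r + s))
    (by rw [add_dotProduct, XJ_E1, XJ_E1, add_zero]) 1]
  exact tvSL_one_add (XJ_E1 r) (XJ_E1 s) _

theorem T2_add (r s : J → F) : T2 (r + s) = T2 r * T2 s := by
  unfold T2
  rw [tvSL_congr_right (XJ_add r s) (XJ_E2 (r + s))
    (by rw [add_dotProduct, XJ_E2, XJ_E2, add_zero]) 1]
  exact tvSL_one_add (XJ_E2 r) (XJ_E2 s) _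

theorem T3_add (r s : J → F) : T3 (r + s) = T3 r * T3 s := by
  unfold T3
  rw [tvSL_congr_right (XJ_add r s) (XJ_E3 (r + s))
    (by rw [add_dotProduct, XJ_E3, XJ_E3, add_zero]) 1]
  exact tvSL_one_add (XJ_E3 r) (XJ_E3 s) _

theorem T1_smul (t : F) (v : J → F) : T1 (t • v) = tvSL E1 (XJ v) (XJ_E1 v) t := by
  unfold T1
  rw [tvSL_congr_right (XJ_smul t v) (XJ_E1 (t • v))
    (by rw [smul_dotProduct, XJ_E1, smul_zero]) 1]
  exact tvSL_smul_eq (XJ_E1 v) t _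

theorem T2_smul (t : F) (v : J → F) : T2 (t • v) = tvSL E2 (XJ v) (XJ_E2 v) t := by
  unfold T2
  rw [tvSL_congr_right (XJ_smul t v) (XJ_E2 (t • v))
    (by rw [smul_dotProduct, XJ_E2, smul_zero]) 1]
  exact tvSL_smul_eq (XJ_E2 v) t _

theorem T3_smul (t : F) (v : J → F) : T3 (t • v) = tvSL E3 (XJ v) (XJ_E3 v) t := by
  unfold T3
  rw [tvSL_congr_right (XJ_smul t v) (XJ_E3 (t • v))
    (by rw [smul_dotProduct, XJ_E3, smul_zero]) 1]
  exact tvSL_smul_eq (XJ_E3 v) t _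

end concrete

section final

variable {F : Type*} [Field F] [Fintype F] [DecidableEq F] {M : Type*} [AddCommGroup M]
  [Module ℂ M] [FiniteDimensional ℂ M] {J : Type*} [Fintype J] [DecidableEq J]

/-- `E₁₂`-part of the first-row radical -/
def x12 (a : Unit → F) : SpecialLinearGroup (I3 J) F :=
  rad (F := F) (ι' := Unit ⊕ (Unit ⊕ J)) (Sum.elim a 0)

/-- `E₁₃`-part of the first-row radical -/
def x13 (b : Unit → F) : SpecialLinearGroup (I3 J) F :=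
  rad (F := F) (ι' := Unit ⊕ (Unit ⊕ J)) (Sum.elim 0 (Sum.elim b 0))

theorem rad_comm {ι' : Type*} [Fintype ι'] [DecidableEq ι'] (r s : ι' → F) :
    rad r * rad s = rad s * rad r := by
  rw [← rad_add, ← rad_add, add_comm]

theorem x12_add (a a' : Unit → F) : x12 (J := J) (a + a') = x12 a * x12 a' := by
  unfold x12
  rw [← rad_add]
  congr 1
  ext (i | i) <;> simp

theorem x13_add (b b' : Unit → F) : x13 (J := J) (b + b') = x13 b * x13 b' := by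
  unfold x13
  rw [← rad_add]
  congr 1
  ext (i | i | i) <;> simp

theorem inf_rot3 {α : Type*} [SemilatticeInf α] (A B C : α) : A ⊓ (B ⊓ C) = (C ⊓ A) ⊓ B := by
  rw [inf_comm C A, inf_assoc, inf_comm C B]

theorem card_unit_fun : Fintype.card (Unit → F) = Fintype.card F := by
  rw [Fintype.card_fun, Fintype.card_unit, pow_one]

/-- the multiplicity of a non-zero weight of row 1 × J is `q²` when `m = 1` -/
theorem finrank_wt_T1 (ρ : Representation ℂ (SpecialLinearGroup (I3 J) F) M)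
    (hm1 : ∀ u : Unit ⊕ (Unit ⊕ J) → F, u ≠ 0 →
      finrank ℂ ↥(wt ρ (rad (F := F) (ι' := Unit ⊕ (Unit ⊕ J))) u) = 1)
    (v : J → F) (hv : v ≠ 0) :
    finrank ℂ ↥(wt ρ (T1 (F := F) (J := J)) v) = Fintype.card F ^ 2 := by
  have hT1 : (T1 (F := F) (J := J)) = fun v =>
      rad (F := F) (ι' := Unit ⊕ (Unit ⊕ J)) (Sum.elim 0 (Sum.elim 0 v)) := by
    funext v
    exact (rad_eq_T1 v).symm
  -- splitting of the rad-weights
  have hsplit : ∀ (a b : Unit → F), wt ρ (rad (F := F) (ι' := Unit ⊕ (Unit ⊕ J)))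
      (Sum.elim a (Sum.elim b v)) =
      (wt ρ (T1 (F := F) (J := J)) v ⊓ wt ρ (x12 (F := F) (J := J)) a) ⊓
        wt ρ (x13 (F := F) (J := J)) b := by
    intro a b
    rw [wt_sum_elim ρ (rad (F := F) (ι' := Unit ⊕ (Unit ⊕ J))) rad_add a (Sum.elim b v)]
    rw [wt_sum_elim ρ (fun r : Unit ⊕ J → F =>
      rad (F := F) (ι' := Unit ⊕ (Unit ⊕ J)) (Sum.elim 0 r))
      (fun r s => by
        show rad (Sum.elim 0 (r + s)) = rad (Sum.elim 0 r) * rad (Sum.elim 0 s)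
        rw [← rad_add]
        congr 1
        ext (i | i) <;> simp) b v]
    rw [hT1]
    exact inf_rot3 _ _ _
  -- W1 twice
  have hinv12 : ∀ r, ∀ m ∈ wt ρ (T1 (F := F) (J := J)) v, ρ (x12 (F := F) (J := J) r) m ∈
      wt ρ (T1 (F := F) (J := J)) v := by
    intro r m hm
    apply rho_mem_wt_of_comm ρ T1 _ _ hm
    intro w
    rw [← rad_eq_T1]
    exact rad_comm _ _
  rw [finrank_eq_sum_inf_wt ρ (x12 (F := F) (J := J)) x12_add _ hinv12]
  have hinner : ∀ a : Unit → F,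
      finrank ℂ ↥(wt ρ (T1 (F := F) (J := J)) v ⊓ wt ρ (x12 (F := F) (J := J)) a) =
        Fintype.card F := by
    intro a
    have hinv13 : ∀ r, ∀ m ∈ wt ρ (T1 (F := F) (J := J)) v ⊓ wt ρ (x12 (F := F) (J := J)) a,
        ρ (x13 (F := F) (J := J) r) m ∈
          wt ρ (T1 (F := F) (J := J)) v ⊓ wt ρ (x12 (F := F) (J := J)) a := by
      rintro r m ⟨hm1', hm2'⟩
      refine ⟨rho_mem_wt_of_comm ρ T1 _ ?_ hm1', rho_mem_wt_of_comm ρ x12 _ ?_ hm2'⟩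
      · intro w
        rw [← rad_eq_T1]
        exact rad_comm _ _
      · intro w
        exact rad_comm _ _
    rw [finrank_eq_sum_inf_wt ρ (x13 (F := F) (J := J)) x13_add _ hinv13]
    have h1 : ∀ b : Unit → F, finrank ℂ ↥((wt ρ (T1 (F := F) (J := J)) v ⊓
        wt ρ (x12 (F := F) (J := J)) a) ⊓ wt ρ (x13 (F := F) (J := J)) b) = 1 := by
      intro b
      rw [← hsplit a b]
      apply hm1
      intro h0
      apply hv
      funext j
      have := congrFun h0 (Sum.inr (Sum.inr j))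
      simpa using this
    rw [Finset.sum_congr rfl (fun b _ => h1 b), Finset.sum_const, Finset.card_univ, smul_eq_mul,
      mul_one, card_unit_fun]
  rw [Finset.sum_congr rfl (fun a _ => hinner a), Finset.sum_const, Finset.card_univ, smul_eq_mul,
    card_unit_fun, sq]

/-- **(C2-C)** the rank-2 exclusion of stage 1. -/
theorem stage1_hC (ρ : Representation ℂ (SpecialLinearGroup (Unit ⊕ (Unit ⊕ (Unit ⊕ J))) F) M)
    (hm1 : ∀ u : Unit ⊕ (Unit ⊕ J) → F, u ≠ 0 →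
      finrank ℂ ↥(wt ρ (rad (F := F) (ι' := Unit ⊕ (Unit ⊕ J))) u) = 1) :
    ∀ v w : J → F, LinearIndependent F ![v, w] →
      wt ρ (rad (F := F) (ι' := Unit ⊕ (Unit ⊕ J))) 0 ⊓
        wt ρ (fun v : J → F => emb (ra (F := F) (J := J) v)) v ⊓
        wt ρ (fun w : J → F => emb (rb (F := F) (J := J) w)) w = ⊥ := by
  intro v w hvw
  have hT2 : (fun v : J → F => emb (ra (F := F) (J := J) v)) = T2 := by
    funext v
    exact emb_ra_eq_T2 v
  have hT3 : (fun w : J → F => emb (rb (F := F) (J := J) w)) = T3 := by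
    funext w
    exact emb_rb_eq_T3 w
  rw [hT2, hT3]
  have hle : wt ρ (rad (F := F) (ι' := Unit ⊕ (Unit ⊕ J))) 0 ≤ wt ρ (T1 (F := F) (J := J)) 0 := by
    intro m hm r
    rw [← rad_eq_T1, hm _, zero_dotProduct, zero_dotProduct]
  have key := three_row_excl ρ (T1 (F := F) (J := J)) T2 T3 T1_add T2_add T3_add
    (fun v w => tvSL_commute (XJ_E1 v) (XJ_E2 w) (XJ_E2 v) (XJ_E1 w) 1 1)
    (fun v w => tvSL_commute (XJ_E1 v) (XJ_E3 w) (XJ_E3 v) (XJ_E1 w) 1 1)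
    (fun v w => tvSL_commute (XJ_E2 v) (XJ_E3 w) (XJ_E3 v) (XJ_E2 w) 1 1)
    e12 e13 e23 e32 e21
    (fun t v => by
      rw [T1_smul]
      exact shear_rel E2_E1 (XJ_E2 v) (XJ_E1 v) E2_E2 t)
    (fun t v => tvSL_commute (XJ_E1 v) E2_E1 (XJ_E1 v) E2_E1 1 (-t))
    (fun t v => tvSL_commute (XJ_E3 v) E2_E1 (XJ_E1 v) E2_E3 1 (-t))
    (fun t v => by
      rw [T1_smul]
      exact shear_rel E3_E1 (XJ_E3 v) (XJ_E1 v) E3_E3 t)
    (fun t v => tvSL_commute (XJ_E1 v) E3_E1 (XJ_E1 v) E3_E1 1 (-t))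
    (fun t v => tvSL_commute (XJ_E2 v) E3_E1 (XJ_E1 v) E3_E2 1 (-t))
    (fun t v => by
      rw [T2_smul]
      exact shear_rel E3_E2 (XJ_E3 v) (XJ_E2 v) E3_E3 t)
    (fun t v => tvSL_commute (XJ_E1 v) E3_E2 (XJ_E2 v) E3_E1 1 (-t))
    (fun t v => tvSL_commute (XJ_E2 v) E3_E2 (XJ_E2 v) E3_E2 1 (-t))
    (fun t v => by
      rw [T3_smul]
      exact shear_rel E2_E3 (XJ_E2 v) (XJ_E3 v) E2_E2 t)
    (fun t v => tvSL_commute (XJ_E1 v) E2_E3 (XJ_E3 v) E2_E1 1 (-t))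
    (fun t v => tvSL_commute (XJ_E3 v) E2_E3 (XJ_E3 v) E2_E3 1 (-t))
    (fun t v => by
      rw [T2_smul]
      exact shear_rel E1_E2 (XJ_E1 v) (XJ_E2 v) E1_E1 t)
    (fun t v => tvSL_commute (XJ_E2 v) E1_E2 (XJ_E2 v) E1_E2 1 (-t))
    (fun t v => tvSL_commute (XJ_E3 v) E1_E2 (XJ_E2 v) E1_E3 1 (-t))
    (fun v hv => finrank_wt_T1 ρ hm1 v hv) v w hvw
  rw [eq_bot_iff, ← key]
  exact inf_le_inf_right _ (inf_le_inf_right _ hle)

end final

end Cfsg.Agent.Lib.Helper5.SLMin
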