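/-
Integrality leaf for S2332 (helper5): for an irreducible complex representation of degree `d` of a finite
group, if the character value at `g` is a rational integer `m`, then `d ∣ |class of g| * m`.
Consumer form: if `χ(g) = d - N` then `d ∣ |class of g| * N`.
-/
import Mathlib
import Cfsg.Agent.Lib.Helper24.CentralChar

set_option autoImplicit false

namespace Cfsg.Agent.Lib.Helper5.SLMinInt

open Representation Module

universe u v

variable {G : Type u} [Group G] {V : Type v} [AddCommGroup V] [Module ℂ V]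

/-- If `χ(g) = m ∈ ℤ` for an irreducible `ρ` of degree `d`, then `d ∣ [G : C(g)] * m` (in `ℤ`). -/
theorem finrank_dvd_index_mul_of_char_eq_int [Finite G] [FiniteDimensional ℂ V]
    (ρ : Representation ℂ G V) [ρ.IsIrreducible] (g : G) (m : ℤ) (hm : ρ.character g = (m : ℂ)) :
    (finrank ℂ V : ℤ) ∣ ((Subgroup.centralizer ({g} : Set G)).index : ℤ) * m := by
  have h := Cfsg.Agent.Lib.Helper24.isIntegral_index_mul_char_div ρ g
  have hpos := Cfsg.Agent.Lib.Helper24.finrank_pos_of_isIrreducible ρ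
  rw [hm] at h
  set k : ℕ := (Subgroup.centralizer ({g} : Set G)).index with hk
  set d : ℕ := finrank ℂ V with hd
  have hq : ((k : ℂ) * (m : ℂ) / (d : ℂ)) = ((((k : ℚ) * (m : ℚ) / (d : ℚ)) : ℚ) : ℂ) := by
    push_cast; rfl
  rw [hq] at h
  have h2 : IsIntegral ℤ ((k : ℚ) * (m : ℚ) / (d : ℚ)) := by
    have := (isIntegral_algebraMap_iff (algebraMap ℚ ℂ).injective (R := ℤ)
      (x := ((k : ℚ) * (m : ℚ) / (d : ℚ)))).mp
    exact this h
  obtain ⟨c, hc⟩ := IsIntegrallyClosed.isIntegral_iff.mp h2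
  have h3 : (k : ℚ) * (m : ℚ) = (c : ℚ) * (d : ℚ) := by
    have hne : (d : ℚ) ≠ 0 := by exact_mod_cast hpos.ne'
    rw [eq_div_iff hne] at hc
    simpa using hc.symm
  have h4 : (k : ℤ) * m = c * (d : ℤ) := by exact_mod_cast h3
  exact ⟨c, by rw [h4]; ring⟩

/-- Consumer form: if `χ(g) = d - N` for an irreducible `ρ` of degree `d`, then `d ∣ [G : C(g)] * N`. -/
theorem finrank_dvd_index_mul_of_char_eq_sub [Finite G] [FiniteDimensional ℂ V]
    (ρ : Representation ℂ G V) [ρ.IsIrreducible] (g : G) (N : ℕ)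
    (hm : ρ.character g = (finrank ℂ V : ℂ) - (N : ℂ)) :
    finrank ℂ V ∣ (Subgroup.centralizer ({g} : Set G)).index * N := by
  have h := finrank_dvd_index_mul_of_char_eq_int ρ g ((finrank ℂ V : ℤ) - (N : ℤ))
    (by rw [hm]; push_cast; ring)
  have h2 : (finrank ℂ V : ℤ) ∣ ((Subgroup.centralizer ({g} : Set G)).index : ℤ) * (N : ℤ) := by
    have h3 : ((Subgroup.centralizer ({g} : Set G)).index : ℤ) * (N : ℤ)
        = ((Subgroup.centralizer ({g} : Set G)).index : ℤ) * (finrank ℂ V : ℤ)
          - ((Subgroup.centralizer ({g} : Set G)).index : ℤ) * ((finrank ℂ V : ℤ) - (N : ℤ)) := by ring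
    rw [h3]
    exact dvd_sub (Dvd.intro_left _ rfl) h
  exact_mod_cast h2

/-- Variant with the character value given as `(c : ℂ) - 1`-style data: if `χ(g) + N = d` then the same
divisibility. -/
theorem finrank_dvd_index_mul_of_char_add_eq [Finite G] [FiniteDimensional ℂ V]
    (ρ : Representation ℂ G V) [ρ.IsIrreducible] (g : G) (N : ℕ)
    (hm : ρ.character g + (N : ℂ) = (finrank ℂ V : ℂ)) :
    finrank ℂ V ∣ (Subgroup.centralizer ({g} : Set G)).index * N :=
  finrank_dvd_index_mul_of_char_eq_sub ρ g N (by rw [← hm]; ring)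

end Cfsg.Agent.Lib.Helper5.SLMinInt
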