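import Mathlib
import Cfsg.Agent.Lib.Helper5.UTGDefs
import Cfsg.Agent.Lib.Helper5.UTGK1
import Cfsg.Agent.Lib.Helper23.UTG

/-!
S5670 (G) leaf K2 `block_move`: inside the block `x₀ ⊗ B` (`x₀` non-isotropic) any non-zero `z` can be moved
to any non-zero `w` of the same norm by an element of `M` fixing `x ⊗ B` for `x ⊥ x₀`.
-/

set_option autoImplicit false
set_option linter.unusedSectionVars false
set_option linter.unusedVariables false

namespace Cfsg.Agent.Lib.Helper5.UTGLeaf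
open Matrix
open Cfsg.Agent.Lib.Helper25.Tens Cfsg.Agent.Lib.Helper25.TensLeaf Cfsg.Agent.Lib.Helper20.UT
open Cfsg.Agent.Lib.Helper5.UTG Cfsg.Agent.Lib.Helper5.SUGen Cfsg.Agent.Lib.Helper5.SUMax
open Cfsg.Agent.Lib.Helper5.HermBridge Cfsg.Agent.Lib.Helper5.UForm
open scoped Kronecker

variable {F : Type*} [Field F] [Fintype F] {a b q : ℕ}
variable {M : Subgroup (GL (Idx a b) F)}

/-- K2 -/
theorem block_move (h : MCtx a b q M) {x₀ : Fin a → F} (hx₀ : hv q x₀ x₀ ≠ 0)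
    (hS : ∀ y : Fin b → F, hv q y y = 0 → pt x₀ y ∈ SsetI q M) {z w : Fin b → F} (hz0 : z ≠ 0)
    (hw0 : w ≠ 0) (hN : hv q z z = hv q w w) :
    ∃ g ∈ M, mv g (pt x₀ z) = pt x₀ w ∧
      ∀ (x : Fin a → F) (y : Fin b → F), hv q x x₀ = 0 → mv g (pt x y) = pt x y := by
  have hF := h.hF
  have hf := herm_unitary (n := b) hF
  have hd : 4 ≤ Module.finrank F (⊤ : Submodule F (Fin b → F)) := by
    rw [finrank_top, Module.finrank_fin_fun]; exact h.hb
  have hrel : Rel q (⊤ : Submodule F (Fin b → F)) z w := by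
    by_cases hzz : hv q z z = 0
    · exact T0 hF (ND_top hf) (by omega) Submodule.mem_top Submodule.mem_top hz0 hw0 hzz
        (by rw [← hv_eq_hermForm, ← hN]; exact hzz)
    · exact Tr hF (ND_top hf) hd Submodule.mem_top Submodule.mem_top hN hzz
  obtain ⟨t, ht, htz⟩ := hrel
  refine ⟨blockG q x₀ hx₀ (emb b F q t), blockG_mem h hx₀ hS ht, ?_, ?_⟩
  · rw [mv_blockG_pt_self]
    congr 1
  · intro x y hx
    exact mv_blockG_pt_perp q x₀ hx₀ _ hx y

end Cfsg.Agent.Lib.Helper5.UTGLeaf
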