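import Mathlib
import Cfsg.Agent.Lib.Helper5.UTGDefs
import Cfsg.Agent.Lib.Helper5.UEichler
import Cfsg.Agent.Lib.Helper23.UTG
import Cfsg.Agent.Lib.Helper23.UTGGA

/-!
S5670 part (G), leaves N1 (`iso_of_noniso_q3`) and N2 (`iso_of_noniso_q2`): from a member `x₀ ⊗ y` with
`x₀` non-isotropic to a member `x₁ ⊗ y` with `x₁` isotropic.

The abelian group `Z_y = {1 + Θ ⊗ y y^*}` (`y` isotropic): `zG`, `zG_add`; the transvection of `x ⊗ y` with
parameter `c` is `zG (c • x x^*)`, so sums `Σ c_k x_k x_k^*` of members are realised in `M` (`zsum3`, `zsum4`).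
N1 (`q ≥ 3`): three points `x₀, x₀ + m x₁, x₀ + r m x₁` (images under `kA x₁`).
N2 (`a ≥ 3`, any `q`): four points `x₀ + μ e`, `μ ∈ {0, 1, θ, 1 + θ}`, `e ⊥ x₀` isotropic
(images under Eichler elements of `A`).
-/

set_option autoImplicit false
set_option linter.unusedSectionVars false
set_option linter.unusedVariables false

namespace Cfsg.Agent.Lib.Helper5.UTGLeaf
open Matrix
open Cfsg.Agent.Lib.Helper25.Tens Cfsg.Agent.Lib.Helper25.TensLeaf Cfsg.Agent.Lib.Helper20.UT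
open Cfsg.Agent.Lib.Helper5.UTG Cfsg.Agent.Lib.Helper5.SUGen Cfsg.Agent.Lib.Helper5.SUMax
open Cfsg.Agent.Lib.Helper5 Cfsg.Agent.Lib.Helper5.HermBridge
open scoped Kronecker

variable {F : Type*} [Field F]

section Z
variable {a b : ℕ} (q : ℕ)

lemma kron_vmv_sq (y : Fin b → F) (hy : hv q y y = 0) (Θ Θ' : Matrix (Fin a) (Fin a) F) :
    (Θ ⊗ₖ vecMulVec y (cj q y)) * (Θ' ⊗ₖ vecMulVec y (cj q y)) = 0 := by
  rw [← Matrix.mul_kronecker_mul, vmv_sq q y hy, Matrix.kronecker_zero]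

/-- `1 + Θ ⊗ y y^*` for an isotropic `y` -/
def zG (y : Fin b → F) (hy : hv q y y = 0) (Θ : Matrix (Fin a) (Fin a) F) : GL (Idx a b) F where
  val := 1 + Θ ⊗ₖ vecMulVec y (cj q y)
  inv := 1 - Θ ⊗ₖ vecMulVec y (cj q y)
  val_inv := by
    rw [add_mul, mul_sub, mul_sub, one_mul, mul_one, one_mul, kron_vmv_sq q y hy]
    abel
  inv_val := by
    rw [sub_mul, mul_add, mul_add, one_mul, mul_one, one_mul, kron_vmv_sq q y hy]
    abel

lemma zG_add (y : Fin b → F) (hy : hv q y y = 0) (Θ Θ' : Matrix (Fin a) (Fin a) F) :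
    zG q y hy (Θ + Θ') = zG q y hy Θ * zG q y hy Θ' := by
  apply Units.ext
  change 1 + (Θ + Θ') ⊗ₖ vecMulVec y (cj q y) =
    (1 + Θ ⊗ₖ vecMulVec y (cj q y)) * (1 + Θ' ⊗ₖ vecMulVec y (cj q y))
  rw [add_mul, mul_add, mul_add, one_mul, mul_one, one_mul, kron_vmv_sq q y hy,
    Matrix.add_kronecker]
  abel

lemma tvV_pt_eq (y : Fin b → F) (hy : hv q y y = 0) (x : Fin a → F) (c : F)
    (hs : hv q (pt x y) (pt x y) = 0) :
    tvV q (pt x y) c hs = zG q y hy (c • vecMulVec x (cj q x)) := by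
  apply Units.ext
  change 1 + c • vecMulVec (pt x y) (cj q (pt x y)) =
    1 + (c • vecMulVec x (cj q x)) ⊗ₖ vecMulVec y (cj q y)
  congr 1
  ext ⟨i, l⟩ ⟨i', l'⟩
  simp only [Matrix.kroneckerMap_apply, Matrix.smul_apply, Matrix.vecMulVec_apply, smul_eq_mul,
    cj, pt, mul_pow]
  ring

lemma mem_SsetI_pt_iff {M : Subgroup (GL (Idx a b) F)} (y : Fin b → F) (hy : hv q y y = 0)
    (x : Fin a → F) :
    pt x y ∈ SsetI q M ↔ ∀ c : F, c ^ q = -c → zG q y hy (c • vecMulVec x (cj q x)) ∈ M := by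
  have hs : hv q (pt x y) (pt x y) = 0 := by rw [hv_pt, hy, mul_zero]
  constructor
  · intro h c hc
    rw [← tvV_pt_eq q y hy x c hs]
    exact h c hc _ (mv_tvV q _ c hs)
  · intro h c hc g hg
    have : g = tvV q (pt x y) c hs := ext_mv (fun v => by rw [hg, mv_tvV])
    rw [this, tvV_pt_eq q y hy]
    exact h c hc

end Z

section fin
variable [Fintype F] {a b q : ℕ} {M : Subgroup (GL (Idx a b) F)}

/-- the four-term `Z`-sum -/
lemma zsum4 (hF : Fintype.card F = q ^ 2) {y : Fin b → F} (hy : hv q y y = 0)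
    {x₀ e : Fin a → F} {θ : F} (hθ : θ + θ ^ q = 1)
    (h0 : pt x₀ y ∈ SsetI q M) (h1 : pt (x₀ + e) y ∈ SsetI q M)
    (h2 : pt (x₀ + θ • e) y ∈ SsetI q M) (h3 : pt (x₀ + (1 + θ) • e) y ∈ SsetI q M) :
    pt e y ∈ SsetI q M := by
  rw [mem_SsetI_pt_iff q y hy] at h0 h1 h2 h3 ⊢
  intro c hc
  have hc' : (-c) ^ q = -(-c) := by rw [neg_pow_q hF, hc]
  have hθ' : θ ^ q = 1 - θ := by linear_combination hθ
  have hid : c • vecMulVec e (cj q e) =
      c • vecMulVec x₀ (cj q x₀) + (-c) • vecMulVec (x₀ + e) (cj q (x₀ + e)) +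
        (-c) • vecMulVec (x₀ + θ • e) (cj q (x₀ + θ • e)) +
          c • vecMulVec (x₀ + (1 + θ) • e) (cj q (x₀ + (1 + θ) • e)) := by
    ext i j
    simp only [Matrix.add_apply, Matrix.smul_apply, Matrix.vecMulVec_apply, smul_eq_mul, cj,
      Pi.add_apply, Pi.smul_apply, add_pow_q hF, mul_pow, one_pow, hθ']
    ring
  rw [hid, zG_add, zG_add, zG_add]
  exact M.mul_mem (M.mul_mem (M.mul_mem (h0 c hc) (h1 _ hc')) (h2 _ hc')) (h3 c hc)

/-- the three-term `Z`-sum -/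
lemma zsum3 (hF : Fintype.card F = q ^ 2) {y : Fin b → F} (hy : hv q y y = 0)
    {x₀ x₁ : Fin a → F} {m r : F} (hm : m ≠ 0) (hr : r ^ q = r) (hr0 : r ≠ 0) (hr1 : r ≠ 1)
    (h0 : pt x₀ y ∈ SsetI q M) (h1 : pt (x₀ + m • x₁) y ∈ SsetI q M)
    (h2 : pt (x₀ + (r * m) • x₁) y ∈ SsetI q M) : pt x₁ y ∈ SsetI q M := by
  rw [mem_SsetI_pt_iff q y hy] at h0 h1 h2 ⊢
  intro c hc
  have hq : q ≠ 0 := by
    rintro rfl
    have : 2 ≤ Fintype.card F := Fintype.one_lt_card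
    rw [hF] at this; omega
  have hmq : m ^ q ≠ 0 := pow_ne_zero q hm
  set D : F := m * m ^ q * (r ^ 2 - r) with hD
  have hD0 : D ≠ 0 := by
    rw [hD]
    refine mul_ne_zero (mul_ne_zero hm hmq) ?_
    intro h0
    have : r * (r - 1) = 0 := by linear_combination h0
    rcases mul_eq_zero.mp this with h | h
    · exact hr0 h
    · exact hr1 (by linear_combination h)
  have hDq : D ^ q = D := by
    rw [hD, mul_pow, mul_pow, pow_q_pow_q' hF, sub_eq_add_neg, add_pow_q hF, neg_pow_q hF,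
      ← pow_mul, mul_comm 2 q, pow_mul, hr]
    ring
  set e₁ : F := c / D with he₁
  have he : e₁ * D = c := by rw [he₁]; field_simp
  have hs1 : e₁ ^ q = -e₁ := by rw [he₁, div_pow, hc, hDq, neg_div]
  have hs2 : (-(r * e₁)) ^ q = -(-(r * e₁)) := by
    rw [neg_pow_q hF, mul_pow, hr, hs1]; ring
  have hs3 : ((r - 1) * e₁) ^ q = -((r - 1) * e₁) := by
    rw [mul_pow, sub_eq_add_neg, add_pow_q hF, neg_pow_q hF, hr, one_pow, hs1]; ring
  have hid : c • vecMulVec x₁ (cj q x₁) =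
      ((r - 1) * e₁) • vecMulVec x₀ (cj q x₀) +
        (-(r * e₁)) • vecMulVec (x₀ + m • x₁) (cj q (x₀ + m • x₁)) +
          e₁ • vecMulVec (x₀ + (r * m) • x₁) (cj q (x₀ + (r * m) • x₁)) := by
    ext i j
    simp only [Matrix.add_apply, Matrix.smul_apply, Matrix.vecMulVec_apply, smul_eq_mul, cj,
      Pi.add_apply, Pi.smul_apply, add_pow_q hF, mul_pow, hr]
    rw [hD] at he
    linear_combination (-(x₁ i * x₁ j ^ q)) * he
  rw [hid, zG_add, zG_add]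
  exact M.mul_mem (M.mul_mem (h0 _ hs3) (h1 _ hs2)) (h2 _ hs1)

/-- induction over sums of pure tensors -/
lemma pt_ind' {p : (Idx a b → F) → Prop} (h0 : p 0)
    (hadd : ∀ v w, p v → p w → p (v + w)) (hpt : ∀ (x : Fin a → F) (y : Fin b → F), p (pt x y)) :
    ∀ v, p v := by
  intro v
  rw [eq_sum_pt v]
  apply Finset.sum_induction _ p hadd h0
  intro i _
  apply Finset.sum_induction _ p hadd h0
  intro l _
  rw [← pt_smul_left]
  exact hpt _ _

/-- `α ⊗ 1` is an isometry if `α` is -/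
lemma kelA_mem_GUI (hF : Fintype.card F = q ^ 2) (α : GL (Fin a) F)
    (hiso : ∀ x x' : Fin a → F, hv q ((α : Matrix (Fin a) (Fin a) F) *ᵥ x)
      ((α : Matrix (Fin a) (Fin a) F) *ᵥ x') = hv q x x') :
    (kel α (1 : GL (Fin b) F) : GL (Idx a b) F) ∈ GUI a b q F := by
  apply mem_GUI.mpr
  apply pt_ind'
  · intro v
    rw [mv_zero, hv_zero_left, hv_zero_left]
  · intro u u' h1 h2 v
    rw [mv_add, hv_add_left, hv_add_left, h1, h2]
  · intro x y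
    apply pt_ind'
    · rw [mv_zero, hv_zero_right hF, hv_zero_right hF]
    · intro w w' h1 h2
      rw [mv_add, hv_add_right hF, hv_add_right hF, h1, h2]
    · intro x' y'
      unfold mv
      rw [kel_mulVec_pt, kel_mulVec_pt, hv_pt, hv_pt, hiso]
      simp

lemma kelA_mem_M (h : MCtx a b q M) (α : GL (Fin a) F)
    (hdet : α ∈ Cfsg.Geo.specialLinear (Fin a) F)
    (hiso : ∀ x x' : Fin a → F, hv q ((α : Matrix (Fin a) (Fin a) F) *ᵥ x)
      ((α : Matrix (Fin a) (Fin a) F) *ᵥ x') = hv q x x') :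
    (kel α (1 : GL (Fin b) F) : GL (Idx a b) F) ∈ M := by
  apply h.le
  refine ⟨kel_mem_KG _ _, kelA_mem_GUI h.hF α hiso, ?_⟩
  exact (kel_mem_of_det α 1 ((mem_SLG_iff α).1 hdet) (by simp)).2

/-- N1 (`q ≥ 3`) -/
theorem iso_of_noniso_q3 (h : MCtx a b q M) (hq : 3 ≤ q) {x₀ : Fin a → F} (hx₀ : hv q x₀ x₀ ≠ 0)
    {y : Fin b → F} (hy : hv q y y = 0) (hs : pt x₀ y ∈ SsetI q M) :
    ∃ x₁ : Fin a → F, x₁ ≠ 0 ∧ hv q x₁ x₁ = 0 ∧ pt x₁ y ∈ SsetI q M := by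
  have hF := h.hF
  obtain ⟨x₁, hx₁, hη⟩ := Cfsg.Agent.Lib.Helper23.UTGLeaf.exists_iso_not_perp hF h.ha hx₀
  have hx₁0 : x₁ ≠ 0 := by
    rintro rfl
    exact hη (hv_zero_right hF x₀)
  obtain ⟨c, hc0, hc⟩ := Cfsg.Agent.Lib.Helper23.UTLeaf.exists_skew (q := q) hF
  obtain ⟨l, hl0, hl1⟩ := exists_norm_ne_one hF hq
  rw [frobQ_apply] at hl1
  set r : F := l * l ^ q with hr
  have hrq : r ^ q = r := by rw [hr, mul_pow, pow_q_pow_q' hF]; ring
  have hr0 : r ≠ 0 := by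
    rw [hr]; exact mul_ne_zero hl0 (pow_ne_zero q hl0)
  have hrc : (r * c) ^ q = -(r * c) := by rw [mul_pow, hrq, hc]; ring
  refine ⟨x₁, hx₁0, hx₁, ?_⟩
  have h1 : pt (x₀ + (c * hv q x₀ x₁) • x₁) y ∈ SsetI q M := by
    have := SsetI_mv h (kA_mem_M h x₁ hc hx₁) hs
    rwa [mv_kA_pt] at this
  have h2 : pt (x₀ + (r * (c * hv q x₀ x₁)) • x₁) y ∈ SsetI q M := by
    have := SsetI_mv h (kA_mem_M h x₁ hrc hx₁) hs
    rw [mv_kA_pt] at this
    rwa [mul_assoc] at this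
  exact zsum3 hF hy (mul_ne_zero hc0 hη) hrq hr0 hl1 hs h1 h2

/-- N2, general form: `a ≥ 3`, any `q` -/
theorem iso_of_noniso_a3 (h : MCtx a b q M) (ha : 3 ≤ a) {x₀ : Fin a → F} (hx₀ : hv q x₀ x₀ ≠ 0)
    {y : Fin b → F} (hy : hv q y y = 0) (hs : pt x₀ y ∈ SsetI q M) :
    ∃ x₁ : Fin a → F, x₁ ≠ 0 ∧ hv q x₁ x₁ = 0 ∧ pt x₁ y ∈ SsetI q M := by
  have hF := h.hF
  have hf := hv_unitary (n := a) hF
  -- an isotropic `e ⊥ x₀`
  have hfin := UForm.finrank_inf_pp hf (⊤ : Submodule F (Fin a → F)) x₀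
  rw [finrank_top, Module.finrank_fin_fun] at hfin
  obtain ⟨e, hemem, he0, hee⟩ := Cfsg.Agent.Lib.Helper23.UTLeaf.exists_iso_mem hF
    ((⊤ : Submodule F (Fin a → F)) ⊓ UForm.pp hf x₀) (by omega)
  have hex : hv q e x₀ = 0 := by
    have := (Submodule.mem_inf.mp hemem).2
    rwa [UForm.mem_pp] at this
  have hxe : hv q x₀ e = 0 := hv_symm_zero hF hex
  -- the images `x₀ + μ • e` under Eichler elements
  have hE : ∀ μ : F, pt (x₀ + μ • e) y ∈ SsetI q M := by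
    intro μ
    set μ' : F := (μ / hv q x₀ x₀) ^ q with hμ'
    have hwe : hv q (μ' • x₀) e = 0 := by rw [hv_smul_left, hxe, mul_zero]
    obtain ⟨κ, hκ⟩ := UForm.tr_surj hf.involutive hf.ne_refl (hv q (μ' • x₀) (μ' • x₀))
      (UForm.u_self_fixed hf _)
    obtain ⟨g, hgS, hg⟩ := UEichler.exists_E hf hee hwe κ
    have hgM := kelA_mem_M (b := b) h g hgS (UEichler.E_isometry hf hee hwe hκ hg)
    have := SsetI_mv h hgM hs
    have hgx : (g : Matrix (Fin a) (Fin a) F) *ᵥ x₀ = x₀ + μ • e := by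
      rw [hg, hxe, hv_smul_right, hμ', pow_q_pow_q' hF, mul_zero, zero_smul, zero_smul, sub_zero,
        sub_zero, div_mul_cancel₀ _ hx₀]
    unfold mv at this
    rw [kel_mulVec_pt, hgx] at this
    simpa using this
  obtain ⟨θ, hθ, -⟩ := Cfsg.Agent.Lib.Helper23.UTGLeaf.exists_theta (q := q) hF
  refine ⟨e, he0, hee, ?_⟩
  have h1 := hE 1
  rw [one_smul] at h1
  exact zsum4 hF hy hθ hs h1 (hE θ) (hE (1 + θ))

/-- N2 (`q = 2`, hence `a ≥ 3`) -/
theorem iso_of_noniso_q2 (h : MCtx a b q M) (hq : q = 2) {x₀ : Fin a → F} (hx₀ : hv q x₀ x₀ ≠ 0)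
    {y : Fin b → F} (hy0 : y ≠ 0) (hy : hv q y y = 0)
    (hs : ∀ y' : Fin b → F, hv q y' y' = 0 → pt x₀ y' ∈ SsetI q M) :
    ∃ x₁ : Fin a → F, x₁ ≠ 0 ∧ hv q x₁ x₁ = 0 ∧ pt x₁ y ∈ SsetI q M := by
  have ha : 3 ≤ a := by
    have h1 := h.ha
    have h2 := h.hex
    by_contra hlt
    exact h2 ⟨by omega, hq⟩
  exact iso_of_noniso_a3 h ha hx₀ hy (hs y hy)

end fin

end Cfsg.Agent.Lib.Helper5.UTGLeaf
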