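import Mathlib
import Cfsg.Agent.Lib.Helper5.UTGDefs
import Cfsg.Agent.Lib.Helper23.UTG

/-!
S5670 part (G), leaf R1 (`all_iso`), core version: the statements of the leaves H1 (`iso_line`) and K2
(`block_move`) are hypotheses.  Every isotropic vector of `A ⊗ B` is a member of `SsetI q M`, by moving
the rows of `v` one at a time into a fixed hyperbolic line `⟨y₁, y₂⟩` of `B`.
-/

set_option autoImplicit false
set_option linter.unusedSectionVars false
set_option linter.unusedVariables false

namespace Cfsg.Agent.Lib.Helper5.UTGLeaf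
open Matrix
open Cfsg.Agent.Lib.Helper25.Tens Cfsg.Agent.Lib.Helper25.TensLeaf Cfsg.Agent.Lib.Helper20.UT
open Cfsg.Agent.Lib.Helper5.UTG Cfsg.Agent.Lib.Helper5.SUGen Cfsg.Agent.Lib.Helper5.SUMax
open Cfsg.Agent.Lib.Helper5 Cfsg.Agent.Lib.Helper5.HermBridge
open scoped Kronecker

variable {F : Type*} [Field F] [Fintype F] {a b q : ℕ}

/-- a vector is the sum of its rows -/
lemma eq_sum_rows (v : Idx a b → F) :
    v = ∑ j, pt (Pi.single j (1 : F)) (fun l => v (j, l)) := by
  ext ⟨i', l'⟩
  simp only [Finset.sum_apply, pt, Pi.single_apply]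
  rw [Finset.sum_eq_single i']
  · simp
  · intro i _ hi; simp [Ne.symm hi]
  · simp

lemma mv_sum' {ι κ : Type} [Fintype ι] [DecidableEq ι] (g : GL ι F) (s : Finset κ)
    (f : κ → ι → F) : mv g (∑ j ∈ s, f j) = ∑ j ∈ s, mv g (f j) := by
  unfold mv
  exact map_sum (Matrix.mulVecLin (g : Matrix ι ι F)) f s

lemma hv_single_single (hq : q ≠ 0) {n : ℕ} (i j : Fin n) :
    hv q (Pi.single j (1 : F) : Fin n → F) (Pi.single i (1 : F)) = if j = i then 1 else 0 := by
  unfold hv
  rw [Finset.sum_eq_single j]
  · by_cases hji : j = i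
    · subst hji; simp
    · simp [hji, Pi.single_apply, hq]
  · intro l _ hl; simp [hl]
  · simp

/-- an element fixing all `pt (e_j) y`, `j ≠ i`, fixes every vector whose row `i` vanishes -/
lemma mv_fix_of_row_zero (hq : q ≠ 0) (g : GL (Idx a b) F) (i : Fin a)
    (hfix : ∀ (x : Fin a → F) (y : Fin b → F), hv q x (Pi.single i (1 : F)) = 0 →
      mv g (pt x y) = pt x y) (u : Idx a b → F) (hu : ∀ l, u (i, l) = 0) : mv g u = u := by
  conv_lhs => rw [eq_sum_rows u]
  conv_rhs => rw [eq_sum_rows u]
  rw [mv_sum']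
  apply Finset.sum_congr rfl
  intro j _
  by_cases hji : j = i
  · subst hji
    have : (fun l => u (j, l)) = 0 := by ext l; exact hu l
    rw [this]
    have h0 : pt (Pi.single j (1 : F)) (0 : Fin b → F) = 0 := by
      ext ⟨i', l'⟩; simp [pt]
    rw [h0, mv_zero]
  · apply hfix
    rw [hv_single_single hq, if_neg hji]

/-- R1, with the statements of H1 and K2 as hypotheses -/
theorem all_iso_core {M : Subgroup (GL (Idx a b) F)} (h : MCtx a b q M) (hW : WS q M)
    (H1 : ∀ {y₁ y₂ : Fin b → F}, hv q y₁ y₁ = 0 → hv q y₂ y₂ = 0 → hv q y₁ y₂ = 1 →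
      ∀ X₁ X₂ : Fin a → F, hv q (pt X₁ y₁ + pt X₂ y₂) (pt X₁ y₁ + pt X₂ y₂) = 0 →
        pt X₁ y₁ + pt X₂ y₂ ∈ SsetI q M)
    (K2 : ∀ {x₀ : Fin a → F}, hv q x₀ x₀ ≠ 0 →
      (∀ y : Fin b → F, hv q y y = 0 → pt x₀ y ∈ SsetI q M) → ∀ {z w : Fin b → F}, z ≠ 0 →
        w ≠ 0 → hv q z z = hv q w w →
          ∃ g ∈ M, mv g (pt x₀ z) = pt x₀ w ∧
            ∀ (x : Fin a → F) (y : Fin b → F), hv q x x₀ = 0 → mv g (pt x y) = pt x y) :
    ∀ v : Idx a b → F, hv q v v = 0 → v ∈ SsetI q M := by
  have hF := h.hF
  have hq : q ≠ 0 := by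
    rintro rfl
    have : 2 ≤ Fintype.card F := Fintype.one_lt_card
    rw [hF] at this; omega
  have hf := hv_unitary (n := b) hF
  have hd : 2 ≤ Module.finrank F (⊤ : Submodule F (Fin b → F)) := by
    rw [finrank_top, Module.finrank_fin_fun]; have := h.hb; omega
  obtain ⟨y₁, -, y₂, -, h11, h22, h12⟩ := UForm.exists_hyp hf (UForm.ND_top hf) hd
  have h21 : hv q y₂ y₁ = 1 := by rw [← hv_conj hF, h12, one_pow]
  -- the claim, by induction on the set of rows not yet inside the line
  have key : ∀ J : Finset (Fin a), ∀ v : Idx a b → F, hv q v v = 0 →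
      (∀ i, i ∉ J → ∃ α β : F, (fun l => v (i, l)) = α • y₁ + β • y₂) → v ∈ SsetI q M := by
    intro J
    induction J using Finset.induction_on with
    | empty =>
      intro v hv0 hrow
      have hrow' : ∀ i, ∃ α β : F, (fun l => v (i, l)) = α • y₁ + β • y₂ :=
        fun i => hrow i (Finset.notMem_empty i)
      choose X₁ X₂ hX using hrow'
      have hv' : v = pt X₁ y₁ + pt X₂ y₂ := by
        ext ⟨i, l⟩
        have := congrFun (hX i) l
        simpa [pt] using this
      rw [hv'] at hv0 ⊢
      exact H1 h11 h22 h12 X₁ X₂ hv0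
    | insert i J hiJ IH =>
      intro v hv0 hrow
      set z : Fin b → F := fun l => v (i, l) with hz
      by_cases hz0 : z = 0
      · apply IH v hv0
        intro j hj
        by_cases hji : j = i
        · subst hji
          exact ⟨0, 0, by rw [← hz, hz0]; simp⟩
        · exact hrow j (by rw [Finset.mem_insert]; tauto)
      · -- a vector of the line with the norm of `z`
        obtain ⟨m, hm⟩ := UForm.tr_surj hf.involutive hf.ne_refl (hv q z z)
          (by rw [frobQ_apply]; exact hv_self_pow hF z)
        rw [frobQ_apply] at hm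
        set w : Fin b → F := y₁ + m • y₂ with hw
        have hww : hv q w w = hv q z z := by
          rw [hw, hv_add_left, hv_add_right hF, hv_add_right hF, hv_smul_left, hv_smul_left,
            hv_smul_right, hv_smul_right, h11, h22, h12, h21, ← hm]
          ring
        have hw0 : w ≠ 0 := by
          intro h0
          have h1 : hv q w y₂ = 1 := by
            rw [hw, hv_add_left, hv_smul_left, h12, h22]; ring
          rw [h0] at h1
          have h2 : hv q (0 : Fin b → F) y₂ = 0 := by simp [hv]
          rw [h2] at h1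
          exact zero_ne_one h1
        set x₀ : Fin a → F := Pi.single i 1 with hx₀
        have hx₀1 : hv q x₀ x₀ = 1 := by rw [hx₀, hv_single_single hq, if_pos rfl]
        obtain ⟨g, hgM, hgz, hgfix⟩ := K2 (x₀ := x₀) (by rw [hx₀1]; exact one_ne_zero)
          (fun y hy => hW x₀ y hy) hz0 hw0 hww.symm
        -- `v = pt x₀ z + u` with row `i` of `u` zero
        set u : Idx a b → F := v - pt x₀ z with hu
        have hui : ∀ l, u (i, l) = 0 := by
          intro l
          simp [hu, pt, hx₀, hz]
        have huj : ∀ j, j ≠ i → ∀ l, u (j, l) = v (j, l) := by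
          intro j hj l
          simp [hu, pt, hx₀, hj]
        have hgu : mv g u = u := mv_fix_of_row_zero hq g i hgfix u hui
        have hgv : mv g v = pt x₀ w + u := by
          have : v = pt x₀ z + u := by rw [hu]; abel
          conv_lhs => rw [this]
          rw [mv_add, hgz, hgu]
        have hiso : hv q (mv g v) (mv g v) = 0 := by
          rw [mem_GUI.mp (h.le_G hgM).1, hv0]
        have hmem : mv g v ∈ SsetI q M := by
          apply IH _ hiso
          intro j hj
          by_cases hji : j = i
          · subst hji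
            refine ⟨1, m, ?_⟩
            ext l
            rw [hgv]
            simp [pt, hx₀, hui l, hw]
          · obtain ⟨α, β, hαβ⟩ := hrow j (by rw [Finset.mem_insert]; tauto)
            refine ⟨α, β, ?_⟩
            rw [← hαβ]
            ext l
            rw [hgv]
            simp [pt, hx₀, hji, huj j hji l]
        have := SsetI_mv h (M.inv_mem hgM) hmem
        rwa [mv_inv_mv] at this
  intro v hv0
  exact key Finset.univ v hv0 (fun i hi => absurd (Finset.mem_univ i) hi)

end Cfsg.Agent.Lib.Helper5.UTGLeaf
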