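import Mathlib
import Cfsg.Agent.Lib.Helper5.UTGDefs
import Cfsg.Agent.Lib.Helper5.UTGK2
import Cfsg.Agent.Lib.Helper5.UTGR1
import Cfsg.Agent.Lib.Helper5.UTGB1
import Cfsg.Agent.Lib.Helper5.UTGN
import Cfsg.Agent.Lib.Helper6.UTGP12
import Cfsg.Agent.Lib.Helper6.UTGH1
import Cfsg.Agent.Lib.Helper15.UTGX2

/-!
S5670 (`SU_a ⊗ SU_b < SU_ab(q)`), part (G) = STAGE III, the assembly:
`stageIII (h : MCtx a b q M) (hT : T1U q M) : GS a b q F ≤ M`.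
Leaves: GA1-GA4 helper23, P0-P2 + H1 helper6, X1-X3 helper15, K1 K2 R1 B1 N1 N2 helper5.
-/

set_option autoImplicit false
set_option linter.unusedSectionVars false
set_option linter.unusedVariables false

namespace Cfsg.Agent.Lib.Helper5.UTGMain
open Matrix
open Cfsg.Agent.Lib.Helper25.Tens Cfsg.Agent.Lib.Helper25.TensLeaf Cfsg.Agent.Lib.Helper20.UT
open Cfsg.Agent.Lib.Helper5.UTG
open scoped Kronecker

variable {F : Type*} [Field F] [Fintype F] {a b q : ℕ} {M : Subgroup (GL (Idx a b) F)}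

/-- R1: all isotropic vectors are members -/
theorem all_iso (h : MCtx a b q M) (hW : WS q M) :
    ∀ v : Idx a b → F, hv q v v = 0 → v ∈ SsetI q M :=
  Cfsg.Agent.Lib.Helper5.UTGLeaf.all_iso_core h hW
    (fun hy₁ hy₂ h12 X₁ X₂ hiso =>
      Cfsg.Agent.Lib.Helper6.UTGLeaf.iso_line h hW hy₁ hy₂ h12 X₁ X₂ hiso)
    (fun hx₀ hS => fun hz0 hw0 hN =>
      Cfsg.Agent.Lib.Helper5.UTGLeaf.block_move h hx₀ hS hz0 hw0 hN)

theorem iso_of_T1U (h : MCtx a b q M) (hT : T1U q M) : T1U' q M := by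
  obtain ⟨x₀, y₀, hx₀0, hy₀0, hy₀, hs⟩ := hT
  by_cases hx₀ : hv q x₀ x₀ = 0
  · exact ⟨x₀, y₀, hx₀0, hy₀0, hx₀, hy₀, hs⟩
  · by_cases hq : 3 ≤ q
    · obtain ⟨x₁, hx₁0, hx₁, hs₁⟩ :=
        Cfsg.Agent.Lib.Helper5.UTGLeaf.iso_of_noniso_q3 h hq hx₀ hy₀ hs
      exact ⟨x₁, y₀, hx₁0, hy₀0, hx₁, hy₀, hs₁⟩
    · have hq2 : 2 ≤ q := by
        by_contra hlt
        have h2 : 2 ≤ Fintype.card F := Fintype.one_lt_card
        rw [h.hF] at h2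
        interval_cases q <;> omega
      obtain ⟨x₁, hx₁0, hx₁, hs₁⟩ :=
        Cfsg.Agent.Lib.Helper5.UTGLeaf.iso_of_noniso_q2 h (by omega) hx₀ hy₀0 hy₀
          (fun y' hy' => Cfsg.Agent.Lib.Helper6.UTGLeaf.ptS_B h hy₀0 hy₀ hs hy')
      exact ⟨x₁, y₀, hx₁0, hy₀0, hx₁, hy₀, hs₁⟩

theorem stageIII_iso (h : MCtx a b q M) (hT : T1U' q M) : GS a b q F ≤ M := by
  obtain ⟨x₀, y₀, hx₀0, hy₀0, hx₀, hy₀, hs⟩ := hT
  have hS : ∀ (x : Fin a → F) (y : Fin b → F), hv q x x = 0 → hv q y y = 0 →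
      pt x y ∈ SsetI q M := by
    intro x y hx hy
    exact Cfsg.Agent.Lib.Helper6.UTGLeaf.ptS_A h hx₀0 hx₀
      (Cfsg.Agent.Lib.Helper6.UTGLeaf.ptS_B h hy₀0 hy₀ hs hy) hx
  exact Cfsg.Agent.Lib.Helper5.UTGLeaf.GS_le_of_all h
    (all_iso h (Cfsg.Agent.Lib.Helper15.UTGLeaf.WS_of_iso h hS))

/-- STAGE III of S5670 -/
theorem stageIII (h : MCtx a b q M) (hT : T1U q M) : GS a b q F ≤ M :=
  stageIII_iso h (iso_of_T1U h hT)

end Cfsg.Agent.Lib.Helper5.UTGMain
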