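/-
helper5: S0720 / W2P market (planner helper19), leaf W2P-RANK1 `rank_one`.

`T = ∑_{x∈P} lam(x) ρ(x) E` has trace `p ≠ 0`, so some `w = T w'` is non-zero; `w(y ω) = lam(y) w(ω)` for `y ∈ P`, and
`w ∈ range E`, so `∑_β [E(α',β) ≠ 0] w(β) = 0` for all `α'` (`OrbData.kill`).  Writing this out at `α' = α, β` on
`Ω = Pα ⊔ Pβ` gives `a s + b t = 0`, `c s + a t = 0` with `(s,t) = (w α, w β) ≠ 0`, hence `a² = b c`.
-/
import Mathlib
import Cfsg.Agent.Lib.Helper19.W2PDefs
import Cfsg.Agent.Lib.Lead.PermChar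

set_option autoImplicit false

namespace Cfsg.Agent.Lib.Helper5.W2PRANK1

open Cfsg Cfsg.Agent.CharLib Cfsg.Agent.Lib.Helper19.CentAlg Cfsg.Agent.Lib.Helper19.W2P

universe u v

section orb

open scoped Classical

variable {G : Type u} [Group G] [Fintype G] {Ω : Type v} [Fintype Ω] [DecidableEq Ω] [MulAction G Ω]

theorem idemEnd_apply (χ : G → ℂ) (φ : Ω → ℂ) (α : Ω) :
    idemEnd (G := G) χ φ α = ∑ β : Ω, ent χ α β * φ β := by
  have h : φ = ∑ β : Ω, φ β • (Pi.single β (1 : ℂ) : Ω → ℂ) := by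
    funext x
    rw [Finset.sum_apply]
    simp [Pi.single_apply]
  conv_lhs => rw [h]
  rw [map_sum, Finset.sum_apply]
  apply Finset.sum_congr rfl
  intro β _
  rw [map_smul, Pi.smul_apply, smul_eq_mul, mul_comm]
  rfl

/-- W2P-RANK1: the rank-one condition. -/
theorem rank_one {p : ℕ} (hp : p.Prime) (hodd : p ≠ 2) [MulAction.IsPretransitive G Ω]
    (hcard : Fintype.card Ω = 2 * p) (P : Subgroup G) [Fintype P] (hP : Nat.card P = p)
    (hsemi : Semireg P Ω) (χ₁ : G → ℂ) (f : IdemFacts (Ω := Ω) p P χ₁) (a : ℕ) (S : Set G)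
    (d : OrbData (Ω := Ω) P χ₁ a S) (α β : Ω) (hαβ : ∀ y ∈ P, y • α ≠ β) (lam : P →* ℂ) :
    (1 + ∑ y ∈ (Finset.univ : Finset P).filter (fun y : P => (y : G) ∈ S), lam y) ^ 2 =
      (∑ y ∈ (Finset.univ : Finset P).filter (fun y : P => ent χ₁ α ((y : G) • β) ≠ 0), lam y) *
      (∑ y ∈ (Finset.univ : Finset P).filter (fun y : P => ent χ₁ α ((y : G) • β) ≠ 0), lam y⁻¹) := by
  set E : Module.End ℂ (Ω → ℂ) := idemEnd (G := G) (Ω := Ω) χ₁ with hE
  set ρ := permRep ℂ G Ω with hρ
  -- the twisted average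
  set T : Module.End ℂ (Ω → ℂ) := ∑ x : P, lam x • (ρ (x : G) ∘ₗ E) with hT
  have hp0 : (p : ℂ) ≠ 0 := by exact_mod_cast hp.ne_zero
  have htrT : LinearMap.trace ℂ (Ω → ℂ) T = p := by
    rw [hT, map_sum, Finset.sum_eq_single (1 : P)]
    · rw [map_smul, map_one, one_smul, Subgroup.coe_one, map_one]
      exact f.tr_one
    · intro x _ hx1
      rw [map_smul, f.tr_P (x : G) x.2 (fun h => hx1 (Subtype.ext h)), smul_zero]
    · intro h
      exact absurd (Finset.mem_univ _) h
  have hTne : T ≠ 0 := by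
    intro h
    rw [h, map_zero] at htrT
    exact hp0 htrT.symm
  obtain ⟨w', hw'⟩ : ∃ w' : Ω → ℂ, T w' ≠ 0 := by
    by_contra hcon
    push Not at hcon
    exact hTne (LinearMap.ext hcon)
  set w : Ω → ℂ := T w' with hw
  -- `w` in terms of `v = E w'`
  have hwapply : ∀ ω : Ω, w ω = ∑ x : P, lam x * (E w') ((x : G)⁻¹ • ω) := by
    intro ω
    rw [hw, hT, LinearMap.sum_apply, Finset.sum_apply]
    apply Finset.sum_congr rfl
    intro x _
    rfl
  -- equivariance
  have hweq : ∀ (y : P) (ω : Ω), w ((y : G) • ω) = lam y * w ω := by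
    intro y ω
    rw [hwapply, hwapply, Finset.mul_sum, ← Equiv.sum_comp (Equiv.mulLeft y)]
    apply Finset.sum_congr rfl
    intro x _
    rw [Equiv.coe_mulLeft, map_mul, mul_assoc, Subgroup.coe_mul, mul_inv_rev, mul_smul, inv_smul_smul]
  -- `w` lies in the range of `E`
  have hwE : ∃ w'' : Ω → ℂ, w = E w'' := by
    refine ⟨∑ x : P, lam x • ρ (x : G) w', ?_⟩
    rw [hw, hT, LinearMap.sum_apply, map_sum]
    apply Finset.sum_congr rfl
    intro x _
    rw [LinearMap.smul_apply, LinearMap.comp_apply, map_smul]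
    congr 1
    have := (f.comm (x : G)).eq
    exact (LinearMap.congr_fun this w').symm
  obtain ⟨w'', hw''⟩ := hwE
  -- the kill relation
  have hkill : ∀ α' : Ω, ∑ ω : Ω, (if ent χ₁ α' ω ≠ 0 then w ω else 0) = 0 := by
    intro α'
    have h1 : ∀ ω : Ω, (if ent χ₁ α' ω ≠ 0 then w ω else 0) =
        ∑ γ : Ω, (if ent χ₁ α' ω ≠ 0 then ent χ₁ ω γ else 0) * w'' γ := by
      intro ω
      rw [hw'', hE, idemEnd_apply]
      split_ifs with h
      · rfl
      · simp
    rw [Finset.sum_congr rfl (fun ω _ => h1 ω), Finset.sum_comm]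
    apply Finset.sum_eq_zero
    intro γ _
    rw [← Finset.sum_mul, d.kill α' γ, zero_mul]
  -- decomposition `Ω = Pα ⊔ Pβ`
  have hfree : ∀ (y y' : P) (ω : Ω), (y : G) • ω = (y' : G) • ω → y = y' := by
    intro y y' ω h
    by_contra hne
    have h1 : ((y'⁻¹ * y : P) : G) • ω = ω := by
      rw [Subgroup.coe_mul, Subgroup.coe_inv, mul_smul, h, inv_smul_smul]
    have h2 : ((y'⁻¹ * y : P) : G) ≠ 1 := by
      intro h3
      apply hne
      have h4 : y'⁻¹ * y = 1 := Subtype.ext h3
      exact (inv_mul_eq_one.mp h4).symm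
    exact hsemi _ (y'⁻¹ * y).2 h2 ω h1
  set φ : P ⊕ P → Ω := fun z => Sum.elim (fun y : P => (y : G) • α) (fun y : P => (y : G) • β) z with hφ
  have hφinj : Function.Injective φ := by
    rintro (y | y) (y' | y') h
    · exact congrArg Sum.inl (hfree y y' α h)
    · exfalso
      have h1 : ((y'⁻¹ * y : P) : G) • α = β := by
        have h' : (y : G) • α = (y' : G) • β := h
        rw [Subgroup.coe_mul, Subgroup.coe_inv, mul_smul, h', inv_smul_smul]
      exact hαβ _ (y'⁻¹ * y).2 h1
    · exfalso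
      have h1 : ((y⁻¹ * y' : P) : G) • α = β := by
        have h' : (y : G) • β = (y' : G) • α := h
        rw [Subgroup.coe_mul, Subgroup.coe_inv, mul_smul, ← h', inv_smul_smul]
      exact hαβ _ (y⁻¹ * y').2 h1
    · exact congrArg Sum.inr (hfree y y' β h)
  have hφbij : Function.Bijective φ := by
    rw [Fintype.bijective_iff_injective_and_card]
    refine ⟨hφinj, ?_⟩
    rw [Fintype.card_sum, hcard, ← Nat.card_eq_fintype_card, hP]
    ring
  have hsplit : ∀ F : Ω → ℂ, ∑ ω : Ω, F ω = ∑ y : P, F ((y : G) • α) + ∑ y : P, F ((y : G) • β) := by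
    intro F
    rw [← Function.Bijective.sum_comp hφbij F, Fintype.sum_sum_type]
    rfl
  -- the diagonal sums
  have h1S : ∀ y : P, (y : G) ∈ S → y ≠ 1 := by
    intro y hy h
    exact (d.S_sub _ hy).2 (by rw [h]; rfl)
  have hdiag : ∀ γ : Ω, ∑ y : P, (if ent χ₁ γ ((y : G) • γ) ≠ 0 then lam y else 0) =
      1 + ∑ y ∈ (Finset.univ : Finset P).filter (fun y : P => (y : G) ∈ S), lam y := by
    intro γ
    have hiff : ∀ y : P, ent χ₁ γ ((y : G) • γ) ≠ 0 ↔ (y = 1 ∨ (y : G) ∈ S) := by
      intro y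
      by_cases hy1 : y = 1
      · subst hy1
        simp only [Subgroup.coe_one, one_smul, true_or, iff_true]
        rw [d.ent_diag]
        norm_num
      · have hy1' : (y : G) ≠ 1 := fun h => hy1 (Subtype.ext h)
        rw [d.supp (y : G) y.2 hy1' γ]
        constructor
        · intro h; exact Or.inr h
        · rintro (h | h)
          · exact absurd h hy1
          · exact h
    rw [← Finset.sum_filter]
    have hfilt : (Finset.univ : Finset P).filter (fun y : P => ent χ₁ γ ((y : G) • γ) ≠ 0) =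
        insert (1 : P) ((Finset.univ : Finset P).filter (fun y : P => (y : G) ∈ S)) := by
      ext y
      simp only [Finset.mem_filter, Finset.mem_univ, true_and, Finset.mem_insert]
      exact hiff y
    rw [hfilt, Finset.sum_insert, map_one]
    intro h
    exact h1S 1 (Finset.mem_filter.mp h).2 rfl
  set s := w α with hs
  set t := w β with ht
  set A : ℂ := 1 + ∑ y ∈ (Finset.univ : Finset P).filter (fun y : P => (y : G) ∈ S), lam y with hA
  set B : ℂ := ∑ y ∈ (Finset.univ : Finset P).filter (fun y : P => ent χ₁ α ((y : G) • β) ≠ 0), lam y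
    with hB
  set C : ℂ := ∑ y ∈ (Finset.univ : Finset P).filter (fun y : P => ent χ₁ α ((y : G) • β) ≠ 0), lam y⁻¹
    with hC
  -- relation at `α`
  have hrelα : A * s + B * t = 0 := by
    have h := hkill α
    rw [hsplit] at h
    have h1 : ∑ y : P, (if ent χ₁ α ((y : G) • α) ≠ 0 then w ((y : G) • α) else 0) = A * s := by
      rw [← hdiag α, Finset.sum_mul]
      apply Finset.sum_congr rfl
      intro y _
      rw [hweq, ← hs]
      split_ifs <;> simp
    have h2 : ∑ y : P, (if ent χ₁ α ((y : G) • β) ≠ 0 then w ((y : G) • β) else 0) = B * t := by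
      rw [hB, ← Finset.sum_filter, Finset.sum_mul]
      apply Finset.sum_congr rfl
      intro y _
      rw [hweq]
    rw [h1, h2] at h
    exact h
  -- relation at `β`
  have hrelβ : C * s + A * t = 0 := by
    have h := hkill β
    rw [hsplit] at h
    have hent : ∀ y : P, ent χ₁ β ((y : G) • α) = ent χ₁ α (((y⁻¹ : P) : G) • β) := by
      intro y
      rw [d.ent_symm β ((y : G) • α), ← d.ent_smul ((y : G)⁻¹) ((y : G) • α) β, inv_smul_smul,
        Subgroup.coe_inv]
    have h1 : ∑ y : P, (if ent χ₁ β ((y : G) • α) ≠ 0 then w ((y : G) • α) else 0) = C * s := by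
      calc ∑ y : P, (if ent χ₁ β ((y : G) • α) ≠ 0 then w ((y : G) • α) else 0)
          = ∑ y : P, (if ent χ₁ α (((y⁻¹ : P) : G) • β) ≠ 0 then lam y * s else 0) := by
            apply Finset.sum_congr rfl
            intro y _
            rw [hent, hweq, ← hs]
        _ = ∑ y : P, (if ent χ₁ α ((((y⁻¹)⁻¹ : P) : G) • β) ≠ 0 then lam y⁻¹ * s else 0) :=
            (Equiv.sum_comp (Equiv.inv P)
              (fun y : P => if ent χ₁ α (((y⁻¹ : P) : G) • β) ≠ 0 then lam y * s else 0)).symm
        _ = ∑ y : P, (if ent χ₁ α ((y : G) • β) ≠ 0 then lam y⁻¹ * s else 0) := by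
            simp only [inv_inv]
        _ = C * s := by
            rw [hC, Finset.sum_filter, Finset.sum_mul]
            apply Finset.sum_congr rfl
            intro y _
            split_ifs <;> simp
    have h2 : ∑ y : P, (if ent χ₁ β ((y : G) • β) ≠ 0 then w ((y : G) • β) else 0) = A * t := by
      rw [← hdiag β, Finset.sum_mul]
      apply Finset.sum_congr rfl
      intro y _
      rw [hweq, ← ht]
      split_ifs <;> simp
    rw [h1, h2] at h
    exact h
  -- `(s, t) ≠ 0`
  have hst : s ≠ 0 ∨ t ≠ 0 := by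
    by_contra hcon
    push Not at hcon
    obtain ⟨hs0, ht0⟩ := hcon
    apply hw'
    funext ω
    obtain ⟨z, rfl⟩ := hφbij.2 ω
    rcases z with y | y
    · show w ((y : G) • α) = 0
      rw [hweq, ← hs, hs0, mul_zero]
    · show w ((y : G) • β) = 0
      rw [hweq, ← ht, ht0, mul_zero]
  -- conclusion
  show A ^ 2 = B * C
  rcases hst with h | h
  · have h1 : (A ^ 2 - B * C) * s = 0 := by
      linear_combination A * hrelα - B * hrelβ
    rcases mul_eq_zero.mp h1 with h2 | h2
    · exact sub_eq_zero.mp h2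
    · exact absurd h2 h
  · have h1 : (A ^ 2 - B * C) * t = 0 := by
      linear_combination A * hrelβ - C * hrelα
    rcases mul_eq_zero.mp h1 with h2 | h2
    · exact sub_eq_zero.mp h2
    · exact absurd h2 h

end orb

end Cfsg.Agent.Lib.Helper5.W2PRANK1
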