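/-
S4707 (planner helper26), leaf T2P-PC2: the constituent of degree `p - 1` is faithful
(frozen statement in notes/S4707_leaves.lean).
-/
import Mathlib
import Cfsg.Prelude.Def_Characters
import Cfsg.Agent.Lib.Helper24.Deflation

set_option autoImplicit false

namespace Cfsg.Agent.Lib.Helper5.T2PPC2

open Cfsg
open scoped ComplexConjugate

universe u v

variable {G : Type u} [Group G] [Fintype G] {Ω : Type v} [Fintype Ω] [DecidableEq Ω] [MulAction G Ω]

/-- T2P-PC2 -/
theorem faithful_of {p : ℕ} [Fact p.Prime] [FaithfulSMul G Ω]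
    (hcard : Fintype.card Ω = 2 * p) (hprim : MulAction.IsPreprimitive G Ω)
    (χ : IrrCharacter G) (hχ1 : (χ : G → ℂ) 1 = (p : ℂ) - 1)
    (hχs : ∀ g : G, p ∣ orderOf g → (χ : G → ℂ) g = -1) :
    ∀ g : G, (χ : G → ℂ) g = (χ : G → ℂ) 1 → g = 1 := by
  classical
  have hp : p.Prime := Fact.out
  obtain ⟨n, ρ, -, hρ⟩ := χ.2
  intro g hg
  by_contra hg1
  set K : Subgroup G := (ρ : G →* (Module.End ℂ (Fin n → ℂ))).ker with hK
  have hone : ρ.character 1 = (Module.finrank ℂ (Fin n → ℂ) : ℂ) := Representation.char_one ρ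
  have hgK : g ∈ K := by
    rw [hK, MonoidHom.mem_ker]
    apply Cfsg.Agent.Lib.Helper24.rep_eq_one_of_char_eq_finrank ρ g
    rw [← hone, hρ]
    exact hg
  have hfix : MulAction.fixedPoints K Ω ≠ Set.univ := by
    intro hfix
    apply hg1
    apply FaithfulSMul.eq_of_smul_eq_smul (α := Ω)
    intro a
    have ha : a ∈ MulAction.fixedPoints K Ω := by rw [hfix]; exact Set.mem_univ a
    have := ha ⟨g, hgK⟩
    rw [one_smul]
    exact this
  have : MulAction.IsPretransitive K Ω :=
    MulAction.IsQuasiPreprimitive.isPretransitive_of_normal hfix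
  have hpos : 0 < Fintype.card Ω := by rw [hcard]; have := hp.pos; omega
  obtain ⟨a⟩ := Fintype.card_pos_iff.mp hpos
  have hidx : (MulAction.stabilizer K a).index = Nat.card Ω :=
    MulAction.index_stabilizer_of_transitive K a
  have hdvd : p ∣ Nat.card K := by
    have h1 : (MulAction.stabilizer K a).index ∣ Nat.card K := Subgroup.index_dvd_card _
    rw [hidx, Nat.card_eq_fintype_card, hcard] at h1
    exact (Dvd.intro_left 2 rfl).trans h1
  obtain ⟨k, hk⟩ := exists_prime_orderOf_dvd_card' p hdvd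
  have hko : orderOf (k : G) = p := by rw [Subgroup.orderOf_coe]; exact hk
  have h1 := hχs (k : G) (by rw [hko])
  have h2 : ρ (k : G) = 1 := MonoidHom.mem_ker.mp k.2
  have h3 : (χ : G → ℂ) (k : G) = (χ : G → ℂ) 1 := by
    rw [← hρ]
    show LinearMap.trace ℂ (Fin n → ℂ) (ρ (k : G)) = LinearMap.trace ℂ (Fin n → ℂ) (ρ 1)
    rw [h2, (map_one ρ : ρ 1 = 1)]
  rw [h3, hχ1] at h1
  have h4 : (p : ℂ) = 0 := by linear_combination h1
  exact hp.ne_zero (Nat.cast_eq_zero.mp h4)

end Cfsg.Agent.Lib.Helper5.T2PPC2
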