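/-
helper5: S0720 / W2P market (planner helper19), leaf W2P-IDEM `idemFacts`.

General part (`idem_trace`, by `rep_induction`): for an irreducible character `χ` and any representation `ρ`,
`E = opT (eFun χ) ρ` is idempotent and `tr(ρ(g) E) = ⟨ρ, χ⟩ χ(g)`.  Multiplicity one: `range E` is a
subrepresentation with character `χ`, hence irreducible, and Schur gives the scalar action of every `G`-endomorphism.
-/
import Mathlib
import Cfsg.Agent.Lib.Helper19.W2PDefs
import Cfsg.Agent.Lib.Lead.PermChar
import Cfsg.Agent.Lib.Lead.RealRep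

set_option autoImplicit false

namespace Cfsg.Agent.Lib.Helper5.W2PIDEM

open Cfsg Cfsg.Agent.CharLib Cfsg.Agent.Lib.Helper19.CentAlg Cfsg.Agent.Lib.Helper19.W2P
open Representation Module LinearMap
open scoped ComplexConjugate

universe u v

section general

variable {G : Type u} [Group G] [Fintype G]

/-- `∑_g eFun χ g * χ g = χ 1` -/
theorem sum_eFun_mul {χ : G → ℂ} (hχ : IsIrrCharacter G χ) : ∑ g : G, eFun χ g * χ g = χ 1 := by
  have h1 : classInner χ χ = 1 := by rw [classInner_irr hχ hχ, if_pos rfl]
  have h2 : ∑ g : G, eFun χ g * χ g = χ 1 * classInner χ χ := by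
    rw [classInner]
    simp only [eFun]
    rw [Finset.mul_sum, Finset.mul_sum]
    apply Finset.sum_congr rfl
    intro g _
    ring
  rw [h2, h1, mul_one]

/-- on an irreducible representation with character `χ`, the idempotent of `χ` is the identity -/
theorem opT_eFun_eq_id {χ : G → ℂ} (hχ : IsIrrCharacter G χ) {V : Type v} [AddCommGroup V] [Module ℂ V]
    [FiniteDimensional ℂ V] (ρ : Representation ℂ G V) [hirr : ρ.IsIrreducible] (hρ : ρ.character = χ) :
    opT (eFun χ) ρ = LinearMap.id := by
  classical
  set f : G → ℂ := fun g => eFun χ g - (if g = 1 then 1 else 0) with hf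
  have hfc : IsClassFunction G f := by
    intro g h
    simp only [hf]
    rw [eFun_isClassFunction (IsIrrCharacter.isCharacter hχ) g h]
    have : h * g * h⁻¹ = 1 ↔ g = 1 := by
      constructor
      · intro h1
        have : g = h⁻¹ * (h * g * h⁻¹) * h := by group
        rw [this, h1]; group
      · intro h1
        rw [h1]; group
    simp only [this]
  have h0 : ∑ g : G, f g * ρ.character g = 0 := by
    simp only [hf, sub_mul, Finset.sum_sub_distrib]
    rw [hρ, sum_eFun_mul hχ]
    simp
  have hz := opT_eq_zero_of_irreducible hfc ρ h0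
  have hsplit : opT f ρ = opT (eFun χ) ρ - LinearMap.id := by
    unfold opT
    simp only [hf, sub_smul, Finset.sum_sub_distrib]
    congr 1
    rw [Finset.sum_eq_single (1 : G)]
    · simp
      rfl
    · intro g _ hg
      simp [hg]
    · intro h
      exact absurd (Finset.mem_univ _) h
  rw [hsplit] at hz
  exact sub_eq_zero.mp hz

/-- restriction of `opT` to a subrepresentation, elementwise -/
theorem opT_coe (f : G → ℂ) {V : Type v} [AddCommGroup V] [Module ℂ V] (ρ : Representation ℂ G V)
    (W : Subrepresentation ρ) (w : W.toSubmodule) :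
    opT f ρ (w : V) = ((opT f W.toRepresentation w : W.toSubmodule) : V) := by
  simp only [opT_apply, Submodule.coe_sum, Submodule.coe_smul]
  rfl

/-- **Key lemma**: the idempotent of `χ` on any representation is idempotent, and
`tr(ρ(g) e_χ) = ⟨ρ, χ⟩ χ(g)`. -/
theorem idem_trace {χ : G → ℂ} (hχ : IsIrrCharacter G χ) {V : Type v} [AddCommGroup V] [Module ℂ V]
    [FiniteDimensional ℂ V] (ρ : Representation ℂ G V) :
    opT (eFun χ) ρ ∘ₗ opT (eFun χ) ρ = opT (eFun χ) ρ ∧
    ∀ g : G, trace ℂ V (ρ g ∘ₗ opT (eFun χ) ρ) = classInner ρ.character χ * χ g := by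
  refine rep_induction (G := G)
    (fun V _ _ _ ρ => opT (eFun χ) ρ ∘ₗ opT (eFun χ) ρ = opT (eFun χ) ρ ∧
      ∀ g : G, trace ℂ V (ρ g ∘ₗ opT (eFun χ) ρ) = classInner ρ.character χ * χ g) ?_ ?_ ?_ V ρ
  · intro V _ _ _ ρ hV
    refine ⟨LinearMap.ext fun v => Subsingleton.elim _ _, ?_⟩
    intro g
    have h1 : ρ g ∘ₗ opT (eFun χ) ρ = 0 := LinearMap.ext fun v => Subsingleton.elim _ _
    have h2 : ρ.character = 0 := by
      funext g
      have : ρ g = 0 := LinearMap.ext fun v => Subsingleton.elim _ _
      simp [Representation.character, this]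
    rw [h1, map_zero, h2, classInner_zero_left, zero_mul]
  · intro V _ _ _ ρ hirr
    have hρχ := isIrrCharacter_of_rep ρ hirr
    by_cases h : ρ.character = χ
    · have hid := opT_eFun_eq_id hχ ρ h
      rw [hid]
      refine ⟨rfl, ?_⟩
      intro g
      have h1 : classInner ρ.character χ = 1 := by rw [h, classInner_irr hχ hχ, if_pos rfl]
      rw [h1, one_mul, LinearMap.comp_id, ← h]
      rfl
    · have h0 : classInner ρ.character χ = 0 := by rw [classInner_irr hρχ hχ, if_neg h]
      have hz := opT_eFun_eq_zero hχ ρ h0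
      rw [hz]
      refine ⟨by simp, ?_⟩
      intro g
      rw [LinearMap.comp_zero, map_zero, h0, zero_mul]
  · intro V _ _ _ ρ W W' hc hW hW'
    have hcs := subrep_isCompl_toSubmodule hc
    constructor
    · ext v
      obtain ⟨w, w', rfl⟩ : ∃ (w : W.toSubmodule) (w' : W'.toSubmodule), (w : V) + w' = v := by
        have : v ∈ W.toSubmodule ⊔ W'.toSubmodule := by rw [hcs.sup_eq_top]; trivial
        obtain ⟨a, ha, b, hb, rfl⟩ := Submodule.mem_sup.mp this
        exact ⟨⟨a, ha⟩, ⟨b, hb⟩, rfl⟩
      rw [LinearMap.comp_apply, map_add, opT_coe, opT_coe, map_add, opT_coe, opT_coe]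
      have e1 := LinearMap.congr_fun hW.1 w
      have e2 := LinearMap.congr_fun hW'.1 w'
      rw [LinearMap.comp_apply] at e1 e2
      rw [e1, e2]
    · intro g
      let N : Bool → Submodule ℂ V := fun b => cond b W.toSubmodule W'.toSubmodule
      have hint : DirectSum.IsInternal N := by
        rw [DirectSum.isInternal_submodule_iff_isCompl N (i := true) (j := false) (by decide)
          (by ext b; cases b <;> simp)]
        exact hcs
      have hf : ∀ b, Set.MapsTo (ρ g ∘ₗ opT (eFun χ) ρ) (N b) (N b) := by
        intro b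
        cases b
        · intro v hv
          have hv' : v ∈ W'.toSubmodule := hv
          show ρ g (opT (eFun χ) ρ v) ∈ W'.toSubmodule
          have := opT_coe (eFun χ) ρ W' ⟨v, hv'⟩
          rw [Subtype.coe_mk] at this
          rw [this]
          exact W'.apply_mem_toSubmodule g (Subtype.mem _)
        · intro v hv
          have hv' : v ∈ W.toSubmodule := hv
          show ρ g (opT (eFun χ) ρ v) ∈ W.toSubmodule
          have := opT_coe (eFun χ) ρ W ⟨v, hv'⟩
          rw [Subtype.coe_mk] at this
          rw [this]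
          exact W.apply_mem_toSubmodule g (Subtype.mem _)
      have htr := LinearMap.trace_eq_sum_trace_restrict hint hf
      simp only [Fintype.sum_bool] at htr
      have hT : (ρ g ∘ₗ opT (eFun χ) ρ).restrict (hf true) =
          W.toRepresentation g ∘ₗ opT (eFun χ) W.toRepresentation := by
        apply LinearMap.ext
        intro w
        apply Subtype.ext
        show ρ g (opT (eFun χ) ρ (w : V)) = _
        rw [opT_coe]
        rfl
      have hT' : (ρ g ∘ₗ opT (eFun χ) ρ).restrict (hf false) =
          W'.toRepresentation g ∘ₗ opT (eFun χ) W'.toRepresentation := by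
        apply LinearMap.ext
        intro w
        apply Subtype.ext
        show ρ g (opT (eFun χ) ρ (w : V)) = _
        rw [opT_coe]
        rfl
      rw [htr]
      have e1 : trace ℂ _ ((ρ g ∘ₗ opT (eFun χ) ρ).restrict (hf true)) =
          classInner W.toRepresentation.character χ * χ g := by
        rw [hT]; exact hW.2 g
      have e2 : trace ℂ _ ((ρ g ∘ₗ opT (eFun χ) ρ).restrict (hf false)) =
          classInner W'.toRepresentation.character χ * χ g := by
        rw [hT']; exact hW'.2 g
      rw [e1, e2, character_eq_add_of_isCompl hc, classInner_add_left]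
      ring

omit [Fintype G] in
/-- Schur: an endomorphism commuting with an irreducible representation is a scalar -/
theorem schur_scalar {V : Type v} [AddCommGroup V] [Module ℂ V] [FiniteDimensional ℂ V]
    (σ : Representation ℂ G V) [hirr : σ.IsIrreducible] (B : Module.End ℂ V)
    (hB : ∀ g : G, B ∘ₗ σ g = σ g ∘ₗ B) : ∃ θ : ℂ, B = θ • LinearMap.id := by
  let T : IntertwiningMap σ σ := ⟨B, hB⟩
  obtain ⟨c, hc⟩ := (IsIrreducible.algebraMap_intertwiningMap_bijective_of_isAlgClosed (ρ := σ)).2 T
  refine ⟨c, ?_⟩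
  have h1 : B = T.toLinearMap := rfl
  rw [h1, ← hc, IntertwiningMap.algebraMap_apply]
  ext v
  simp [IntertwiningMap.toLinearMap_smul]

/-- multiplicity one: every `G`-endomorphism acts on the range of `e_χ` by a scalar -/
theorem scalar_of_mult_one {χ : G → ℂ} (hχ : IsIrrCharacter G χ) {V : Type v} [AddCommGroup V]
    [Module ℂ V] [FiniteDimensional ℂ V] (ρ : Representation ℂ G V)
    (hm : classInner ρ.character χ = 1) (A : Module.End ℂ V) (hA : ∀ g : G, Commute A (ρ g)) :
    ∃ θ : ℂ, A ∘ₗ opT (eFun χ) ρ = θ • opT (eFun χ) ρ := by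
  set E := opT (eFun χ) ρ with hE
  obtain ⟨hidem, htr⟩ := idem_trace hχ ρ
  have hEE : ∀ v, E (E v) = E v := fun v => LinearMap.congr_fun hidem v
  have hcl := eFun_isClassFunction (IsIrrCharacter.isCharacter hχ)
  have hEρ : ∀ (g : G) (v : V), ρ g (E v) = E (ρ g v) := by
    intro g v
    exact LinearMap.congr_fun (opT_comm hcl ρ g) v
  -- the subrepresentation `range E`
  let W : Subrepresentation ρ :=
    { toSubmodule := LinearMap.range E
      apply_mem_toSubmodule := by
        intro g v hv
        obtain ⟨u, rfl⟩ := hv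
        exact ⟨ρ g u, (hEρ g u).symm⟩ }
  have hWmem : ∀ w : W.toSubmodule, E (w : V) = w := by
    intro w
    obtain ⟨u, hu⟩ := w.2
    rw [← hu, hEE]
  -- the idempotent of `W` is the identity
  have hEW : opT (eFun χ) W.toRepresentation = LinearMap.id := by
    apply LinearMap.ext
    intro w
    apply Subtype.ext
    rw [← opT_coe, LinearMap.id_apply]
    exact hWmem w
  -- the character of `W` is a multiple of `χ`
  obtain ⟨_, htrW⟩ := idem_trace hχ W.toRepresentation
  have hcharW : ∀ g : G, W.toRepresentation.character g =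
      classInner W.toRepresentation.character χ * χ g := by
    intro g
    have := htrW g
    rw [hEW, LinearMap.comp_id] at this
    exact this
  -- dimensions
  obtain ⟨d, hdpos, hd⟩ := IsIrrCharacter.apply_one_pos hχ
  have hd0 : χ 1 ≠ 0 := by rw [hd]; exact_mod_cast hdpos.ne'
  obtain ⟨m, hm1, hmtr⟩ := trace_opT_eFun ρ hχ
  rw [hm] at hm1
  obtain ⟨m', hm'1, hm'tr⟩ := trace_opT_eFun W.toRepresentation hχ
  have hid : IsIdempotentElem E := hidem
  have hrank : (Module.finrank ℂ (LinearMap.range E) : ℂ) = trace ℂ V E := (hid.isProj_range.trace).symm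
  have hc1 : classInner W.toRepresentation.character χ = 1 := by
    rw [hEW] at hm'tr
    have h2 : trace ℂ W.toSubmodule (LinearMap.id : W.toSubmodule →ₗ[ℂ] W.toSubmodule) =
        (Module.finrank ℂ (LinearMap.range E) : ℂ) := by
      rw [LinearMap.trace_id]
    rw [h2, hrank, hmtr, ← hm1, mul_one] at hm'tr
    have h3 : (m' : ℂ) = 1 := by
      have : χ 1 * 1 = χ 1 * (m' : ℂ) := by rw [mul_one]; exact hm'tr
      exact (mul_left_cancel₀ hd0 this).symm
    rw [hm'1, h3]
  have hWchar : W.toRepresentation.character = χ := by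
    funext g
    rw [hcharW g, hc1, one_mul]
  have hWirr : W.toRepresentation.IsIrreducible :=
    isIrreducible_of_isIrrCharacter W.toRepresentation (hWchar ▸ hχ)
  -- `A` preserves `W`
  have hAE : ∀ v, A (E v) = E (A v) := by
    intro v
    have h1 : Commute A E := commute_opT ρ A hA
    exact LinearMap.congr_fun h1.eq v
  have hAW : Set.MapsTo A (LinearMap.range E) (LinearMap.range E) := by
    intro v hv
    obtain ⟨u, rfl⟩ := hv
    exact ⟨A u, (hAE u).symm⟩
  let B : Module.End ℂ W.toSubmodule := A.restrict hAW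
  have hB : ∀ g : G, B ∘ₗ W.toRepresentation g = W.toRepresentation g ∘ₗ B := by
    intro g
    apply LinearMap.ext
    intro w
    apply Subtype.ext
    show A (ρ g (w : V)) = ρ g (A (w : V))
    exact LinearMap.congr_fun (hA g).eq (w : V)
  obtain ⟨θ, hθ⟩ := schur_scalar W.toRepresentation B hB
  refine ⟨θ, ?_⟩
  apply LinearMap.ext
  intro v
  have h1 : B ⟨E v, ⟨v, rfl⟩⟩ = θ • (⟨E v, ⟨v, rfl⟩⟩ : W.toSubmodule) := by
    rw [hθ]; rfl
  have h2 := congrArg Subtype.val h1
  exact h2

end general

section perm

open scoped Classical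

variable {G : Type u} [Group G] [Fintype G] {Ω : Type v} [Fintype Ω] [DecidableEq Ω] [MulAction G Ω]

theorem permRep_character_eq : (permRep ℂ G Ω).character = permChar G Ω :=
  funext fun g => permRep_character g

/-- W2P-IDEM: the central idempotent of a multiplicity-one constituent. -/
theorem idemFacts {p : ℕ} [MulAction.IsPretransitive G Ω] [Nonempty Ω]
    (P : Subgroup G) (χ₁ : IrrCharacter G) (h : Chi1 p P Ω χ₁)
    (hne : χ₁ ≠ trivIrr G) :
    IdemFacts (Ω := Ω) p P (χ₁ : G → ℂ) := by
  have hχ := χ₁.2
  have hmult : classInner (permRep ℂ G Ω).character (χ₁ : G → ℂ) = 1 := by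
    rw [permRep_character_eq]; exact h.mult
  obtain ⟨hidem, htr⟩ := idem_trace hχ (permRep ℂ G Ω)
  have hcl := eFun_isClassFunction (IsIrrCharacter.isCharacter hχ)
  refine ⟨hidem, ?_, ?_, ?_, ?_, ?_⟩
  · intro g
    exact (opT_comm hcl (permRep ℂ G Ω) g).symm
  · have := htr 1
    rw [map_one, hmult, one_mul, h.deg] at this
    exact this
  · intro x hx hx1
    have := htr x
    rw [hmult, one_mul, h.vanish x hx hx1] at this
    exact this
  · intro A hA
    exact scalar_of_mult_one hχ (permRep ℂ G Ω) hmult A hA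
  · funext ω
    show opT (eFun (χ₁ : G → ℂ)) (permRep ℂ G Ω) (fun _ => 1) ω = 0
    rw [opT_permRep_apply]
    simp only [mul_one]
    have h1 : classInner ((trivIrr G : IrrCharacter G) : G → ℂ) (χ₁ : G → ℂ) = 0 := by
      rw [classInner_irr' (trivIrr G) χ₁, if_neg (fun h' => hne h'.symm)]
    rw [classInner] at h1
    have h2 : ∑ g : G, ((trivIrr G : IrrCharacter G) : G → ℂ) g * conj ((χ₁ : G → ℂ) g) = 0 := by
      rcases mul_eq_zero.mp h1 with h3 | h3
      · exact absurd (inv_eq_zero.mp h3) card_ne_zero_complex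
      · exact h3
    have h3 : ∑ g : G, eFun (χ₁ : G → ℂ) g =
        (χ₁ : G → ℂ) 1 / (Nat.card G : ℂ) *
          ∑ g : G, ((trivIrr G : IrrCharacter G) : G → ℂ) g * conj ((χ₁ : G → ℂ) g) := by
      rw [Finset.mul_sum]
      apply Finset.sum_congr rfl
      intro g _
      simp only [eFun]
      have : ((trivIrr G : IrrCharacter G) : G → ℂ) g = 1 := rfl
      rw [this, one_mul]
    rw [h3, h2, mul_zero]

end perm

end Cfsg.Agent.Lib.Helper5.W2PIDEM
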