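/-
helper5: S0720 / W2P market (planner helper19), leaf W2P-ORB, part a: the index set of the non-trivial orbitals.
`OIdx G α₀` = suborbits of `G_{α₀}` other than `{α₀}`; `rep i` a representative; for `γ ≠ δ` the pair `(γ, δ)` lies in
exactly one orbital `orbitalRel G α₀ (rep i)`, `i = idx γ δ`.
-/
import Mathlib
import Cfsg.Agent.Lib.Helper19.W2PDefs

set_option autoImplicit false

namespace Cfsg.Agent.Lib.Helper5.W2PORBa

open Cfsg Cfsg.Agent.CharLib Cfsg.Agent.Lib.Helper19.CentAlg Cfsg.Agent.Lib.Helper19.W2P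

universe u v

open scoped Classical

variable {G : Type u} [Group G] {Ω : Type v} [MulAction G Ω]

/-- index type of the non-trivial orbitals -/
abbrev OIdx (G : Type u) [Group G] {Ω : Type v} [MulAction G Ω] (α₀ : Ω) : Type v :=
  {q : MulAction.orbitRel.Quotient (MulAction.stabilizer G α₀) Ω // q ≠ Quotient.mk'' α₀}

/-- a representative of the suborbit `i` -/
noncomputable def rep {α₀ : Ω} (i : OIdx G α₀) : Ω := Quotient.out i.1

theorem mk_rep {α₀ : Ω} (i : OIdx G α₀) :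
    (Quotient.mk'' (rep i) : MulAction.orbitRel.Quotient (MulAction.stabilizer G α₀) Ω) = i.1 :=
  Quotient.out_eq' i.1

theorem rep_ne {α₀ : Ω} (i : OIdx G α₀) : rep i ≠ α₀ := by
  intro h
  apply i.2
  rw [← mk_rep i, h]

/-- two points in the same suborbit -/
theorem mk_eq_iff {α₀ : Ω} (β β' : Ω) :
    (Quotient.mk'' β : MulAction.orbitRel.Quotient (MulAction.stabilizer G α₀) Ω) = Quotient.mk'' β' ↔
      ∃ h : G, h • α₀ = α₀ ∧ h • β' = β := by
  rw [Quotient.eq'']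
  constructor
  · intro h
    obtain ⟨k, hk⟩ := (MulAction.orbitRel_apply).mp h
    exact ⟨(k : G), k.2, hk⟩
  · rintro ⟨h, h1, h2⟩
    exact (MulAction.orbitRel_apply).mpr ⟨⟨h, h1⟩, h2⟩

/-- the index of a point `β ≠ α₀` -/
noncomputable def idxPt {α₀ : Ω} (β : Ω) (hβ : β ≠ α₀) : OIdx G α₀ :=
  ⟨Quotient.mk'' β, by
    intro h
    obtain ⟨k, hk1, hk2⟩ := (mk_eq_iff β α₀).mp h
    exact hβ (hk2 ▸ hk1)⟩

theorem rel_rep_idxPt {α₀ : Ω} (β : Ω) (hβ : β ≠ α₀) :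
    ∃ h : G, h • α₀ = α₀ ∧ h • β = rep (idxPt (G := G) β hβ) := by
  have h1 := mk_rep (idxPt (G := G) β hβ)
  exact (mk_eq_iff _ _).mp h1

theorem orbitalRel_iff {α₀ : Ω} (i j : OIdx G α₀) (γ δ : Ω) (hi : orbitalRel G α₀ (rep i) γ δ)
    (hj : orbitalRel G α₀ (rep j) γ δ) : i = j := by
  obtain ⟨g, hg1, hg2⟩ := hi
  obtain ⟨g', hg'1, hg'2⟩ := hj
  apply Subtype.ext
  rw [← mk_rep i, ← mk_rep j, mk_eq_iff]
  refine ⟨g⁻¹ * g', ?_, ?_⟩
  · rw [mul_smul, hg'1, ← hg1, inv_smul_smul]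
  · rw [mul_smul, hg'2, ← hg2, inv_smul_smul]

variable [MulAction.IsPretransitive G Ω]

theorem exists_idx {α₀ : Ω} (γ δ : Ω) (h : γ ≠ δ) :
    ∃ i : OIdx G α₀, orbitalRel G α₀ (rep i) γ δ := by
  obtain ⟨g, hg⟩ := MulAction.exists_smul_eq G α₀ γ
  have hβ : g⁻¹ • δ ≠ α₀ := by
    intro h1
    apply h
    rw [← hg, ← h1, smul_inv_smul]
  obtain ⟨k, hk1, hk2⟩ := rel_rep_idxPt (G := G) (g⁻¹ • δ) hβ
  refine ⟨idxPt (g⁻¹ • δ) hβ, g * k⁻¹, ?_, ?_⟩
  · rw [mul_smul]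
    have : k⁻¹ • α₀ = α₀ := by
      rw [inv_smul_eq_iff, hk1]
    rw [this, hg]
  · rw [mul_smul, ← hk2, inv_smul_smul, smul_inv_smul]

/-- the orbital index of a pair (junk on the diagonal) -/
noncomputable def idx {α₀ : Ω} [Nonempty (OIdx G α₀)] (γ δ : Ω) : OIdx G α₀ :=
  if h : γ ≠ δ then (exists_idx (G := G) (α₀ := α₀) γ δ h).choose else Classical.arbitrary _

theorem orbitalRel_idx {α₀ : Ω} [Nonempty (OIdx G α₀)] (γ δ : Ω) (h : γ ≠ δ) :
    orbitalRel G α₀ (rep (idx (G := G) (α₀ := α₀) γ δ)) γ δ := by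
  unfold idx
  rw [dif_pos h]
  exact (exists_idx (G := G) (α₀ := α₀) γ δ h).choose_spec

theorem orbitalRel_iff_idx {α₀ : Ω} [Nonempty (OIdx G α₀)] (γ δ : Ω) (h : γ ≠ δ) (i : OIdx G α₀) :
    orbitalRel G α₀ (rep i) γ δ ↔ i = idx γ δ := by
  constructor
  · intro hi
    exact orbitalRel_iff i _ γ δ hi (orbitalRel_idx γ δ h)
  · intro hi
    rw [hi]
    exact orbitalRel_idx γ δ h

omit [MulAction.IsPretransitive G Ω] in
theorem ne_of_orbitalRel {α₀ : Ω} (i : OIdx G α₀) (γ δ : Ω) (h : orbitalRel G α₀ (rep i) γ δ) :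
    γ ≠ δ := by
  obtain ⟨g, rfl, rfl⟩ := h
  intro h1
  exact rep_ne i (smul_left_cancel g h1).symm

/-- sums of indicator functions over the orbital index -/
theorem sum_orbital {α₀ : Ω} [Fintype (OIdx G α₀)] [Nonempty (OIdx G α₀)] {M : Type*} [AddCommMonoid M]
    (γ δ : Ω) (h : γ ≠ δ) (F : OIdx G α₀ → M) :
    ∑ i : OIdx G α₀, (if orbitalRel G α₀ (rep i) γ δ then F i else 0) = F (idx γ δ) := by
  simp only [orbitalRel_iff_idx γ δ h]
  rw [Finset.sum_ite_eq' Finset.univ (idx γ δ) F]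
  simp

omit [MulAction.IsPretransitive G Ω] in
theorem sum_orbital_diag {α₀ : Ω} [Fintype (OIdx G α₀)] {M : Type*} [AddCommMonoid M]
    (γ : Ω) (F : OIdx G α₀ → M) :
    ∑ i : OIdx G α₀, (if orbitalRel G α₀ (rep i) γ γ then F i else 0) = 0 := by
  apply Finset.sum_eq_zero
  intro i _
  rw [if_neg]
  intro h
  exact ne_of_orbitalRel i γ γ h rfl

end Cfsg.Agent.Lib.Helper5.W2PORBa
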