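/-
helper5: S0720 / W2P market (planner helper19), leaf W2P-ORB, part b: counting lemmas
(the hypotheses `h0`, `h3`, `h4`, `h5` of ARITH).
-/
import Mathlib
import Cfsg.Agent.Lib.Helper19.W2PDefs
import Cfsg.Agent.Lib.Helper5.W2PORBa

set_option autoImplicit false
set_option linter.unusedSectionVars false

namespace Cfsg.Agent.Lib.Helper5.W2PORBb

open Cfsg Cfsg.Agent.CharLib Cfsg.Agent.Lib.Helper19.CentAlg Cfsg.Agent.Lib.Helper19.W2P
open Cfsg.Agent.Lib.Helper5.W2PORBa

universe u v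

open scoped Classical

section cnt

variable {G : Type u} [Group G] {Ω : Type v} [Fintype Ω] [MulAction G Ω]

theorem cnt_eq_sum (α β : Ω) (x : G) :
    cnt G α β x = ∑ γ : Ω, (if orbitalRel G α β γ (x • γ) then 1 else 0) := by
  unfold cnt
  rw [Nat.card_eq_fintype_card, Fintype.card_subtype, Finset.sum_boole]
  simp

theorem cnt_pos_of (α β : Ω) (x : G) (γ : Ω) (h : orbitalRel G α β γ (x • γ)) : 0 < cnt G α β x := by
  unfold cnt
  have : Nonempty {γ : Ω // orbitalRel G α β γ (x • γ)} := ⟨⟨γ, h⟩⟩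
  exact Nat.card_pos

theorem forall_of_cnt_eq (α β : Ω) (x : G) (h : cnt G α β x = Fintype.card Ω) (γ : Ω) :
    orbitalRel G α β γ (x • γ) := by
  unfold cnt at h
  rw [Nat.card_eq_fintype_card, Fintype.card_subtype] at h
  have h2 : (Finset.univ.filter (fun γ : Ω => orbitalRel G α β γ (x • γ))).card =
      (Finset.univ : Finset Ω).card := by rw [h, Finset.card_univ]
  have h3 := (Finset.card_filter_eq_iff).mp h2
  exact h3 γ (Finset.mem_univ _)

end cnt

section counting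

variable {G : Type u} [Group G] [Fintype G] {Ω : Type v} [Fintype Ω] [DecidableEq Ω] [MulAction G Ω]
  [MulAction.IsPretransitive G Ω]

/-- `h0`: the pairs `(γ, x γ)` are distributed among the non-trivial orbitals -/
theorem sum_cnt {α₀ : Ω} [Fintype (OIdx G α₀)] [Nonempty (OIdx G α₀)] (x : G)
    (hx : ∀ γ : Ω, x • γ ≠ γ) :
    ∑ i : OIdx G α₀, cnt G α₀ (rep i) x = Fintype.card Ω := by
  simp only [cnt_eq_sum]
  rw [Finset.sum_comm]
  have h1 : ∀ γ : Ω, ∑ i : OIdx G α₀, (if orbitalRel G α₀ (rep i) γ (x • γ) then 1 else 0) = 1 := by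
    intro γ
    exact sum_orbital γ (x • γ) (hx γ).symm (fun _ => 1)
  rw [Finset.sum_congr rfl (fun γ _ => h1 γ)]
  simp

/-- `h5`: the valencies add up to `|Ω| - 1` -/
theorem sum_valency {α₀ : Ω} [Fintype (OIdx G α₀)] [Nonempty (OIdx G α₀)] :
    ∑ i : OIdx G α₀, Nat.card (MulAction.orbit (MulAction.stabilizer G α₀) (rep i)) =
      Fintype.card Ω - 1 := by
  have h1 : ∀ i : OIdx G α₀, Nat.card (MulAction.orbit (MulAction.stabilizer G α₀) (rep i)) =
      ∑ δ : Ω, (if orbitalRel G α₀ (rep i) α₀ δ then 1 else 0) := by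
    intro i
    rw [← orbitalRel_card α₀ (rep i) α₀, Finset.sum_boole]
    simp
  rw [Finset.sum_congr rfl (fun i _ => h1 i), Finset.sum_comm]
  have h2 : ∀ δ : Ω, ∑ i : OIdx G α₀, (if orbitalRel G α₀ (rep i) α₀ δ then 1 else 0) =
      if δ = α₀ then 0 else 1 := by
    intro δ
    by_cases hδ : δ = α₀
    · rw [if_pos hδ, hδ]
      exact sum_orbital_diag α₀ (fun _ => 1)
    · rw [if_neg hδ]
      exact sum_orbital α₀ δ (fun h => hδ h.symm) (fun _ => 1)
  rw [Finset.sum_congr rfl (fun δ _ => h2 δ)]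
  rw [Finset.sum_ite, Finset.sum_const_zero, zero_add, Finset.sum_const, smul_eq_mul, mul_one]
  have : (Finset.univ.filter (fun δ : Ω => ¬ δ = α₀)) = Finset.univ.erase α₀ := by
    ext δ
    simp
  rw [this, Finset.card_erase_of_mem (Finset.mem_univ _), Finset.card_univ]

/-- `h3`: the sum of the entries along `(γ, x γ)` in terms of the orbitals -/
theorem sum_ent_cnt {α₀ : Ω} [Fintype (OIdx G α₀)] [Nonempty (OIdx G α₀)] (χ₁ : G → ℂ)
    (hsmul : ∀ (g : G) (α β : Ω), ent χ₁ (g • α) (g • β) = ent χ₁ α β) (x : G)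
    (hx : ∀ γ : Ω, x • γ ≠ γ) :
    ∑ γ : Ω, ent χ₁ γ (x • γ) =
      ∑ i : OIdx G α₀, ent χ₁ α₀ (rep i) * (cnt G α₀ (rep i) x : ℂ) := by
  have h1 : ∀ γ : Ω, ent χ₁ γ (x • γ) =
      ∑ i : OIdx G α₀, (if orbitalRel G α₀ (rep i) γ (x • γ) then ent χ₁ α₀ (rep i) else 0) := by
    intro γ
    rw [sum_orbital γ (x • γ) (hx γ).symm (fun i => ent χ₁ α₀ (rep i))]
    obtain ⟨g, hg1, hg2⟩ := orbitalRel_idx (G := G) (α₀ := α₀) γ (x • γ) (hx γ).symm
    rw [← hsmul g α₀ (rep (idx γ (x • γ))), hg1, hg2]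
  rw [Finset.sum_congr rfl (fun γ _ => h1 γ), Finset.sum_comm]
  apply Finset.sum_congr rfl
  intro i _
  rw [cnt_eq_sum, Nat.cast_sum, Finset.mul_sum]
  apply Finset.sum_congr rfl
  intro γ _
  split_ifs <;> simp

end counting

section valency

variable {G : Type u} [Group G] [Fintype G] {Ω : Type v} [Fintype Ω] [DecidableEq Ω] [MulAction G Ω]

/-- `h4`: no non-trivial suborbit of length one -/
theorem two_le_valency {p : ℕ} (hp : p.Prime) [FaithfulSMul G Ω] (hcard : Fintype.card Ω = 2 * p)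
    (hprim : MulAction.IsPreprimitive G Ω) (P : Subgroup G) (hP : Nat.card P = p) (α₀ b : Ω)
    (hb : b ≠ α₀) : 2 ≤ Nat.card (MulAction.orbit (MulAction.stabilizer G α₀) b) := by
  set H := MulAction.stabilizer G α₀ with hH
  have htr : MulAction.IsPretransitive G Ω := hprim.toIsPretransitive
  by_contra hlt
  push Not at hlt
  have hne : Nonempty (MulAction.orbit H b) := ⟨⟨b, MulAction.mem_orbit_self b⟩⟩
  have hpos : 0 < Nat.card (MulAction.orbit H b) := Nat.card_pos
  have h1 : Nat.card (MulAction.orbit H b) = 1 := by omega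
  have hfix : ∀ h ∈ H, h • b = b := by
    intro h hh
    rw [Nat.card_eq_one_iff_unique] at h1
    obtain ⟨hsub, _⟩ := h1
    have := hsub.elim ⟨(⟨h, hh⟩ : H) • b, MulAction.mem_orbit b _⟩ ⟨b, MulAction.mem_orbit_self b⟩
    exact congrArg Subtype.val this
  have hall := fun x => stabilizer_fixes_all α₀ b hb hfix x
  have hbot : H = ⊥ := by
    rw [Subgroup.eq_bot_iff_forall]
    intro h hh
    apply FaithfulSMul.eq_of_smul_eq_smul (α := Ω)
    intro x
    rw [one_smul]
    exact hall x h hh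
  have : Nontrivial Ω := ⟨⟨b, α₀, hb⟩⟩
  have hco := MulAction.IsPreprimitive.isCoatom_stabilizer_of_isPreprimitive (G := G) α₀
  rw [← hH, hbot] at hco
  have hPne : P ≠ ⊥ := by
    intro h
    rw [h, Subgroup.card_bot] at hP
    exact hp.one_lt.ne hP
  have hPtop : P = ⊤ := hco.2 P (bot_lt_iff_ne_bot.mpr hPne)
  have hsurj : Function.Surjective (fun y : P => (y : G) • α₀) := by
    intro ω
    obtain ⟨g, hg⟩ := MulAction.exists_smul_eq G α₀ ω
    exact ⟨⟨g, by rw [hPtop]; trivial⟩, hg⟩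
  have hle := Nat.card_le_card_of_surjective _ hsurj
  rw [hP, Nat.card_eq_fintype_card, hcard] at hle
  have := hp.pos
  omega

end valency

end Cfsg.Agent.Lib.Helper5.W2PORBb
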