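/-
helper5: S0720 / W2P market (planner helper19), leaf W2P-ORB, part c: from the conclusion of ARITH to `OrbData`.
-/
import Mathlib
import Cfsg.Agent.Lib.Helper19.W2PDefs
import Cfsg.Agent.Lib.Helper5.W2PORBa
import Cfsg.Agent.Lib.Helper5.W2PORBb

set_option autoImplicit false
set_option linter.unusedSectionVars false

namespace Cfsg.Agent.Lib.Helper5.W2PORBc

open Cfsg Cfsg.Agent.CharLib Cfsg.Agent.Lib.Helper19.CentAlg Cfsg.Agent.Lib.Helper19.W2P
open Cfsg.Agent.Lib.Helper5.W2PORBa Cfsg.Agent.Lib.Helper5.W2PORBb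

universe u v w

open scoped Classical

variable {G : Type u} [Group G] [Fintype G] {Ω : Type v} [Fintype Ω] [DecidableEq Ω] [MulAction G Ω]
  [MulAction.IsPretransitive G Ω]

theorem orbData_of_arith {p : ℕ} (hp : p.Prime) (hcard : Fintype.card Ω = 2 * p) (P : Subgroup G)
    (χ₁ : G → ℂ) (α₀ : Ω) [Fintype (OIdx G α₀)]
    (hsmul : ∀ (g : G) (α β : Ω), ent χ₁ (g • α) (g • β) = ent χ₁ α β)
    (hdiag : ∀ α : Ω, ent χ₁ α α = 1 / 2)
    (r : OIdx G α₀ → ℤ)
    (hval : ∀ i : OIdx G α₀, ent χ₁ α₀ (rep i) *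
      (2 * Nat.card (MulAction.orbit (MulAction.stabilizer G α₀) (rep i))) = r i)
    (hsym : ∀ i : OIdx G α₀, ent χ₁ (rep i) α₀ = ent χ₁ α₀ (rep i))
    (hadj : ∀ i : OIdx G α₀, adjEnd (orbitalRel G α₀ (rep i)) ∘ₗ idemEnd χ₁ =
      (r i : ℂ) • idemEnd (Ω := Ω) χ₁)
    {X : Type w} [Fintype X] (xg : X → G) (hxinj : Function.Injective xg)
    (hxP : ∀ x, xg x ∈ P ∧ xg x ≠ 1) (hxsurj : ∀ g ∈ P, g ≠ 1 → ∃ x, xg x = g)
    (hfree : ∀ (x : X) (γ : Ω), xg x • γ ≠ γ)
    (c : OIdx G α₀ → X → ℕ) (hc : ∀ i x, cnt G α₀ (rep i) (xg x) = p * c i x)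
    (h0 : ∀ x, ∑ i, c i x = 2)
    (a : ℕ) (ip im : OIdx G α₀) (ha : 0 < a) (hne : ip ≠ im) (hrp : r ip = a)
    (hnp : Nat.card (MulAction.orbit (MulAction.stabilizer G α₀) (rep ip)) = a * (2 * a + 1))
    (hrm : r im = -((a : ℤ) + 1))
    (hnm : Nat.card (MulAction.orbit (MulAction.stabilizer G α₀) (rep im)) = (a + 1) * (2 * a + 1))
    (hcc : ∀ x, c ip x = c im x ∧ c ip x ≤ 1)
    (hScard : Nat.card {x // c ip x = 1} = 2 * a * (a + 1))
    (hrest : ∀ i, i ≠ ip → i ≠ im → r i = 0 ∧ (∀ x, c i x = 0 ∨ c i x = 2) ∧ ∃ x, c i x = 2) :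
    OrbData (Ω := Ω) P χ₁ a {g : G | ∃ x, xg x = g ∧ c ip x = 1} := by
  have : Nonempty (OIdx G α₀) := ⟨ip⟩
  have hp0 : 0 < p := hp.pos
  set v : ℂ := 1 / (2 * (2 * (a : ℂ) + 1)) with hv
  have ha0 : (a : ℂ) ≠ 0 := by exact_mod_cast ha.ne'
  have ha1 : (a : ℂ) + 1 ≠ 0 := by exact_mod_cast (Nat.succ_ne_zero a)
  have h2a1 : 2 * (a : ℂ) + 1 ≠ 0 := by exact_mod_cast (by omega : 2 * a + 1 ≠ 0)
  have hden : 2 * (2 * (a : ℂ) + 1) ≠ 0 := mul_ne_zero two_ne_zero h2a1
  have hv0 : v ≠ 0 := by rw [hv]; exact one_div_ne_zero hden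
  have hvhalf : v ≠ 1 / 2 := by
    intro h
    rw [hv, div_eq_div_iff hden two_ne_zero] at h
    have h2 : ((2 : ℕ) : ℂ) = ((2 * (2 * a + 1) : ℕ) : ℂ) := by push_cast; linear_combination h
    have h3 : 2 = 2 * (2 * a + 1) := by exact_mod_cast h2
    omega
  have hnvhalf : -v ≠ 1 / 2 := by
    intro h
    have h1 : v = -(1 / 2) := by rw [← h]; ring
    rw [hv, eq_neg_iff_add_eq_zero, div_add_div _ _ hden two_ne_zero, div_eq_zero_iff] at h1
    rcases h1 with h1 | h1
    · have h2 : ((2 * a + 2 : ℕ) : ℂ) = 0 := by push_cast; linear_combination (1 / 2 : ℂ) * h1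
      have h3 : 2 * a + 2 = 0 := by exact_mod_cast h2
      omega
    · exact (mul_ne_zero hden two_ne_zero) h1
  -- the values of the entries on the orbitals
  have hvalp : ent χ₁ α₀ (rep ip) = v := by
    have h := hval ip
    rw [hnp, hrp] at h
    push_cast at h
    have h3 : (a : ℂ) * (ent χ₁ α₀ (rep ip) * (2 * (2 * (a : ℂ) + 1))) = (a : ℂ) * 1 := by
      linear_combination h
    have h4 := mul_left_cancel₀ ha0 h3
    rw [hv, eq_div_iff hden]
    exact h4
  have hvalm : ent χ₁ α₀ (rep im) = -v := by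
    have h := hval im
    rw [hnm, hrm] at h
    push_cast at h
    have h3 : ((a : ℂ) + 1) * (ent χ₁ α₀ (rep im) * (2 * (2 * (a : ℂ) + 1))) = ((a : ℂ) + 1) * (-1) := by
      linear_combination h
    have h4 := mul_left_cancel₀ ha1 h3
    rw [hv, neg_div' , eq_div_iff hden]
    exact h4
  have hval0 : ∀ j, j ≠ ip → j ≠ im → ent χ₁ α₀ (rep j) = 0 := by
    intro j hj1 hj2
    have h := hval j
    rw [(hrest j hj1 hj2).1] at h
    have hn0 : (Nat.card (MulAction.orbit (MulAction.stabilizer G α₀) (rep j)) : ℂ) ≠ 0 := by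
      have : Nonempty (MulAction.orbit (MulAction.stabilizer G α₀) (rep j)) :=
        ⟨⟨rep j, MulAction.mem_orbit_self _⟩⟩
      exact_mod_cast (Nat.card_pos (α := MulAction.orbit (MulAction.stabilizer G α₀) (rep j))).ne'
    push_cast at h
    rcases mul_eq_zero.mp h with h1 | h1
    · exact h1
    · exact absurd h1 (mul_ne_zero two_ne_zero hn0)
  -- entries off the diagonal
  have hent : ∀ γ δ : Ω, γ ≠ δ → ent χ₁ γ δ = ent χ₁ α₀ (rep (idx (G := G) (α₀ := α₀) γ δ)) := by
    intro γ δ h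
    obtain ⟨g, hg1, hg2⟩ := orbitalRel_idx (G := G) (α₀ := α₀) γ δ h
    rw [← hsmul g α₀ (rep (idx γ δ)), hg1, hg2]
  have hcases : ∀ γ δ : Ω, γ ≠ δ →
      (idx (G := G) (α₀ := α₀) γ δ = ip ∧ ent χ₁ γ δ = v) ∨
      (idx (G := G) (α₀ := α₀) γ δ = im ∧ ent χ₁ γ δ = -v) ∨
      (idx (G := G) (α₀ := α₀) γ δ ≠ ip ∧ idx (G := G) (α₀ := α₀) γ δ ≠ im ∧ ent χ₁ γ δ = 0) := by
    intro γ δ h
    by_cases h1 : idx (G := G) (α₀ := α₀) γ δ = ip
    · left; exact ⟨h1, by rw [hent γ δ h, h1, hvalp]⟩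
    · by_cases h2 : idx (G := G) (α₀ := α₀) γ δ = im
      · right; left; exact ⟨h2, by rw [hent γ δ h, h2, hvalm]⟩
      · right; right; exact ⟨h1, h2, by rw [hent γ δ h, hval0 _ h1 h2]⟩
  have hnvv : -v ≠ v := by
    intro h
    apply hv0
    have : 2 * v = 0 := by linear_combination -h
    rcases mul_eq_zero.mp this with h1 | h1
    · exact absurd h1 two_ne_zero
    · exact h1
  have hiffp : ∀ α β : Ω, ent χ₁ α β = v ↔ orbitalRel G α₀ (rep ip) α β := by
    intro α β
    constructor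
    · intro h
      have hαβ : α ≠ β := by
        intro h1
        rw [h1, hdiag] at h
        exact hvhalf h.symm
      rcases hcases α β hαβ with ⟨h1, _⟩ | ⟨_, h2⟩ | ⟨_, _, h2⟩
      · rw [← h1]; exact orbitalRel_idx α β hαβ
      · rw [h] at h2; exact absurd h2.symm hnvv
      · rw [h] at h2; exact absurd h2 hv0
    · intro h
      have hαβ := ne_of_orbitalRel ip α β h
      have h1 := (orbitalRel_iff_idx α β hαβ ip).mp h
      rw [hent α β hαβ, ← h1, hvalp]
  have hiffm : ∀ α β : Ω, ent χ₁ α β = -v ↔ orbitalRel G α₀ (rep im) α β := by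
    intro α β
    constructor
    · intro h
      have hαβ : α ≠ β := by
        intro h1
        rw [h1, hdiag] at h
        exact hnvhalf h.symm
      rcases hcases α β hαβ with ⟨_, h2⟩ | ⟨h1, _⟩ | ⟨_, _, h2⟩
      · rw [h] at h2; exact absurd h2 hnvv
      · rw [← h1]; exact orbitalRel_idx α β hαβ
      · rw [h] at h2; exact absurd h2 (neg_ne_zero.mpr hv0)
    · intro h
      have hαβ := ne_of_orbitalRel im α β h
      have h1 := (orbitalRel_iff_idx α β hαβ im).mp h
      rw [hent α β hαβ, ← h1, hvalm]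
  have hcardrel : ∀ (i : OIdx G α₀) (α : Ω) (u : ℂ), (∀ β, ent χ₁ α β = u ↔ orbitalRel G α₀ (rep i) α β) →
      Nat.card {β : Ω // ent χ₁ α β = u} =
        Nat.card (MulAction.orbit (MulAction.stabilizer G α₀) (rep i)) := by
    intro i α u h
    rw [← orbitalRel_card α₀ (rep i) α, Nat.card_eq_fintype_card, Fintype.card_subtype]
    congr 1
    ext β
    simp only [Finset.mem_filter, Finset.mem_univ, true_and]
    exact h β
  have horbrel : ∀ (i : OIdx G α₀) (α β α' β' : Ω), orbitalRel G α₀ (rep i) α β →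
      orbitalRel G α₀ (rep i) α' β' → ∃ g : G, g • α = α' ∧ g • β = β' := by
    rintro i α β α' β' ⟨g, rfl, rfl⟩ ⟨g', rfl, rfl⟩
    exact ⟨g' * g⁻¹, by rw [mul_smul, inv_smul_smul], by rw [mul_smul, inv_smul_smul]⟩
  -- counting facts
  have hcpos : ∀ (i : OIdx G α₀) (x : X) (γ : Ω), orbitalRel G α₀ (rep i) γ (xg x • γ) → 1 ≤ c i x := by
    intro i x γ h
    have h1 := cnt_pos_of α₀ (rep i) (xg x) γ h
    rw [hc] at h1
    by_contra h2
    push Not at h2
    have : c i x = 0 := by omega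
    rw [this, mul_zero] at h1
    exact lt_irrefl _ h1
  have hcall : ∀ (i : OIdx G α₀) (x : X), c i x = 2 → ∀ γ : Ω, orbitalRel G α₀ (rep i) γ (xg x • γ) := by
    intro i x h γ
    apply forall_of_cnt_eq
    rw [hc, h, hcard, mul_comm]
  have hthree : ∀ (x : X) (j : OIdx G α₀), j ≠ ip → j ≠ im → c ip x + c im x + c j x ≤ 2 := by
    intro x j hj1 hj2
    rw [← h0 x]
    have hsub : ({ip, im, j} : Finset (OIdx G α₀)) ⊆ Finset.univ := Finset.subset_univ _
    have h1 := Finset.sum_le_sum_of_subset (f := fun i => c i x) hsub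
    have h2 : ∑ i ∈ ({ip, im, j} : Finset (OIdx G α₀)), c i x = c ip x + c im x + c j x := by
      rw [Finset.sum_insert, Finset.sum_insert, Finset.sum_singleton, add_assoc]
      · simp only [Finset.mem_singleton]
        exact fun h => hj2 h.symm
      · simp only [Finset.mem_insert, Finset.mem_singleton]
        rintro (h | h)
        · exact hne h
        · exact hj1 h.symm
    rw [h2] at h1
    exact h1
  refine
    { apos := ha
      S_sub := ?_
      S_card := ?_
      ent_smul := hsmul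
      ent_symm := ?_
      ent_diag := hdiag
      ent_vals := ?_
      card_pos := ?_
      card_neg := ?_
      orb_pos := ?_
      orb_neg := ?_
      supp := ?_
      type0 := ?_
      type0_surj := ?_
      kill := ?_ }
  · -- S_sub
    rintro g ⟨x, rfl, _⟩
    exact hxP x
  · -- S_card
    rw [← hScard]
    apply Nat.card_congr
    refine Equiv.ofBijective (fun s => ⟨s.2.choose, s.2.choose_spec.2⟩) ⟨?_, ?_⟩
    · intro s s' h
      apply Subtype.ext
      have h1 := congrArg Subtype.val h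
      simp only at h1
      rw [← s.2.choose_spec.1, ← s'.2.choose_spec.1, h1]
    · rintro ⟨x, hx⟩
      refine ⟨⟨xg x, x, rfl, hx⟩, ?_⟩
      apply Subtype.ext
      simp only
      apply hxinj
      exact (Exists.choose_spec (⟨x, rfl, hx⟩ : ∃ x', xg x' = xg x ∧ c ip x' = 1)).1
  · -- ent_symm
    intro α β
    by_cases h : α = β
    · rw [h]
    · obtain ⟨g, hg1, hg2⟩ := orbitalRel_idx (G := G) (α₀ := α₀) α β h
      rw [← hg1, ← hg2, hsmul, hsmul, hsym]
  · -- ent_vals
    intro α β h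
    rcases hcases α β h with ⟨_, h2⟩ | ⟨_, h2⟩ | ⟨_, _, h2⟩
    · right; left; exact h2
    · right; right; exact h2
    · left; exact h2
  · -- card_pos
    intro α
    rw [hcardrel ip α v (hiffp α), hnp]
  · -- card_neg
    intro α
    rw [hcardrel im α (-v) (hiffm α), hnm]
  · -- orb_pos
    intro α β α' β' h h'
    exact horbrel ip α β α' β' ((hiffp α β).mp h) ((hiffp α' β').mp h')
  · -- orb_neg
    intro α β α' β' h h'
    exact horbrel im α β α' β' ((hiffm α β).mp h) ((hiffm α' β').mp h')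
  · -- supp
    intro g hg hg1 γ
    obtain ⟨x, rfl⟩ := hxsurj g hg hg1
    have hγ : γ ≠ xg x • γ := (hfree x γ).symm
    have hrel := orbitalRel_idx (G := G) (α₀ := α₀) γ (xg x • γ) hγ
    constructor
    · intro h
      refine ⟨x, rfl, ?_⟩
      have h1 := (hcc x).2
      rcases hcases γ (xg x • γ) hγ with ⟨hi, _⟩ | ⟨hi, _⟩ | ⟨_, _, h2⟩
      · rw [hi] at hrel
        have := hcpos ip x γ hrel
        omega
      · rw [hi] at hrel
        have := hcpos im x γ hrel
        have := (hcc x).1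
        omega
      · exact absurd h2 h
    · rintro ⟨x', hx', hx'1⟩
      have hxx : x' = x := hxinj hx'
      rw [hxx] at hx'1
      rcases hcases γ (xg x • γ) hγ with ⟨_, h2⟩ | ⟨_, h2⟩ | ⟨hi1, hi2, _⟩
      · rw [h2]; exact hv0
      · rw [h2]; exact neg_ne_zero.mpr hv0
      · exfalso
        have h3 := hthree x _ hi1 hi2
        have h4 := hcpos _ x γ hrel
        have := (hcc x).1
        omega
  · -- type0
    intro g hg hg1 hgS γ γ'
    obtain ⟨x, rfl⟩ := hxsurj g hg hg1
    have hcp : c ip x = 0 := by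
      have h1 := (hcc x).2
      have h2 : c ip x ≠ 1 := fun h => hgS ⟨x, rfl, h⟩
      omega
    have hcm : c im x = 0 := by rw [← (hcc x).1]; exact hcp
    obtain ⟨j, hj⟩ : ∃ j, c j x ≠ 0 := by
      by_contra hcon
      push Not at hcon
      have := h0 x
      rw [Finset.sum_eq_zero (fun i _ => hcon i)] at this
      omega
    have hj1 : j ≠ ip := fun h => hj (h ▸ hcp)
    have hj2 : j ≠ im := fun h => hj (h ▸ hcm)
    have hj3 : c j x = 2 := by
      rcases (hrest j hj1 hj2).2.1 x with h | h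
      · exact absurd h hj
      · exact h
    exact horbrel j γ (xg x • γ) γ' (xg x • γ') (hcall j x hj3 γ) (hcall j x hj3 γ')
  · -- type0_surj
    intro α β hαβ h
    rcases hcases α β hαβ with ⟨_, h2⟩ | ⟨_, h2⟩ | ⟨hi1, hi2, _⟩
    · rw [h] at h2; exact absurd h2.symm hv0
    · rw [h] at h2; exact absurd h2.symm (neg_ne_zero.mpr hv0)
    · obtain ⟨x, hx⟩ := (hrest _ hi1 hi2).2.2
      refine ⟨xg x, (hxP x).1, (hxP x).2, ?_, ?_⟩
      · rintro ⟨x', hx', hx'1⟩
        have hxx : x' = x := hxinj hx'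
        rw [hxx] at hx'1
        have := hthree x _ hi1 hi2
        omega
      · have h1 := hcall _ x hx α
        have h2 := orbitalRel_idx (G := G) (α₀ := α₀) α β hαβ
        exact horbrel _ α (xg x • α) α β h1 h2
  · -- kill
    intro α γ
    have hsplit : ∀ β : Ω, (if ent χ₁ α β ≠ 0 then ent χ₁ β γ else 0) =
        (if β = α then ent χ₁ β γ else 0) + (if orbitalRel G α₀ (rep ip) α β then ent χ₁ β γ else 0) +
          (if orbitalRel G α₀ (rep im) α β then ent χ₁ β γ else 0) := by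
      intro β
      by_cases hβ : β = α
      · subst hβ
        have h1 : ent χ₁ β β ≠ 0 := by rw [hdiag]; norm_num
        have h2 : ¬ orbitalRel G α₀ (rep ip) β β := fun h => ne_of_orbitalRel ip β β h rfl
        have h3 : ¬ orbitalRel G α₀ (rep im) β β := fun h => ne_of_orbitalRel im β β h rfl
        rw [if_pos h1, if_pos rfl, if_neg h2, if_neg h3, add_zero, add_zero]
      · have hαβ : α ≠ β := fun h => hβ h.symm
        rw [if_neg hβ, zero_add]
        rcases hcases α β hαβ with ⟨hi, h2⟩ | ⟨hi, h2⟩ | ⟨hi1, hi2, h2⟩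
        · have h3 : orbitalRel G α₀ (rep ip) α β := (hiffp α β).mp h2
          have h4 : ¬ orbitalRel G α₀ (rep im) α β := by
            intro h5
            exact hne (orbitalRel_iff ip im α β h3 h5)
          rw [if_pos (by rw [h2]; exact hv0), if_pos h3, if_neg h4, add_zero]
        · have h3 : orbitalRel G α₀ (rep im) α β := (hiffm α β).mp h2
          have h4 : ¬ orbitalRel G α₀ (rep ip) α β := by
            intro h5
            exact hne (orbitalRel_iff ip im α β h5 h3)
          rw [if_pos (by rw [h2]; exact neg_ne_zero.mpr hv0), if_pos h3, if_neg h4, zero_add]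
        · have h3 : ¬ orbitalRel G α₀ (rep ip) α β := by
            intro h5
            exact hi1 ((orbitalRel_iff_idx α β hαβ ip).mp h5).symm
          have h4 : ¬ orbitalRel G α₀ (rep im) α β := by
            intro h5
            exact hi2 ((orbitalRel_iff_idx α β hαβ im).mp h5).symm
          rw [if_neg (by rw [h2]; exact fun h => h rfl), if_neg h3, if_neg h4, add_zero]
    rw [Finset.sum_congr rfl (fun β _ => hsplit β), Finset.sum_add_distrib, Finset.sum_add_distrib]
    have hadjapp : ∀ i : OIdx G α₀, ∑ β : Ω, (if orbitalRel G α₀ (rep i) α β then ent χ₁ β γ else 0) =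
        (r i : ℂ) * ent χ₁ α γ := by
      intro i
      have h1 := LinearMap.congr_fun (hadj i) (Pi.single γ (1 : ℂ))
      have h2 := congrFun h1 α
      rw [LinearMap.comp_apply, adjEnd_apply] at h2
      exact h2
    rw [hadjapp ip, hadjapp im, hrp, hrm, Finset.sum_ite_eq' Finset.univ α (fun β => ent χ₁ β γ)]
    simp only [Finset.mem_univ, if_true]
    push_cast
    ring

end Cfsg.Agent.Lib.Helper5.W2PORBc
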