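/-
helper5: S0720 / W2P market (planner helper19), leaf W2P-ORB `exists_orbData` (exact name + binders).
Assembly of MOM + DIAG (helper19) + ARITH (helper22) into `OrbData`; the index set of the non-trivial orbitals is
`W2PORBa.OIdx`, the counting lemmas are in `W2PORBb`, the passage from ARITH's conclusion to `OrbData` in `W2PORBc`.
-/
import Mathlib
import Cfsg.Agent.Lib.Helper19.W2PDefs
import Cfsg.Agent.Lib.Lead.PermChar
import Cfsg.Agent.Lib.Helper19.W2PMOM
import Cfsg.Agent.Lib.Helper19.W2PMat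
import Cfsg.Agent.Lib.Helper22.W2PARITH
import Cfsg.Agent.Lib.Helper5.W2PORBa
import Cfsg.Agent.Lib.Helper5.W2PORBb
import Cfsg.Agent.Lib.Helper5.W2PORBc

set_option autoImplicit false

namespace Cfsg.Agent.Lib.Helper5.W2PORB

open Cfsg Cfsg.Agent.CharLib Cfsg.Agent.Lib.Helper19.CentAlg Cfsg.Agent.Lib.Helper19.W2P
open Cfsg.Agent.Lib.Helper5.W2PORBa Cfsg.Agent.Lib.Helper5.W2PORBb Cfsg.Agent.Lib.Helper5.W2PORBc

universe u v

section orb

open scoped Classical

variable {G : Type u} [Group G] [Fintype G] {Ω : Type v} [Fintype Ω] [DecidableEq Ω] [MulAction G Ω]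

/-- W2P-ORB: assembly of MOM + DIAG + ARITH. -/
theorem exists_orbData {p : ℕ} (hp : p.Prime) (hodd : p ≠ 2) [FaithfulSMul G Ω]
    (hcard : Fintype.card Ω = 2 * p) (hprim : MulAction.IsPreprimitive G Ω)
    (P : Subgroup G) (hP : Nat.card P = p) (hsemi : Semireg P Ω) (χ₁ : G → ℂ)
    (f : IdemFacts (Ω := Ω) p P χ₁) :
    ∃ (a : ℕ) (S : Set G), OrbData (Ω := Ω) P χ₁ a S := by
  have htr : MulAction.IsPretransitive G Ω := hprim.toIsPretransitive
  have hp0 : 0 < p := hp.pos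
  have hpz : (p : ℤ) ≠ 0 := by exact_mod_cast hp.ne_zero
  have hpc : (p : ℂ) ≠ 0 := by exact_mod_cast hp.ne_zero
  have hΩ : Nonempty Ω := by
    rw [← Fintype.card_pos_iff, hcard]; omega
  obtain ⟨α₀⟩ := hΩ
  letI : Fintype P := Fintype.ofFinite P
  letI : Fintype (OIdx G α₀) := Fintype.ofFinite _
  obtain ⟨hsmul, hdiag, _, _, hPsum⟩ := Cfsg.Agent.Lib.Helper19.W2PMat.ent_facts hp hcard P χ₁ f
  have hmom := fun i : OIdx G α₀ =>
    Cfsg.Agent.Lib.Helper19.W2PMOM.moments hp hodd hcard P hP hsemi χ₁ f α₀ (rep i) (rep_ne i).symm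
  choose r hr1 hr2 hr3 hr4 hr5 hr6 using hmom
  -- the set `X = P ∖ 1`
  set F : Finset P := (Finset.univ : Finset P).filter (fun x : P => x ≠ 1) with hF
  let xg : ↥F → G := fun x => ((x : P) : G)
  have hxinj : Function.Injective xg := fun x y h => Subtype.ext (Subtype.ext h)
  have hxne : ∀ x : ↥F, (x : P) ≠ 1 := fun x => (Finset.mem_filter.mp x.2).2
  have hxP : ∀ x : ↥F, xg x ∈ P ∧ xg x ≠ 1 :=
    fun x => ⟨(x : P).2, fun h => hxne x (Subtype.ext h)⟩
  have hxsurj : ∀ g ∈ P, g ≠ 1 → ∃ x : ↥F, xg x = g := by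
    intro g hg hg1
    exact ⟨⟨⟨g, hg⟩, Finset.mem_filter.mpr
      ⟨Finset.mem_univ _, fun h => hg1 (congrArg Subtype.val h)⟩⟩, rfl⟩
  have hfree : ∀ (x : ↥F) (γ : Ω), xg x • γ ≠ γ := fun x γ => hsemi _ (hxP x).1 (hxP x).2 γ
  have hFcard : Fintype.card ↥F = p - 1 := by
    rw [Fintype.card_coe, hF, Finset.filter_ne' Finset.univ (1 : P),
      Finset.card_erase_of_mem (Finset.mem_univ _), Finset.card_univ, ← Nat.card_eq_fintype_card, hP]
  -- the valencies and the reduced counts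
  set n : OIdx G α₀ → ℕ :=
    fun i => Nat.card (MulAction.orbit (MulAction.stabilizer G α₀) (rep i)) with hn
  let c : OIdx G α₀ → ↥F → ℕ := fun i x => cnt G α₀ (rep i) (xg x) / p
  have hc : ∀ i x, cnt G α₀ (rep i) (xg x) = p * c i x := by
    intro i x
    have h := hr4 i (xg x) (hxP x).1 (hxP x).2
    show _ = p * (cnt G α₀ (rep i) (xg x) / p)
    rcases h with h | h | h
    · rw [h]; simp
    · rw [h, Nat.div_self hp0, mul_one]
    · rw [h, Nat.mul_div_cancel _ hp0, mul_comm]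
  have hIne : Nonempty (OIdx G α₀) := by
    obtain ⟨β, hβ⟩ : ∃ β : Ω, β ≠ α₀ := by
      by_contra hcon
      push Not at hcon
      have : Fintype.card Ω ≤ 1 :=
        Fintype.card_le_one_iff.mpr (fun a b => by rw [hcon a, hcon b])
      omega
    exact ⟨idxPt β hβ⟩
  have hn0 : ∀ i, (n i : ℂ) ≠ 0 := by
    intro i
    have : Nonempty (MulAction.orbit (MulAction.stabilizer G α₀) (rep i)) :=
      ⟨⟨rep i, MulAction.mem_orbit_self _⟩⟩
    exact_mod_cast (Nat.card_pos (α := MulAction.orbit (MulAction.stabilizer G α₀) (rep i))).ne'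
  -- the hypotheses of ARITH
  have h0 : ∀ x : ↥F, ∑ i, c i x = 2 := by
    intro x
    have h1 := sum_cnt (G := G) (α₀ := α₀) (xg x) (hfree x)
    simp only [hc] at h1
    rw [← Finset.mul_sum, hcard] at h1
    have h2 : p * ∑ i, c i x = p * 2 := by rw [h1]; ring
    exact Nat.eq_of_mul_eq_mul_left hp0 h2
  have h1 : ∀ i, ∑ x : ↥F, (c i x : ℤ) = n i + r i := by
    intro i
    have h := hr5 i
    rw [← Finset.sum_coe_sort F] at h
    have h2 : ∀ x : ↥F, (cnt G α₀ (rep i) ((x : P) : G) : ℤ) = (p : ℤ) * (c i x : ℤ) := by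
      intro x
      have := hc i x
      show ((cnt G α₀ (rep i) (xg x) : ℕ) : ℤ) = _
      rw [this]; push_cast; ring
    rw [Finset.sum_congr rfl (fun x _ => h2 x), ← Finset.mul_sum] at h
    exact mul_left_cancel₀ hpz h
  have h2 : ∀ i, ∑ x : ↥F, (c i x : ℤ) ^ 2 = 2 * n i - 2 * r i ^ 2 := by
    intro i
    have h := hr6 i
    rw [← Finset.sum_coe_sort F] at h
    have h2 : ∀ x : ↥F, (cnt G α₀ (rep i) ((x : P) : G) : ℤ) ^ 2 = (p : ℤ) ^ 2 * (c i x : ℤ) ^ 2 := by
      intro x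
      have := hc i x
      show ((cnt G α₀ (rep i) (xg x) : ℕ) : ℤ) ^ 2 = _
      rw [this]; push_cast; ring
    rw [Finset.sum_congr rfl (fun x _ => h2 x), ← Finset.mul_sum] at h
    exact mul_left_cancel₀ (pow_ne_zero 2 hpz) h
  have h3 : ∀ x : ↥F, ∑ i, (r i : ℚ) / n i * c i x = 0 := by
    intro x
    have hs := sum_ent_cnt (G := G) (α₀ := α₀) χ₁ hsmul (xg x) (hfree x)
    rw [hPsum (xg x) (hxP x).1 (hxP x).2] at hs
    have hterm : ∀ i : OIdx G α₀, ent χ₁ α₀ (rep i) * (cnt G α₀ (rep i) (xg x) : ℂ) =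
        ((p : ℂ) / 2) * ((r i : ℂ) / (n i : ℂ) * (c i x : ℂ)) := by
      intro i
      have he : ent χ₁ α₀ (rep i) = (r i : ℂ) / (2 * (n i : ℂ)) := by
        rw [eq_div_iff (mul_ne_zero two_ne_zero (hn0 i))]
        exact hr1 i
      rw [he, hc i x]
      push_cast
      field_simp
    rw [Finset.sum_congr rfl (fun i _ => hterm i), ← Finset.mul_sum] at hs
    have hC : ∑ i, (r i : ℂ) / (n i : ℂ) * (c i x : ℂ) = 0 := by
      rcases mul_eq_zero.mp hs.symm with h | h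
      · exact absurd h (div_ne_zero hpc two_ne_zero)
      · exact h
    have hQ : ((∑ i, (r i : ℚ) / n i * c i x : ℚ) : ℂ) = 0 := by
      push_cast
      exact hC
    exact_mod_cast hQ
  have h4 : ∀ i, 2 ≤ n i := fun i => two_le_valency hp hcard hprim P hP α₀ (rep i) (rep_ne i)
  have h5 : ∑ i, n i = 2 * Fintype.card ↥F + 1 := by
    rw [hFcard]
    have := sum_valency (G := G) (α₀ := α₀)
    rw [hcard] at this
    rw [this]
    omega
  obtain ⟨a, ip, im, ha, hne, hrp, hnp, hrm, hnm, hcc, hScard, hrest⟩ :=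
    Cfsg.Agent.Lib.Helper22.W2PARITH.arith n r c h0 h1 h2 h3 h4 h5
  refine ⟨a, {g : G | ∃ x, xg x = g ∧ c ip x = 1}, ?_⟩
  exact orbData_of_arith hp hcard P χ₁ α₀ hsmul hdiag r hr1 hr2 hr3 xg hxinj hxP hxsurj hfree c hc h0
    a ip im ha hne hrp hnp hrm hnm hcc (by rw [Nat.card_eq_fintype_card]; exact hScard) hrest

end orb

end Cfsg.Agent.Lib.Helper5.W2PORB
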