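/-
S0999 + S4701 (BR core, planner helper24), leaf BRC-COL (frozen statements in notes/S0999_leaves.lean):
column orthogonality in `finsum` form.
-/
import Mathlib
import Cfsg.Prelude.Def_BlockRank
import Cfsg.Prelude.Def_Perm
import Cfsg.Agent.Lib.Helper24.BRCDefs
import Cfsg.Agent.Lib.Lead.CharMain

set_option autoImplicit false

namespace Cfsg.Agent.Lib.Helper5.BRCCOL

open Cfsg Cfsg.Agent.Lib.Helper8.DOM Cfsg.Agent.Lib.Helper27.DO Cfsg.Agent.CharLib
open Cfsg.Agent.Lib.Helper6.BRH Cfsg.Agent.Lib.Helper24.BRC
open scoped ComplexConjugate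

universe u

variable {G : Type u} [Group G] [Finite G] {p : ℕ} [Fact p.Prime]

theorem classIndicator_self' (h : G) : classIndicator h h = 1 := by
  classical
  unfold classIndicator
  rw [if_pos (IsConj.refl h)]

theorem classIndicator_of_not' {h x : G} (hx : ¬ IsConj x h) : classIndicator h x = 0 := by
  classical
  unfold classIndicator
  rw [if_neg hx]

/-- **BRC-COL** (a).  Column orthogonality, diagonal. -/
theorem sum_normSq_eq_card_centralizer (g : G) :
    ∑ᶠ χ : IrrCharacter G, Complex.normSq ((χ : G → ℂ) g) =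
      (Nat.card (Subgroup.centralizer ({g} : Set G)) : ℝ) := by
  classical
  let _ : Fintype G := Fintype.ofFinite G
  let _ := fintypeIrr G
  rw [finsum_eq_sum_of_fintype]
  apply Complex.ofReal_injective
  have h := sum_irr_mul_conj g g
  rw [classIndicator_self', one_mul] at h
  simp only [Complex.mul_conj] at h
  rw [Complex.ofReal_sum, Complex.ofReal_natCast]
  exact h

/-- **BRC-COL** (b).  Column orthogonality, off the diagonal. -/
theorem sum_mul_conj_eq_zero (g h : G) (hgh : ¬ IsConj g h) :
    ∑ᶠ χ : IrrCharacter G, (χ : G → ℂ) g * conj ((χ : G → ℂ) h) = 0 := by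
  classical
  let _ : Fintype G := Fintype.ofFinite G
  let _ := fintypeIrr G
  rw [finsum_eq_sum_of_fintype, sum_irr_mul_conj, classIndicator_of_not' hgh, zero_mul]

end Cfsg.Agent.Lib.Helper5.BRCCOL
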