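/-
S0999 + S4701 (BR core, planner helper24), leaf BRC-CNTRIV (frozen statements in notes/S0999_leaves.lean):
`⟨1_G|_N, 1_N⟩ = 1`, and the multiplicities are invariant under complex conjugation.
-/
import Mathlib
import Cfsg.Prelude.Def_BlockRank
import Cfsg.Prelude.Def_Perm
import Cfsg.Agent.Lib.Helper24.BRCDefs
import Cfsg.Agent.Lib.Helper10.BRHROW

set_option autoImplicit false

namespace Cfsg.Agent.Lib.Helper5.BRCCNTRIV

open Cfsg Cfsg.Agent.Lib.Helper8.DOM Cfsg.Agent.Lib.Helper27.DO Cfsg.Agent.CharLib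
open Cfsg.Agent.Lib.Helper6.BRH Cfsg.Agent.Lib.Helper24.BRC
open scoped ComplexConjugate

universe u

variable {G : Type u} [Group G] [Finite G] {p : ℕ} [Fact p.Prime]

/-- **BRC-CNTRIV** (a). -/
theorem cN_triv (P : Subgroup G) : cN P (trivIrr G) (trivIrr ↥(Nz P)) = 1 := by
  classical
  letI : Fintype (Nz P) := Fintype.ofFinite (Nz P)
  have h : mult (Nz P) ((trivIrr G : IrrCharacter G) : G → ℂ)
      ((trivIrr ↥(Nz P) : IrrCharacter ↥(Nz P)) : ↥(Nz P) → ℂ) = 1 := by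
    rw [Cfsg.Agent.Lib.Helper10.BRHROW.mult_sum]
    have h1 : ∀ y : Nz P, ((trivIrr G : IrrCharacter G) : G → ℂ) (y : G) *
        conj (((trivIrr ↥(Nz P) : IrrCharacter ↥(Nz P)) : ↥(Nz P) → ℂ) y) = 1 := by
      intro y
      have e1 : ((trivIrr G : IrrCharacter G) : G → ℂ) (y : G) = 1 := rfl
      have e2 : ((trivIrr ↥(Nz P) : IrrCharacter ↥(Nz P)) : ↥(Nz P) → ℂ) y = 1 := rfl
      rw [e1, e2, map_one, mul_one]
    simp only [h1]
    rw [Finset.sum_const, Finset.card_univ, nsmul_eq_mul, mul_one, Nat.card_eq_fintype_card]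
    have hne : (Fintype.card ↥(Nz P) : ℂ) ≠ 0 := by
      exact_mod_cast Fintype.card_ne_zero
    exact inv_mul_cancel₀ hne
  unfold cN
  rw [h]
  simp

/-- **BRC-CNTRIV** (b). -/
theorem cN_conj (P : Subgroup G) (χ χ' : IrrCharacter G) (β β' : IrrCharacter (Nz P))
    (hχ : ∀ g : G, (χ' : G → ℂ) g = conj ((χ : G → ℂ) g))
    (hβ : ∀ y : Nz P, (β' : Nz P → ℂ) y = conj ((β : Nz P → ℂ) y)) : cN P χ' β' = cN P χ β := by
  classical
  letI : Fintype (Nz P) := Fintype.ofFinite (Nz P)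
  obtain ⟨n, hn⟩ := Cfsg.Agent.Lib.Helper10.BRHROW.mult_nat (Nz P) (IsIrrCharacter.isCharacter χ.2) β
  have h : mult (Nz P) (χ' : G → ℂ) (β' : Nz P → ℂ) = conj (mult (Nz P) (χ : G → ℂ) (β : Nz P → ℂ)) := by
    rw [Cfsg.Agent.Lib.Helper10.BRHROW.mult_sum, Cfsg.Agent.Lib.Helper10.BRHROW.mult_sum, map_mul, map_sum,
      map_inv₀, Complex.conj_natCast]
    congr 1
    apply Finset.sum_congr rfl
    intro y _
    rw [hχ, hβ, map_mul]
  unfold cN
  rw [h, hn, Complex.conj_natCast]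

end Cfsg.Agent.Lib.Helper5.BRCCNTRIV
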