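/-
S0999 + S4701 (BR core, planner helper24), leaf BRC-INVGE (frozen statements in notes/S0999_leaves.lean):
the class of an involution consists of involutions; equality means one class of involutions.
-/
import Mathlib
import Cfsg.Prelude.Def_BlockRank
import Cfsg.Prelude.Def_Perm
import Cfsg.Agent.Lib.Helper24.BRCDefs
import Cfsg.Agent.Lib.Lead.CharMain

set_option autoImplicit false

namespace Cfsg.Agent.Lib.Helper5.BRCINVGE

open Cfsg Cfsg.Agent.Lib.Helper8.DOM Cfsg.Agent.Lib.Helper27.DO Cfsg.Agent.CharLib
open Cfsg.Agent.Lib.Helper6.BRH Cfsg.Agent.Lib.Helper24.BRC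
open scoped ComplexConjugate

universe u

variable {G : Type u} [Group G] [Finite G] {p : ℕ} [Fact p.Prime]

theorem orderOf_eq_of_isConj {x y : G} (h : IsConj x y) : orderOf x = orderOf y := by
  obtain ⟨c, hc⟩ := isConj_iff.mp h
  rw [← hc]
  have := (MulAut.conj c).orderOf_eq x
  rw [MulAut.conj_apply] at this
  exact this.symm

theorem class_subset_invol (y : G) (hy : orderOf y = 2) :
    {x : G | IsConj x y} ⊆ {g : G | orderOf g = 2} := by
  intro x hx
  show orderOf x = 2
  rw [orderOf_eq_of_isConj hx, hy]

/-- **BRC-INVGE** (a).  The class of an involution consists of involutions. -/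
theorem card_le_invol_mul (y : G) (hy : orderOf y = 2) :
    Nat.card G ≤ Nat.card {g : G // orderOf g = 2} * Nat.card (Subgroup.centralizer ({y} : Set G)) := by
  have h1 := card_conj_mul_card_centralizer y
  rw [← h1]
  apply Nat.mul_le_mul_right
  have h2 : Nat.card {x : G // IsConj x y} = ({x : G | IsConj x y} : Set G).ncard :=
    Nat.card_coe_set_eq _
  have h3 : Nat.card {g : G // orderOf g = 2} = ({g : G | orderOf g = 2} : Set G).ncard :=
    Nat.card_coe_set_eq _
  rw [h2, h3]
  exact Set.ncard_le_ncard (class_subset_invol y hy) (Set.toFinite _)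

/-- **BRC-INVGE** (b).  Equality: all involutions are conjugate. -/
theorem isConj_of_card_eq (y : G) (hy : orderOf y = 2)
    (h : Nat.card G = Nat.card {g : G // orderOf g = 2} * Nat.card (Subgroup.centralizer ({y} : Set G))) :
    ∀ g : G, orderOf g = 2 → IsConj y g := by
  have h1 := card_conj_mul_card_centralizer y
  have hpos : 0 < Nat.card (Subgroup.centralizer ({y} : Set G)) := Nat.card_pos
  have h2 : Nat.card {x : G // IsConj x y} = Nat.card {g : G // orderOf g = 2} := by
    rw [h] at h1
    exact Nat.eq_of_mul_eq_mul_right hpos h1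
  have h3 : Nat.card {x : G // IsConj x y} = ({x : G | IsConj x y} : Set G).ncard :=
    Nat.card_coe_set_eq _
  have h4 : Nat.card {g : G // orderOf g = 2} = ({g : G | orderOf g = 2} : Set G).ncard :=
    Nat.card_coe_set_eq _
  have heq : ({x : G | IsConj x y} : Set G) = {g : G | orderOf g = 2} :=
    Set.eq_of_subset_of_ncard_le (class_subset_invol y hy) (by rw [← h3, ← h4, h2]) (Set.toFinite _)
  intro g hg
  have hmem : g ∈ ({x : G | IsConj x y} : Set G) := by
    rw [heq]
    exact hg
  exact (show IsConj g y from hmem).symm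

end Cfsg.Agent.Lib.Helper5.BRCINVGE
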