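/-
S0999 + S4701 (BR core, planner helper24), leaf BRC-INVOL (frozen statements in notes/S0999_leaves.lean):
the Frobenius-Schur involution count `1 + #invol ≤ ∑ χ(1)`, and the number of square roots in the case of equality.
-/
import Mathlib
import Cfsg.Prelude.Def_BlockRank
import Cfsg.Prelude.Def_Perm
import Cfsg.Agent.Lib.Helper24.BRCDefs
import Cfsg.Agent.Lib.Helper23.FSInd
import Cfsg.Agent.Lib.Helper25.SqCount

set_option autoImplicit false

namespace Cfsg.Agent.Lib.Helper5.BRCINVOL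

open Cfsg Cfsg.Agent.Lib.Helper8.DOM Cfsg.Agent.Lib.Helper27.DO Cfsg.Agent.CharLib
open Cfsg.Agent.Lib.Helper6.BRH Cfsg.Agent.Lib.Helper24.BRC
open scoped ComplexConjugate

universe u

variable {G : Type u} [Group G] [Finite G] {p : ℕ} [Fact p.Prime]

/-- the Frobenius-Schur indicator as an integer -/
noncomputable def eFS [Fintype G] (χ : IrrCharacter G) : ℤ :=
  Classical.choose (Cfsg.Agent.Lib.Helper23.exists_fsIndicator χ)

theorem eFS_spec [Fintype G] (χ : IrrCharacter G) :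
    ((Nat.card G : ℂ)⁻¹ * ∑ s : G, (χ : G → ℂ) (s * s)) = (eFS χ : ℂ) :=
  (Classical.choose_spec (Cfsg.Agent.Lib.Helper23.exists_fsIndicator χ)).1

theorem eFS_le_one [Fintype G] (χ : IrrCharacter G) : eFS χ ≤ 1 := by
  rcases (Classical.choose_spec (Cfsg.Agent.Lib.Helper23.exists_fsIndicator χ)).2.1 with h | h | h
  · show Classical.choose (Cfsg.Agent.Lib.Helper23.exists_fsIndicator χ) ≤ 1
    rw [h]; norm_num
  · show Classical.choose (Cfsg.Agent.Lib.Helper23.exists_fsIndicator χ) ≤ 1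
    rw [h]
  · show Classical.choose (Cfsg.Agent.Lib.Helper23.exists_fsIndicator χ) ≤ 1
    rw [h]; norm_num

theorem count_eq [Fintype G] [Fintype (IrrCharacter G)] :
    ((1 + Nat.card {x : G // orderOf x = 2} : ℕ) : ℤ) =
      ∑ χ : IrrCharacter G, eFS χ * (charDegree (χ : G → ℂ) : ℤ) :=
  Cfsg.Agent.Lib.Helper23.one_add_card_involutions_eq eFS eFS_spec

/-- **BRC-INVOL** (a).  `1 + #involutions ≤ ∑ χ(1)`. -/
theorem one_add_card_invol_le :
    1 + Nat.card {g : G // orderOf g = 2} ≤ ∑ᶠ χ : IrrCharacter G, charDegree (χ : G → ℂ) := by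
  classical
  let _ : Fintype G := Fintype.ofFinite G
  let _ := fintypeIrr G
  rw [finsum_eq_sum_of_fintype]
  have h := count_eq (G := G)
  have h2 : ∑ χ : IrrCharacter G, eFS χ * (charDegree (χ : G → ℂ) : ℤ) ≤
      ∑ χ : IrrCharacter G, (charDegree (χ : G → ℂ) : ℤ) := by
    apply Finset.sum_le_sum
    intro χ _
    have h3 : (0 : ℤ) ≤ (charDegree (χ : G → ℂ) : ℤ) := Int.natCast_nonneg _
    nlinarith [eFS_le_one χ]
  have h4 : ((1 + Nat.card {x : G // orderOf x = 2} : ℕ) : ℤ) ≤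
      ((∑ χ : IrrCharacter G, charDegree (χ : G → ℂ) : ℕ) : ℤ) := by
    rw [h]
    push_cast
    exact h2
  exact_mod_cast h4

/-- in the case of equality all indicators are `1` -/
theorem eFS_eq_one_of_eq [Fintype G] [Fintype (IrrCharacter G)]
    (h : 1 + Nat.card {g : G // orderOf g = 2} = ∑ χ : IrrCharacter G, charDegree (χ : G → ℂ))
    (χ : IrrCharacter G) : eFS χ = 1 := by
  classical
  have h1 := count_eq (G := G)
  rw [h] at h1
  push_cast at h1
  have h2 : ∑ χ : IrrCharacter G, (1 - eFS χ) * (charDegree (χ : G → ℂ) : ℤ) = 0 := by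
    have : ∀ χ : IrrCharacter G, (1 - eFS χ) * (charDegree (χ : G → ℂ) : ℤ) =
        (charDegree (χ : G → ℂ) : ℤ) - eFS χ * (charDegree (χ : G → ℂ) : ℤ) := fun χ => by ring
    simp only [this]
    rw [Finset.sum_sub_distrib, h1, sub_self]
  have h3 : ∀ χ ∈ (Finset.univ : Finset (IrrCharacter G)),
      0 ≤ (1 - eFS χ) * (charDegree (χ : G → ℂ) : ℤ) := by
    intro χ _
    have := eFS_le_one χ
    have h4 : (0 : ℤ) ≤ (charDegree (χ : G → ℂ) : ℤ) := Int.natCast_nonneg _
    nlinarith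
  have h5 := (Finset.sum_eq_zero_iff_of_nonneg h3).mp h2 χ (Finset.mem_univ χ)
  have hpos : (0 : ℤ) < (charDegree (χ : G → ℂ) : ℤ) := by
    exact_mod_cast Cfsg.Agent.Lib.Helper24.irr_charDegree_pos χ
  rcases mul_eq_zero.mp h5 with h6 | h6
  · omega
  · omega

/-- **BRC-INVOL** (b).  In the case of equality the number of square roots of `g` is `∑ χ(g)`. -/
theorem card_sqrt_of_invol_eq
    (h : 1 + Nat.card {g : G // orderOf g = 2} = ∑ᶠ χ : IrrCharacter G, charDegree (χ : G → ℂ)) (g : G) :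
    (Nat.card {u : G // u * u = g} : ℂ) = ∑ᶠ χ : IrrCharacter G, (χ : G → ℂ) g := by
  classical
  let _ : Fintype G := Fintype.ofFinite G
  let _ := fintypeIrr G
  rw [finsum_eq_sum_of_fintype] at h
  rw [finsum_eq_sum_of_fintype]
  have h1 := Cfsg.Agent.Lib.Helper25.sqCount_eq_sum g
  have h2 : Cfsg.Agent.Lib.Helper25.sqCount g = (Nat.card {u : G // u * u = g} : ℂ) := by
    unfold Cfsg.Agent.Lib.Helper25.sqCount
    rw [Finset.sum_ite, Finset.sum_const_zero, add_zero, Finset.sum_const, nsmul_eq_mul, mul_one,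
      Nat.card_eq_fintype_card, Fintype.card_subtype]
  rw [← h2, h1]
  apply Finset.sum_congr rfl
  intro χ _
  have h3 : Cfsg.Agent.Lib.Helper25.fsInd (χ : G → ℂ) = 1 := by
    unfold Cfsg.Agent.Lib.Helper25.fsInd
    rw [eFS_spec χ, eFS_eq_one_of_eq h χ]
    simp
  rw [h3, map_one, one_mul]

end Cfsg.Agent.Lib.Helper5.BRCINVOL
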