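/-
S0999 + S4701 (BR core, planner helper24), leaf BRC-SPEC (frozen statements in notes/S0999_leaves.lean):
the multiplicities `cN`, `aP` (defined as floors) are the honest multiplicities.
-/
import Mathlib
import Cfsg.Prelude.Def_BlockRank
import Cfsg.Prelude.Def_Perm
import Cfsg.Agent.Lib.Helper24.BRCDefs
import Cfsg.Agent.Lib.Helper10.BRHROW

set_option autoImplicit false

namespace Cfsg.Agent.Lib.Helper5.BRCSPEC

open Cfsg Cfsg.Agent.Lib.Helper8.DOM Cfsg.Agent.Lib.Helper27.DO Cfsg.Agent.CharLib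
open Cfsg.Agent.Lib.Helper6.BRH Cfsg.Agent.Lib.Helper24.BRC
open scoped ComplexConjugate

universe u

variable {G : Type u} [Group G] [Finite G] {p : ℕ} [Fact p.Prime]

/-- **BRC-SPEC** (a).  The multiplicity `⟨χ|_N, β⟩` is a natural number. -/
theorem cN_spec (P : Subgroup G) (χ : IrrCharacter G) (β : IrrCharacter (Nz P)) :
    (cN P χ β : ℂ) = mult (Nz P) (χ : G → ℂ) (β : Nz P → ℂ) := by
  obtain ⟨n, hn⟩ := Cfsg.Agent.Lib.Helper10.BRHROW.mult_nat (Nz P) (IsIrrCharacter.isCharacter χ.2) β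
  unfold cN
  rw [hn]
  simp

/-- the sum over `P` is `|P|` times a multiplicity -/
theorem aP_eq_mult (P : Subgroup G) (χ : G → ℂ) :
    (Nat.card P : ℂ)⁻¹ * ∑ᶠ x ∈ (P : Set G), χ x = mult P χ ((trivIrr ↥P : IrrCharacter ↥P) : ↥P → ℂ) := by
  unfold mult
  congr 1
  rw [← finsum_set_coe_eq_finsum_mem]
  apply finsum_congr
  intro h
  have : ((trivIrr ↥P : IrrCharacter ↥P) : ↥P → ℂ) h = 1 := rfl
  rw [this, map_one, mul_one]

/-- **BRC-SPEC** (b).  The multiplicity `⟨χ|_P, 1_P⟩` is a natural number. -/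
theorem aP_spec (P : Subgroup G) (χ : IrrCharacter G) :
    (aP P χ : ℂ) = (Nat.card P : ℂ)⁻¹ * ∑ᶠ x ∈ (P : Set G), (χ : G → ℂ) x := by
  obtain ⟨n, hn⟩ := Cfsg.Agent.Lib.Helper10.BRHROW.mult_nat P (IsIrrCharacter.isCharacter χ.2) (trivIrr ↥P)
  unfold aP
  rw [aP_eq_mult, hn]
  simp

end Cfsg.Agent.Lib.Helper5.BRCSPEC
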