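/-
helper5: S5286-SG (leaf of helper21's plan `notes/S5286_leaves.lean`): for every map `φ_i : P_i → S` of the
fusion system there is a permutation `σ` of `S` conjugating left translation by `u ∈ P_i` to left translation
by `φ_i u`.  General fact: two free actions of a finite group on finite sets of the same cardinality are
isomorphic (pick a transversal of the orbits on both sides and a bijection between the orbit spaces).
-/
import Mathlib
import Cfsg.Agent.Lib.Helper21.LSBasic

set_option autoImplicit false
universe u
open Cfsg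
open Cfsg.Agent.Lib.Helper21.LS

namespace Cfsg.Agent.Lib.Helper5.LSSG

section general

variable {P A : Type*} [Group P] [MulAction P A]

/-- For a free action, `(u, q) ↦ u • (representative of q)` is a bijection `P × (orbits) → A`. -/
theorem free_bijective (hA : ∀ (u : P) (a : A), u • a = a → u = 1) :
    Function.Bijective
      (fun uq : P × Quotient (MulAction.orbitRel P A) => uq.1 • uq.2.out) := by
  constructor
  · rintro ⟨u, q⟩ ⟨u', q'⟩ h
    simp only at h
    have hq : q = q' := by
      rw [← Quotient.out_eq q, ← Quotient.out_eq q']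
      apply Quotient.sound
      show MulAction.orbitRel P A q.out q'.out
      rw [MulAction.orbitRel_apply, MulAction.mem_orbit_iff]
      refine ⟨u⁻¹ * u', ?_⟩
      rw [mul_smul, ← h, inv_smul_smul]
    subst hq
    have h1 : (u'⁻¹ * u) • q.out = q.out := by rw [mul_smul, h, inv_smul_smul]
    have h2 := hA _ _ h1
    have h3 : u = u' := by
      have := congrArg (fun z => u' * z) h2
      simpa using this
    rw [h3]
  · intro a
    have h1 : MulAction.orbitRel P A (Quotient.mk (MulAction.orbitRel P A) a).out a :=
      Quotient.exact (Quotient.out_eq _)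
    rw [MulAction.orbitRel_apply, MulAction.mem_orbit_iff] at h1
    obtain ⟨u, hu⟩ := h1
    refine ⟨(u⁻¹, Quotient.mk (MulAction.orbitRel P A) a), ?_⟩
    show u⁻¹ • (Quotient.mk (MulAction.orbitRel P A) a).out = a
    rw [← hu, inv_smul_smul]

/-- The bijection of `free_bijective` as an equivalence. -/
noncomputable def freeEquiv (hA : ∀ (u : P) (a : A), u • a = a → u = 1) :
    P × Quotient (MulAction.orbitRel P A) ≃ A :=
  Equiv.ofBijective _ (free_bijective hA)

theorem freeEquiv_apply (hA : ∀ (u : P) (a : A), u • a = a → u = 1) (u : P)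
    (q : Quotient (MulAction.orbitRel P A)) : freeEquiv hA (u, q) = u • q.out := rfl

theorem smul_freeEquiv (hA : ∀ (u : P) (a : A), u • a = a → u = 1) (v u : P)
    (q : Quotient (MulAction.orbitRel P A)) :
    v • freeEquiv hA (u, q) = freeEquiv hA (v * u, q) := by
  rw [freeEquiv_apply, freeEquiv_apply, mul_smul]

end general

/-- Two free actions of a finite group on finite sets of the same cardinality are isomorphic. -/
theorem exists_equivariant {P A B : Type*} [Group P] [MulAction P A] [MulAction P B] [Finite P]
    [Finite A] [Finite B] (hA : ∀ (u : P) (a : A), u • a = a → u = 1)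
    (hB : ∀ (u : P) (b : B), u • b = b → u = 1) (hcard : Nat.card A = Nat.card B) :
    ∃ σ : A ≃ B, ∀ (u : P) (a : A), σ (u • a) = u • σ a := by
  have h1 : Nat.card P * Nat.card (Quotient (MulAction.orbitRel P A)) = Nat.card A := by
    rw [← Nat.card_prod]; exact Nat.card_congr (freeEquiv hA)
  have h2 : Nat.card P * Nat.card (Quotient (MulAction.orbitRel P B)) = Nat.card B := by
    rw [← Nat.card_prod]; exact Nat.card_congr (freeEquiv hB)
  have h3 : Nat.card (Quotient (MulAction.orbitRel P A)) =
      Nat.card (Quotient (MulAction.orbitRel P B)) := by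
    have hP : 0 < Nat.card P := Nat.card_pos
    apply Nat.eq_of_mul_eq_mul_left hP
    rw [h1, h2, hcard]
  obtain ⟨f⟩ := Finite.card_eq.mp h3
  refine ⟨(freeEquiv hA).symm.trans ((Equiv.prodCongr (Equiv.refl P) f).trans (freeEquiv hB)),
    fun u a => ?_⟩
  obtain ⟨⟨v, q⟩, rfl⟩ := (freeEquiv hA).surjective a
  rw [smul_freeEquiv]
  simp only [Equiv.trans_apply, Equiv.symm_apply_apply, Equiv.prodCongr_apply, Equiv.refl_apply,
    Prod.map_apply]
  rw [smul_freeEquiv]

variable {Ω : Type u} [Group Ω] {S : Subgroup Ω} (F : FusionSystem S)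

/-! ### (SG) a permutation of `S` conjugating left translation by `u ∈ P_i` to left translation by `φ_i u` -/
theorem exists_sigGood [Finite ↥S] (i : Idx F) : ∃ σ : Sig S, SigGood F i σ := by
  have : Finite ↥i.P := Finite.of_injective (Subgroup.inclusion i.P_le)
    (Subgroup.inclusion_injective i.P_le)
  let h₁ : ↥i.P →* ↥S := Subgroup.inclusion i.P_le
  let h₂ : ↥i.P →* ↥S := i.φ.codRestrict S i.φ_mem
  let inst1 : MulAction ↥i.P ↥S := MulAction.compHom ↥S h₁
  let inst2 : MulAction ↥i.P ↥S := MulAction.compHom ↥S h₂
  have hA : ∀ (u : ↥i.P) (a : ↥S), @HSMul.hSMul _ _ _ (@instHSMul _ _ inst1.toSMul) u a = a →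
      u = 1 := by
    intro u a h
    have h' : h₁ u * a = a := h
    have h1 : h₁ u = 1 := by
      have := congrArg (fun z => z * a⁻¹) h'
      simpa using this
    exact (Subgroup.inclusion_injective i.P_le) (by rw [h1, map_one])
  have hB : ∀ (u : ↥i.P) (a : ↥S), @HSMul.hSMul _ _ _ (@instHSMul _ _ inst2.toSMul) u a = a →
      u = 1 := by
    intro u a h
    have h' : h₂ u * a = a := h
    have h1 : h₂ u = 1 := by
      have := congrArg (fun z => z * a⁻¹) h'
      simpa using this
    have h2 : i.φ u = 1 := congrArg Subtype.val h1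
    exact F.injective_of_mem i.mem (by rw [h2, map_one])
  obtain ⟨σ, hσ⟩ := @exists_equivariant ↥i.P ↥S ↥S _ inst1 inst2 _ _ _ hA hB rfl
  exact ⟨σ, fun u x => hσ u x⟩

end Cfsg.Agent.Lib.Helper5.LSSG
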