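import Mathlib

set_option autoImplicit false

namespace Cfsg.Agent.Lib.Helper5

open MulAction

/-- If all orbits of `H` on a finite type `X` have the same size `d`, then `d ∣ |X|`. -/
theorem dvd_card_of_orbit_ncard_eq {H X : Type*} [Group H] [MulAction H X] [Finite X] (d : ℕ)
    (hd : ∀ x : X, (orbit H x).ncard = d) : d ∣ Nat.card X := by
  classical
  have := Fintype.ofFinite X
  rw [Nat.card_congr (selfEquivSigmaOrbits' H X), Nat.card_sigma]
  apply Finset.dvd_sum
  intro ω _
  induction ω using Quotient.inductionOn' with
  | h x =>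
    have : orbitRel.Quotient.orbit (Quotient.mk'' x : orbitRel.Quotient H X) = orbit H x :=
      orbitRel.Quotient.orbit_mk x
    rw [this, Nat.card_coe_set_eq, hd x]

/-- If `S` is an `H`-invariant subset all of whose points have `H`-orbits of the same
size `d`, then `d ∣ |S|`. -/
theorem dvd_ncard_of_orbit_ncard_eq {H α : Type*} [Group H] [MulAction H α] [Finite α]
    (S : Set α) (hS : ∀ h : H, ∀ s ∈ S, h • s ∈ S) (d : ℕ)
    (hd : ∀ s ∈ S, (orbit H s).ncard = d) : d ∣ S.ncard := by
  let T : SubMulAction H α := { carrier := S, smul_mem' := fun h s hs => hS h s hs }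
  have h1 : d ∣ Nat.card T := by
    apply dvd_card_of_orbit_ncard_eq (H := H)
    intro t
    rw [← hd (t : α) t.2, ← SubMulAction.val_image_orbit,
      Set.ncard_image_of_injective _ Subtype.val_injective]
  have h2 : Nat.card T = S.ncard := Nat.card_coe_set_eq S
  rwa [h2] at h1

/-- Orbit–stabiliser for pointwise stabilisers: the orbit of `z` under the pointwise stabiliser of
`u` has index-many points, where the point stabiliser is the pointwise stabiliser of
`insert z u`. -/
theorem ncard_orbit_fixingSubgroup_mul {G α : Type*} [Group G] [MulAction G α] (u : Set α)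
    (z : α) :
    (orbit (fixingSubgroup G u) z).ncard * Nat.card (fixingSubgroup G (insert z u)) =
      Nat.card (fixingSubgroup G u) := by
  set K := fixingSubgroup G u with hK
  have h1 : (stabilizer K z).map K.subtype = fixingSubgroup G (insert z u) := by
    ext g
    simp only [Subgroup.mem_map, mem_stabilizer_iff, mem_fixingSubgroup_iff, Set.mem_insert_iff]
    constructor
    · rintro ⟨⟨k, hk⟩, hkz, rfl⟩ t (rfl | ht)
      · exact hkz
      · exact (mem_fixingSubgroup_iff G).1 hk t ht
    · intro hg
      refine ⟨⟨g, ?_⟩, ?_, rfl⟩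
      · rw [hK, mem_fixingSubgroup_iff]
        intro t ht
        exact hg t (Or.inr ht)
      · exact hg z (Or.inl rfl)
  have h2 : Nat.card (stabilizer K z) = Nat.card (fixingSubgroup G (insert z u)) := by
    rw [← h1]
    exact (Subgroup.card_map_of_injective K.subtype_injective).symm
  rw [← h2, ← MulAction.index_stabilizer, mul_comm]
  exact Subgroup.card_mul_index _

/-- Points in the orbit of a point outside `u` under the pointwise stabiliser of `u`
are outside `u`. -/
theorem notMem_of_mem_orbit_fixingSubgroup {G α : Type*} [Group G] [MulAction G α] {u : Set α}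
    {z s : α} (hz : z ∉ u) (hs : s ∈ orbit (fixingSubgroup G u) z) : s ∉ u := by
  obtain ⟨⟨k, hk⟩, rfl⟩ := hs
  intro hs
  apply hz
  have h1 : k • (k • z) = k • z := (mem_fixingSubgroup_iff G).1 hk _ hs
  have h2 : k • z = z := by
    have := congrArg (fun t => k⁻¹ • t) h1
    simpa using this
  have h3 : k • z ∈ u := hs
  rwa [h2] at h3

end Cfsg.Agent.Lib.Helper5
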