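/-
S3713 (planner helper18, T2 sub-planner helper20), leaf T2-PAIR2 (frozen statement in notes/S3713_T2_leaves.lean):
normal form of a pair (`u ∈ VJ {p}`, `l ∈ S_p`) under `S_p`.
-/
import Cfsg.Agent.Lib.Helper20.SPT2Calc
import Cfsg.Agent.Lib.Helper25.SPSL2DEC

set_option autoImplicit false

namespace Cfsg.Agent.Lib.Helper5.SPT2PAIR2

open Matrix Cfsg.Agent.Lib.Helper5 Cfsg.Agent.Lib.Helper14.SpPerfect Cfsg.Agent.Lib.Helper18.SP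
open Cfsg.Agent.Lib.Helper20.SPT2

variable {F : Type*} [Field F] {n : ℕ} {o p : Fin n}

/-- **PAIR2** -/
theorem pair2 (p : Fin n) {u : V n F} (hu : u ∈ VJ n F {p}) {l : Sp n F} (hl : l ∈ SS n F p) :
    ∃ m ∈ SS n F p, (∃ d : F, m * l = Tr (eV n F p) d) ∧
      ((∃ α : F, act m u = α • eV n F p) ∨ (∃ γ : F, γ ≠ 0 ∧ act m u = γ • fV n F p)) := by
  have hpp : p ∈ ({p} : Set (Fin n)) := rfl
  have hl' : l ∈ GJ n F {p} := hl
  have hep : eV n F p ∈ VJ n F {p} := eV_mem_VJ hpp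
  have hu' : act l (eV n F p) ∈ VJ n F {p} := act_mem_VJ hl' hep
  have hu'0 : act l (eV n F p) ≠ 0 := by
    intro h
    exact eV_ne_zero p ((act_eq_zero_iff l _).mp h)
  obtain ⟨m₀, hm₀, hm₀u⟩ := GJ_trans {p} hu' hep hu'0 (eV_ne_zero p)
  have hm₀l : m₀ * l ∈ SS n F p := mul_mem hm₀ hl'
  have hfix : act (m₀ * l) (eV n F p) = eV n F p := by rw [act_mul, hm₀u]
  obtain ⟨d₀, hd₀⟩ := eq_Tr_of_mem_SS hm₀l hfix
  have hmu : act m₀ u ∈ VJ n F {p} := act_mem_VJ hm₀ hu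
  have hdec := Cfsg.Agent.Lib.Helper25.SPSL2DEC.vec_of_mem_VJ_singleton hmu
  set α := act m₀ u (Sum.inl p) with hα
  set γ := act m₀ u (Sum.inr p) with hγ
  by_cases hγ0 : γ = 0
  · refine ⟨m₀, hm₀, ⟨d₀, hd₀⟩, Or.inl ⟨α, ?_⟩⟩
    rw [hdec, hγ0, zero_smul, add_zero]
  · refine ⟨Tr (eV n F p) (-α / γ) * m₀, mul_mem (Tr_mem_GJ hep _) hm₀, ⟨-α / γ + d₀, ?_⟩, Or.inr ⟨γ, hγ0, ?_⟩⟩
    · rw [mul_assoc, hd₀, Tr_mul]
    · rw [act_mul, hdec, act_Tr, ω_add_left, ω_smul_left, ω_smul_left, ω_eV_eV, ω_fV_eV, if_pos rfl]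
      have h1 : (-α / γ * (α * 0 + γ * 1)) = -α := by
        rw [mul_zero, zero_add, mul_one]
        field_simp
      rw [h1]
      module

end Cfsg.Agent.Lib.Helper5.SPT2PAIR2
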