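/-
S3713 (planner helper18, T2 sub-planner helper20): common core of the leaves T2-STEPN / T2-STEPY
(the steps on `P1 = PJ {o,p} o`), with LOCSTEP (`locstep`) as a hypothesis.
-/
import Cfsg.Agent.Lib.Helper20.SPT2Calc
import Cfsg.Agent.Lib.Helper20.SPT2Rel
import Cfsg.Agent.Lib.Helper5.SPT2PAIR2

set_option autoImplicit false

namespace Cfsg.Agent.Lib.Helper5.SPT2StepCore

open Matrix Cfsg.Agent.Lib.Helper5 Cfsg.Agent.Lib.Helper14.SpPerfect Cfsg.Agent.Lib.Helper18.SP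
open Cfsg.Agent.Lib.Helper20.SPT2

variable {F : Type*} [Field F] {n : ℕ} {H : Type*} [Group H] {o p : Fin n}

/-! ### memberships -/

theorem o_not_mem (hop : o ≠ p) : o ∉ ({p} : Set (Fin n)) := fun e => hop (Set.mem_singleton_iff.mp e)

theorem p_not_mem (hop : o ≠ p) : p ∉ ({o} : Set (Fin n)) := fun e => hop (Set.mem_singleton_iff.mp e).symm

theorem SSp_le_P1 (hop : o ≠ p) : SS n F p ≤ PJ n F {o, p} o :=
  GJ_le_PJ (J := {p}) (K := {o, p}) (fun k hk => Or.inr hk) (o_not_mem hop)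

theorem SSo_le_P2 (hop : o ≠ p) : SS n F o ≤ PJ n F {o, p} p :=
  GJ_le_PJ (J := {o}) (K := {o, p}) (fun k hk => Or.inl hk) (p_not_mem hop)

theorem Zg_mem (hop : o ≠ p) (t : F) : Zg n F o p t ∈ MM n F o p :=
  ⟨fun k => Zg_e t k, fun k hko hkp => Zg_f_other t hko hkp⟩

theorem Tr_eo_mem (o p : Fin n) (c : F) : Tr (eV n F o) c ∈ MM n F o p :=
  ⟨fun k => Tr_e_e o k c, fun k hko _ => Tr_e_f_other hko c⟩

theorem Tr_ep_mem (o p : Fin n) (c : F) : Tr (eV n F p) c ∈ MM n F o p :=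
  ⟨fun k => Tr_e_e p k c, fun k _ hkp => Tr_e_f_other hkp c⟩

theorem MM_le_P1' (o p : Fin n) : MM n F o p ≤ PJ n F {o, p} o :=
  MM_le_PJ (Set.mem_insert o {p}) (Set.mem_insert_of_mem o rfl) o

theorem MM_le_P2' (o p : Fin n) : MM n F o p ≤ PJ n F {o, p} p :=
  MM_le_PJ (Set.mem_insert o {p}) (Set.mem_insert_of_mem o rfl) p

/-- `qH o (α e_p) c ∈ MM o p` -/
theorem qH_ep_mem (hop : o ≠ p) (α c : F) : qH o (α • eV n F p) c ∈ MM n F o p :=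
  mul_mem (Zg_mem hop α) (Tr_eo_mem o p c)

theorem yE_mem_P2 (hop : o ≠ p) : yE n F o p ∈ PJ n F {o, p} p := by
  refine ⟨E_mem_GJ (fV_mem_VJ (Set.mem_insert o {p})) (eV_mem_VJ (Set.mem_insert_of_mem o rfl)), ?_⟩
  have h : yE n F o p = Yg n F o p 1 := by unfold yE Yg; rw [one_smul]
  rw [h, Yg_ep hop]

/-! ### the wrapping lemma -/

/-- `q = qH o u c * l`, `m ∈ S_p`: from the step for `qH o (m u) c` to the step for `q`, provided `m l` commutes with `s`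
on both sides -/
theorem wrap (A : T2Hyp n F H o p) {φ₁ : Sp n F → H} (P1 : Phi1 A φ₁) {u : V n F} (hu : u ∈ VJ n F {p}) (c : F)
    {l m : Sp n F} (hl : l ∈ SS n F p) (hm : m ∈ SS n F p) (s : Sp n F) (st : H)
    (hcs : Commute (m * l) s) (hct : Commute (A.ψ₁ (m * l)) st)
    (h : SOK A φ₁ (nW n F o * qH o (act m u) c * s) (A.nto * A.ψ₁ (qH o (act m u) c) * st)) :
    SOK A φ₁ (nW n F o * (qH o u c * l) * s) (A.nto * A.ψ₁ (qH o u c * l) * st) := by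
  have hop := A.hop
  have hm' : m ∈ GJ n F {p} := hm
  have hl' : l ∈ GJ n F {p} := hl
  have hmu : act m u ∈ VJ n F {p} := act_mem_VJ hm' hu
  have hconj : m * qH o u c * m⁻¹ = qH o (act m u) c := conj_qH (o_not_mem hop) hm' u c
  have hnm : Commute (nW n F o) m :=
    GJ_commute (Set.disjoint_singleton.mpr hop) (nW_mem_SS o) hm'
  -- memberships in `P1`
  have hmi1 : m⁻¹ ∈ PJ n F {o, p} o := SSp_le_P1 hop (inv_mem hm)
  have hml1 : m * l ∈ PJ n F {o, p} o := SSp_le_P1 hop (mul_mem hm hl)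
  have hq1 : qH o (act m u) c ∈ PJ n F {o, p} o := qH_mem_PJ (o_not_mem hop) hmu c
  -- the group identity
  have hg : nW n F o * (qH o u c * l) * s = m⁻¹ * (nW n F o * qH o (act m u) c * s) * (m * l) := by
    rw [← hconj]
    calc nW n F o * (qH o u c * l) * s
        = m⁻¹ * (m * nW n F o) * qH o u c * m⁻¹ * ((m * l) * s) := by group
      _ = m⁻¹ * (nW n F o * m) * qH o u c * m⁻¹ * (s * (m * l)) := by rw [hnm.eq, hcs.eq]
      _ = m⁻¹ * (nW n F o * (m * qH o u c * m⁻¹) * s) * (m * l) := by group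
  -- the `H` side
  have hdec : qH o u c * l = m⁻¹ * qH o (act m u) c * (m * l) := by
    rw [← hconj]; group
  have hψ : A.ψ₁ (qH o u c * l) = A.ψ₁ m⁻¹ * A.ψ₁ (qH o (act m u) c) * A.ψ₁ (m * l) := by
    rw [hdec, A.hψ₁.map_mul (mul_mem hmi1 hq1) hml1, A.hψ₁.map_mul hmi1 hq1]
  have hcomm : Commute A.nto (A.ψ₁ m⁻¹) := by
    rw [A.h1p _ (inv_mem hm)]
    exact A.hD _ (nW_mem_SS o) _ (inv_mem hm)
  have hh : A.nto * A.ψ₁ (qH o u c * l) * st =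
      φ₁ m⁻¹ * (A.nto * A.ψ₁ (qH o (act m u) c) * st) * φ₁ (m * l) := by
    rw [P1.onP _ hmi1, P1.onP _ hml1, hψ]
    calc A.nto * (A.ψ₁ m⁻¹ * A.ψ₁ (qH o (act m u) c) * A.ψ₁ (m * l)) * st
        = (A.nto * A.ψ₁ m⁻¹) * A.ψ₁ (qH o (act m u) c) * (A.ψ₁ (m * l) * st) := by group
      _ = (A.ψ₁ m⁻¹ * A.nto) * A.ψ₁ (qH o (act m u) c) * (st * A.ψ₁ (m * l)) := by rw [hcomm.eq, hct.eq]
      _ = A.ψ₁ m⁻¹ * (A.nto * A.ψ₁ (qH o (act m u) c) * st) * A.ψ₁ (m * l) := by group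
  have hmiPh : m⁻¹ ∈ PhJ n F {o, p} o := PJ_le_PhJ _ _ hmi1
  have hmlPh : m * l ∈ PhJ n F {o, p} o := PJ_le_PhJ _ _ hml1
  exact ((StepOK.mul_left P1.hom h hmiPh).mul_right P1.hom hmlPh).congr hg hh

/-- **STEPN** on `P1`, from LOCSTEP -/
theorem step_n_P1_of (A : T2Hyp n F H o p) {φ₁ : Sp n F → H} (P1 : Phi1 A φ₁)
    (hloc : ∀ g ∈ PJ n F {o, p} p, SOK A φ₁ g (A.ψ₂ g))
    {q : Sp n F} (hq : q ∈ PJ n F {o, p} o) :
    SOK A φ₁ (nW n F o * q * nW n F o) (A.nto * A.ψ₁ q * A.nto) := by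
  have hop := A.hop
  obtain ⟨u, hu, c, l, hl, rfl⟩ := PJ_decomp (J := {p}) (o_not_mem hop) hq
  have hl' : l ∈ SS n F p := hl
  -- choose `m`
  obtain ⟨m, hm, α, hmu⟩ : ∃ m ∈ SS n F p, ∃ α : F, act m u = α • eV n F p := by
    by_cases hu0 : u = 0
    · exact ⟨1, one_mem _, 0, by rw [hu0, act_one, zero_smul]⟩
    · obtain ⟨m, hm, hmu⟩ := GJ_trans {p} hu (eV_mem_VJ rfl) hu0 (eV_ne_zero p)
      exact ⟨m, hm, 1, by rw [hmu, one_smul]⟩
  have hml : m * l ∈ SS n F p := mul_mem hm hl'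
  have hn2 : nW n F o ∈ PJ n F {o, p} p := SSo_le_P2 hop (nW_mem_SS o)
  have hqm : qH o (α • eV n F p) c ∈ MM n F o p := qH_ep_mem hop α c
  have hq2 : qH o (α • eV n F p) c ∈ PJ n F {o, p} p := MM_le_P2' o p hqm
  apply wrap A P1 hu c hl' hm (nW n F o) A.nto
  · exact (GJ_commute (Set.disjoint_singleton.mpr hop) (nW_mem_SS o) hml).symm
  · rw [A.h1p _ hml]
    exact (A.hD _ (nW_mem_SS o) _ hml).symm
  · rw [hmu]
    have h := hloc (nW n F o * qH o (α • eV n F p) c * nW n F o) (mul_mem (mul_mem hn2 hq2) hn2)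
    refine h.congr rfl ?_
    rw [A.hψ₂.map_mul (mul_mem hn2 hq2) hn2, A.hψ₂.map_mul hn2 hq2, A.h2o _ (nW_mem_SS o), ← A.h12 _ hqm]
    rfl

/-- **STEPY** on `P1`, from LOCSTEP and the hard case -/
theorem step_y_P1_of (A : T2Hyp n F H o p) {φ₁ : Sp n F → H} (P1 : Phi1 A φ₁)
    (hloc : ∀ g ∈ PJ n F {o, p} p, SOK A φ₁ g (A.ψ₂ g))
    (hhard : ∀ γ c : F, γ ≠ 0 → SOK A φ₁ (nW n F o * (Xg n F o p γ * Tr (eV n F o) c) * yE n F o p)
      (A.nto * A.ψ₁ (Xg n F o p γ * Tr (eV n F o) c) * A.ψ₂ (yE n F o p)))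
    {q : Sp n F} (hq : q ∈ PJ n F {o, p} o) :
    SOK A φ₁ (nW n F o * q * yE n F o p) (A.nto * A.ψ₁ q * A.ψ₂ (yE n F o p)) := by
  have hop := A.hop
  obtain ⟨u, hu, c, l, hl, rfl⟩ := PJ_decomp (J := {p}) (o_not_mem hop) hq
  have hl' : l ∈ SS n F p := hl
  obtain ⟨m, hm, ⟨d, hd⟩, hcase⟩ := Cfsg.Agent.Lib.Helper5.SPT2PAIR2.pair2 p hu hl'
  have hn2 : nW n F o ∈ PJ n F {o, p} p := SSo_le_P2 hop (nW_mem_SS o)
  have hy2 : yE n F o p ∈ PJ n F {o, p} p := yE_mem_P2 hop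
  have hTm : Tr (eV n F p) d ∈ MM n F o p := Tr_ep_mem o p d
  have hT2 : Tr (eV n F p) d ∈ PJ n F {o, p} p := MM_le_P2' o p hTm
  have hcs : Commute (Tr (eV n F p) d) (yE n F o p) := by
    have h0 : ω n F (fV n F o) (eV n F p) = 0 := ω_fo_ep hop
    have h1 : ω n F (eV n F p) (fV n F o) = 0 := ω_eo_fp hop.symm
    have h2 : yE n F o p = E (eV n F p) (fV n F o) := by unfold yE; exact E_comm _ _ h0
    rw [h2]
    exact (E_commute_Tr _ _ d h1).symm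
  apply wrap A P1 hu c hl' hm (yE n F o p) (A.ψ₂ (yE n F o p))
  · rw [hd]; exact hcs
  · rw [hd, A.h12 _ hTm]
    show A.ψ₂ (Tr (eV n F p) d) * A.ψ₂ (yE n F o p) = A.ψ₂ (yE n F o p) * A.ψ₂ (Tr (eV n F p) d)
    rw [← A.hψ₂.map_mul hT2 hy2, ← A.hψ₂.map_mul hy2 hT2, hcs.eq]
  · rcases hcase with ⟨α, hmu⟩ | ⟨γ, hγ, hmu⟩
    · rw [hmu]
      have hqm : qH o (α • eV n F p) c ∈ MM n F o p := qH_ep_mem hop α c
      have hq2 : qH o (α • eV n F p) c ∈ PJ n F {o, p} p := MM_le_P2' o p hqm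
      have h := hloc (nW n F o * qH o (α • eV n F p) c * yE n F o p) (mul_mem (mul_mem hn2 hq2) hy2)
      refine h.congr rfl ?_
      rw [A.hψ₂.map_mul (mul_mem hn2 hq2) hy2, A.hψ₂.map_mul hn2 hq2, A.h2o _ (nW_mem_SS o), ← A.h12 _ hqm]
      rfl
    · rw [hmu]
      exact hhard γ c hγ

end Cfsg.Agent.Lib.Helper5.SPT2StepCore
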