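import Mathlib
import Cfsg.Agent.Lib.Helper5.SpMax

/-!
A Witt-type lemma for the standard symplectic space: inside a non-degenerate subspace `U`, two
non-degenerate subspaces of the same dimension are conjugate under the group generated by the
symplectic transvections with centres in `U`.
-/

set_option autoImplicit false
set_option linter.unusedSectionVars false
set_option linter.unusedVariables false
set_option linter.unusedSimpArgs false

namespace Cfsg.Agent.Lib.Helper5.SpWitt
open Cfsg Matrix Cfsg.Agent.Lib.Helper5 Cfsg.Agent.Lib.Helper5.SpMax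

variable {F : Type*} [Field F] {m : ℕ}

/-- non-degeneracy of the symplectic form on a subspace -/
def ND (W : Submodule F (Fin m ⊕ Fin m → F)) : Prop :=
  ∀ x ∈ W, x ≠ 0 → ∃ a ∈ W, sympForm m F x a ≠ 0

/-- the part of `W` orthogonal to `u` and `v` -/
def cut (W : Submodule F (Fin m ⊕ Fin m → F)) (u v : Fin m ⊕ Fin m → F) :
    Submodule F (Fin m ⊕ Fin m → F) where
  carrier := {x | x ∈ W ∧ sympForm m F x u = 0 ∧ sympForm m F x v = 0}
  add_mem' := by
    rintro a b ⟨ha, ha1, ha2⟩ ⟨hb, hb1, hb2⟩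
    exact ⟨W.add_mem ha hb, by rw [sympForm_add_left, ha1, hb1, add_zero],
      by rw [sympForm_add_left, ha2, hb2, add_zero]⟩
  zero_mem' := ⟨W.zero_mem, sympForm_zero_left _, sympForm_zero_left _⟩
  smul_mem' := by
    rintro c a ⟨ha, ha1, ha2⟩
    exact ⟨W.smul_mem c ha, by rw [sympForm_smul_left, ha1, mul_zero],
      by rw [sympForm_smul_left, ha2, mul_zero]⟩

lemma mem_cut {W : Submodule F (Fin m ⊕ Fin m → F)} {u v x : Fin m ⊕ Fin m → F} :
    x ∈ cut W u v ↔ x ∈ W ∧ sympForm m F x u = 0 ∧ sympForm m F x v = 0 := Iff.rfl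

lemma cut_le (W : Submodule F (Fin m ⊕ Fin m → F)) (u v : Fin m ⊕ Fin m → F) : cut W u v ≤ W :=
  fun _ hx => hx.1

lemma cut_mono {W W' : Submodule F (Fin m ⊕ Fin m → F)} (h : W ≤ W') (u v : Fin m ⊕ Fin m → F) :
    cut W u v ≤ cut W' u v := fun _ hx => ⟨h hx.1, hx.2⟩

/-- projection to the cut -/
lemma split_mem {W : Submodule F (Fin m ⊕ Fin m → F)} {u v : Fin m ⊕ Fin m → F} (hu : u ∈ W)
    (hv : v ∈ W) (huv : sympForm m F u v = 1) {x : Fin m ⊕ Fin m → F} (hx : x ∈ W) :
    x - sympForm m F x v • u + sympForm m F x u • v ∈ cut W u v := by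
  have hvu : sympForm m F v u = -1 := by rw [sympForm_swap, huv]
  refine ⟨W.add_mem (W.sub_mem hx (W.smul_mem _ hu)) (W.smul_mem _ hv), ?_, ?_⟩
  · rw [sympForm_add_left, sympForm_sub_left, sympForm_smul_left, sympForm_smul_left,
      sympForm_self, hvu]
    ring
  · rw [sympForm_add_left, sympForm_sub_left, sympForm_smul_left, sympForm_smul_left,
      sympForm_self, huv]
    ring

lemma cut_ND {W : Submodule F (Fin m ⊕ Fin m → F)} (hW : ND W) {u v : Fin m ⊕ Fin m → F}
    (hu : u ∈ W) (hv : v ∈ W) (huv : sympForm m F u v = 1) : ND (cut W u v) := by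
  intro x hx hx0
  obtain ⟨y, hyW, hy⟩ := hW x hx.1 hx0
  refine ⟨_, split_mem hu hv huv hyW, ?_⟩
  rw [sympForm_add_right, sympForm_sub_right, sympForm_smul_right, sympForm_smul_right, hx.2.1,
    hx.2.2, mul_zero, mul_zero, sub_zero, add_zero]
  exact hy

lemma finrank_pair {u v : Fin m ⊕ Fin m → F} (huv : sympForm m F u v = 1) :
    Module.finrank F (Submodule.span F {u, v}) = 2 := by
  have hu : u ≠ 0 := by
    rintro rfl
    rw [sympForm_zero_left] at huv
    exact zero_ne_one huv
  have hli : LinearIndependent F ![u, v] := by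
    rw [LinearIndependent.pair_iff' hu]
    intro a ha
    have : sympForm m F u v = 0 := by rw [← ha, sympForm_smul_right, sympForm_self, mul_zero]
    rw [huv] at this
    exact one_ne_zero this
  have h := finrank_span_eq_card hli
  have hr : Set.range ![u, v] = {u, v} := by
    ext z
    simp [eq_comm, or_comm]
  rw [hr] at h
  simpa using h

lemma finrank_cut {W : Submodule F (Fin m ⊕ Fin m → F)} {u v : Fin m ⊕ Fin m → F}
    (hu : u ∈ W) (hv : v ∈ W) (huv : sympForm m F u v = 1) :
    Module.finrank F (cut W u v) + 2 = Module.finrank F W := by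
  have hvu : sympForm m F v u = -1 := by rw [sympForm_swap, huv]
  have hinf : cut W u v ⊓ Submodule.span F {u, v} = ⊥ := by
    rw [eq_bot_iff]
    intro x hx
    rw [Submodule.mem_inf] at hx
    obtain ⟨a, b, rfl⟩ := Submodule.mem_span_pair.mp hx.2
    have h1 := hx.1.2.1
    have h2 := hx.1.2.2
    rw [sympForm_add_left, sympForm_smul_left, sympForm_smul_left, sympForm_self, hvu] at h1
    rw [sympForm_add_left, sympForm_smul_left, sympForm_smul_left, sympForm_self, huv] at h2
    have hb : b = 0 := by linear_combination -h1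
    have ha : a = 0 := by linear_combination h2
    rw [Submodule.mem_bot, ha, hb, zero_smul, zero_smul, add_zero]
  have hsup : cut W u v ⊔ Submodule.span F {u, v} = W := by
    apply le_antisymm
    · apply sup_le (cut_le W u v)
      rw [Submodule.span_le]
      intro x hx
      rcases hx with rfl | rfl
      · exact hu
      · exact hv
    · intro x hx
      have h1 := split_mem hu hv huv hx
      have h2 : sympForm m F x v • u - sympForm m F x u • v ∈ Submodule.span F {u, v} :=
        Submodule.sub_mem _ (Submodule.smul_mem _ _ (Submodule.subset_span (by simp)))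
          (Submodule.smul_mem _ _ (Submodule.subset_span (by simp)))
      have h3 : x = (x - sympForm m F x v • u + sympForm m F x u • v) +
          (sympForm m F x v • u - sympForm m F x u • v) := by abel
      rw [h3]
      exact Submodule.add_mem_sup h1 h2
  have h := Submodule.finrank_sup_add_finrank_inf_eq (cut W u v) (Submodule.span F {u, v})
  rw [hinf, hsup, finrank_bot, add_zero, finrank_pair huv] at h
  exact h.symm

/-- image of a subspace under a symplectic matrix -/
def img (A : Matrix.symplecticGroup (Fin m) F) (W : Submodule F (Fin m ⊕ Fin m → F)) :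
    Submodule F (Fin m ⊕ Fin m → F) :=
  W.map (Matrix.toLin' (A : Matrix (Fin m ⊕ Fin m) (Fin m ⊕ Fin m) F))

lemma mem_img {A : Matrix.symplecticGroup (Fin m) F} {W : Submodule F (Fin m ⊕ Fin m → F)}
    {y : Fin m ⊕ Fin m → F} : y ∈ img A W ↔
      ∃ x ∈ W, (A : Matrix (Fin m ⊕ Fin m) (Fin m ⊕ Fin m) F) *ᵥ x = y := by
  unfold img
  rw [Submodule.mem_map]
  simp only [Matrix.toLin'_apply]

lemma img_ND {A : Matrix.symplecticGroup (Fin m) F} {W : Submodule F (Fin m ⊕ Fin m → F)}
    (hW : ND W) : ND (img A W) := by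
  intro y hy hy0
  obtain ⟨x, hx, rfl⟩ := mem_img.mp hy
  have hx0 : x ≠ 0 := by
    rintro rfl
    exact hy0 (Matrix.mulVec_zero _)
  obtain ⟨a, ha, hxa⟩ := hW x hx hx0
  refine ⟨_, mem_img.mpr ⟨a, ha, rfl⟩, ?_⟩
  rw [sympForm_mulVec_of_mem A.2]
  exact hxa

lemma finrank_img (A : Matrix.symplecticGroup (Fin m) F) (W : Submodule F (Fin m ⊕ Fin m → F)) :
    Module.finrank F (img A W) = Module.finrank F W := by
  have h1 : (A : Matrix (Fin m ⊕ Fin m) (Fin m ⊕ Fin m) F) *
      ((A⁻¹ : Matrix.symplecticGroup (Fin m) F) : Matrix (Fin m ⊕ Fin m) (Fin m ⊕ Fin m) F) = 1 :=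
    congrArg Subtype.val (mul_inv_cancel A)
  have h2 : ((A⁻¹ : Matrix.symplecticGroup (Fin m) F) :
      Matrix (Fin m ⊕ Fin m) (Fin m ⊕ Fin m) F) *
      (A : Matrix (Fin m ⊕ Fin m) (Fin m ⊕ Fin m) F) = 1 :=
    congrArg Subtype.val (inv_mul_cancel A)
  exact LinearEquiv.finrank_map_eq (Matrix.toLin'OfInv h2 h1) W

/-- the Witt-type lemma -/
theorem witt_nd : ∀ (d : ℕ) (U W W' : Submodule F (Fin m ⊕ Fin m → F)), ND U → W ≤ U → W' ≤ U →
    ND W → ND W' → Module.finrank F W = d → Module.finrank F W' = d →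
    ∃ A ∈ transvGroupIn m F U, ∀ x ∈ W,
      (A : Matrix (Fin m ⊕ Fin m) (Fin m ⊕ Fin m) F) *ᵥ x ∈ W' := by
  intro d
  induction d using Nat.strong_induction_on with
  | _ d ih =>
    intro U W W' hU hWU hW'U hW hW' hd hd'
    by_cases hW0 : W = ⊥
    · refine ⟨1, Subgroup.one_mem _, fun x hx => ?_⟩
      rw [hW0, Submodule.mem_bot] at hx
      rw [hx, Matrix.mulVec_zero]
      exact W'.zero_mem
    · have hW'0 : W' ≠ ⊥ := by
        intro h
        rw [h, finrank_bot] at hd'
        rw [← hd'] at hd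
        exact hW0 (Submodule.finrank_eq_zero.mp hd)
      -- hyperbolic pairs
      have hpair : ∀ X : Submodule F (Fin m ⊕ Fin m → F), ND X → X ≠ ⊥ →
          ∃ u ∈ X, ∃ v ∈ X, sympForm m F u v = 1 := by
        intro X hX hX0
        obtain ⟨u, hu, hu0⟩ := (Submodule.ne_bot_iff X).mp hX0
        obtain ⟨a, ha, hua⟩ := hX u hu hu0
        refine ⟨u, hu, (sympForm m F u a)⁻¹ • a, X.smul_mem _ ha, ?_⟩
        rw [sympForm_smul_right, inv_mul_cancel₀ hua]
      obtain ⟨u, hu, v, hv, huv⟩ := hpair W hW hW0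
      obtain ⟨u', hu', v', hv', huv'⟩ := hpair W' hW' hW'0
      obtain ⟨A₁, hA₁, hA₁u, hA₁v⟩ := transvIn_hyperbolic_pairs U hU u v u' v' (hWU hu) (hWU hv)
        (hW'U hu') (hW'U hv') huv huv'
      have hc := finrank_cut hu hv huv
      have hc' := finrank_cut hu' hv' huv'
      -- induction hypothesis in the cut of U
      have hU₁ : ND (cut U u' v') := cut_ND hU (hW'U hu') (hW'U hv') huv'
      have himg_le : img A₁ (cut W u v) ≤ cut U u' v' := by
        intro y hy
        obtain ⟨x, hx, rfl⟩ := mem_img.mp hy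
        refine ⟨(transvGroupIn_preserves U A₁ hA₁ x).mp (hWU hx.1), ?_, ?_⟩
        · rw [← hA₁u, sympForm_mulVec_of_mem A₁.2]; exact hx.2.1
        · rw [← hA₁v, sympForm_mulVec_of_mem A₁.2]; exact hx.2.2
      obtain ⟨A₂, hA₂, hA₂map⟩ := ih (d - 2) (by omega) (cut U u' v') (img A₁ (cut W u v))
        (cut W' u' v') hU₁ himg_le (cut_mono hW'U u' v') (img_ND (cut_ND hW hu hv huv))
        (cut_ND hW' hu' hv' huv') (by rw [finrank_img]; omega) (by omega)
      have hA₂U : A₂ ∈ transvGroupIn m F U := by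
        have hle : transvGroupIn m F (cut U u' v') ≤ transvGroupIn m F U := by
          apply Subgroup.closure_mono
          rintro B ⟨w, c, hw, h⟩
          exact ⟨w, c, cut_le U u' v' hw, h⟩
        exact hle hA₂
      have hA₂u : (A₂ : Matrix (Fin m ⊕ Fin m) (Fin m ⊕ Fin m) F) *ᵥ u' = u' :=
        transvGroupIn_fixes _ A₂ hA₂ u' (fun w hw => by rw [sympForm_swap, hw.2.1, neg_zero])
      have hA₂v : (A₂ : Matrix (Fin m ⊕ Fin m) (Fin m ⊕ Fin m) F) *ᵥ v' = v' :=
        transvGroupIn_fixes _ A₂ hA₂ v' (fun w hw => by rw [sympForm_swap, hw.2.2, neg_zero])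
      refine ⟨A₂ * A₁, Subgroup.mul_mem _ hA₂U hA₁, fun x hx => ?_⟩
      change ((A₂ : Matrix (Fin m ⊕ Fin m) (Fin m ⊕ Fin m) F) *
        (A₁ : Matrix (Fin m ⊕ Fin m) (Fin m ⊕ Fin m) F)) *ᵥ x ∈ W'
      rw [← Matrix.mulVec_mulVec]
      have hx₁ := split_mem hu hv huv hx
      have h3 : x = (x - sympForm m F x v • u + sympForm m F x u • v) +
          (sympForm m F x v • u - sympForm m F x u • v) := by abel
      rw [h3, Matrix.mulVec_add, Matrix.mulVec_add, Matrix.mulVec_sub, Matrix.mulVec_sub,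
        Matrix.mulVec_smul, Matrix.mulVec_smul, Matrix.mulVec_smul, Matrix.mulVec_smul,
        hA₁u, hA₁v, hA₂u, hA₂v]
      refine W'.add_mem ?_ (W'.sub_mem (W'.smul_mem _ hu') (W'.smul_mem _ hv'))
      exact cut_le W' u' v' (hA₂map _ (mem_img.mpr ⟨_, hx₁, rfl⟩))

end Cfsg.Agent.Lib.Helper5.SpWitt
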