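import Cfsg.Agent.Lib.Helper5.AutPSLPO42

/-! S2262 leaf PO-33 (helper5): self-reciprocal polynomials of degree 3 over the field with three elements. -/

set_option autoImplicit false

namespace Cfsg.Agent.Lib.Helper5.AutPSLPO33

open Matrix Polynomial Cfsg.Agent.Lib.Helper18.PSLnAut Cfsg.Agent.Lib.Helper19.AutPSL
open Cfsg.Agent.Lib.Helper5.AutPSLPO42

variable {F : Type*} [Field F] [Fintype F]

theorem three_eq_zero (hq : Fintype.card F = 3) : (3 : F) = 0 := by
  have := FiniteField.cast_card_eq_zero F
  rw [hq] at this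
  exact_mod_cast this

theorem three_eq_zero_poly (hq : Fintype.card F = 3) : (3 : F[X]) = 0 := by
  rw [show (3 : F[X]) = C (3 : F) from (map_ofNat C 3).symm, three_eq_zero hq, C_0]

theorem one_ne_neg_one (hq : Fintype.card F = 3) : (1 : F) ≠ -1 := by
  intro h
  have h3 := three_eq_zero hq
  have : (1 : F) = 0 := by linear_combination h3 - h
  exact one_ne_zero this

/-- the elements of a field with three elements -/
theorem eq_zero_or_one_or_neg_one (hq : Fintype.card F = 3) (x : F) : x = 0 ∨ x = 1 ∨ x = -1 := by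
  classical
  by_contra h
  rw [not_or, not_or] at h
  have hne := one_ne_neg_one hq
  have h4 : ({0, 1, -1, x} : Finset F).card = 4 := by
    rw [Finset.card_insert_of_notMem, Finset.card_insert_of_notMem, Finset.card_insert_of_notMem,
      Finset.card_singleton]
    · simpa using (Ne.symm h.2.2)
    · simp only [Finset.mem_insert, Finset.mem_singleton, not_or]
      exact ⟨hne, Ne.symm h.2.1⟩
    · simp only [Finset.mem_insert, Finset.mem_singleton, not_or]
      refine ⟨zero_ne_one, ?_, Ne.symm h.1⟩
      intro h0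
      have : (1 : F) = 0 := by linear_combination h0
      exact one_ne_zero this
  have := Finset.card_le_univ ({0, 1, -1, x} : Finset F)
  omega

/-- (PO-33) -/
theorem recip_bound_33 (P : F[X]) (hP : P.Monic) (hdeg : P.natDegree = 3)
    (h0 : P.coeff 0 ≠ 0) (hrec : IsRecip P) (hq : Fintype.card F = 3) :
    ∃ (j : ℕ) (c : F), 1 ≤ j ∧ 2 * ((Fintype.card F - 1) * j) ≤ Fintype.card F ^ 3 - 1 ∧
      P ∣ X ^ j - C c := by
  have h3 := three_eq_zero_poly hq
  obtain ⟨-, hco⟩ := coeff_of_isRecip P hP h0 hrec
  have hc3 : P.coeff 3 = 1 := by rw [← hdeg]; exact hP.coeff_natDegree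
  have hc2 : P.coeff 2 = P.coeff 0 * P.coeff 1 := by
    have := hco 1 (by omega)
    rwa [hdeg] at this
  have hform : P = X ^ 3 + C (P.coeff 0 * P.coeff 1) * X ^ 2 + C (P.coeff 1) * X + C (P.coeff 0) := by
    conv_lhs => rw [P.as_sum_range_C_mul_X_pow, hdeg]
    simp only [Finset.sum_range_succ, Finset.range_one, Finset.sum_singleton, hc3, hc2, map_one, pow_zero,
      pow_one, one_mul, mul_one]
    ring
  rw [hq]
  rcases eq_zero_or_one_or_neg_one hq (P.coeff 0) with hc | hc | hc
  · exact absurd hc h0
  · rcases eq_zero_or_one_or_neg_one hq (P.coeff 1) with hb | hb | hb <;>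
      rw [hc, hb] at hform <;>
      simp only [map_zero, map_one, map_neg, zero_mul, one_mul, mul_zero, mul_one, add_zero, mul_neg, neg_mul]
        at hform
    · refine ⟨3, -1, by norm_num, by norm_num, 1, ?_⟩
      rw [hform, C_neg, C_1]
      ring
    · refine ⟨4, 1, by norm_num, by norm_num, X - 1, ?_⟩
      rw [hform, C_1]
      ring
    · refine ⟨6, 1, by norm_num, by norm_num, -1 - X + X ^ 2 + X ^ 3, ?_⟩
      rw [hform, C_1]
      linear_combination (-(X ^ 2 - X ^ 4) : F[X]) * h3
  · rcases eq_zero_or_one_or_neg_one hq (P.coeff 1) with hb | hb | hb <;>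
      rw [hc, hb] at hform <;>
      simp only [map_zero, map_one, map_neg, zero_mul, one_mul, mul_zero, mul_one, add_zero, mul_neg, neg_mul,
        neg_neg] at hform
    · refine ⟨3, 1, by norm_num, by norm_num, 1, ?_⟩
      rw [hform, C_1]
      ring
    · refine ⟨4, 1, by norm_num, by norm_num, X + 1, ?_⟩
      rw [hform, C_1]
      ring
    · refine ⟨6, 1, by norm_num, by norm_num, 1 - X - X ^ 2 + X ^ 3, ?_⟩
      rw [hform, C_1]
      linear_combination (-(X ^ 2 - X ^ 4) : F[X]) * h3

end Cfsg.Agent.Lib.Helper5.AutPSLPO33
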