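import Cfsg.Agent.Lib.Helper19.AutPSLDefs

/-! S2262 leaf PO-42 (helper5): self-reciprocal polynomials of degree 4 over the field with two elements. Also the
shared facts about a field with two elements and the coefficients of a self-reciprocal polynomial. -/

set_option autoImplicit false

namespace Cfsg.Agent.Lib.Helper5.AutPSLPO42

open Matrix Polynomial Cfsg.Agent.Lib.Helper18.PSLnAut Cfsg.Agent.Lib.Helper19.AutPSL

variable {F : Type*} [Field F] [Fintype F]

/-- the elements of a field with two elements -/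
theorem eq_zero_or_one (hq : Fintype.card F = 2) (x : F) : x = 0 ∨ x = 1 := by
  classical
  by_contra h
  rw [not_or] at h
  have h3 : ({0, 1, x} : Finset F).card = 3 := by
    rw [Finset.card_insert_of_notMem, Finset.card_insert_of_notMem, Finset.card_singleton]
    · simpa using (Ne.symm h.2)
    · simp only [Finset.mem_insert, Finset.mem_singleton, not_or]
      exact ⟨zero_ne_one, Ne.symm h.1⟩
  have := Finset.card_le_univ ({0, 1, x} : Finset F)
  omega

theorem two_eq_zero (hq : Fintype.card F = 2) : (2 : F) = 0 := by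
  rcases eq_zero_or_one hq (1 + 1 : F) with h | h
  · rw [← h]; norm_num
  · exfalso
    have : (1 : F) = 0 := by linear_combination h
    exact one_ne_zero this

theorem two_eq_zero_poly (hq : Fintype.card F = 2) : (2 : F[X]) = 0 := by
  rw [show (2 : F[X]) = C (2 : F) from (map_ofNat C 2).symm, two_eq_zero hq, C_0]

omit [Fintype F] in
/-- the coefficients of a self-reciprocal monic polynomial with nonzero constant coefficient -/
theorem coeff_of_isRecip (P : F[X]) (hP : P.Monic) (h0 : P.coeff 0 ≠ 0) (hrec : IsRecip P) :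
    P.coeff 0 * P.coeff 0 = 1 ∧ ∀ n ≤ P.natDegree, P.coeff (P.natDegree - n) = P.coeff 0 * P.coeff n := by
  obtain ⟨u, hu, h⟩ := hrec
  have ht : P.natTrailingDegree = 0 := by
    rw [natTrailingDegree_eq_zero]; right; exact h0
  have key : ∀ n ≤ P.natDegree, P.coeff (P.natDegree - n) = u * P.coeff n := by
    intro n hn
    have := congrArg (fun Q => Q.coeff n) h
    simp only [coeff_C_mul] at this
    rw [coeff_mirror, ht, add_zero, revAt_le hn] at this
    exact this
  have hu0 : P.coeff 0 = u := by
    have := key P.natDegree le_rfl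
    rwa [Nat.sub_self, hP.coeff_natDegree, mul_one] at this
  have h1 := key 0 (Nat.zero_le _)
  rw [Nat.sub_zero, hP.coeff_natDegree, ← hu0] at h1
  refine ⟨h1.symm, fun n hn => ?_⟩
  rw [key n hn, hu0]

/-- (PO-42) -/
theorem recip_bound_42 (P : F[X]) (hP : P.Monic) (hdeg : P.natDegree = 4)
    (h0 : P.coeff 0 ≠ 0) (hrec : IsRecip P) (hq : Fintype.card F = 2) :
    ∃ (j : ℕ) (c : F), 1 ≤ j ∧ 2 * ((Fintype.card F - 1) * j) ≤ Fintype.card F ^ 4 - 1 ∧
      P ∣ X ^ j - C c := by
  have h2 := two_eq_zero_poly hq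
  obtain ⟨-, hco⟩ := coeff_of_isRecip P hP h0 hrec
  have hc0 : P.coeff 0 = 1 := by
    rcases eq_zero_or_one hq (P.coeff 0) with h | h
    · exact absurd h h0
    · exact h
  have hc4 : P.coeff 4 = 1 := by rw [← hdeg]; exact hP.coeff_natDegree
  have hc3 : P.coeff 3 = P.coeff 1 := by
    have := hco 1 (by omega)
    rwa [hdeg, hc0, one_mul] at this
  have hform : P = X ^ 4 + C (P.coeff 1) * X ^ 3 + C (P.coeff 2) * X ^ 2 + C (P.coeff 1) * X + 1 := by
    conv_lhs => rw [P.as_sum_range_C_mul_X_pow, hdeg]
    simp only [Finset.sum_range_succ, Finset.range_one, Finset.sum_singleton, hc0, hc4, hc3, map_one, pow_zero,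
      pow_one, one_mul, mul_one]
    ring
  rw [hq]
  rcases eq_zero_or_one hq (P.coeff 1) with ha | ha <;> rcases eq_zero_or_one hq (P.coeff 2) with hb | hb <;>
    rw [ha, hb] at hform <;> simp only [map_zero, map_one, zero_mul, one_mul, add_zero] at hform
  · refine ⟨4, 1, by norm_num, by norm_num, 1, ?_⟩
    rw [hform, C_1]
    linear_combination (-1 : F[X]) * h2
  · refine ⟨6, 1, by norm_num, by norm_num, X ^ 2 - 1, ?_⟩
    rw [hform, C_1]
    ring
  · refine ⟨6, 1, by norm_num, by norm_num, X ^ 2 + X + 1, ?_⟩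
    rw [hform, C_1]
    linear_combination (-(1 + X + X ^ 2 + X ^ 3 + X ^ 4 + X ^ 5) : F[X]) * h2
  · refine ⟨5, 1, by norm_num, by norm_num, X - 1, ?_⟩
    rw [hform, C_1]
    ring

end Cfsg.Agent.Lib.Helper5.AutPSLPO42
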