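import Cfsg.Agent.Lib.Helper5.AutPSLPO42

/-! S2262 leaf PO-52 (helper5): self-reciprocal polynomials of degree 5 over the field with two elements. -/

set_option autoImplicit false

namespace Cfsg.Agent.Lib.Helper5.AutPSLPO52

open Matrix Polynomial Cfsg.Agent.Lib.Helper18.PSLnAut Cfsg.Agent.Lib.Helper19.AutPSL
open Cfsg.Agent.Lib.Helper5.AutPSLPO42

variable {F : Type*} [Field F] [Fintype F]

/-- (PO-52) -/
theorem recip_bound_52 (P : F[X]) (hP : P.Monic) (hdeg : P.natDegree = 5)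
    (h0 : P.coeff 0 ≠ 0) (hrec : IsRecip P) (hq : Fintype.card F = 2) :
    ∃ (j : ℕ) (c : F), 1 ≤ j ∧ 2 * ((Fintype.card F - 1) * j) ≤ Fintype.card F ^ 5 - 1 ∧
      P ∣ X ^ j - C c := by
  have h2 := two_eq_zero_poly hq
  obtain ⟨-, hco⟩ := coeff_of_isRecip P hP h0 hrec
  have hc0 : P.coeff 0 = 1 := by
    rcases eq_zero_or_one hq (P.coeff 0) with h | h
    · exact absurd h h0
    · exact h
  have hc5 : P.coeff 5 = 1 := by rw [← hdeg]; exact hP.coeff_natDegree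
  have hc4 : P.coeff 4 = P.coeff 1 := by
    have := hco 1 (by omega)
    rwa [hdeg, hc0, one_mul] at this
  have hc3 : P.coeff 3 = P.coeff 2 := by
    have := hco 2 (by omega)
    rwa [hdeg, hc0, one_mul] at this
  have hform : P = X ^ 5 + C (P.coeff 1) * X ^ 4 + C (P.coeff 2) * X ^ 3 + C (P.coeff 2) * X ^ 2 +
      C (P.coeff 1) * X + 1 := by
    conv_lhs => rw [P.as_sum_range_C_mul_X_pow, hdeg]
    simp only [Finset.sum_range_succ, Finset.range_one, Finset.sum_singleton, hc0, hc5, hc4, hc3, map_one, pow_zero,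
      pow_one, one_mul, mul_one]
    ring
  rw [hq]
  rcases eq_zero_or_one hq (P.coeff 1) with ha | ha <;> rcases eq_zero_or_one hq (P.coeff 2) with hb | hb <;>
    rw [ha, hb] at hform <;> simp only [map_zero, map_one, zero_mul, one_mul, add_zero] at hform
  · refine ⟨5, 1, by norm_num, by norm_num, 1, ?_⟩
    rw [hform, C_1]
    linear_combination (-1 : F[X]) * h2
  · refine ⟨12, 1, by norm_num, by norm_num, 1 + X ^ 2 + X ^ 3 + X ^ 4 + X ^ 5 + X ^ 7, ?_⟩
    rw [hform, C_1]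
    linear_combination (-(1 + X ^ 2 + X ^ 3 + X ^ 4 + 2 * X ^ 5 + X ^ 6 + 2 * X ^ 7 + X ^ 8 + X ^ 9 + X ^ 10) :
      F[X]) * h2
  · refine ⟨8, 1, by norm_num, by norm_num, 1 + X + X ^ 2 + X ^ 3, ?_⟩
    rw [hform, C_1]
    linear_combination (-(1 + X + X ^ 2 + X ^ 3 + X ^ 4 + X ^ 5 + X ^ 6 + X ^ 7) : F[X]) * h2
  · refine ⟨6, 1, by norm_num, by norm_num, X - 1, ?_⟩
    rw [hform, C_1]
    ring

end Cfsg.Agent.Lib.Helper5.AutPSLPO52
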