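/-
S4700 + S0996 (planner helper27), wrapper leaf ALTLB `alt_lower_bound` (frozen statement in
notes/S4700_F_leaves.lean): the third alternative of S4700 forces `n ≥ (p+3)/2`.
-/
import Mathlib
import Cfsg.Prelude.Def_BlockRank
import Cfsg.Prelude.Def_CaseTheorems
import Cfsg.Agent.Lib.Helper27.BRWDefs

set_option autoImplicit false

namespace Cfsg.Agent.Lib.Helper5.BRWALTLB

open Cfsg Cfsg.Agent.Lib.Helper27.BRW

universe u

/-- **ALTLB** : the third alternative forces `n ≥ (p+3)/2`. -/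
theorem alt_lower_bound (p n : ℕ) (ha : Alt p n) : p + 3 ≤ 2 * n := by
  obtain ⟨h, u, hh, hu, heq⟩ := ha
  have h1 : u * p ≤ h * u * p := by
    have : 1 * (u * p) ≤ h * (u * p) := Nat.mul_le_mul_right _ hh
    calc u * p = 1 * (u * p) := (one_mul _).symm
      _ ≤ h * (u * p) := this
      _ = h * u * p := (mul_assoc _ _ _).symm
  have h2 : (p + 3) * (u + 1) ≤ 2 * n * (u + 1) := by
    have h3 : 2 * n * (u + 1) = 2 * (n * (u + 1)) := by ring
    rw [h3, heq]
    have hu1 : 1 ≤ u := hu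
    obtain ⟨v, rfl⟩ : ∃ v, u = v + 1 := ⟨u - 1, by omega⟩
    nlinarith [Nat.zero_le (p * v), Nat.zero_le (v * v), Nat.zero_le v]
  exact Nat.le_of_mul_le_mul_right h2 (Nat.succ_pos u)

end Cfsg.Agent.Lib.Helper5.BRWALTLB
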