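/-
S0998 (planner helper19, market BT8), leaf BT8-ARITHB (frozen statement in notes/S0998_leaves.lean).
-/
import Mathlib
import Cfsg.Agent.Lib.Helper26.Ord450

set_option autoImplicit false

namespace Cfsg.Agent.Lib.Helper5.BT8ARITHB

universe u

/-- `3 ∣ (2^m - 1) (2^m + 1)` -/
theorem three_dvd (m : ℕ) : 3 ∣ (2 ^ m - 1) * (2 ^ m + 1) := by
  have h1 : (2 ^ m - 1) * (2 ^ m + 1) = 4 ^ m - 1 := by
    have h2 : 1 ≤ 2 ^ m := Nat.one_le_two_pow
    have h4 : (4 : ℕ) ^ m = 2 ^ m * 2 ^ m := by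
      have : (4 : ℕ) = 2 * 2 := by norm_num
      rw [this, mul_pow]
    rw [h4]
    obtain ⟨k, hk⟩ : ∃ k, 2 ^ m = k + 1 := ⟨2 ^ m - 1, by omega⟩
    rw [hk]
    simp only [Nat.add_sub_cancel]
    have : (k + 1) * (k + 1) - 1 = k * (k + 1 + 1) := by
      have : (k + 1) * (k + 1) = k * (k + 1 + 1) + 1 := by ring
      omega
    rw [this]
  rw [h1]
  have := Nat.sub_dvd_pow_sub_pow 4 1 m
  simpa using this

/-- a prime is not divisible by `4` -/
theorem not_four_dvd_prime {r : ℕ} (hr : r.Prime) : ¬ 4 ∣ r := by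
  intro h
  have h2 : 2 ∣ r := (by norm_num : (2 : ℕ) ∣ 4).trans h
  have := (Nat.prime_dvd_prime_iff_eq Nat.prime_two hr).mp h2
  rw [← this] at h
  omega

/-- the core: `r q^b = Q (Q - 1)`, `Q = 2^m`, `m ≥ 2`, `Q + 1` prime `> 3` -/
theorem core (q r b m : ℕ) (hq : q.Prime) (hr : r.Prime) (hqr : q ≠ r) (hm2 : 2 ≤ m)
    (hp : (2 ^ m + 1).Prime) (h : r * q ^ b = 2 ^ m * (2 ^ m - 1)) : m = 2 := by
  have h4 : 4 ∣ 2 ^ m := by
    obtain ⟨k, rfl⟩ : ∃ k, m = 2 + k := ⟨m - 2, by omega⟩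
    rw [pow_add]
    exact Dvd.intro _ rfl
  have hQ1 : 1 ≤ 2 ^ m := Nat.one_le_two_pow
  -- `q = 2`
  have hq2 : q = 2 := by
    by_contra hne
    have hcop : Nat.Coprime 4 (q ^ b) := by
      apply Nat.Coprime.pow_right
      have : Nat.Coprime 2 q := (Nat.coprime_primes Nat.prime_two hq).mpr (fun e => hne e.symm)
      have h22 : (4 : ℕ) = 2 ^ 2 := by norm_num
      rw [h22]
      exact Nat.Coprime.pow_left 2 this
    have h4r : 4 ∣ r * q ^ b := by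
      rw [h]
      exact Dvd.dvd.mul_right h4 _
    exact not_four_dvd_prime hr (hcop.dvd_of_dvd_mul_right h4r)
  subst hq2
  have hr2 : r ≠ 2 := fun e => hqr e.symm
  have hrodd : Nat.Coprime r 2 := (Nat.coprime_primes hr Nat.prime_two).mpr hr2
  -- `r ∣ 2^m - 1`
  have h5 : r ∣ 2 ^ m - 1 := by
    have : r ∣ 2 ^ m * (2 ^ m - 1) := by rw [← h]; exact Dvd.intro _ rfl
    exact (Nat.Coprime.pow_right m hrodd).dvd_of_dvd_mul_left this
  -- `2^m - 1 ∣ r`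
  have hodd : Nat.Coprime (2 ^ m - 1) 2 := by
    rw [Nat.coprime_two_right]
    have : Even (2 ^ m) := by
      rw [Nat.even_pow]
      exact ⟨even_two, by omega⟩
    exact Nat.Even.sub_odd hQ1 this odd_one
  have h6 : 2 ^ m - 1 ∣ r := by
    have : 2 ^ m - 1 ∣ r * 2 ^ b := by rw [h]; exact Dvd.intro_left _ rfl
    exact (Nat.Coprime.pow_right b hodd).dvd_of_dvd_mul_right this
  have hr_eq : r = 2 ^ m - 1 := Nat.dvd_antisymm h5 h6
  -- `3 ∣ r` or `3 ∣ p`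
  have h3 := three_dvd m
  rw [← hr_eq] at h3
  rcases (Nat.Prime.dvd_mul Nat.prime_three).mp h3 with h7 | h7
  · have hr3 : 3 = r := (Nat.prime_dvd_prime_iff_eq Nat.prime_three hr).mp h7
    have h8 : 2 ^ m = 2 ^ 2 := by omega
    exact Nat.pow_right_injective (le_refl 2) h8
  · have hp3 : 3 = 2 ^ m + 1 := (Nat.prime_dvd_prime_iff_eq Nat.prime_three hp).mp h7
    have : 4 ≤ 2 ^ m := Nat.le_of_dvd (by omega) h4
    omega

/-- BT8-ARITHB -/
theorem arith_B (p q r b m : ℕ) (hp : p.Prime) (hq : q.Prime) (hr : r.Prime) (hpq : p ≠ q) (hqr : q ≠ r) (hrp : r < p)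
    (hm : p = 2 ^ m + 1) (h3 : 3 < p) (hcard : p * r * q ^ b = 2 ^ m * ((2 ^ m) ^ 2 - 1)) : m = 2 := by
  have hm2 : 2 ≤ m := by
    by_contra hlt
    have : m = 0 ∨ m = 1 := by omega
    rcases this with h | h <;> subst h <;> simp at hm <;> omega
  have hQ1 : 1 ≤ 2 ^ m := Nat.one_le_two_pow
  have hfac : (2 ^ m) ^ 2 - 1 = (2 ^ m - 1) * (2 ^ m + 1) := by
    obtain ⟨k, hk⟩ : ∃ k, 2 ^ m = k + 1 := ⟨2 ^ m - 1, by omega⟩
    rw [hk]
    simp only [Nat.add_sub_cancel]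
    have : (k + 1) ^ 2 = k * (k + 1 + 1) + 1 := by ring
    omega
  have hppos : 0 < p := hp.pos
  have h : r * q ^ b = 2 ^ m * (2 ^ m - 1) := by
    have h1 : p * (r * q ^ b) = p * (2 ^ m * (2 ^ m - 1)) := by
      rw [← mul_assoc, hcard, hfac, hm]
      ring
    exact Nat.eq_of_mul_eq_mul_left hppos h1
  have hp' : (2 ^ m + 1).Prime := hm ▸ hp
  exact core q r b m hq hr hqr hm2 hp' h

end Cfsg.Agent.Lib.Helper5.BT8ARITHB
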