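/-
S0998 (planner helper19, market BT8), leaf BT8-TWOODD (frozen statement in notes/S0998_leaves.lean).
-/
import Mathlib
import Cfsg.Agent.Lib.Helper26.Ord450

set_option autoImplicit false

namespace Cfsg.Agent.Lib.Helper5.BT8TWOODD

universe u

/-- BT8-TWOODD -/
theorem false_of_card_two_mul_odd {G : Type u} [Group G] [Finite G] [IsSimpleGroup G] (hG : ¬ IsCyclic G) (k : ℕ)
    (hcard : Nat.card G = 2 * k) (hk : ¬ 2 ∣ k) : False := by
  obtain ⟨K, hKn, hKc, hKi⟩ := Cfsg.Agent.Lib.Helper26.Ord450.exists_normal_of_card_two_mul hcard hk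
  rcases hKn.eq_bot_or_eq_top with h | h
  · rw [h, Subgroup.card_bot] at hKc
    rw [← hKc] at hcard
    have : Fact (Nat.Prime 2) := ⟨Nat.prime_two⟩
    exact hG (isCyclic_of_prime_card (p := 2) (by rw [hcard]))
  · rw [h, Subgroup.index_top] at hKi
    omega

end Cfsg.Agent.Lib.Helper5.BT8TWOODD
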