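/-
helper5 (S2345, leaf S4 `exists_xi` of helper27's plan `notes/S2345_leaves.lean`, same name and
binders): the vector `ξ = Σ_t ρ (levi (transvection i₀ b t)) m`, `0 ≠ m ∈ wt (V0 i₀ a b 0)`.
-/
import Mathlib
import Cfsg.Agent.Lib.Helper27.OPMinDefs
import Cfsg.Agent.Lib.Helper27.OPMinStageDefs
import Cfsg.Agent.Lib.Helper13.SLMinW
import Cfsg.Agent.Lib.Helper24.OPMinWS

set_option autoImplicit false
set_option linter.unusedSectionVars false
set_option linter.unusedVariables false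

namespace Cfsg.Agent.Lib.Helper5.OPMin

open Matrix Module Cfsg.Agent.Lib.Helper27.OPMin Cfsg.Agent.Lib.Helper16.SLMin
  Cfsg.Agent.Lib.Helper15.OrbitBound Cfsg.Agent.Lib.Helper13.SLMinWt Cfsg.Agent.Lib.Helper13.SLMin
  Cfsg.Agent.Lib.Helper24.OPMin

section mat

variable {F : Type*} [Field F] {n : ℕ}

/-- `A (x ∧ y) Aᵀ = (A x) ∧ (A y)` -/
theorem wedge_mulVec (A : Matrix (Fin n) (Fin n) F) (x y : Fin n → F) :
    wedge (A *ᵥ x) (A *ᵥ y) = A * wedge x y * Aᵀ := by
  unfold wedge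
  rw [Matrix.mul_sub, Matrix.sub_mul, Matrix.mul_vecMulVec, Matrix.mul_vecMulVec,
    Matrix.vecMulVec_mul, Matrix.vecMulVec_mul, Matrix.vecMul_transpose, Matrix.vecMul_transpose]

/-- the transpose of a transvection on a basis vector -/
theorem one_add_single_mulVec (i j k : Fin n) (t : F) :
    ((1 : Matrix (Fin n) (Fin n) F) + Matrix.single j i t) *ᵥ Pi.single k (1 : F) =
      Pi.single k 1 + (if k = i then t else 0) • Pi.single j (1 : F) := by
  rw [add_mulVec, one_mulVec, single_mulVec_eq]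
  congr 2
  rw [Pi.single_apply]
  by_cases h : k = i
  · rw [if_pos h, if_pos h.symm, mul_one]
  · rw [if_neg h, if_neg (Ne.symm h), mul_zero]

/-- two transvections with unrelated indices commute -/
theorem transvection_comm {i j k l : Fin n} (hij : i ≠ j) (hkl : k ≠ l) (hjk : j ≠ k)
    (hli : l ≠ i) (s t : F) :
    SpecialLinearGroup.transvection hij s * SpecialLinearGroup.transvection hkl t =
      SpecialLinearGroup.transvection hkl t * SpecialLinearGroup.transvection hij s := by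
  apply Subtype.ext
  show ((1 : Matrix (Fin n) (Fin n) F) + Matrix.single i j s) * (1 + Matrix.single k l t) =
    (1 + Matrix.single k l t) * (1 + Matrix.single i j s)
  rw [mul_add, add_mul, add_mul, mul_add, add_mul, add_mul,
    single_mul_single_of_ne _ _ _ _ hjk, single_mul_single_of_ne _ _ _ _ hli]
  simp only [one_mul, mul_one, add_zero]
  abel

theorem toM_V0_conj (i₀ a b : Fin n) (hab : a ≠ b) (hi₀a : i₀ ≠ a) (hi₀b : i₀ ≠ b) (t : F) :
    toM (V0 i₀ a b (0 : F)) =
      ((SpecialLinearGroup.transvection hi₀b t : SpecialLinearGroup (Fin n) F) :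
          Matrix (Fin n) (Fin n) F)ᵀ * toM (V0 i₀ a b t) *
        ((SpecialLinearGroup.transvection hi₀b t : SpecialLinearGroup (Fin n) F) :
          Matrix (Fin n) (Fin n) F) := by
  rw [SpecialLinearGroup.transvection_coe, transpose_add, transpose_one, transpose_single]
  have hAT : (1 + Matrix.single i₀ b t : Matrix (Fin n) (Fin n) F) =
      (1 + Matrix.single b i₀ t : Matrix (Fin n) (Fin n) F)ᵀ := by
    rw [transpose_add, transpose_one, transpose_single]
  rw [hAT]
  unfold V0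
  rw [toM_ofM, toM_ofM, Matrix.mul_add, Matrix.add_mul, Matrix.mul_smul, Matrix.smul_mul,
    ← wedge_mulVec, ← wedge_mulVec, one_add_single_mulVec, one_add_single_mulVec,
    one_add_single_mulVec, if_pos rfl, if_neg hi₀a.symm, if_neg hi₀b.symm]
  ext x y
  simp only [wedge_apply, Matrix.add_apply, Matrix.smul_apply, Pi.add_apply, Pi.smul_apply,
    smul_eq_mul, zero_smul, add_zero, Matrix.zero_apply]
  ring

theorem V0_apply_ab (i₀ a b : Fin n) (hab : a ≠ b) (hi₀a : i₀ ≠ a) (hi₀b : i₀ ≠ b) (δ : F) :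
    V0 i₀ a b δ (a, b) = δ := by
  simp [V0, wedge_apply, Pi.single_apply, hab, hab.symm, hi₀a, hi₀a.symm, hi₀b, hi₀b.symm]

theorem V0_apply_i₀a (i₀ a b : Fin n) (hab : a ≠ b) (hi₀a : i₀ ≠ a) (hi₀b : i₀ ≠ b) (δ : F) :
    V0 i₀ a b δ (i₀, a) = 1 := by
  simp [V0, wedge_apply, Pi.single_apply, hab, hab.symm, hi₀a, hi₀a.symm, hi₀b, hi₀b.symm]

theorem V0_apply_off (i₀ a b : Fin n) (δ : F) (x y : Fin n) (h1 : x ≠ a) (h2 : x ≠ b)
    (h3 : y ≠ a) (h4 : y ≠ b) : V0 i₀ a b δ (x, y) = 0 := by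
  simp [V0, wedge_apply, Pi.single_apply, h1, h2, h3, h4]

end mat

section ST

variable {F : Type*} [Field F] [Fintype F] [DecidableEq F] {n : ℕ} {H : Type*} [Group H]
  {M : Type*} [AddCommGroup M] [Module ℂ M] [FiniteDimensional ℂ M]
  (D : Siegel F n H) (ρ : Representation ℂ H M)

/-- the action of `rad R` on a weight vector -/
theorem rho_rad_of_mem_wt (v : Fin n × Fin n → F) (m : M) (hm : m ∈ wt ρ D.radv v)
    (R : Matrix (Fin n) (Fin n) F) :
    ρ (D.rad R) m = (eps F (v ⬝ᵥ ofM R) : ℂ) • m := hm (ofM R)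

/-- S4: the vector `ξ = Σ_t ρ (levi (transvection i₀ b t)) m`, `0 ≠ m ∈ wt (V0 i₀ a b 0)`. -/
theorem exists_xi (i₀ a b : Fin n) (hab : a ≠ b) (hi₀a : i₀ ≠ a) (hi₀b : i₀ ≠ b)
    (hV : wt ρ D.radv (V0 i₀ a b 0) ≠ ⊥)
    (hfix : ∀ (i j : Fin n) (hij : i ≠ j), i ≠ a → i ≠ b → (j = a ∨ j = b) → ¬ (i = i₀ ∧ j = b) →
      ∀ t : F, ∀ m ∈ wt ρ D.radv (V0 i₀ a b 0),
        ρ (D.levi (SpecialLinearGroup.transvection hij t)) m = m) :
    ∃ ξ : M, ξ ≠ 0 ∧
      (∀ R : Matrix (Fin n) (Fin n) F, (∀ i j, R i j ≠ 0 → i ≠ a ∧ i ≠ b ∧ j ≠ a ∧ j ≠ b) →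
        ρ (D.rad R) ξ = ξ) ∧
      (∀ (i j : Fin n) (hij : i ≠ j), i ≠ a → i ≠ b → (j = a ∨ j = b) → ∀ t : F,
        ρ (D.levi (SpecialLinearGroup.transvection hij t)) ξ = ξ) ∧
      ∀ r : F, ρ (D.rad (Matrix.single i₀ a r)) ξ = (eps F r : ℂ) • ξ := by
  classical
  obtain ⟨m, hm, hm0⟩ := Submodule.exists_mem_ne_zero_of_ne_bot hV
  set g : F → SpecialLinearGroup (Fin n) F := fun t => SpecialLinearGroup.transvection hi₀b t
    with hg
  have hmt : ∀ t, ρ (D.levi (g t)) m ∈ wt ρ D.radv (V0 i₀ a b t) := by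
    intro t
    rw [← map_wt_levi D ρ (g t) (V0 i₀ a b 0) (V0 i₀ a b t) (toM_V0_conj i₀ a b hab hi₀a hi₀b t)]
    exact Submodule.mem_map_of_mem hm
  have hgadd : ∀ s t, g (s + t) = g s * g t := fun s t =>
    SpecialLinearGroup.transvection_add hi₀b s t
  have hg0 : g 0 = 1 := SpecialLinearGroup.transvection_coeff_zero hi₀b
  refine ⟨∑ t : F, ρ (D.levi (g t)) m, ?_, ?_, ?_, ?_⟩
  · intro h0
    set x : (Fin n × Fin n → F) → Module.End ℂ M := fun r => ρ (D.radv r) with hx
    have hxa : ∀ v w, x (v + w) = x v * x w := fun v w => by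
      show ρ (D.radv (v + w)) = ρ (D.radv v) * ρ (D.radv w)
      rw [D.radv_add, map_mul]
    have hrange : ∀ v, wt ρ D.radv v = LinearMap.range (Pr (eps F) x v) := fun v =>
      wt_eq_range ρ D.radv D.radv_add v
    have hP := congrArg (fun z => (Pr (eps F) x (V0 i₀ a b 0) : Module.End ℂ M) z) h0
    beta_reduce at hP
    rw [map_sum, map_zero, Finset.sum_eq_single (0 : F)] at hP
    · have h1 : ρ (D.levi (g 0)) m = m := by
        rw [hg0, map_one, map_one]
        rfl
      rw [h1] at hP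
      have h2 : (Pr (eps F) x (V0 i₀ a b 0) : Module.End ℂ M) m = m :=
        (mem_range_idem (Pr_idem (eps F) x (eps_prim F) hxa _)).mp (by rw [← hrange]; exact hm)
      rw [h2] at hP
      exact hm0 hP
    · intro t _ ht
      have h3 : ρ (D.levi (g t)) m ∈ LinearMap.range (Pr (eps F) x (V0 i₀ a b t)) := by
        rw [← hrange]
        exact hmt t
      obtain ⟨z, hz⟩ := h3
      rw [← hz]
      have hne : V0 i₀ a b (0 : F) ≠ V0 i₀ a b t := by
        intro h
        have h' := congrFun h (a, b)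
        rw [V0_apply_ab i₀ a b hab hi₀a hi₀b, V0_apply_ab i₀ a b hab hi₀a hi₀b] at h'
        exact ht h'.symm
      show ((Pr (eps F) x (V0 i₀ a b 0) : Module.End ℂ M) * Pr (eps F) x (V0 i₀ a b t)) z = 0
      rw [Pr_orth (eps F) x (eps_prim F) hxa hne]
      rfl
    · intro h
      exact absurd (Finset.mem_univ _) h
  · intro R hR
    rw [map_sum]
    apply Finset.sum_congr rfl
    intro t _
    rw [rho_rad_of_mem_wt D ρ _ _ (hmt t) R]
    have h0 : V0 i₀ a b t ⬝ᵥ ofM R = 0 := by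
      unfold dotProduct
      apply Finset.sum_eq_zero
      rintro ⟨x, y⟩ _
      by_cases hxy : R x y = 0
      · rw [ofM_apply, hxy, mul_zero]
      · obtain ⟨h1, h2, h3, h4⟩ := hR x y hxy
        rw [V0_apply_off i₀ a b t x y h1 h2 h3 h4, zero_mul]
    rw [h0, AddChar.map_zero_eq_one, one_smul]
  · intro i j hij hia hib hj s
    rw [map_sum]
    by_cases hc : i = i₀ ∧ j = b
    · have hT : SpecialLinearGroup.transvection hij s = g s := by
        obtain ⟨h1, h2⟩ := hc
        subst h1 h2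
        rfl
      rw [hT]
      have hst : ∀ t, ρ (D.levi (g s)) (ρ (D.levi (g t)) m) = ρ (D.levi (g (s + t))) m := by
        intro t
        rw [hgadd, map_mul, map_mul]
        rfl
      rw [Finset.sum_congr rfl (fun t _ => hst t)]
      exact Equiv.sum_comp (Equiv.addLeft s) (fun t => ρ (D.levi (g t)) m)
    · apply Finset.sum_congr rfl
      intro t _
      have hji₀ : j ≠ i₀ := by
        rcases hj with rfl | rfl
        · exact hi₀a.symm
        · exact hi₀b.symm
      have hcomm : SpecialLinearGroup.transvection hij s * g t =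
          g t * SpecialLinearGroup.transvection hij s :=
        transvection_comm hij hi₀b hji₀ hib.symm s t
      have h1 : ρ (D.levi (SpecialLinearGroup.transvection hij s)) (ρ (D.levi (g t)) m) =
          ρ (D.levi (g t)) (ρ (D.levi (SpecialLinearGroup.transvection hij s)) m) := by
        rw [← Module.End.mul_apply, ← map_mul, ← map_mul, hcomm, map_mul, map_mul]
        rfl
      rw [h1, hfix i j hij hia hib hj hc s m hm]
  · intro r
    rw [map_sum, Finset.smul_sum]
    apply Finset.sum_congr rfl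
    intro t _
    rw [rho_rad_of_mem_wt D ρ _ _ (hmt t), dotProduct_ofM_single,
      V0_apply_i₀a i₀ a b hab hi₀a hi₀b, one_mul]

end ST

end Cfsg.Agent.Lib.Helper5.OPMin
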