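/-
helper5 (S2345, leaf S2 `levi_transvection_fix_Wd` of helper27's plan `notes/S2345_leaves.lean`,
same name and binders): a transvection `T_ij(t)`, `i ∉ {a, b}`, `j ∈ {a, b}`, fixes the (at most
one-dimensional) weight space of `δ (E_ab - E_ba)` pointwise, being the commutator of two
transvections which stabilise that weight.
-/
import Mathlib
import Cfsg.Agent.Lib.Helper5.OPMinS4

set_option autoImplicit false
set_option linter.unusedSectionVars false
set_option linter.unusedVariables false

namespace Cfsg.Agent.Lib.Helper5.OPMin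

open Matrix Module Cfsg.Agent.Lib.Helper27.OPMin Cfsg.Agent.Lib.Helper16.SLMin
  Cfsg.Agent.Lib.Helper13.SLMin Cfsg.Agent.Lib.Helper24.OPMin

section mat

variable {F : Type*} [Field F] {n : ℕ}

/-- `T_ik(t) T_kj(1) = T_kj(1) T_ik(t) T_ij(t)` -/
theorem transvection_comm_rel {i j k : Fin n} (hik : i ≠ k) (hkj : k ≠ j) (hij : i ≠ j) (t : F) :
    SpecialLinearGroup.transvection hik t * SpecialLinearGroup.transvection hkj (1 : F) =
      SpecialLinearGroup.transvection hkj (1 : F) * SpecialLinearGroup.transvection hik t *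
        SpecialLinearGroup.transvection hij t := by
  apply Subtype.ext
  show ((1 : Matrix (Fin n) (Fin n) F) + Matrix.single i k t) * (1 + Matrix.single k j 1) =
    (1 + Matrix.single k j 1) * (1 + Matrix.single i k t) * (1 + Matrix.single i j t)
  simp only [mul_add, add_mul, one_mul, mul_one, single_mul_single_same,
    single_mul_single_of_ne _ _ _ _ hij.symm, single_mul_single_of_ne _ _ _ _ hik.symm,
    zero_mul, mul_zero, add_zero]
  abel

/-- a transvection `T_xy(s)` with `x ∉ {a, b}` stabilises the weight `δ (E_ab - E_ba)` -/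
theorem toM_Wd_conj (a b x y : Fin n) (hxy : x ≠ y) (hxa : x ≠ a) (hxb : x ≠ b) (s δ : F) :
    toM (Wd a b δ) =
      ((SpecialLinearGroup.transvection hxy s : SpecialLinearGroup (Fin n) F) :
          Matrix (Fin n) (Fin n) F)ᵀ * toM (Wd a b δ) *
        ((SpecialLinearGroup.transvection hxy s : SpecialLinearGroup (Fin n) F) :
          Matrix (Fin n) (Fin n) F) := by
  rw [SpecialLinearGroup.transvection_coe, transpose_add, transpose_one, transpose_single]
  have hAT : (1 + Matrix.single x y s : Matrix (Fin n) (Fin n) F) =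
      (1 + Matrix.single y x s : Matrix (Fin n) (Fin n) F)ᵀ := by
    rw [transpose_add, transpose_one, transpose_single]
  rw [hAT]
  unfold Wd
  rw [toM_ofM, Matrix.mul_smul, Matrix.smul_mul, ← wedge_mulVec, one_add_single_mulVec,
    one_add_single_mulVec, if_neg hxa.symm, if_neg hxb.symm, zero_smul, add_zero, add_zero]

end mat

section ST

variable {F : Type*} [Field F] [Fintype F] [DecidableEq F] {n : ℕ} {H : Type*} [Group H]
  {M : Type*} [AddCommGroup M] [Module ℂ M] [FiniteDimensional ℂ M]
  (D : Siegel F n H) (ρ : Representation ℂ H M)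

/-- two endomorphisms stabilising a subspace of dimension at most one commute on it -/
theorem comm_of_finrank_le_one (P : Submodule ℂ M) (hP : finrank ℂ ↥P ≤ 1)
    (f g : Module.End ℂ M) (hf : ∀ m ∈ P, f m ∈ P) (hg : ∀ m ∈ P, g m ∈ P) (m : M)
    (hm : m ∈ P) : f (g m) = g (f m) := by
  obtain ⟨v, hv⟩ := finrank_le_one_iff.mp hP
  obtain ⟨c, hc⟩ := hv ⟨m, hm⟩
  obtain ⟨c1, hc1⟩ := hv ⟨f v.1, hf v.1 v.2⟩
  obtain ⟨c2, hc2⟩ := hv ⟨g v.1, hg v.1 v.2⟩
  have hm' : m = c • v.1 := (congrArg Subtype.val hc).symm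
  have h1 : f v.1 = c1 • v.1 := (congrArg Subtype.val hc1).symm
  have h2 : g v.1 = c2 • v.1 := (congrArg Subtype.val hc2).symm
  have e1 : f (g v.1) = (c1 * c2) • v.1 := by rw [h2, map_smul, h1, smul_smul, mul_comm]
  have e2 : g (f v.1) = (c1 * c2) • v.1 := by rw [h1, map_smul, h2, smul_smul]
  rw [hm', map_smul, map_smul, e1, map_smul, map_smul, e2]

/-- S2: `U` fixes the line `M_δ` pointwise (commutator of two transvections stabilising the weight). -/
theorem levi_transvection_fix_Wd (hn : 4 ≤ n) (a b i j : Fin n) (hab : a ≠ b) (hia : i ≠ a)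
    (hib : i ≠ b) (hj : j = a ∨ j = b) (hij : i ≠ j) (t δ : F)
    (h1 : finrank ℂ ↥(wt ρ D.radv (Wd a b δ)) ≤ 1) :
    ∀ m ∈ wt ρ D.radv (Wd a b δ), ρ (D.levi (SpecialLinearGroup.transvection hij t)) m = m := by
  classical
  intro m hm
  obtain ⟨k, -, hk⟩ : ∃ k, k ∈ (Finset.univ : Finset (Fin n)) ∧
      k ∉ ({a, b, i} : Finset (Fin n)) := by
    apply Finset.exists_mem_notMem_of_card_lt_card
    calc ({a, b, i} : Finset (Fin n)).card ≤ 3 := Finset.card_le_three
      _ < n := by omega
      _ = (Finset.univ : Finset (Fin n)).card := by simp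
  simp only [Finset.mem_insert, Finset.mem_singleton, not_or] at hk
  obtain ⟨hka, hkb, hki⟩ := hk
  have hkj : k ≠ j := by
    rcases hj with rfl | rfl
    · exact hka
    · exact hkb
  have hik : i ≠ k := Ne.symm hki
  have hstab : ∀ (x y : Fin n) (hxy : x ≠ y), x ≠ a → x ≠ b → ∀ s : F,
      ∀ m' ∈ wt ρ D.radv (Wd a b δ),
        ρ (D.levi (SpecialLinearGroup.transvection hxy s)) m' ∈ wt ρ D.radv (Wd a b δ) := by
    intro x y hxy hxa hxb s m' hm'
    have h := map_wt_levi D ρ (SpecialLinearGroup.transvection hxy s) (Wd a b δ) (Wd a b δ)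
      (toM_Wd_conj a b x y hxy hxa hxb s δ)
    rw [← h]
    exact Submodule.mem_map_of_mem hm'
  have hcomm := comm_of_finrank_le_one _ h1
    (ρ (D.levi (SpecialLinearGroup.transvection hik t)))
    (ρ (D.levi (SpecialLinearGroup.transvection hkj (1 : F))))
    (hstab i k hik hia hib t) (hstab k j hkj hka hkb 1) m hm
  have h2 : ρ (D.levi (SpecialLinearGroup.transvection hik t *
      SpecialLinearGroup.transvection hkj (1 : F))) m =
      ρ (D.levi (SpecialLinearGroup.transvection hkj (1 : F) *
        SpecialLinearGroup.transvection hik t * SpecialLinearGroup.transvection hij t)) m := by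
    rw [transvection_comm_rel hik hkj hij t]
  simp only [map_mul, Module.End.mul_apply] at h2
  rw [hcomm] at h2
  exact (rho_injective ρ _ (rho_injective ρ _ h2)).symm

end ST

end Cfsg.Agent.Lib.Helper5.OPMin
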