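/-
S3282 (Brauer-Suzuki-Wall, abstract form; planner helper24), leaf T1 `small_case`, pieces (b), (c):
counting the nonidentity elements conjugate into a T.I. subgroup (normalizer form), and the
cardinality of a set covered by disjoint-or-equal blocks of equal size. (helper5; Mathlib only)
-/
import Mathlib

set_option autoImplicit false

namespace Cfsg.Agent.Lib.Helper5.BSWT1b

variable {G : Type*} [Group G]

/-- **T.I. counting, normalizer form.** If `g z g⁻¹ ∈ M` for some `1 ≠ z ∈ M` forces `g ∈ N(M)`, then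
`|{z ≠ 1 conjugate into M}| · |N(M)| = |G| · (|M| - 1)`. -/
theorem card_conj_into_mul_card_normalizer [Finite G] (M : Subgroup G)
    (hTI : ∀ g : G, (∃ z ∈ M, z ≠ 1 ∧ g * z * g⁻¹ ∈ M) → g ∈ Subgroup.normalizer (M : Set G)) :
    Nat.card {z : G // z ≠ 1 ∧ ∃ g : G, g * z * g⁻¹ ∈ M} *
        Nat.card (Subgroup.normalizer (M : Set G)) = Nat.card G * (Nat.card M - 1) := by
  classical
  have hcardM : Nat.card {x : M // x ≠ 1} = Nat.card M - 1 := by
    have h := Nat.card_congr (Equiv.optionSubtypeNe (1 : M))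
    rw [Finite.card_option] at h
    omega
  rw [← hcardM, ← Nat.card_prod, ← Nat.card_prod]
  -- a chosen conjugating element
  have hex : ∀ z : {z : G // z ≠ 1 ∧ ∃ g : G, g * z * g⁻¹ ∈ M}, ∃ g : G, g * z.1 * g⁻¹ ∈ M :=
    fun z => z.2.2
  choose gz hgz using hex
  have hne : ∀ z : {z : G // z ≠ 1 ∧ ∃ g : G, g * z * g⁻¹ ∈ M}, gz z * z.1 * (gz z)⁻¹ ≠ 1 := by
    intro z h
    apply z.2.1
    have e : z.1 = (gz z)⁻¹ * (gz z * z.1 * (gz z)⁻¹) * gz z := by group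
    rw [e, h]
    group
  have hmk : ∀ (g : G) (x : {x : M // x ≠ 1}), g⁻¹ * ((x.1 : M) : G) * g ≠ 1 ∧
      ∃ g' : G, g' * (g⁻¹ * ((x.1 : M) : G) * g) * g'⁻¹ ∈ M := by
    intro g x
    constructor
    · intro h
      apply x.2
      apply Subtype.ext
      have e : ((x.1 : M) : G) = g * (g⁻¹ * ((x.1 : M) : G) * g) * g⁻¹ := by group
      rw [e, h]
      simp
    · refine ⟨g, ?_⟩
      have e : g * (g⁻¹ * ((x.1 : M) : G) * g) * g⁻¹ = ((x.1 : M) : G) := by group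
      rw [e]
      exact x.1.2
  let mkZ : G → {x : M // x ≠ 1} → {z : G // z ≠ 1 ∧ ∃ g : G, g * z * g⁻¹ ∈ M} :=
    fun g x => ⟨g⁻¹ * ((x.1 : M) : G) * g, hmk g x⟩
  have hN : ∀ (g : G) (x : {x : M // x ≠ 1}),
      g * (gz (mkZ g x))⁻¹ ∈ Subgroup.normalizer (M : Set G) := by
    intro g x
    apply hTI
    refine ⟨_, hgz (mkZ g x), hne (mkZ g x), ?_⟩
    have e : g * (gz (mkZ g x))⁻¹ * (gz (mkZ g x) * (mkZ g x).1 * (gz (mkZ g x))⁻¹) *
        (g * (gz (mkZ g x))⁻¹)⁻¹ = ((x.1 : M) : G) := by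
      show g * (gz (mkZ g x))⁻¹ * (gz (mkZ g x) * (g⁻¹ * ((x.1 : M) : G) * g) *
        (gz (mkZ g x))⁻¹) * (g * (gz (mkZ g x))⁻¹)⁻¹ = ((x.1 : M) : G)
      generalize gz (mkZ g x) = γ
      group
    rw [e]
    exact x.1.2
  have hM : ∀ (z : {z : G // z ≠ 1 ∧ ∃ g : G, g * z * g⁻¹ ∈ M})
      (n : Subgroup.normalizer (M : Set G)),
      (n.1 * gz z) * z.1 * (n.1 * gz z)⁻¹ ∈ M := by
    intro z n
    have hn := n.2
    rw [Subgroup.mem_normalizer_iff] at hn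
    have e : n.1 * gz z * z.1 * (n.1 * gz z)⁻¹ = n.1 * (gz z * z.1 * (gz z)⁻¹) * (n.1)⁻¹ := by
      group
    rw [e]
    exact (hn _).mp (hgz z)
  have hM1 : ∀ (z : {z : G // z ≠ 1 ∧ ∃ g : G, g * z * g⁻¹ ∈ M})
      (n : Subgroup.normalizer (M : Set G)),
      (n.1 * gz z) * z.1 * (n.1 * gz z)⁻¹ ≠ 1 := by
    intro z n h
    apply z.2.1
    have e : z.1 = (n.1 * gz z)⁻¹ * (n.1 * gz z * z.1 * (n.1 * gz z)⁻¹) * (n.1 * gz z) := by group
    rw [e, h]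
    group
  apply Nat.card_congr
  refine ⟨fun zn => (zn.2.1 * gz zn.1,
      ⟨⟨(zn.2.1 * gz zn.1) * zn.1.1 * (zn.2.1 * gz zn.1)⁻¹, hM zn.1 zn.2⟩,
        fun h => hM1 zn.1 zn.2 (congrArg Subtype.val h)⟩),
    fun gx => (mkZ gx.1 gx.2, ⟨gx.1 * (gz (mkZ gx.1 gx.2))⁻¹, hN gx.1 gx.2⟩), ?_, ?_⟩
  · -- left inverse
    rintro ⟨z, n⟩
    have hz : mkZ (n.1 * gz z) ⟨⟨(n.1 * gz z) * z.1 * (n.1 * gz z)⁻¹, hM z n⟩,
        fun h => hM1 z n (congrArg Subtype.val h)⟩ = z := by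
      apply Subtype.ext
      show (n.1 * gz z)⁻¹ * ((n.1 * gz z) * z.1 * (n.1 * gz z)⁻¹) * (n.1 * gz z) = z.1
      group
    apply Prod.ext
    · exact hz
    · apply Subtype.ext
      show n.1 * gz z * (gz (mkZ (n.1 * gz z) ⟨⟨(n.1 * gz z) * z.1 * (n.1 * gz z)⁻¹, hM z n⟩,
        fun h => hM1 z n (congrArg Subtype.val h)⟩))⁻¹ = n.1
      rw [hz]
      group
  · -- right inverse
    rintro ⟨g, x⟩
    apply Prod.ext
    · show g * (gz (mkZ g x))⁻¹ * gz (mkZ g x) = g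
      group
    · apply Subtype.ext
      apply Subtype.ext
      show g * (gz (mkZ g x))⁻¹ * gz (mkZ g x) * (g⁻¹ * ((x.1 : M) : G) * g) *
        (g * (gz (mkZ g x))⁻¹ * gz (mkZ g x))⁻¹ = ((x.1 : M) : G)
      generalize gz (mkZ g x) = γ
      group

/-- **blocks of equal size.** -/
theorem exists_card_eq_mul_of_blocks {α : Type*} [DecidableEq α] (S : Finset α) (Z : α → Finset α)
    (w : ℕ) (hmem : ∀ y ∈ S, y ∈ Z y) (hsub : ∀ y ∈ S, Z y ⊆ S) (hcard : ∀ y ∈ S, (Z y).card = w)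
    (hdisj : ∀ y ∈ S, ∀ y' ∈ S, (Z y ∩ Z y').Nonempty → Z y = Z y') :
    ∃ c : ℕ, S.card = c * w := by
  refine ⟨(S.image Z).card, ?_⟩
  have hS : S = (S.image Z).biUnion id := by
    ext y
    rw [Finset.mem_biUnion]
    constructor
    · intro hy
      exact ⟨Z y, Finset.mem_image_of_mem Z hy, hmem y hy⟩
    · rintro ⟨B, hB, hyB⟩
      obtain ⟨y', hy', rfl⟩ := Finset.mem_image.mp hB
      exact hsub y' hy' hyB
  have hpd : ∀ B ∈ S.image Z, ∀ B' ∈ S.image Z, B ≠ B' → Disjoint (id B) (id B') := by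
    intro B hB B' hB' hne
    obtain ⟨y, hy, rfl⟩ := Finset.mem_image.mp hB
    obtain ⟨y', hy', rfl⟩ := Finset.mem_image.mp hB'
    rw [Finset.disjoint_iff_inter_eq_empty]
    by_contra h
    exact hne (hdisj y hy y' hy' (Finset.nonempty_iff_ne_empty.mpr h))
  have h1 : S.card = ∑ B ∈ S.image Z, (id B).card := by
    conv_lhs => rw [hS]
    exact Finset.card_biUnion hpd
  rw [h1]
  apply Finset.sum_const_nat
  intro B hB
  obtain ⟨y, hy, rfl⟩ := Finset.mem_image.mp hB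
  exact hcard y hy

end Cfsg.Agent.Lib.Helper5.BSWT1b
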