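/-
S3282 batch 2 (characters; sub-planner helper1) leaf E5 `card_KK`; statement frozen in
`notes/S3282_leaves2.lean`. (helper5)
-/
import Mathlib
import Cfsg.Prelude.Def_Characters
import Cfsg.Agent.Lib.Helper24.BSWDefs
import Cfsg.Agent.Lib.Helper1.BSWCDefs
import Cfsg.Agent.Lib.Helper10.PowTwistChar
import Cfsg.Agent.Lib.Helper5.BSWT1b
import Cfsg.Agent.Lib.Helper5.BSWB1
import Cfsg.Agent.Lib.Helper5.BSWB4
import Cfsg.Agent.Lib.Helper12.BSWB5

set_option autoImplicit false
open Cfsg Cfsg.Agent.Lib.Helper24.BSW Cfsg.Agent.CharLib Cfsg.Agent.Lib.Helper1.BSWC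
open scoped ComplexConjugate

namespace Cfsg.Agent.Lib.Helper5.BSWCE5

universe u

variable {G : Type u} [Group G] [Fintype G]

/-- **E5** `|KK| * 2k = |G| (k - 1)`. -/
theorem card_KK {t s : G} {K : Subgroup G} (h : Hyp t s K) :
    Nat.card (KK K) * (2 * Nat.card K) = Nat.card G * (Nat.card K - 1) := by
  have hK1 : K ≠ ⊥ := by
    intro hb
    have ht := h.htK
    rw [hb, Subgroup.mem_bot] at ht
    have h2 := h.ht
    rw [ht, orderOf_one] at h2
    norm_num at h2
  have hN : Subgroup.normalizer (K : Set G) = Subgroup.centralizer ({t} : Set G) :=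
    (Cfsg.Agent.Lib.Helper12.BSWB5.normalizer_eq_cent h).1 K le_rfl hK1
  have hcard := (Cfsg.Agent.Lib.Helper5.BSWB1.card_centralizer h).1
  have key := Cfsg.Agent.Lib.Helper5.BSWT1b.card_conj_into_mul_card_normalizer K (by
    rintro g ⟨z, hz, hz1, hgz⟩
    rw [hN]
    exact Cfsg.Agent.Lib.Helper5.BSWB4.conj_mem_cent h g z hz hz1 hgz)
  rw [hN, hcard] at key
  exact key

end Cfsg.Agent.Lib.Helper5.BSWCE5
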