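/-
helper5: shared tools for the EQ leaves R10 / R3 (equality case of TGen(SL_n), for S2344):
the Fourier projectors of a one-parameter group acting through a representation.
-/
import Mathlib
import Cfsg.Agent.Lib.Helper2.EQDefs

set_option autoImplicit false

namespace Cfsg.Agent.Lib.Helper5.EQ

open Matrix Module Cfsg.Agent.Lib.Helper16.SLMin Cfsg.Agent.Lib.Helper16.SLMinSpine
  Cfsg.Agent.Lib.Helper2.EQ

section grp

variable {F : Type*} [Field F] {m : ℕ}

theorem X_of_ne' {a b : Fin m} (h : a ≠ b) (t : F) :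
    X a b t = ⟨transvection a b t, det_transvection_of_ne a b h t⟩ := by
  unfold X
  exact dif_pos h

theorem X_of_ne {a b : Fin m} (h : a ≠ b) (t : F) :
    (X a b t : Matrix (Fin m) (Fin m) F) = transvection a b t := by
  rw [X_of_ne' h]

theorem X_of_eq {a b : Fin m} (h : a = b) (t : F) : X a b t = 1 := by
  unfold X
  exact dif_neg (not_not.mpr h)

theorem X_add_aux (a b : Fin m) (s t : F) : X a b (s + t) = X a b s * X a b t := by
  by_cases h : a = b
  · rw [X_of_eq h, X_of_eq h, X_of_eq h, mul_one]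
  · apply Subtype.ext
    show (X a b (s + t) : Matrix (Fin m) (Fin m) F) =
      (X a b s : Matrix (Fin m) (Fin m) F) * (X a b t : Matrix (Fin m) (Fin m) F)
    rw [X_of_ne h, X_of_ne h, X_of_ne h, transvection_mul_transvection_same a b h]

theorem X_zero_aux (a b : Fin m) : X a b (0 : F) = 1 := by
  by_cases h : a = b
  · rw [X_of_eq h]
  · apply Subtype.ext
    rw [X_of_ne h, transvection_zero]
    rfl

end grp

section fourier

variable {F : Type*} [Field F] [Fintype F] {H : Type*} [Group H] {M : Type*} [AddCommGroup M]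
  [Module ℂ M]

/-- the weight-`a` projector of the one-parameter group `x` -/
noncomputable def PrX (ρ : Representation ℂ H M) (x : F → H) (a : F) : M →ₗ[ℂ] M :=
  ((Fintype.card F : ℂ)⁻¹) • ∑ s : F, (eps F (-(a * s))) • ρ (x s)

theorem PrX_apply (ρ : Representation ℂ H M) (x : F → H) (a : F) (y : M) :
    PrX ρ x a y = ((Fintype.card F : ℂ)⁻¹) • ∑ s : F, (eps F (-(a * s))) • ρ (x s) y := by
  unfold PrX
  rw [LinearMap.smul_apply, LinearMap.sum_apply]
  rfl

theorem cardF_ne_zero : (Fintype.card F : ℂ) ≠ 0 :=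
  Nat.cast_ne_zero.mpr Fintype.card_ne_zero

variable (ρ : Representation ℂ H M) (x : F → H) (hx : ∀ s t, x (s + t) = x s * x t)

omit [Fintype F] in
include hx in
theorem x_zero_of_add : x 0 = 1 := by
  have h := hx 0 0
  rw [add_zero] at h
  exact (mul_eq_left (a := x 0) (b := x 0)).mp h.symm

include hx in
/-- the projector lands in the weight space -/
theorem x_PrX (r a : F) (y : M) : ρ (x r) (PrX ρ x a y) = (eps F (a * r)) • PrX ρ x a y := by
  rw [PrX_apply, map_smul, map_sum, smul_comm (eps F (a * r))]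
  congr 1
  rw [Finset.smul_sum]
  have h1 : ∀ s : F, ρ (x r) ((eps F (-(a * s))) • ρ (x s) y) =
      (eps F (a * r)) • ((eps F (-(a * (r + s)))) • ρ (x (r + s)) y) := by
    intro s
    rw [map_smul, smul_smul, ← AddChar.map_add_eq_mul, hx, map_mul]
    congr 2
    ring
  rw [Finset.sum_congr rfl (fun s _ => h1 s)]
  rw [← Equiv.sum_comp (Equiv.addLeft r)
    (fun s => (eps F (a * r)) • ((eps F (-(a * s))) • ρ (x s) y))]
  rfl

include hx in
/-- Fourier inversion -/
theorem sum_PrX (y : M) : ∑ a : F, PrX ρ x a y = y := by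
  classical
  simp_rw [PrX_apply]
  rw [← Finset.smul_sum, Finset.sum_comm]
  have h1 : ∀ s : F, ∑ a : F, (eps F (-(a * s))) • ρ (x s) y =
      (if s = 0 then (Fintype.card F : ℂ) else 0) • ρ (x s) y := by
    intro s
    rw [← Finset.sum_smul]
    congr 1
    have h2 := AddChar.sum_mulShift (ψ := eps F) (-s) (eps_prim F)
    rw [show (∑ a : F, eps F (-(a * s))) = ∑ a : F, eps F (a * -s) from
      Finset.sum_congr rfl fun a _ => by rw [mul_neg], h2]
    by_cases hs : s = 0 <;> simp [hs]
  rw [Finset.sum_congr rfl (fun s _ => h1 s), Finset.sum_eq_single (0 : F)]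
  · rw [if_pos rfl, x_zero_of_add x hx, map_one, Module.End.one_apply, smul_smul,
      inv_mul_cancel₀ cardF_ne_zero, one_smul]
  · intro s _ hs
    rw [if_neg hs, zero_smul]
  · intro h
    exact absurd (Finset.mem_univ _) h

/-- an operator normalising the one-parameter group (by `t ↦ c t`) permutes the projectors -/
theorem PrX_conj (D : M →ₗ[ℂ] M) (c : F) (hc : c ≠ 0)
    (hD : ∀ (t : F) (y : M), D (ρ (x t) y) = ρ (x (c * t)) (D y)) (a : F) (y : M) :
    D (PrX ρ x a y) = PrX ρ x (a / c) (D y) := by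
  rw [PrX_apply, PrX_apply, map_smul, map_sum]
  congr 1
  have h1 : ∀ s : F, D ((eps F (-(a * s))) • ρ (x s) y) =
      (eps F (-(a / c * (c * s)))) • ρ (x (c * s)) (D y) := by
    intro s
    rw [map_smul, hD]
    congr 3
    field_simp
  rw [Finset.sum_congr rfl (fun s _ => h1 s)]
  exact Equiv.sum_comp (Equiv.mulLeft₀ c hc)
    (fun s => (eps F (-(a / c * s))) • ρ (x s) (D y))

include hx in
/-- a vector all of whose non-zero weight components vanish is fixed -/
theorem fixed_of_PrX_eq_zero (y : M) (h : ∀ a : F, a ≠ 0 → PrX ρ x a y = 0) (r : F) :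
    ρ (x r) y = y := by
  have h1 : y = PrX ρ x 0 y := by
    conv_lhs => rw [← sum_PrX ρ x hx y]
    rw [Finset.sum_eq_single (0 : F)]
    · intro a _ ha
      exact h a ha
    · intro h0
      exact absurd (Finset.mem_univ _) h0
  rw [h1, x_PrX ρ x hx, zero_mul, AddChar.map_zero_eq_one, one_smul]

end fourier

end Cfsg.Agent.Lib.Helper5.EQ
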