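/-
helper5: EQ leaf R3 (`Ti_quadratic`): the quadratic relation of the rank-one Hecke operator.
-/
import Mathlib
import Cfsg.Agent.Lib.Helper2.EQDefs
import Cfsg.Agent.Lib.Helper5.EQBase
import Cfsg.Agent.Lib.Helper20.EQM5
import Cfsg.Agent.Lib.Helper8.EQM8

set_option autoImplicit false

namespace Cfsg.Agent.Lib.Helper5.EQ

open Matrix Module Cfsg.Agent.Lib.Helper16.SLMin Cfsg.Agent.Lib.Helper16.SLMinSpine
  Cfsg.Agent.Lib.Helper2.EQ

section R3

variable {F : Type*} [Field F] [Fintype F] [DecidableEq F] {M : Type*} [AddCommGroup M]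
  [Module ℂ M] [FiniteDimensional ℂ M]

omit [DecidableEq F] [FiniteDimensional ℂ M] in
theorem eX_apply {m : ℕ} (ρ : Representation ℂ (SpecialLinearGroup (Fin m) F) M) (a b : Fin m)
    (z : M) : eX ρ a b z = ((Fintype.card F : ℂ)⁻¹) • ∑ t : F, ρ (X a b t) z := by
  unfold eX
  rw [LinearMap.smul_apply, LinearMap.sum_apply]

omit [DecidableEq F] [FiniteDimensional ℂ M] in
/-- `eX` absorbs the root group from the right -/
theorem eX_X {m : ℕ} (ρ : Representation ℂ (SpecialLinearGroup (Fin m) F) M) (a b : Fin m)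
    (r : F) (z : M) : eX ρ a b (ρ (X a b r) z) = eX ρ a b z := by
  rw [eX_apply, eX_apply]
  congr 1
  have h1 : ∀ t : F, ρ (X a b t) (ρ (X a b r) z) = ρ (X a b (t + r)) z := by
    intro t
    rw [X_add_aux, map_mul, Module.End.mul_apply]
  rw [Finset.sum_congr rfl (fun t _ => h1 t)]
  exact Equiv.sum_comp (Equiv.addRight r) (fun t => ρ (X a b t) z)

omit [DecidableEq F] [FiniteDimensional ℂ M] in
theorem eX_of_fixed_aux {m : ℕ} (ρ : Representation ℂ (SpecialLinearGroup (Fin m) F) M)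
    (a b : Fin m) (x : M) (hx : ∀ t : F, ρ (X a b t) x = x) : eX ρ a b x = x := by
  rw [eX_apply, Finset.sum_congr rfl (fun t _ => hx t), Finset.sum_const, Finset.card_univ,
    ← Nat.cast_smul_eq_nsmul ℂ, smul_smul, inv_mul_cancel₀ cardF_ne_zero, one_smul]

variable {N : ℕ}

/-- R3: the quadratic relation; in particular `T_i` is injective on weight vectors of `C_M(U)` -/
theorem Ti_quadratic (ρ : Representation ℂ (SpecialLinearGroup (Fin (N + 1)) F) M) (i : Fin N)
    (θ : Tor (N + 1) F →* ℂˣ) {x : M} (hx : x ∈ Cfix ρ ⊓ wtT ρ θ) :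
    ∃ γ : ℂ, Ti ρ i (Ti ρ i x) =
      (((θ (hc i.castSucc i.succ (-1)) : ℂˣ) : ℂ) * (Fintype.card F : ℂ)⁻¹) • x + γ • Ti ρ i x := by
  classical
  obtain ⟨hxC, hxθ⟩ := hx
  set α : Fin (N + 1) := i.castSucc with hα
  set β : Fin (N + 1) := i.succ with hβ
  have hlt : α < β := Fin.castSucc_lt_succ
  have hαβ : α ≠ β := hlt.ne
  set sdot : SpecialLinearGroup (Fin (N + 1)) F := sd α β with hsdot
  have hxfix : ∀ t : F, ρ (X α β t) x = x := fun t => hxC α β hlt t
  have hTi : ∀ z : M, Ti ρ i z = eX ρ α β (ρ sdot z) := fun z => rfl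
  -- the coefficients
  let c : F → ℂ := fun a => if h : a = 0 then 0 else
    ((θ (permTor (Equiv.swap α β) (hc α β (-(Units.mk0 a h)⁻¹))) : ℂˣ) : ℂ)
  -- the individual terms
  have hterm0 : eX ρ α β (ρ sdot (ρ (X α β 0) (ρ sdot x))) =
      ((θ (hc α β (-1)) : ℂˣ) : ℂ) • x := by
    have h0 : ρ sdot (ρ sdot x) = ρ (sdot * sdot) x := by
      rw [map_mul, Module.End.mul_apply]
    rw [X_zero_aux, map_one, Module.End.one_apply, h0,
      Cfsg.Agent.Lib.Helper20.EQ.sd_sq α β hαβ, hxθ, map_smul, eX_of_fixed_aux ρ α β x hxfix]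
  have hterm : ∀ a : F, a ≠ 0 → eX ρ α β (ρ sdot (ρ (X α β a) (ρ sdot x))) = c a • Ti ρ i x := by
    intro a ha
    have hb := Cfsg.Agent.Lib.Helper8.EQ.bruhat α β hαβ (Units.mk0 a ha)
    rw [Units.val_mk0] at hb
    set u : F := -(((Units.mk0 a ha)⁻¹ : Fˣ) : F) with hu
    set h : Tor (N + 1) F := hc α β (-(Units.mk0 a ha)⁻¹) with hh
    have h1 : ρ sdot (ρ (X α β a) (ρ sdot x)) = ρ (sdot * X α β a * sdot) x := by
      rw [map_mul, map_mul, Module.End.mul_apply, Module.End.mul_apply]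
    have h2 : dg h * sdot = sdot * dg (permTor (Equiv.swap α β) h) := by
      rw [← Cfsg.Agent.Lib.Helper20.EQ.sd_conj_dg α β hαβ h]
      show dg h * sdot = sdot * (sdot⁻¹ * dg h * sdot)
      group
    have h3 : ρ (sdot * X α β a * sdot) x =
        ρ (X α β u) (ρ sdot (ρ (dg (permTor (Equiv.swap α β) h)) x)) := by
      rw [hb, map_mul, map_mul, map_mul, Module.End.mul_apply, Module.End.mul_apply,
        Module.End.mul_apply, hxfix u, ← Module.End.mul_apply (ρ (dg h)), ← map_mul, h2, map_mul,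
        Module.End.mul_apply]
    rw [h1, h3, eX_X, hxθ, map_smul, map_smul, hTi]
    congr 1
    show _ = dite (a = 0) _ _
    rw [dif_neg ha]
  -- assemble
  have hsum : Ti ρ i (Ti ρ i x) = ((Fintype.card F : ℂ)⁻¹) •
      ∑ a : F, eX ρ α β (ρ sdot (ρ (X α β a) (ρ sdot x))) := by
    rw [hTi (Ti ρ i x), hTi x]
    conv_lhs => rw [eX_apply ρ α β (ρ sdot x)]
    rw [map_smul, map_smul, map_sum, map_sum]
  refine ⟨(Fintype.card F : ℂ)⁻¹ * ∑ a ∈ (Finset.univ : Finset F).erase 0, c a, ?_⟩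
  rw [hsum, ← Finset.add_sum_erase _ _ (Finset.mem_univ (0 : F)), hterm0,
    Finset.sum_congr rfl (fun a ha => hterm a (Finset.ne_of_mem_erase ha)), ← Finset.sum_smul,
    smul_add, smul_smul, smul_smul, mul_comm ((Fintype.card F : ℂ)⁻¹)]

end R3

end Cfsg.Agent.Lib.Helper5.EQ
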