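/-
helper5: EQ leaf R10 (`codim_le_one`), core version with the matrix / stability leaves it needs
as explicit hypotheses.
-/
import Mathlib
import Cfsg.Agent.Lib.Helper2.EQDefs
import Cfsg.Agent.Lib.Helper5.EQBase

set_option autoImplicit false

namespace Cfsg.Agent.Lib.Helper5.EQ

open Matrix Module Cfsg.Agent.Lib.Helper16.SLMin Cfsg.Agent.Lib.Helper16.SLMinSpine
  Cfsg.Agent.Lib.Helper2.EQ

section R10

variable {F : Type*} [Field F] [Fintype F] [DecidableEq F] {M : Type*} [AddCommGroup M]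
  [Module ℂ M] [FiniteDimensional ℂ M] {N : ℕ}

omit [DecidableEq F] [FiniteDimensional ℂ M] in
theorem Cfix_le_Efix (ρ : Representation ℂ (SpecialLinearGroup (Fin (N + 1)) F) M) (i : Fin N) :
    Cfix ρ ≤ Efix ρ i := by
  intro x hx a b hab t
  exact hx a b hab.1 t

omit [DecidableEq F] [FiniteDimensional ℂ M] in
/-- the projector preserves a subspace stable under the one-parameter group -/
theorem PrX_mem {H : Type*} [Group H] (ρ : Representation ℂ H M) (x : F → H) (a : F)
    (W : Submodule ℂ M) (hW : ∀ (t : F) (y : M), y ∈ W → ρ (x t) y ∈ W) {y : M} (hy : y ∈ W) :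
    PrX ρ x a y ∈ W := by
  rw [PrX_apply]
  refine W.smul_mem _ (W.sum_mem fun s _ => W.smul_mem _ (hW s y hy))

/-- R10, with the leaves M4, M5', M6, STAB3, STAB5 as hypotheses. -/
theorem codim_le_one_of (hN : 2 ≤ N)
    (ρ : Representation ℂ (SpecialLinearGroup (Fin (N + 1)) F) M) (i : Fin N)
    (hM4 : ∀ (t : Tor (N + 1) F) (s : F),
      dg t * X i.castSucc i.succ s * (dg t)⁻¹ =
        X i.castSucc i.succ ((((t : Fin (N + 1) → Fˣ) i.castSucc : Fˣ) : F) *
          ((((t : Fin (N + 1) → Fˣ) i.succ)⁻¹ : Fˣ) : F) * s))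
    (hM5 : ∃ ε : F, (ε = 1 ∨ ε = -1) ∧ ∀ t : F,
      (sd i.castSucc i.succ)⁻¹ * X i.castSucc i.succ t * sd i.castSucc i.succ =
        X i.succ i.castSucc (ε * t))
    (hM6 : ∀ t : Tor (N + 1) F, (sd i.castSucc i.succ)⁻¹ * dg t * sd i.castSucc i.succ =
      dg (permTor (Equiv.swap i.castSucc i.succ) t))
    (hS3 : ∀ (t : F) (x : M), x ∈ Efix ρ i → ρ (X i.castSucc i.succ t) x ∈ Efix ρ i)
    (hS5 : ∀ x : M, x ∈ Efix ρ i → ρ (sd i.castSucc i.succ) x ∈ Efix ρ i)
    (h1b : ∀ a : Unit → F, a ≠ 0 →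
      finrank ℂ ↥(Efix ρ i ⊓ wt ρ (Xr (F := F) i.castSucc i.succ) a) ≤ 1)
    (hT : ∀ (t : Tor (N + 1) F) (x : M), x ∈ Cfix ρ → ρ (dg t) x = x) :
    finrank ℂ ↥(Cfix ρ) ≤
      finrank ℂ ↥(Cfix ρ ⊓ Fx ρ (fun a b => a = i.succ ∧ b = i.castSucc)) + 1 := by
  classical
  set α : Fin (N + 1) := i.castSucc with hα
  set β : Fin (N + 1) := i.succ with hβ
  have hαβ : α ≠ β := (Fin.castSucc_lt_succ (i := i)).ne
  set xi : F → SpecialLinearGroup (Fin (N + 1)) F := fun s => X α β s with hxi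
  have hxa : ∀ s t, xi (s + t) = xi s * xi t := fun s t => X_add_aux α β s t
  set sdot : SpecialLinearGroup (Fin (N + 1)) F := sd α β with hsdot
  -- the target space
  set T : Submodule ℂ M := Efix ρ i ⊓ wt ρ (Xr (F := F) α β) (fun _ => (1 : F)) with hT'
  have hTle : finrank ℂ ↥T ≤ 1 := by
    apply h1b
    intro h
    have := congrFun h ()
    simp at this
  -- the map
  have hmem : ∀ x : M, x ∈ Cfix ρ → PrX ρ xi 1 (ρ sdot x) ∈ T := by
    intro x hx
    refine ⟨PrX_mem ρ xi 1 (Efix ρ i) hS3 (hS5 x (Cfix_le_Efix ρ i hx)), ?_⟩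
    intro r
    show ρ (X α β (r ())) (PrX ρ xi 1 (ρ sdot x)) = _
    have := x_PrX ρ xi hxa (r ()) 1 (ρ sdot x)
    rw [this]
    congr 2
    simp [dotProduct]
  let φ0 : ↥(Cfix ρ) →ₗ[ℂ] M := ((PrX ρ xi 1).comp (ρ sdot)).comp (Cfix ρ).subtype
  let φ : ↥(Cfix ρ) →ₗ[ℂ] ↥T := LinearMap.codRestrict T φ0 (fun x => hmem x.1 x.2)
  have hrn := LinearMap.finrank_range_add_finrank_ker φ
  have hrange : finrank ℂ ↥(LinearMap.range φ) ≤ 1 :=
    (Submodule.finrank_le _).trans hTle
  -- the kernel lies in the fixed space of the lower root group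
  have hker : (LinearMap.ker φ).map (Cfix ρ).subtype ≤
      Cfix ρ ⊓ Fx ρ (fun a b => a = β ∧ b = α) := by
    rintro _ ⟨x, hxk, rfl⟩
    refine ⟨x.2, ?_⟩
    show (x : M) ∈ Fx ρ (fun a b => a = β ∧ b = α)
    have hP1 : PrX ρ xi 1 (ρ sdot (x : M)) = 0 := by
      have h0 : φ x = 0 := hxk
      have h1 : ((φ x : ↥T) : M) = 0 := by rw [h0]; rfl
      exact h1
    set y : M := ρ sdot (x : M) with hy
    -- y is fixed by the torus
    have hyT : ∀ t : Tor (N + 1) F, ρ (dg t) y = y := by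
      intro t
      have h1 : dg t * sdot = sdot * dg (permTor (Equiv.swap α β) t) := by
        rw [← hM6 t]
        group
      rw [hy, ← Module.End.mul_apply, ← map_mul, h1, map_mul, Module.End.mul_apply,
        hT _ _ x.2]
    -- all non-zero weight components of y vanish
    have hPc : ∀ c : F, c ≠ 0 → PrX ρ xi c y = 0 := by
      intro c hc0
      obtain ⟨γ, -, hγ⟩ : ∃ γ ∈ (Finset.univ : Finset (Fin (N + 1))),
          γ ∉ ({α, β} : Finset (Fin (N + 1))) := by
        apply Finset.exists_mem_notMem_of_card_lt_card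
        calc ({α, β} : Finset (Fin (N + 1))).card ≤ 2 := Finset.card_le_two
          _ < N + 1 := by omega
          _ = (Finset.univ : Finset (Fin (N + 1))).card := by simp
      have hγα : γ ≠ α := by
        intro h; apply hγ; simp [h]
      have hγβ : γ ≠ β := by
        intro h; apply hγ; simp [h]
      set t : Tor (N + 1) F := hc α γ (Units.mk0 c hc0) with ht
      have htα : ((t : Fin (N + 1) → Fˣ) α : Fˣ) = Units.mk0 c hc0 := by
        show (Pi.mulSingle α (Units.mk0 c hc0) * Pi.mulSingle γ (Units.mk0 c hc0)⁻¹ :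
          Fin (N + 1) → Fˣ) α = _
        simp [Pi.mulSingle_apply, hγα.symm]
      have htβ : ((t : Fin (N + 1) → Fˣ) β : Fˣ) = 1 := by
        show (Pi.mulSingle α (Units.mk0 c hc0) * Pi.mulSingle γ (Units.mk0 c hc0)⁻¹ :
          Fin (N + 1) → Fˣ) β = _
        simp [Pi.mulSingle_apply, hαβ.symm, hγβ.symm]
      have hconj : ∀ (s : F) (z : M), ρ (dg t) (ρ (xi s) z) = ρ (xi (c * s)) (ρ (dg t) z) := by
        intro s z
        have h1 : dg t * xi s = xi (c * s) * dg t := by
          show dg t * X α β s = X α β (c * s) * dg t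
          have h2 := hM4 t s
          rw [htα, htβ] at h2
          simp only [inv_one, Units.val_one, mul_one, Units.val_mk0] at h2
          rw [← h2]
          group
        rw [← Module.End.mul_apply, ← map_mul, h1, map_mul, Module.End.mul_apply]
      have h3 := PrX_conj ρ xi (ρ (dg t)) c hc0 hconj c y
      rw [div_self hc0, hyT t, hP1] at h3
      -- injectivity of ρ (dg t)
      have h4 : ρ (dg t)⁻¹ (ρ (dg t) (PrX ρ xi c y)) = PrX ρ xi c y := by
        rw [← Module.End.mul_apply, ← map_mul, inv_mul_cancel, map_one, Module.End.one_apply]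
      rw [← h4, h3, map_zero]
    have hyfix : ∀ r : F, ρ (xi r) y = y := fixed_of_PrX_eq_zero ρ xi hxa y hPc
    -- transport back to x
    obtain ⟨ε, hε, hconj⟩ := hM5
    intro a b hab s
    obtain ⟨rfl, rfl⟩ := hab
    have hεε : ε * (ε * s) = s := by
      rcases hε with rfl | rfl <;> ring
    have h1 : X β α s = sdot⁻¹ * X α β (ε * s) * sdot := by
      rw [hconj, hεε]
    rw [h1, map_mul, map_mul, Module.End.mul_apply, Module.End.mul_apply]
    have h2 : ρ (X α β (ε * s)) (ρ sdot (x : M)) = ρ sdot (x : M) := hyfix (ε * s)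
    rw [h2, ← Module.End.mul_apply, ← map_mul, inv_mul_cancel, map_one, Module.End.one_apply]
  have hk1 : finrank ℂ ↥(LinearMap.ker φ) ≤
      finrank ℂ ↥(Cfix ρ ⊓ Fx ρ (fun a b => a = β ∧ b = α)) := by
    rw [← Submodule.finrank_map_subtype_eq (Cfix ρ) (LinearMap.ker φ)]
    exact Submodule.finrank_mono hker
  omega

end R10

end Cfsg.Agent.Lib.Helper5.EQ
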