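/-
helper5: EQ leaf R10 (`codim_le_one`), exact statement.  The two stability facts it needs
(STAB3, STAB5) are proved here in `_aux` form so that this file only depends on the landed
matrix leaves M1-M7.
-/
import Mathlib
import Cfsg.Agent.Lib.Helper2.EQDefs
import Cfsg.Agent.Lib.Helper5.EQBase
import Cfsg.Agent.Lib.Helper5.EQR10Core
import Cfsg.Agent.Lib.Helper20.EQM1
import Cfsg.Agent.Lib.Helper20.EQM5

set_option autoImplicit false

namespace Cfsg.Agent.Lib.Helper5.EQ

open Matrix Module Cfsg.Agent.Lib.Helper16.SLMin Cfsg.Agent.Lib.Helper16.SLMinSpine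
  Cfsg.Agent.Lib.Helper2.EQ

section R10

variable {F : Type*} [Field F] [Fintype F] [DecidableEq F] {M : Type*} [AddCommGroup M]
  [Module ℂ M] [FiniteDimensional ℂ M] {N : ℕ}

omit [Fintype F] [DecidableEq F] [FiniteDimensional ℂ M] in
theorem rho_fix_of_comm {G : Type*} [Group G] (ρ : Representation ℂ G M) {g h : G}
    (hgh : g * h = h * g) {x : M} (hg : ρ g x = x) : ρ g (ρ h x) = ρ h x := by
  rw [← Module.End.mul_apply, ← map_mul, hgh, map_mul, Module.End.mul_apply, hg]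

omit [DecidableEq F] [FiniteDimensional ℂ M] in
/-- STAB3 (local copy) -/
theorem X_mem_Efix_aux (ρ : Representation ℂ (SpecialLinearGroup (Fin (N + 1)) F) M) (i : Fin N)
    (t : F) (x : M) (hx : x ∈ Efix ρ i) : ρ (X i.castSucc i.succ t) x ∈ Efix ρ i := by
  have hx' : ∀ a b : Fin (N + 1), a < b → ¬ (a = i.castSucc ∧ b = i.succ) → ∀ s : F,
      ρ (X a b s) x = x := fun a b h1 h2 s => hx a b ⟨h1, h2⟩ s
  have hαβ : i.castSucc < i.succ := Fin.castSucc_lt_succ
  have hvα : (i.castSucc : Fin (N + 1)).val = i.val := rfl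
  have hvβ : (i.succ : Fin (N + 1)).val = i.val + 1 := rfl
  rintro a b ⟨hlt, hne⟩ s
  by_cases hbα : b = i.castSucc
  · rw [hbα] at hlt hne ⊢
    have haα : a ≠ i.castSucc := hlt.ne
    have haβ : a ≠ i.succ := (hlt.trans hαβ).ne
    have e := Cfsg.Agent.Lib.Helper20.EQ.X_comm_rel a i.castSucc i.succ haα hαβ.ne haβ s t
    have h1 : ρ (X a i.castSucc s) (ρ (X i.castSucc i.succ t) x) =
        ρ (X a i.succ (s * t)) (ρ (X i.castSucc i.succ t) (ρ (X a i.castSucc s) x)) := by
      rw [← Module.End.mul_apply, ← map_mul, e, map_mul, map_mul, Module.End.mul_apply,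
        Module.End.mul_apply]
    rw [h1, hx' a i.castSucc hlt (fun h => hαβ.ne h.2) s]
    exact rho_fix_of_comm ρ
      (Cfsg.Agent.Lib.Helper20.EQ.X_comm a i.succ i.castSucc i.succ hαβ.ne' haβ (s * t) t)
      (hx' a i.succ (hlt.trans hαβ) (fun h => haα h.1) (s * t))
  · by_cases haβ : a = i.succ
    · rw [haβ] at hlt hne ⊢
      have hβb : i.succ ≠ b := hlt.ne
      have hαb : i.castSucc ≠ b := (hαβ.trans hlt).ne
      have e := Cfsg.Agent.Lib.Helper20.EQ.X_comm_rel i.castSucc i.succ b hαβ.ne hβb hαb t s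
      set z : M := ρ (X i.castSucc i.succ t) x with hz
      -- z = ρ (X α b (t s)) (ρ (X β b s) z)
      have h1 : z = ρ (X i.castSucc b (t * s)) (ρ (X i.succ b s) z) := by
        have h2 : ρ (X i.castSucc i.succ t) (ρ (X i.succ b s) x) =
            ρ (X i.castSucc b (t * s)) (ρ (X i.succ b s) (ρ (X i.castSucc i.succ t) x)) := by
          rw [← Module.End.mul_apply, ← map_mul, e, map_mul, map_mul, Module.End.mul_apply,
            Module.End.mul_apply]
        rw [hx' i.succ b hlt (fun h => hαβ.ne' h.1) s] at h2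
        exact h2
      -- X α b fixes z
      have h3 : ∀ r : F, ρ (X i.castSucc b r) z = z := fun r =>
        rho_fix_of_comm ρ
          (Cfsg.Agent.Lib.Helper20.EQ.X_comm i.castSucc b i.castSucc i.succ hαb.symm hαβ.ne r t)
          (hx' i.castSucc b (hαβ.trans hlt) (fun h => hβb h.2.symm) r)
      have h4 : ρ (X i.castSucc b (-(t * s))) (ρ (X i.castSucc b (t * s)) (ρ (X i.succ b s) z)) =
          ρ (X i.succ b s) z := by
        rw [← Module.End.mul_apply, ← map_mul, ← X_add_aux, neg_add_cancel, X_zero_aux, map_one,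
          Module.End.one_apply]
      rw [← h4, ← h1, h3]
    · exact rho_fix_of_comm ρ
        (Cfsg.Agent.Lib.Helper20.EQ.X_comm a b i.castSucc i.succ hbα haβ s t)
        (hx' a b hlt hne s)

omit [DecidableEq F] [FiniteDimensional ℂ M] in
/-- STAB5 (local copy) -/
theorem sd_mem_Efix_aux (ρ : Representation ℂ (SpecialLinearGroup (Fin (N + 1)) F) M) (i : Fin N)
    (x : M) (hx : x ∈ Efix ρ i) : ρ (sd i.castSucc i.succ) x ∈ Efix ρ i := by
  have hαβ : i.castSucc < i.succ := Fin.castSucc_lt_succ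
  have hvα : (i.castSucc : Fin (N + 1)).val = i.val := rfl
  have hvβ : (i.succ : Fin (N + 1)).val = i.val + 1 := rfl
  rintro a b ⟨hlt, hne⟩ s
  obtain ⟨ε, -, hconj⟩ :=
    Cfsg.Agent.Lib.Helper20.EQ.sd_inv_conj_X (F := F) i.castSucc i.succ a b hαβ.ne hlt.ne
  have h1 : X a b s * sd i.castSucc i.succ = sd i.castSucc i.succ *
      X (Equiv.swap i.castSucc i.succ a) (Equiv.swap i.castSucc i.succ b) (ε * s) := by
    rw [← hconj s]
    group
  have hroot : Equiv.swap i.castSucc i.succ a < Equiv.swap i.castSucc i.succ b ∧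
      ¬ (Equiv.swap i.castSucc i.succ a = i.castSucc ∧
        Equiv.swap i.castSucc i.succ b = i.succ) := by
    have hlt' : a.val < b.val := hlt
    have hne' : ¬ (a.val = i.val ∧ b.val = i.val + 1) := by
      rintro ⟨h1, h2⟩
      exact hne ⟨Fin.ext (by rw [h1, hvα]), Fin.ext (by rw [h2, hvβ])⟩
    simp only [Equiv.swap_apply_def]
    split_ifs with h1 h2 h3 h4 h5 h6 h7 h8 <;>
      simp only [Fin.lt_def, Fin.ext_iff, hvα, hvβ] at * <;> omega
  rw [← Module.End.mul_apply, ← map_mul, h1, map_mul, Module.End.mul_apply,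
    hx _ _ hroot (ε * s)]

/-- R10: the fixed space of `⟨U, X_{-α_i}⟩` has codimension at most one in `C_M(U)` -/
theorem codim_le_one (hN : 2 ≤ N) (ρ : Representation ℂ (SpecialLinearGroup (Fin (N + 1)) F) M)
    (i : Fin N)
    (h1b : ∀ a : Unit → F, a ≠ 0 →
      finrank ℂ ↥(Efix ρ i ⊓ wt ρ (Xr (F := F) i.castSucc i.succ) a) ≤ 1)
    (hT : ∀ (t : Tor (N + 1) F) (x : M), x ∈ Cfix ρ → ρ (dg t) x = x) :
    finrank ℂ ↥(Cfix ρ) ≤
      finrank ℂ ↥(Cfix ρ ⊓ Fx ρ (fun a b => a = i.succ ∧ b = i.castSucc)) + 1 := by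
  have hαβ : i.castSucc ≠ i.succ := (Fin.castSucc_lt_succ (i := i)).ne
  refine codim_le_one_of hN ρ i
    (fun t s => Cfsg.Agent.Lib.Helper20.EQ.dg_conj_X t i.castSucc i.succ s) ?_
    (fun t => Cfsg.Agent.Lib.Helper20.EQ.sd_conj_dg i.castSucc i.succ hαβ t)
    (X_mem_Efix_aux ρ i) (sd_mem_Efix_aux ρ i) h1b hT
  obtain ⟨ε, hε, h⟩ :=
    Cfsg.Agent.Lib.Helper20.EQ.sd_inv_conj_X (F := F) i.castSucc i.succ i.castSucc i.succ hαβ hαβ
  refine ⟨ε, hε, fun t => ?_⟩
  rw [h t, Equiv.swap_apply_left, Equiv.swap_apply_right]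

end R10

end Cfsg.Agent.Lib.Helper5.EQ
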