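/-
helper5: S4642 leaf COV (`irrOver_iff_coverSet`): transitivity of "lying over".
-/
import Mathlib
import Cfsg.Prelude.Def_BrauerPairs
import Cfsg.Agent.Lib.Helper2.FongPTDefs
import Cfsg.Agent.Lib.Helper6.Fong

set_option autoImplicit false

namespace Cfsg.Agent.Lib.Helper5.FPTCOV

open Cfsg Cfsg.Agent.CharLib Cfsg.Agent.Lib.Helper24 Cfsg.Agent.Lib.Helper23
  Cfsg.Agent.Lib.Helper6 Cfsg.Agent.Lib.Helper2.FongPT
open scoped ComplexConjugate

universe u

variable {G : Type u} [Group G] [Fintype G] {p : ℕ} [hpp : Fact p.Prime] {M : Ideal AlgInt}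

/-- Multiplicities: restricting first to `L` and then to `K`. -/
theorem inner_res_res (K L : Subgroup G) (hKL : K ≤ L) [Fintype K] [Fintype L]
    (θ : IrrCharacter K) (χ : IrrCharacter G) :
    ∃ m n : IrrCharacter L → ℕ,
      (∀ ψ : IrrCharacter L, classInner (fun l : L => (χ : G → ℂ) l) (ψ : L → ℂ) = (m ψ : ℂ)) ∧
      (∀ ψ : IrrCharacter L,
        classInner (fun k : K => (ψ : L → ℂ) ⟨(k : G), hKL k.2⟩) (θ : K → ℂ) = (n ψ : ℂ)) ∧
      classInner (fun k : K => (χ : G → ℂ) k) (θ : K → ℂ) =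
        ((∑ᶠ ψ : IrrCharacter L, m ψ * n ψ : ℕ) : ℂ) := by
  classical
  have : Finite L := Finite.of_fintype L
  let _ := fintypeIrr L
  have hχL : IsCharacter L (fun l : L => (χ : G → ℂ) l) := IsCharacter.restrict (IsIrrCharacter.isCharacter χ.2) L
  obtain ⟨m, hm⟩ := IsCharacter.exists_decomp hχL
  rw [finsum_eq_sum_of_fintype] at hm
  have hn : ∀ ψ : IrrCharacter L, ∃ n : ℕ,
      classInner (fun k : K => (ψ : L → ℂ) ⟨(k : G), hKL k.2⟩) (θ : K → ℂ) = (n : ℂ) := by
    intro ψ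
    exact IsCharacter.classInner_nat
      (IsCharacter.comp_hom (IsIrrCharacter.isCharacter ψ.2) (Subgroup.inclusion hKL))
      (IsIrrCharacter.isCharacter θ.2)
  choose n hn using hn
  refine ⟨m, n, ?_, hn, ?_⟩
  · intro ψ
    rw [hm, classInner_sum_left, Finset.sum_eq_single ψ]
    · rw [← Nat.cast_smul_eq_nsmul ℂ, classInner_smul_left, classInner_irr']
      simp
    · intro b _ hb
      rw [← Nat.cast_smul_eq_nsmul ℂ, classInner_smul_left, classInner_irr']
      simp [hb]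
    · intro h; exact absurd (Finset.mem_univ _) h
  · have hK : (fun k : K => (χ : G → ℂ) k) =
        ∑ ψ : IrrCharacter L, (m ψ : ℂ) • (fun k : K => (ψ : L → ℂ) ⟨(k : G), hKL k.2⟩) := by
      funext k
      have := congrFun hm ⟨(k : G), hKL k.2⟩
      simp only at this
      rw [this, Finset.sum_apply, Finset.sum_apply]
      apply Finset.sum_congr rfl
      intro ψ _
      simp [Pi.smul_apply, nsmul_eq_mul]
    rw [hK, classInner_sum_left, finsum_eq_sum_of_fintype]
    push_cast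
    apply Finset.sum_congr rfl
    intro ψ _
    rw [classInner_smul_left, hn]

/-- (COV) Transitivity of "lying over": `χ` over `θ` iff `χ` lies over a member of `Irr(L | θ)`. -/
theorem irrOver_iff_coverSet (K L : Subgroup G) (hKL : K ≤ L) [hLn : L.Normal] [Fintype K]
    [Fintype L] (θ : IrrCharacter K) (χ : IrrCharacter G) :
    χ ∈ irrOver K (θ : K → ℂ) ↔ χ ∈ Fong.coverSet L (irrOverIn K L hKL (θ : K → ℂ)) := by
  classical
  have : Finite L := Finite.of_fintype L
  let _ := fintypeIrr L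
  obtain ⟨m, n, hm, hn, hsum⟩ := inner_res_res K L hKL θ χ
  rw [finsum_eq_sum_of_fintype] at hsum
  constructor
  · intro hχ
    have hχ' : classInner (fun k : K => (χ : G → ℂ) k) (θ : K → ℂ) ≠ 0 := hχ
    rw [hsum] at hχ'
    have hne : (∑ ψ : IrrCharacter L, m ψ * n ψ) ≠ 0 := by
      intro h0
      apply hχ'
      rw [h0]
      simp
    obtain ⟨ψ, _, hψ⟩ := Finset.exists_ne_zero_of_sum_ne_zero hne
    have hmψ : m ψ ≠ 0 := fun h => hψ (by rw [h, Nat.zero_mul])
    have hnψ : n ψ ≠ 0 := fun h => hψ (by rw [h, Nat.mul_zero])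
    refine ⟨ψ, ?_, ?_⟩
    · show classInner (fun k : K => (ψ : L → ℂ) ⟨(k : G), hKL k.2⟩) (θ : K → ℂ) ≠ 0
      rw [hn]
      exact_mod_cast hnψ
    · rw [hm]
      exact_mod_cast hmψ
  · rintro ⟨ψ, hψ, hover⟩
    have hψ' : classInner (fun k : K => (ψ : L → ℂ) ⟨(k : G), hKL k.2⟩) (θ : K → ℂ) ≠ 0 := hψ
    rw [hn] at hψ'
    rw [hm] at hover
    have hnψ : n ψ ≠ 0 := by exact_mod_cast hψ'
    have hmψ : m ψ ≠ 0 := by exact_mod_cast hover
    show classInner (fun k : K => (χ : G → ℂ) k) (θ : K → ℂ) ≠ 0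
    rw [hsum]
    have hle : m ψ * n ψ ≤ ∑ ψ' : IrrCharacter L, m ψ' * n ψ' :=
      Finset.single_le_sum (f := fun ψ' => m ψ' * n ψ') (fun _ _ => Nat.zero_le _)
        (Finset.mem_univ ψ)
    have hpos : 0 < m ψ * n ψ := Nat.mul_pos (Nat.pos_of_ne_zero hmψ) (Nat.pos_of_ne_zero hnψ)
    have : (∑ ψ' : IrrCharacter L, m ψ' * n ψ') ≠ 0 := by omega
    exact_mod_cast this

end Cfsg.Agent.Lib.Helper5.FPTCOV
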