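/-
helper5: S4638-STAB (leaf of helper27's plan `notes/S4638_leaves.lean`): the stabilizer in `N_G(P)` of a
set of irreducible characters of `C_G(P)` is a subgroup.  The set of stabilizing elements contains `1` and
is closed under products; in a finite group that makes it a subgroup (`g⁻¹ = g ^ (orderOf g - 1)`).
-/
import Mathlib
import Cfsg.Prelude.Def_BlockLocal

set_option autoImplicit false

namespace Cfsg.Agent.Lib.Helper5.KleinPISTAB

open Cfsg

universe u

theorem stabilizesBlock_one {G : Type u} [Group G] (K : Subgroup G) (e : Set (IrrCharacter K)) :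
    StabilizesBlock K e 1 := by
  refine ⟨one_mem _, fun χ hχ => ⟨χ, hχ, ?_⟩⟩
  intro k k' hk
  have h0 : k' = k := Subtype.ext (by rw [hk]; group)
  rw [h0]

theorem stabilizesBlock_mul {G : Type u} [Group G] (K : Subgroup G) (e : Set (IrrCharacter K))
    {g h : G} (hg : StabilizesBlock K e g) (hh : StabilizesBlock K e h) :
    StabilizesBlock K e (g * h) := by
  refine ⟨mul_mem hg.1 hh.1, fun χ hχ => ?_⟩
  obtain ⟨χ', hχ', h1⟩ := hh.2 χ hχ
  obtain ⟨χ'', hχ'', h2⟩ := hg.2 χ' hχ'
  refine ⟨χ'', hχ'', ?_⟩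
  intro k k'' hk
  have hmem : h * (k : G) * h⁻¹ ∈ K := (Subgroup.mem_normalizer_iff.mp hh.1 k).mp k.2
  have e1 := h1 k ⟨_, hmem⟩ rfl
  have e2 := h2 ⟨_, hmem⟩ k'' (by rw [hk]; group)
  rw [e2, e1]

theorem stabilizesBlock_pow {G : Type u} [Group G] (K : Subgroup G) (e : Set (IrrCharacter K))
    {g : G} (hg : StabilizesBlock K e g) (n : ℕ) : StabilizesBlock K e (g ^ n) := by
  induction n with
  | zero => rw [pow_zero]; exact stabilizesBlock_one K e
  | succ n ih => rw [pow_succ]; exact stabilizesBlock_mul K e ih hg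

theorem stabilizesBlock_inv {G : Type u} [Group G] [Finite G] (K : Subgroup G)
    (e : Set (IrrCharacter K)) {g : G} (hg : StabilizesBlock K e g) :
    StabilizesBlock K e g⁻¹ := by
  have h0 : g⁻¹ = g ^ (orderOf g - 1) := by
    apply inv_eq_of_mul_eq_one_right
    rw [← pow_succ', Nat.sub_add_cancel (orderOf_pos g), pow_orderOf_eq_one]
  rw [h0]
  exact stabilizesBlock_pow K e hg _

/-- (STAB) the stabilizer of a set of irreducible characters of `C_G(P)` in `N_G(P)` is a subgroup
(conjugation by `g` permutes the finite set `Irr(C_G(P))`; helper24 `ConjBlock.conjIrr`). -/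
theorem exists_stabilizer {G : Type u} [Group G] [Finite G] (P : Subgroup G)
    (c : Set (IrrCharacter (Subgroup.centralizer (P : Set G)))) :
    ∃ T : Subgroup G, ∀ g : G, g ∈ T ↔ (g ∈ Subgroup.normalizer (P : Set G) ∧
      StabilizesBlock (Subgroup.centralizer (P : Set G)) c g) := by
  refine ⟨{ carrier := {g | g ∈ Subgroup.normalizer (P : Set G) ∧
                StabilizesBlock (Subgroup.centralizer (P : Set G)) c g}
            one_mem' := ⟨one_mem _, stabilizesBlock_one _ c⟩
            mul_mem' := fun ha hb => ⟨mul_mem ha.1 hb.1, stabilizesBlock_mul _ c ha.2 hb.2⟩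
            inv_mem' := fun ha => ⟨inv_mem ha.1, stabilizesBlock_inv _ c ha.2⟩ }, fun g => Iff.rfl⟩

end Cfsg.Agent.Lib.Helper5.KleinPISTAB
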