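import Mathlib
import Cfsg.Agent.Lib.Helper5.L33E

/-!
# Simple groups of order 5616, part F: centralizer orders (helper5)

From the class multiplication coefficients with an element of order `13`:
* an element of order divisible by `6` has centralizer of order `6`;
* an element of order `3` with `χ₁₂ = 0` has centralizer of order dividing `9`;
* an element of order `3` with `χ₁₂ = 3` has centralizer of order `54`
  (lower bound `29` from the orthogonality relations and the Cauchy–Schwarz inequality);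
* a subgroup of order `27` and exponent `3` contains `5` or `14` elements with centralizer of order
  `54`.
-/

set_option autoImplicit false
set_option linter.unusedSectionVars false
set_option linter.style.haveILetI false

namespace Cfsg.Agent.Lib.Helper5.L33

open MulAction Cfsg Cfsg.Agent.Lib.Helper8.SmallSimple Cfsg.Agent.Lib.Helper8.SmallSimple2
  Cfsg.Agent.Lib.Helper7 Cfsg.Agent.Lib.Helper19.Ord4032 Cfsg.Agent.CharLib
  Cfsg.Agent.Lib.Helper24 Cfsg.Agent.Lib.Helper12.BSF Cfsg.Agent.Lib.Helper6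
  Cfsg.Agent.Lib.Helper5.M11
open scoped ComplexConjugate

universe u

theorem arith_sq_5148 : ∀ c < 72, 5148 % (c * c) = 0 → 6 % c = 0 := by decide

theorem arith_sq_5265 : ∀ c < 73, 5265 % (c * c) = 0 → 9 % c = 0 := by decide

theorem arith_54 : ∀ c < 55, 29 ≤ c → 54 % c = 0 → c = 54 := by decide

theorem sum_indicator_form {α : Type*} [Fintype α] [DecidableEq α] (a : α) (p : α → Prop)
    [DecidablePred p] (A B C : ℂ) :
    ∑ u : α, (A + ((if u = a then B else 0) + (if p u then C else 0))) =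
      (Fintype.card α : ℂ) * A + B + ((Finset.univ.filter p).card : ℂ) * C := by
  rw [Finset.sum_add_distrib, Finset.sum_add_distrib, Finset.sum_const, Finset.sum_ite_eq',
    Finset.sum_ite, Finset.sum_const, Finset.sum_const_zero, if_pos (Finset.mem_univ a),
    Finset.card_univ, nsmul_eq_mul, nsmul_eq_mul, add_zero, add_assoc]

theorem re_sq_le_norm_sq (z : ℂ) : z.re ^ 2 ≤ ‖z‖ ^ 2 := by
  rw [Complex.sq_norm, Complex.normSq_apply]
  nlinarith [mul_self_nonneg z.im]

variable {G : Type u} [Group G] [Finite G]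

namespace Blk

variable {χ₁₂ χ₂₇ : IrrCharacter G} {Yf : Finset (IrrCharacter G)} (B : Blk χ₁₂ χ₂₇ Yf)

include B

/-- an element of order divisible by `6` has centralizer of order `6` -/
theorem card_centralizer_six [IsSimpleGroup G] (hG : Nat.card G = 5616) (w : G)
    (h6 : 6 ∣ orderOf w) : Nat.card ↥(Subgroup.centralizer ({w} : Set G)) = 6 := by
  obtain ⟨y, hy⟩ := exists_orderOf_thirteen hG
  have hreg := reg_of_six hG w h6
  obtain ⟨ha, hb⟩ := B.val_six hG w h6
  have hp := B.pair_count hG w w y hreg hreg hy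
  rw [ha, hb] at hp
  set N := Nat.card {s : G // IsConj w s ∧ IsConj w (s⁻¹ * y)} with hN
  set c := Nat.card ↥(Subgroup.centralizer ({w} : Set G)) with hc
  have hZ : ((N * (c * c) : ℕ) : ℂ) = ((5148 : ℕ) : ℂ) := by
    push_cast
    linear_combination hp
  have hZ' : N * (c * c) = 5148 := by exact_mod_cast hZ
  have hdvd : c * c ∣ 5148 := Dvd.intro_left N hZ'
  have hcle : c < 72 := by
    by_contra h
    push Not at h
    have h1 : 72 * 72 ≤ c * c := Nat.mul_le_mul h h
    have h2 := Nat.le_of_dvd (by norm_num) hdvd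
    omega
  have hc6 : c ∣ 6 := Nat.dvd_of_mod_eq_zero (arith_sq_5148 c hcle (Nat.mod_eq_zero_of_dvd hdvd))
  have hwc : orderOf w ∣ c :=
    Subgroup.orderOf_dvd_natCard _ (Subgroup.mem_centralizer_singleton_iff.mpr rfl)
  exact Nat.dvd_antisymm hc6 (dvd_trans h6 hwc)

/-- an element of order `3` with `χ₁₂ = 0` has centralizer of order dividing `9` -/
theorem card_centralizer_3B [IsSimpleGroup G] (hG : Nat.card G = 5616) (x : G)
    (hx : orderOf x = 3) (h0 : (χ₁₂ : G → ℂ) x = 0) :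
    Nat.card ↥(Subgroup.centralizer ({x} : Set G)) ∣ 9 := by
  obtain ⟨y, hy⟩ := exists_orderOf_thirteen hG
  have hreg : ¬ 13 ∣ orderOf x := by rw [hx]; norm_num
  have hb := B.b_three hG x (by rw [hx])
  have hp := B.pair_count hG x x y hreg hreg hy
  rw [h0, hb] at hp
  set N := Nat.card {s : G // IsConj x s ∧ IsConj x (s⁻¹ * y)} with hN
  set c := Nat.card ↥(Subgroup.centralizer ({x} : Set G)) with hc
  have hZ : ((N * (c * c) : ℕ) : ℂ) = ((5265 : ℕ) : ℂ) := by
    push_cast
    linear_combination hp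
  have hZ' : N * (c * c) = 5265 := by exact_mod_cast hZ
  have hdvd : c * c ∣ 5265 := Dvd.intro_left N hZ'
  have hcle : c < 73 := by
    by_contra h
    push Not at h
    have h1 : 73 * 73 ≤ c * c := Nat.mul_le_mul h h
    have h2 := Nat.le_of_dvd (by norm_num) hdvd
    omega
  exact Nat.dvd_of_mod_eq_zero (arith_sq_5265 c hcle (Nat.mod_eq_zero_of_dvd hdvd))

set_option maxHeartbeats 1600000 in
/-- an element of order `3` with `χ₁₂ = 3` has centralizer of order at least `29` -/
theorem card_centralizer_3A_ge [IsSimpleGroup G] (hG : Nat.card G = 5616) (x : G)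
    (hx : orderOf x = 3) (h3 : (χ₁₂ : G → ℂ) x = 3) :
    29 ≤ Nat.card ↥(Subgroup.centralizer ({x} : Set G)) := by
  classical
  letI : Fintype G := Fintype.ofFinite G
  letI : Fintype (IrrCharacter G) := fintypeIrr G
  have hreg : ¬ 13 ∣ orderOf x := by rw [hx]; norm_num
  have hb := B.b_three hG x (by rw [hx])
  have hη : ∀ η ∈ Yf, (η : G → ℂ) x = -2 := by
    intro η hη
    rw [B.rel η hη x hreg, h3, hb]
    norm_num
  have hx1 : ¬ IsConj x 1 := by
    intro h
    have : x = 1 := isConj_one_left.mp h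
    rw [this, orderOf_one] at hx
    omega
  set c := Nat.card ↥(Subgroup.centralizer ({x} : Set G)) with hc
  have hconj1 : ∀ χ : IrrCharacter G, conj ((χ : G → ℂ) 1) =
      ((charDegree (χ : G → ℂ) : ℕ) : ℂ) := by
    intro χ
    rw [irr_apply_one, map_natCast]
  -- second orthogonality
  have h2 := sum_irr_mul_conj (G := G) x x
  rw [Cfsg.Agent.Lib.Helper19.Ord720.classInd_self, one_mul,
    B.sum_split (fun χ => (χ : G → ℂ) x * conj ((χ : G → ℂ) x))] at h2
  have e_t2 : ((triv G : IrrCharacter G) : G → ℂ) x *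
      conj (((triv G : IrrCharacter G) : G → ℂ) x) = 1 := by
    rw [triv_apply, map_one, mul_one]
  have e_12_2 : (χ₁₂ : G → ℂ) x * conj ((χ₁₂ : G → ℂ) x) = 9 := by
    rw [B.real12, h3]; norm_num
  have e_27_2 : (χ₂₇ : G → ℂ) x * conj ((χ₂₇ : G → ℂ) x) = 0 := by rw [hb, zero_mul]
  have e_Y_2 : ∑ η ∈ Yf, (η : G → ℂ) x * conj ((η : G → ℂ) x) = 16 := by
    have h4 : ∀ η ∈ Yf, (η : G → ℂ) x * conj ((η : G → ℂ) x) = 4 := by
      intro η hη'
      rw [hη η hη', map_neg, map_ofNat]
      norm_num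
    rw [Finset.sum_congr rfl h4, Finset.sum_const, B.cY]
    norm_num
  simp only [e_t2, e_12_2, e_27_2, e_Y_2] at h2
  have h5 : ∀ ψ : IrrCharacter G, (ψ : G → ℂ) x * conj ((ψ : G → ℂ) x) =
      ((‖(ψ : G → ℂ) x‖ ^ 2 : ℝ) : ℂ) := by
    intro ψ
    rw [Complex.mul_conj']
    push_cast
    rfl
  have hR2 : ∑ ψ ∈ B.restSet, (ψ : G → ℂ) x * conj ((ψ : G → ℂ) x) =
      ((∑ ψ ∈ B.restSet, ‖(ψ : G → ℂ) x‖ ^ 2 : ℝ) : ℂ) := by
    rw [Complex.ofReal_sum]
    exact Finset.sum_congr rfl (fun ψ _ => h5 ψ)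
  set S2 : ℝ := ∑ ψ ∈ B.restSet, ‖(ψ : G → ℂ) x‖ ^ 2 with hS2
  rw [hR2] at h2
  have hC : (c : ℂ) = 26 + ((S2 : ℝ) : ℂ) := by linear_combination -h2
  have hR : (c : ℝ) = 26 + S2 := by exact_mod_cast hC
  -- first column
  have h1 := sum_irr_mul_conj (G := G) x 1
  rw [Cfsg.Agent.Lib.Helper19.Ord720.classInd_of_not hx1, zero_mul,
    B.sum_split (fun χ => (χ : G → ℂ) x * conj ((χ : G → ℂ) 1))] at h1
  have e_t1 : ((triv G : IrrCharacter G) : G → ℂ) x *
      conj (((triv G : IrrCharacter G) : G → ℂ) 1) = 1 := by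
    rw [triv_apply, triv_apply, map_one, mul_one]
  have e_12_1 : (χ₁₂ : G → ℂ) x * conj ((χ₁₂ : G → ℂ) 1) = 36 := by
    rw [h3, B.apply_one_12, map_ofNat]; norm_num
  have e_27_1 : (χ₂₇ : G → ℂ) x * conj ((χ₂₇ : G → ℂ) 1) = 0 := by rw [hb, zero_mul]
  have e_Y_1 : ∑ η ∈ Yf, (η : G → ℂ) x * conj ((η : G → ℂ) 1) = -128 := by
    have h4 : ∀ η ∈ Yf, (η : G → ℂ) x * conj ((η : G → ℂ) 1) = -32 := by
      intro η hη'
      rw [hη η hη', B.apply_one_Y hη', map_ofNat]
      norm_num
    rw [Finset.sum_congr rfl h4, Finset.sum_const, B.cY]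
    norm_num
  simp only [e_t1, e_12_1, e_27_1, e_Y_1] at h1
  simp only [hconj1] at h1
  have h91 : ∑ ψ ∈ B.restSet, (ψ : G → ℂ) x * ((charDegree (ψ : G → ℂ) : ℕ) : ℂ) = 91 := by
    linear_combination h1
  have hre : ∑ ψ ∈ B.restSet, ((ψ : G → ℂ) x).re * ((charDegree (ψ : G → ℂ) : ℕ) : ℝ) = 91 := by
    have := congrArg Complex.re h91
    rw [Complex.re_sum] at this
    simp only [Complex.mul_re, Complex.natCast_re, Complex.natCast_im, mul_zero, sub_zero] at this
    rw [this]
    norm_num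
  -- the degrees
  have hd := sum_deg_sq (G := G)
  rw [hG, B.sum_split (fun χ => (charDegree (χ : G → ℂ) : ℤ) ^ 2)] at hd
  have eYd : ∑ η ∈ Yf, (charDegree (η : G → ℂ) : ℤ) ^ 2 = 1024 := by
    have h4 : ∀ η ∈ Yf, (charDegree (η : G → ℂ) : ℤ) ^ 2 = 256 := by
      intro η hη'
      rw [B.dY η hη']
      norm_num
    rw [Finset.sum_congr rfl h4, Finset.sum_const, B.cY]
    norm_num
  simp only [deg_triv, B.d12, B.d27, eYd] at hd
  have hdZ : ∑ ψ ∈ B.restSet, (charDegree (ψ : G → ℂ) : ℤ) ^ 2 = 3718 := by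
    push_cast at hd
    linarith
  have hdR : ∑ ψ ∈ B.restSet, ((charDegree (ψ : G → ℂ) : ℕ) : ℝ) ^ 2 = 3718 := by
    exact_mod_cast hdZ
  -- Cauchy–Schwarz
  have cs := Finset.sum_mul_sq_le_sq_mul_sq B.restSet (fun ψ => ((ψ : G → ℂ) x).re)
    (fun ψ => ((charDegree (ψ : G → ℂ) : ℕ) : ℝ))
  rw [hre, hdR] at cs
  have hle : ∑ ψ ∈ B.restSet, ((ψ : G → ℂ) x).re ^ 2 ≤ S2 :=
    Finset.sum_le_sum (fun ψ _ => re_sq_le_norm_sq _)
  have h6 : (91 : ℝ) ^ 2 ≤ S2 * 3718 :=
    le_trans cs (mul_le_mul_of_nonneg_right hle (by norm_num))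
  have hS2' : 2 < S2 := by nlinarith
  have h7 : (28 : ℝ) < c := by rw [hR]; linarith
  have h8 : 28 < c := by exact_mod_cast h7
  omega

set_option maxHeartbeats 1600000 in
/-- an element of order `3` with `χ₁₂ = 3` has centralizer of order `54` -/
theorem card_centralizer_3A [IsSimpleGroup G] (hG : Nat.card G = 5616) (x : G)
    (hx : orderOf x = 3) (h3 : (χ₁₂ : G → ℂ) x = 3) :
    Nat.card ↥(Subgroup.centralizer ({x} : Set G)) = 54 := by
  have hge := B.card_centralizer_3A_ge hG x hx h3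
  have hregx : ¬ 13 ∣ orderOf x := by rw [hx]; norm_num
  have hbx := B.b_three hG x (by rw [hx])
  set c := Nat.card ↥(Subgroup.centralizer ({x} : Set G)) with hc
  have hcdvd : c ∣ 5616 := hG ▸ Subgroup.card_subgroup_dvd_card _
  have h13 : ¬ 13 ∣ c := by
    intro h
    haveI : Fact (Nat.Prime 13) := ⟨by norm_num⟩
    obtain ⟨y, hyC, hy⟩ := exists_prime_order_mem (Subgroup.centralizer ({x} : Set G)) 13 h
    have hcy := card_centralizer_thirteen hG y hy
    have hxy : x ∈ Subgroup.centralizer ({y} : Set G) := by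
      rw [Subgroup.mem_centralizer_singleton_iff]
      exact (Subgroup.mem_centralizer_singleton_iff.mp hyC).symm
    have := Subgroup.orderOf_dvd_natCard _ hxy
    rw [hcy, hx] at this
    omega
  have hc432 : c ∣ 432 := by
    have hcop : Nat.Coprime c 13 :=
      Nat.Coprime.symm ((Nat.Prime.coprime_iff_not_dvd (by norm_num)).mpr h13)
    exact hcop.dvd_of_dvd_mul_left (by rw [show 13 * 432 = 5616 by norm_num]; exact hcdvd)
  have h2c : 2 ∣ c := by
    by_contra h2
    have hcop2 : Nat.Coprime c 2 :=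
      Nat.Coprime.symm ((Nat.Prime.coprime_iff_not_dvd Nat.prime_two).mpr h2)
    have hcop : Nat.Coprime c 16 := by
      have := Nat.Coprime.pow_right 4 hcop2
      norm_num at this
      exact this
    have h27 : c ∣ 27 :=
      hcop.dvd_of_dvd_mul_left (by rw [show 16 * 27 = 432 by norm_num]; exact hc432)
    have := Nat.le_of_dvd (by norm_num) h27
    omega
  obtain ⟨r, hrC, hr⟩ := Cfsg.Agent.Lib.Helper19.L33.exists_invol_mem _ h2c
  have hcomm : Commute r x := Subgroup.mem_centralizer_singleton_iff.mp hrC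
  have hw : orderOf (r * x) = 6 := by
    rw [hcomm.orderOf_mul_eq_mul_orderOf_of_coprime (by rw [hr, hx]; norm_num), hr, hx]
  have h6 : 6 ∣ orderOf (r * x) := by rw [hw]
  have hc6 := B.card_centralizer_six hG (r * x) h6
  obtain ⟨ha, hb⟩ := B.val_six hG (r * x) h6
  obtain ⟨y, hy⟩ := exists_orderOf_thirteen hG
  have hp := B.pair_count hG x (r * x) y hregx (reg_of_six hG (r * x) h6) hy
  rw [h3, hbx, ha, hb, hc6] at hp
  set N := Nat.card {s : G // IsConj x s ∧ IsConj (r * x) (s⁻¹ * y)} with hN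
  have hZ : ((N * (c * 6) : ℕ) : ℂ) = ((4212 : ℕ) : ℂ) := by
    push_cast
    linear_combination hp
  have hZ' : N * (c * 6) = 4212 := by exact_mod_cast hZ
  have hd6 : c * 6 ∣ 702 * 6 := Dvd.intro_left N hZ'
  have h702 : c ∣ 702 := (Nat.mul_dvd_mul_iff_right (by norm_num : 0 < 6)).mp hd6
  have h54 : c ∣ 54 := by
    have := Nat.dvd_gcd hc432 h702
    norm_num at this
    exact this
  have hle : c < 55 := by
    have := Nat.le_of_dvd (by norm_num) h54
    omega
  exact arith_54 c hle hge (Nat.mod_eq_zero_of_dvd h54)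

/-- the dichotomy for the elements of order `3` -/
theorem three_dichotomy [IsSimpleGroup G] (hG : Nat.card G = 5616) (x : G)
    (hx : orderOf x = 3) :
    ((χ₁₂ : G → ℂ) x = 3 ∧ Nat.card ↥(Subgroup.centralizer ({x} : Set G)) = 54) ∨
      ((χ₁₂ : G → ℂ) x = 0 ∧ Nat.card ↥(Subgroup.centralizer ({x} : Set G)) ∣ 9) := by
  rcases (B.val_three hG x hx).1 with h | h
  · right
    exact ⟨h, B.card_centralizer_3B hG x hx h⟩
  · left
    exact ⟨h, B.card_centralizer_3A hG x hx h⟩

theorem val_of_card_54 [IsSimpleGroup G] (hG : Nat.card G = 5616) (x : G)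
    (hx : orderOf x = 3) (h54 : Nat.card ↥(Subgroup.centralizer ({x} : Set G)) = 54) :
    (χ₁₂ : G → ℂ) x = 3 := by
  rcases B.three_dichotomy hG x hx with ⟨h, -⟩ | ⟨-, h⟩
  · exact h
  · rw [h54] at h
    omega

end Blk

end Cfsg.Agent.Lib.Helper5.L33
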