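import Mathlib
import Cfsg.Agent.Lib.Helper5.L33F

/-!
# Simple groups of order 5616, part G: the data from the characters (helper5)

`char_data`: in a simple group `G` of order `5616` there is an irreducible character `χ₁₂` of degree
`12`, all other non-trivial irreducible characters have degree at least `13`, and
* an element of order `3` has centralizer of order `54` (then `χ₁₂ = 3`) or dividing `9`
  (then `χ₁₂ = 0`);
* an element of order divisible by `6` has centralizer of order `6`;
* a subgroup of order `27` and exponent `3` contains exactly `5` or `14` elements with centralizer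
  of order `54`;
* `χ₁₂ = 4` on the involutions, `χ₁₂ = -1` on the elements of order `13`, `χ₁₂ = 1` on the elements
  of order `6`.
-/

set_option autoImplicit false
set_option linter.unusedSectionVars false
set_option linter.style.haveILetI false

namespace Cfsg.Agent.Lib.Helper5.L33

open MulAction Cfsg Cfsg.Agent.Lib.Helper8.SmallSimple Cfsg.Agent.Lib.Helper8.SmallSimple2
  Cfsg.Agent.Lib.Helper7 Cfsg.Agent.Lib.Helper19.Ord4032 Cfsg.Agent.CharLib
  Cfsg.Agent.Lib.Helper24 Cfsg.Agent.Lib.Helper12.BSF Cfsg.Agent.Lib.Helper6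
  Cfsg.Agent.Lib.Helper5.M11
open scoped ComplexConjugate

universe u

variable {G : Type u} [Group G] [Finite G]

theorem card_centralizer_one (hG : Nat.card G = 5616) :
    Nat.card ↥(Subgroup.centralizer ({(1 : G)} : Set G)) = 5616 := by
  have : Subgroup.centralizer ({(1 : G)} : Set G) = ⊤ := by
    ext g
    simp [Subgroup.mem_centralizer_iff]
  rw [this, Subgroup.card_top, hG]

namespace Blk

variable {χ₁₂ χ₂₇ : IrrCharacter G} {Yf : Finset (IrrCharacter G)} (B : Blk χ₁₂ χ₂₇ Yf)

include B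

set_option maxHeartbeats 1600000 in
/-- the number of elements with centralizer of order `54` in a subgroup of order `27` and
exponent `3` -/
theorem card_typeA [IsSimpleGroup G] (hG : Nat.card G = 5616) (U : Subgroup G)
    (hU : Nat.card ↥U = 27) (hexp : ∀ u ∈ U, u ^ 3 = 1) :
    Nat.card {x : G // x ∈ U ∧ Nat.card ↥(Subgroup.centralizer ({x} : Set G)) = 54} = 5 ∨
      Nat.card {x : G // x ∈ U ∧ Nat.card ↥(Subgroup.centralizer ({x} : Set G)) = 54} = 14 := by
  classical
  let _ : Fintype ↥U := Fintype.ofFinite _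
  have hcardU : Fintype.card ↥U = 27 := by rw [← Nat.card_eq_fintype_card, hU]
  obtain ⟨η, hη⟩ := B.exists_mem_Y
  set p : ↥U → Prop := fun u => Nat.card ↥(Subgroup.centralizer ({(u : G)} : Set G)) = 54 with hp
  have hp1 : ¬ p 1 := by
    show ¬ Nat.card ↥(Subgroup.centralizer ({((1 : ↥U) : G)} : Set G)) = 54
    rw [Subgroup.coe_one, card_centralizer_one hG]
    norm_num
  have hord : ∀ u : ↥U, u ≠ 1 → orderOf (u : G) = 3 := by
    intro u hu
    haveI : Fact (Nat.Prime 3) := ⟨Nat.prime_three⟩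
    apply orderOf_eq_prime (hexp u u.2)
    intro h
    exact hu (Subtype.ext h)
  have hvals : ∀ u : ↥U,
      (χ₁₂ : G → ℂ) (u : G) = 0 + ((if u = 1 then 12 else 0) + (if p u then 3 else 0)) ∧
      (η : G → ℂ) (u : G) = 1 + ((if u = 1 then 15 else 0) + (if p u then -3 else 0)) := by
    intro u
    by_cases hu : u = 1
    · rw [hu, if_pos rfl, if_pos rfl, if_neg hp1, if_neg hp1, Subgroup.coe_one, B.apply_one_12,
        B.apply_one_Y hη]
      norm_num
    · rw [if_neg hu, if_neg hu]
      have ho := hord u hu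
      have hreg : ¬ 13 ∣ orderOf (u : G) := by rw [ho]; norm_num
      have hb := B.b_three hG (u : G) (by rw [ho])
      rw [B.rel η hη (u : G) hreg, hb]
      rcases B.three_dichotomy hG (u : G) ho with ⟨h3, h54⟩ | ⟨h0, h9⟩
      · have hpu : p u := h54
        rw [if_pos hpu, if_pos hpu, h3]
        norm_num
      · have hpu : ¬ p u := by
          intro h
          have h' : Nat.card ↥(Subgroup.centralizer ({(u : G)} : Set G)) = 54 := h
          rw [h'] at h9
          omega
        rw [if_neg hpu, if_neg hpu, h0]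
        norm_num
  set n := (Finset.univ.filter p).card with hn
  obtain ⟨m₁, hm₁⟩ := sum_subgroup_irr U χ₁₂
  obtain ⟨m₂, hm₂⟩ := sum_subgroup_irr U η
  rw [Finset.sum_congr rfl (fun u _ => (hvals u).1), sum_indicator_form, hcardU] at hm₁
  rw [Finset.sum_congr rfl (fun u _ => (hvals u).2), sum_indicator_form, hcardU] at hm₂
  have e1 : (12 + 3 * n : ℤ) = 27 * m₁ := by
    have : ((12 + 3 * n : ℤ) : ℂ) = ((27 * m₁ : ℤ) : ℂ) := by
      push_cast
      push_cast at hm₁
      linear_combination hm₁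
    exact_mod_cast this
  have e2 : (42 - 3 * n : ℤ) = 27 * m₂ := by
    have : ((42 - 3 * n : ℤ) : ℂ) = ((27 * m₂ : ℤ) : ℂ) := by
      push_cast
      push_cast at hm₂
      linear_combination hm₂
    exact_mod_cast this
  have hcard : Nat.card {x : G // x ∈ U ∧ Nat.card ↥(Subgroup.centralizer ({x} : Set G)) = 54} =
      n := by
    rw [← Nat.card_congr (Equiv.subtypeSubtypeEquivSubtypeInter (fun x : G => x ∈ U)
      (fun x : G => Nat.card ↥(Subgroup.centralizer ({x} : Set G)) = 54)),
      Nat.card_eq_fintype_card, Fintype.card_subtype]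
  rw [hcard]
  omega

end Blk

/-- **the data from the characters** of a simple group of order `5616` -/
theorem char_data [IsSimpleGroup G] (hG : Nat.card G = 5616) :
    ∃ χ₁₂ : IrrCharacter G, charDegree (χ₁₂ : G → ℂ) = 12 ∧
      (∀ ψ : IrrCharacter G, (ψ : G → ℂ) ≠ (fun _ => 1) → ψ ≠ χ₁₂ →
        13 ≤ charDegree (ψ : G → ℂ)) ∧
      (∀ z : G, orderOf z = 3 → Nat.card ↥(Subgroup.centralizer ({z} : Set G)) = 54 →
        (χ₁₂ : G → ℂ) z = 3) ∧
      (∀ x : G, orderOf x = 3 → Nat.card ↥(Subgroup.centralizer ({x} : Set G)) = 54 ∨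
        Nat.card ↥(Subgroup.centralizer ({x} : Set G)) ∣ 9) ∧
      (∀ w : G, 6 ∣ orderOf w → Nat.card ↥(Subgroup.centralizer ({w} : Set G)) = 6) ∧
      (∀ U : Subgroup G, Nat.card ↥U = 27 → (∀ u ∈ U, u ^ 3 = 1) →
        Nat.card {x : G // x ∈ U ∧ Nat.card ↥(Subgroup.centralizer ({x} : Set G)) = 54} = 5 ∨
        Nat.card {x : G // x ∈ U ∧ Nat.card ↥(Subgroup.centralizer ({x} : Set G)) = 54} = 14) ∧
      (∀ t : G, orderOf t = 2 → (χ₁₂ : G → ℂ) t = 4) ∧
      (∀ y : G, orderOf y = 13 → (χ₁₂ : G → ℂ) y = -1) ∧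
      (∀ w : G, 6 ∣ orderOf w → (χ₁₂ : G → ℂ) w = 1) ∧
      (∀ x : G, orderOf x = 3 → Nat.card ↥(Subgroup.centralizer ({x} : Set G)) ∣ 9 →
        (χ₁₂ : G → ℂ) x = 0) := by
  obtain ⟨χ₁₂, χ₂₇, Yf, B⟩ := exists_blk hG
  refine ⟨χ₁₂, B.d12, B.degree_ge, fun z hz h => B.val_of_card_54 hG z hz h, ?_,
    fun w h6 => B.card_centralizer_six hG w h6, fun U hU hexp => B.card_typeA hG U hU hexp,
    fun t ht => (B.val_invol hG t ht).1, fun y hy => (B.v13 y hy).1,
    fun w h6 => (B.val_six hG w h6).1, ?_⟩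
  · intro x hx
    rcases B.three_dichotomy hG x hx with ⟨-, h⟩ | ⟨-, h⟩
    · left; exact h
    · right; exact h
  · intro x hx h9
    rcases B.three_dichotomy hG x hx with ⟨-, h⟩ | ⟨h, -⟩
    · rw [h] at h9
      omega
    · exact h

end Cfsg.Agent.Lib.Helper5.L33
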