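import Mathlib
import Cfsg.Agent.Lib.Helper5.L33E

/-!
# Simple groups of order 5616, part H: the normalizer of a pure subgroup of order `9` (helper5)

Piece D3 of the `3`-local analysis (no characters): let `U` be a non-abelian Sylow `3`-subgroup of a
group of order `5616`, `E ≤ U` of order `9` all of whose non-identity elements have centralizer of
order `54`, `N(U) ≤ N(E)` and `|N(U)| = 108`.  Then `|N(E)| = 432`.

Proof: some `e ∈ E` is not central in `U`; a Sylow `3`-subgroup `V` of `C(e)` containing `E` is a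
second Sylow `3`-subgroup of `N(E)`; the number `n` of Sylow `3`-subgroups of `N(E)` satisfies
`|N(E)| = 108 n`, `n ≡ 1 (3)`, `n ≠ 1`, `n ∣ 52` and `13 ∤ |N(E)|`, so `n = 4`.
-/

set_option autoImplicit false
set_option linter.unusedSectionVars false
set_option linter.style.haveILetI false

namespace Cfsg.Agent.Lib.Helper5.L33

open Cfsg.Agent.Lib.Helper19.Ord4032 Cfsg.Agent.Lib.Helper12.BSF

universe u

variable {G : Type u} [Group G] [Finite G]

theorem fact3_54 : (54 : ℕ).factorization 3 = 3 := by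
  have h : (54 : ℕ) = 3 ^ 3 * 2 := by norm_num
  rw [h, Nat.factorization_mul (by norm_num) (by norm_num), Finsupp.add_apply,
    Nat.Prime.factorization_pow Nat.prime_three, Finsupp.single_eq_same,
    Nat.factorization_eq_zero_of_not_dvd (by norm_num)]

theorem card_sylow3 (hG : Nat.card G = 5616) [Fact (Nat.Prime 3)] (U : Sylow 3 G) :
    Nat.card ↥(U : Subgroup G) = 27 := by
  rw [Sylow.card_eq_multiplicity, hG, fact3_5616]
  norm_num

/-- a subgroup of order `27` is a Sylow `3`-subgroup -/
theorem exists_sylow3_eq (hG : Nat.card G = 5616) [Fact (Nat.Prime 3)] (V : Subgroup G)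
    (hV : Nat.card ↥V = 27) : ∃ Q : Sylow 3 G, (Q : Subgroup G) = V := by
  have hp : IsPGroup 3 ↥V := IsPGroup.of_card (n := 3) (by rw [hV]; norm_num)
  obtain ⟨Q, hQ⟩ := hp.exists_le_sylow
  refine ⟨Q, ?_⟩
  symm
  apply Subgroup.eq_of_le_of_card_ge hQ
  rw [hV, card_sylow3 hG Q]

/-- no element of order `13` normalizes a subgroup of order `9` whose non-identity elements have
centralizers of order `54` -/
theorem not_thirteen_dvd_normalizer (E : Subgroup G) (hE : Nat.card ↥E = 9)
    (hpure : ∀ z ∈ E, z ≠ 1 → Nat.card ↥(Subgroup.centralizer ({z} : Set G)) = 54) :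
    ¬ 13 ∣ Nat.card ↥(Subgroup.normalizer (E : Set G)) := by
  classical
  intro h13
  haveI : Fact (Nat.Prime 13) := ⟨by norm_num⟩
  obtain ⟨y, hyN, hy⟩ := exists_prime_order_mem (Subgroup.normalizer (E : Set G)) 13 h13
  -- a non-identity element of `E`
  have hEbot : E ≠ ⊥ := by
    intro h
    rw [h, Subgroup.card_bot] at hE
    omega
  obtain ⟨⟨e, heE⟩, he1'⟩ := (Subgroup.ne_bot_iff_exists_ne_one).mp hEbot
  have he1 : e ≠ 1 := fun h => he1' (Subtype.ext h)
  let _ : Fintype ↥E := Fintype.ofFinite _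
  have hcardE : Fintype.card ↥E = 9 := by rw [← Nat.card_eq_fintype_card, hE]
  have hmem : ∀ i : ℕ, y ^ i * e * (y ^ i)⁻¹ ∈ E := by
    intro i
    have hyi : y ^ i ∈ Subgroup.normalizer (E : Set G) := Subgroup.pow_mem _ hyN i
    exact (Subgroup.mem_normalizer_iff.mp hyi e).mp heE
  let f : Fin 13 → ↥E := fun i => ⟨y ^ (i : ℕ) * e * (y ^ (i : ℕ))⁻¹, hmem i⟩
  obtain ⟨i, j, hij, hfij⟩ := Fintype.exists_ne_map_eq_of_card_lt f
    (by rw [hcardE, Fintype.card_fin]; norm_num)
  have hfij' : y ^ (i : ℕ) * e * (y ^ (i : ℕ))⁻¹ = y ^ (j : ℕ) * e * (y ^ (j : ℕ))⁻¹ :=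
    congrArg Subtype.val hfij
  -- the element `c = (y^j)⁻¹ y^i` commutes with `e`
  set c := (y ^ (j : ℕ))⁻¹ * y ^ (i : ℕ) with hc
  have hce : c * e = e * c := by
    calc c * e = (y ^ (j : ℕ))⁻¹ * (y ^ (i : ℕ) * e * (y ^ (i : ℕ))⁻¹) * y ^ (i : ℕ) := by
          rw [hc]; group
      _ = (y ^ (j : ℕ))⁻¹ * (y ^ (j : ℕ) * e * (y ^ (j : ℕ))⁻¹) * y ^ (i : ℕ) := by rw [hfij']
      _ = e * c := by rw [hc]; group
  have hc1 : c ≠ 1 := by
    intro h
    have h2 : y ^ (i : ℕ) = y ^ (j : ℕ) := by
      calc y ^ (i : ℕ) = y ^ (j : ℕ) * c := by rw [hc]; group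
        _ = y ^ (j : ℕ) := by rw [h, mul_one]
    have h3 := pow_injOn_Iio_orderOf (x := y)
      (by rw [Set.mem_Iio, hy]; exact i.2) (by rw [Set.mem_Iio, hy]; exact j.2) h2
    exact hij (Fin.ext h3)
  have hcZ : c ∈ Subgroup.zpowers y := by
    rw [hc]
    exact Subgroup.mul_mem _ (Subgroup.inv_mem _ (Subgroup.pow_mem _ (Subgroup.mem_zpowers y) _))
      (Subgroup.pow_mem _ (Subgroup.mem_zpowers y) _)
  have hZcard : Nat.card ↥(Subgroup.zpowers y) = 13 := by rw [Nat.card_zpowers, hy]
  have hle := le_zpowers_of_card_prime 13 (Subgroup.zpowers y) hZcard c hcZ hc1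
  have hyc : y ∈ Subgroup.zpowers c := hle (Subgroup.mem_zpowers y)
  obtain ⟨k, hk⟩ := Subgroup.mem_zpowers_iff.mp hyc
  have hye : y * e = e * y := by
    rw [← hk]
    have : Commute c e := hce
    exact (this.zpow_left k).eq
  have hyC : y ∈ Subgroup.centralizer ({e} : Set G) := by
    rw [Subgroup.mem_centralizer_singleton_iff]
    exact hye
  have hd := Subgroup.orderOf_dvd_natCard _ hyC
  rw [hpure e heE he1, hy] at hd
  omega

set_option maxHeartbeats 1600000 in
/-- **the normalizer of a pure subgroup of order `9`** -/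
theorem card_normalizer_pure (hG : Nat.card G = 5616) [Fact (Nat.Prime 3)] (U : Sylow 3 G)
    (hnab : ∃ a ∈ (U : Subgroup G), ∃ b ∈ (U : Subgroup G), a * b ≠ b * a)
    (E : Subgroup G) (hEU : E ≤ (U : Subgroup G)) (hE : Nat.card ↥E = 9)
    (hpure : ∀ z ∈ E, z ≠ 1 → Nat.card ↥(Subgroup.centralizer ({z} : Set G)) = 54)
    (hNU : Subgroup.normalizer ((U : Subgroup G) : Set G) ≤ Subgroup.normalizer (E : Set G))
    (hcard : Nat.card ↥(Subgroup.normalizer ((U : Subgroup G) : Set G)) = 108) :
    Nat.card ↥(Subgroup.normalizer (E : Set G)) = 432 := by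
  classical
  set N := Subgroup.normalizer (E : Set G) with hN
  have hUcard := card_sylow3 hG U
  have hUN : (U : Subgroup G) ≤ N := le_trans Subgroup.le_normalizer hNU
  -- `E` is abelian
  have hEcomm : ∀ a ∈ E, ∀ b ∈ E, a * b = b * a := by
    intro a ha b hb
    have := IsPGroup.commutative_of_card_eq_prime_sq (p := 3) (G := ↥E) (by rw [hE]; norm_num)
      ⟨a, ha⟩ ⟨b, hb⟩
    exact congrArg Subtype.val this
  -- Step 1: an element of `E` which is not central in `U`
  obtain ⟨e, heE, u, huU, heu⟩ : ∃ e ∈ E, ∃ u ∈ (U : Subgroup G), e * u ≠ u * e := by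
    by_contra hcon
    push Not at hcon
    obtain ⟨a, ha, b, hb, hab⟩ := hnab
    apply hab
    -- the center of `U` has order at least `9`
    have hle : E.subgroupOf (U : Subgroup G) ≤ Subgroup.center ↥(U : Subgroup G) := by
      intro x hx
      rw [Subgroup.mem_center_iff]
      intro g
      apply Subtype.ext
      have := hcon (x : G) (Subgroup.mem_subgroupOf.mp hx) (g : G) g.2
      simp only [Subgroup.coe_mul]
      exact this.symm
    have hc9 : 9 ∣ Nat.card ↥(Subgroup.center ↥(U : Subgroup G)) := by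
      have h1 := Subgroup.card_dvd_of_le hle
      rwa [Nat.card_congr (Subgroup.subgroupOfEquivOfLe hEU).toEquiv, hE] at h1
    have hmul := Subgroup.card_mul_index (Subgroup.center ↥(U : Subgroup G))
    rw [hUcard] at hmul
    obtain ⟨k, hk⟩ := hc9
    have hidx : (Subgroup.center ↥(U : Subgroup G)).index = 1 ∨
        (Subgroup.center ↥(U : Subgroup G)).index = 3 := by
      rw [hk] at hmul
      have h3 : k * (Subgroup.center ↥(U : Subgroup G)).index = 3 := by
        have h9 : 9 * (k * (Subgroup.center ↥(U : Subgroup G)).index) = 9 * 3 := by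
          rw [← mul_assoc]; exact hmul
        exact Nat.eq_of_mul_eq_mul_left (by norm_num) h9
      have hkd : k ∣ 3 := ⟨_, h3.symm⟩
      rcases (Nat.dvd_prime Nat.prime_three).mp hkd with h | h
      · right
        rw [h, one_mul] at h3
        exact h3
      · left
        rw [h] at h3
        omega
    have hcyc : IsCyclic (↥(U : Subgroup G) ⧸ Subgroup.center ↥(U : Subgroup G)) := by
      have hq : Nat.card (↥(U : Subgroup G) ⧸ Subgroup.center ↥(U : Subgroup G)) =
          (Subgroup.center ↥(U : Subgroup G)).index := (Subgroup.index_eq_card _).symm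
      rcases hidx with h | h
      · rw [h] at hq
        haveI : Subsingleton (↥(U : Subgroup G) ⧸ Subgroup.center ↥(U : Subgroup G)) :=
          (Nat.card_eq_one_iff_unique.mp hq).1
        exact isCyclic_of_subsingleton
      · rw [h] at hq
        exact isCyclic_of_prime_card hq
    have := commutative_of_cyclic_center_quotient
      (QuotientGroup.mk' (Subgroup.center ↥(U : Subgroup G)))
      (by rw [QuotientGroup.ker_mk']) (⟨a, ha⟩ : ↥(U : Subgroup G)) ⟨b, hb⟩
    exact congrArg Subtype.val this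
  have he1 : e ≠ 1 := by
    intro h
    apply heu
    rw [h, one_mul, mul_one]
  have hC54 := hpure e heE he1
  set C := Subgroup.centralizer ({e} : Set G) with hC
  have hEC : E ≤ C := by
    intro x hx
    rw [hC, Subgroup.mem_centralizer_singleton_iff]
    exact hEcomm x hx e heE
  -- Step 2: a Sylow 3-subgroup `V` of `G` with `E ≤ V ≤ C(e)`
  obtain ⟨V, hEV, hVC⟩ : ∃ V : Sylow 3 G, E ≤ (V : Subgroup G) ∧ (V : Subgroup G) ≤ C := by
    have hp : IsPGroup 3 ↥(E.subgroupOf C) := by
      apply IsPGroup.of_card (n := 2)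
      rw [Nat.card_congr (Subgroup.subgroupOfEquivOfLe hEC).toEquiv, hE]
      norm_num
    obtain ⟨Q, hQ⟩ := hp.exists_le_sylow
    have hQcard : Nat.card ↥(Q : Subgroup ↥C) = 27 := by
      rw [Sylow.card_eq_multiplicity, hC54, fact3_54]
      norm_num
    have hmapcard : Nat.card ↥((Q : Subgroup ↥C).map C.subtype) = 27 := by
      rw [Subgroup.card_map_of_injective C.subtype_injective, hQcard]
    obtain ⟨V, hV⟩ := exists_sylow3_eq hG _ hmapcard
    refine ⟨V, ?_, ?_⟩
    · rw [hV]
      intro x hx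
      exact ⟨⟨x, hEC hx⟩, hQ (Subgroup.mem_subgroupOf.mpr hx), rfl⟩
    · rw [hV]
      rintro _ ⟨x, -, rfl⟩
      exact x.2
  have hVcard := card_sylow3 hG V
  have hVU : V ≠ U := by
    intro h
    apply heu
    have : u ∈ C := hVC (h ▸ huU)
    rw [hC, Subgroup.mem_centralizer_singleton_iff] at this
    exact this.symm
  -- Step 3: `V ≤ N`
  have hVN : (V : Subgroup G) ≤ N := by
    rw [hN, ← Subgroup.normal_subgroupOf_iff_le_normalizer hEV]
    apply Subgroup.normal_of_index_eq_minFac_card
    have hmul := Subgroup.card_mul_index (E.subgroupOf (V : Subgroup G))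
    rw [Nat.card_congr (Subgroup.subgroupOfEquivOfLe hEV).toEquiv, hE, hVcard] at hmul
    rw [hVcard]
    have : (27 : ℕ).minFac = 3 := by norm_num
    rw [this]
    omega
  -- Step 4: Sylow counting in `N`
  set P : Sylow 3 ↥N := U.subtype hUN with hP
  set P' : Sylow 3 ↥N := V.subtype hVN with hP'
  have hPP' : P ≠ P' := by
    intro h
    exact hVU (Sylow.subtype_injective h).symm
  have hcount := Sylow.card_eq_index_normalizer P
  have hmod := card_sylow_modEq_one 3 ↥N
  have hnorm : Subgroup.normalizer (P : Set ↥N) =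
      (Subgroup.normalizer ((U : Subgroup G) : Set G)).subgroupOf N := by
    change Subgroup.normalizer ((P : Subgroup ↥N) : Set ↥N) = _
    rw [hP, Sylow.coe_subtype]
    exact (Subgroup.subgroupOf_normalizer_eq hUN).symm
  have hcardN' : Nat.card ↥((Subgroup.normalizer ((U : Subgroup G) : Set G)).subgroupOf N) =
      108 := by
    rw [Nat.card_congr (Subgroup.subgroupOfEquivOfLe hNU).toEquiv, hcard]
  have hmul := Subgroup.card_mul_index
    ((Subgroup.normalizer ((U : Subgroup G) : Set G)).subgroupOf N)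
  rw [hnorm] at hcount
  rw [← hcount, hcardN'] at hmul
  set n := Nat.card (Sylow 3 ↥N) with hn
  have hne1 : n ≠ 1 := by
    intro h1
    have hsub : Subsingleton (Sylow 3 ↥N) := (Nat.card_eq_one_iff_unique.mp h1).1
    exact hPP' (Subsingleton.elim _ _)
  have hNdvd : Nat.card ↥N ∣ 5616 := hG ▸ Subgroup.card_subgroup_dvd_card N
  have h13 := not_thirteen_dvd_normalizer E hE hpure
  rw [← hN, ← hmul] at h13
  rw [← hmul] at hNdvd
  have hn52 : n ∣ 52 := by
    have : 108 * n ∣ 108 * 52 := by simpa using hNdvd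
    exact Nat.dvd_of_mul_dvd_mul_left (by norm_num) this
  have hnle : n ≤ 52 := Nat.le_of_dvd (by norm_num) hn52
  have hmod' : n % 3 = 1 := by
    have := hmod
    unfold Nat.ModEq at this
    omega
  rw [← hmul]
  have hn4 : n = 4 := by
    clear_value n
    interval_cases n <;> omega
  rw [hn4]

end Cfsg.Agent.Lib.Helper5.L33
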