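import Cfsg.Agent.Lib.Helper5.NDGlue

set_option autoImplicit false
set_option linter.unusedSectionVars false
set_option linter.unusedVariables false
set_option linter.unusedSimpArgs false

/-!
If an isometry maps a nondegenerate even-dimensional subspace `W` into a subspace orthogonal to it,
then `W ⊕ γ W` contains a totally singular subspace of dimension `dim W`.  Consequence: in a space
of minus type no isometry interchanges `W` and its orthogonal complement when `dim W` is even.
-/

namespace Cfsg.Agent.Lib.Helper5.NDMax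

open Module QuadraticMap Cfsg.Agent.Lib.Helper15 Cfsg.Agent.Lib.Helper25.CD
  Cfsg.Agent.Lib.Helper25.PS

section iso

variable {F V : Type*} [Field F] [AddCommGroup V] [Module F V]

theorem Q_comb (Q : QuadraticForm F V) (x y : V) (s t : F) :
    Q (s • x + t • y) = s * s * Q x + t * t * Q y + s * t * polar Q x y := by
  rw [Cfsg.Agent.Lib.Helper25.MaxTS.Q_add_smul, QuadraticMap.map_smul, polar_smul_left, smul_eq_mul,
    smul_eq_mul]
  ring

theorem polar_comb (Q : QuadraticForm F V) (x y : V) (a b c d : F) :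
    polar Q (a • x + b • y) (c • x + d • y) =
      a * c * (2 * Q x) + (a * d + b * c) * polar Q x y + b * d * (2 * Q y) := by
  simp only [polar_add_left, polar_add_right, polar_smul_left, polar_smul_right, smul_eq_mul,
    Cfsg.Agent.Lib.Helper25.MaxTS.polar_self, polar_comm Q y x]
  ring

theorem polar_map_of_Q (Q : QuadraticForm F V) (γ : V →ₗ[F] V) (hγ : ∀ v, Q (γ v) = Q v)
    (u v : V) : polar Q (γ u) (γ v) = polar Q u v := by
  unfold polar
  rw [← map_add, hγ, hγ, hγ]

theorem ts_span_singleton (Q : QuadraticForm F V) {u : V} (hu : Q u = 0) :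
    Cfsg.Agent.Lib.Helper25.MaxTS.TS Q (Submodule.span F {u}) := by
  intro t ht
  obtain ⟨c, rfl⟩ := Submodule.mem_span_singleton.1 ht
  rw [QuadraticMap.map_smul, hu, smul_zero]

theorem exists_ts_of_iso [Finite F] [FiniteDimensional F V] (Q : QuadraticForm F V)
    (γ : V →ₗ[F] V) (hγ : ∀ v, Q (γ v) = Q v) (W' : Submodule F V) :
    ∀ (m : ℕ) (W : Submodule F V), NdOn Q W → finrank F W = 2 * m →
      (∀ x ∈ W, ∀ y ∈ W', polar Q x y = 0) → (∀ x ∈ W, γ x ∈ W') →
      ∃ T : Submodule F V, Cfsg.Agent.Lib.Helper25.MaxTS.TS Q T ∧ finrank F T = 2 * m ∧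
        T ≤ W ⊔ W.map γ := by
  intro m
  induction m with
  | zero =>
    intro W hW hdim horth hmap
    refine ⟨⊥, ?_, by simp, bot_le⟩
    intro t ht
    rw [Submodule.mem_bot] at ht
    rw [ht, QuadraticMap.map_zero]
  | succ m ih =>
    intro W hW hdim horth hmap
    have hpol := polar_map_of_Q Q γ hγ
    by_cases hs : ∃ e ∈ W, e ≠ 0 ∧ Q e = 0
    · obtain ⟨e, heW, he0, hQe⟩ := hs
      obtain ⟨f, hfW, hQf, hef⟩ := exists_hyp_partner Q W hW heW he0 hQe
      have hW₁ := perpPair_nd Q W hW heW hfW hQe hQf hef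
      have hfr₁ := perpPair_finrank Q W heW hfW hQe hQf hef
      have hle₁ := perpPair_le Q W e f
      obtain ⟨T₁, hTS₁, hfrT₁, hT₁le⟩ := ih (perpPair Q W e f) hW₁ (by omega)
        (fun x hx y hy => horth x (hle₁ hx) y hy) (fun x hx => hmap x (hle₁ hx))
      have hdec : ∀ t ∈ T₁, ∃ w ∈ perpPair Q W e f, ∃ w' ∈ perpPair Q W e f, t = w + γ w' := by
        intro t ht
        obtain ⟨w, hw, z, hz, rfl⟩ := Submodule.mem_sup.1 (hT₁le ht)
        obtain ⟨w', hw', rfl⟩ := hz
        exact ⟨w, hw, w', hw', rfl⟩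
      have hγeW' := hmap e heW
      have hγfW' := hmap f hfW
      have h_e : ∀ t ∈ T₁, polar Q e t = 0 := by
        intro t ht
        obtain ⟨w, hw, w', hw', rfl⟩ := hdec t ht
        rw [polar_add_right, ((mem_perpPair Q W e f w).1 hw).2.1,
          horth e heW _ (hmap w' (hle₁ hw')), add_zero]
      have h_f : ∀ t ∈ T₁, polar Q f t = 0 := by
        intro t ht
        obtain ⟨w, hw, w', hw', rfl⟩ := hdec t ht
        rw [polar_add_right, ((mem_perpPair Q W e f w).1 hw).2.2,
          horth f hfW _ (hmap w' (hle₁ hw')), add_zero]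
      have h_γe : ∀ t ∈ T₁, polar Q (γ e) t = 0 := by
        intro t ht
        obtain ⟨w, hw, w', hw', rfl⟩ := hdec t ht
        rw [polar_add_right, hpol, ((mem_perpPair Q W e f w').1 hw').2.1, polar_comm,
          horth w (hle₁ hw) _ hγeW', add_zero]
      have h_γf : ∀ t ∈ T₁, polar Q (γ f) t = 0 := by
        intro t ht
        obtain ⟨w, hw, w', hw', rfl⟩ := hdec t ht
        rw [polar_add_right, hpol, ((mem_perpPair Q W e f w').1 hw').2.2, polar_comm,
          horth w (hle₁ hw) _ hγfW', add_zero]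
      have he_not : e ∉ T₁ := by
        intro h
        have h1 := h_f e h
        rw [polar_comm, hef] at h1
        exact one_ne_zero h1
      have hTS₂ : Cfsg.Agent.Lib.Helper25.MaxTS.TS Q (T₁ ⊔ Submodule.span F {e}) :=
        Cfsg.Agent.Lib.Helper25.MaxTS.TS.sup_span hTS₁ hQe
          (Cfsg.Agent.Lib.Helper25.MaxTS.mem_perp.2
            (fun u hu => by rw [polar_comm]; exact h_e u hu))
      have hfr₂ := Cfsg.Agent.Lib.Helper25.MaxTS.finrank_sup_span he_not
      have hdec₂ : ∀ t ∈ T₁ ⊔ Submodule.span F {e}, ∃ t₁ ∈ T₁, ∃ a : F, t = t₁ + a • e := by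
        intro t ht
        obtain ⟨t₁, ht₁, z, hz, rfl⟩ := Submodule.mem_sup.1 ht
        obtain ⟨a, rfl⟩ := Submodule.mem_span_singleton.1 hz
        exact ⟨t₁, ht₁, a, rfl⟩
      have hQγe : Q (γ e) = 0 := by rw [hγ, hQe]
      have hγe_perp : γ e ∈ Cfsg.Agent.Lib.Helper25.MaxTS.perp Q (T₁ ⊔ Submodule.span F {e}) := by
        rw [Cfsg.Agent.Lib.Helper25.MaxTS.mem_perp]
        intro u hu
        obtain ⟨t₁, ht₁, a, rfl⟩ := hdec₂ u hu
        rw [polar_add_left, polar_smul_left, horth e heW _ hγeW', smul_zero, add_zero, polar_comm]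
        exact h_γe t₁ ht₁
      have hγe_not : γ e ∉ T₁ ⊔ Submodule.span F {e} := by
        intro h
        obtain ⟨t₁, ht₁, a, h1⟩ := hdec₂ _ h
        have h2 : polar Q (γ f) (γ e) = 0 := by
          rw [h1, polar_add_right, polar_smul_right, h_γf t₁ ht₁, polar_comm Q (γ f) e,
            horth e heW _ hγfW', smul_zero, add_zero]
        rw [hpol, polar_comm, hef] at h2
        exact one_ne_zero h2
      have hfr₃ := Cfsg.Agent.Lib.Helper25.MaxTS.finrank_sup_span hγe_not
      refine ⟨(T₁ ⊔ Submodule.span F {e}) ⊔ Submodule.span F {γ e},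
        Cfsg.Agent.Lib.Helper25.MaxTS.TS.sup_span hTS₂ hQγe hγe_perp, by omega, ?_⟩
      refine sup_le (sup_le ?_ ?_) ?_
      · exact hT₁le.trans (sup_le_sup hle₁ (Submodule.map_mono hle₁))
      · rw [Submodule.span_le, Set.singleton_subset_iff]
        exact Submodule.mem_sup_left heW
      · rw [Submodule.span_le, Set.singleton_subset_iff]
        exact Submodule.mem_sup_right (Submodule.mem_map_of_mem heW)
    · have han : ∀ w ∈ W, Q w = 0 → w = 0 := by
        intro w hw hq
        by_contra hne
        exact hs ⟨w, hw, hne, hq⟩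
      have h2 : finrank F W = 2 := by
        by_contra hne
        have h3 : 3 ≤ finrank F W := by omega
        obtain ⟨e, heW, he0, hQe⟩ := exists_singular_in Q W h3
        exact hs ⟨e, heW, he0, hQe⟩
      have hm : m = 0 := by omega
      subst hm
      obtain ⟨x, hxW, y, hyW, ζ, hQx, hxy, hQy, hne, hirr⟩ := elliptic_plane Q W hW h2 han
      obtain ⟨z, hzW, hQz⟩ := exists_represents Q W h2 han (-1)
      have hli : LinearIndependent F ![x, y] := by
        rw [LinearIndependent.pair_iff]
        intro s t hst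
        have hq : s * s + t * t * ζ + s * t = 0 := by
          have h := Q_comb Q x y s t
          rw [hst, QuadraticMap.map_zero, hQx, hQy, hxy] at h
          linear_combination -h
        have ht : t = 0 := by
          by_contra ht
          apply hirr (s * t⁻¹)
          have h1 : t * t⁻¹ = 1 := mul_inv_cancel₀ ht
          have key : (s * t⁻¹) ^ 2 + s * t⁻¹ + ζ =
              (s * s + t * t * ζ + s * t) * (t⁻¹ * t⁻¹) := by
            linear_combination (-(s * t⁻¹) - ζ * (t * t⁻¹ + 1)) * h1
          rw [key, hq, zero_mul]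
        subst ht
        refine ⟨?_, rfl⟩
        have h0 : s * s = 0 := by linear_combination hq
        exact mul_self_eq_zero.1 h0
      have hsp : Submodule.span F (Set.range ![x, y]) = W := by
        apply Submodule.eq_of_le_of_finrank_le
        · rw [Submodule.span_le]
          rintro _ ⟨i, rfl⟩
          fin_cases i
          · exact hxW
          · exact hyW
        · rw [finrank_span_eq_card hli, h2, Fintype.card_fin]
      obtain ⟨α, β, hz⟩ : ∃ α β : F, z = α • x + β • y := by
        rw [← hsp] at hzW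
        obtain ⟨c, hc⟩ := (Submodule.mem_span_range_iff_exists_fun F).1 hzW
        refine ⟨c 0, c 1, ?_⟩
        rw [← hc]
        simp [Fin.sum_univ_two]
      have hαβ : α * α + α * β + ζ * (β * β) = -1 := by
        have h := Q_comb Q x y α β
        rw [← hz, hQz, hQx, hQy, hxy] at h
        linear_combination -h
      obtain ⟨s₁, hs₁⟩ : ∃ s₁ : V, s₁ = α • x + β • y := ⟨_, rfl⟩
      obtain ⟨s₂, hs₂⟩ : ∃ s₂ : V, s₂ = (-(β * ζ)) • x + (α + β) • y := ⟨_, rfl⟩
      have hs₁W : s₁ ∈ W := by
        rw [hs₁]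
        exact W.add_mem (W.smul_mem _ hxW) (W.smul_mem _ hyW)
      have hs₂W : s₂ ∈ W := by
        rw [hs₂]
        exact W.add_mem (W.smul_mem _ hxW) (W.smul_mem _ hyW)
      have hQs₁ : Q s₁ = -1 := by
        rw [hs₁, Q_comb, hQx, hQy, hxy]
        linear_combination hαβ
      have hQs₂ : Q s₂ = -ζ := by
        rw [hs₂, Q_comb, hQx, hQy, hxy]
        linear_combination ζ * hαβ
      have hs₁s₂ : polar Q s₁ s₂ = -1 := by
        rw [hs₁, hs₂, polar_comb, hQx, hQy, hxy]
        linear_combination hαβ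
      have hγs₁ := hmap s₁ hs₁W
      have hγs₂ := hmap s₂ hs₂W
      have hQu₁ : Q (x + γ s₁) = 0 := by
        rw [Cfsg.Agent.Lib.Helper25.MaxTS.Q_add, hγ, hQx, hQs₁, horth x hxW _ hγs₁]
        ring
      have hQu₂ : Q (y + γ s₂) = 0 := by
        rw [Cfsg.Agent.Lib.Helper25.MaxTS.Q_add, hγ, hQy, hQs₂, horth y hyW _ hγs₂]
        ring
      have hu₁u₂ : polar Q (x + γ s₁) (y + γ s₂) = 0 := by
        rw [polar_add_left, polar_add_right, polar_add_right, hpol, hxy, hs₁s₂,
          horth x hxW _ hγs₂, polar_comm Q (γ s₁) y, horth y hyW _ hγs₁]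
        ring
      have hTS₁ : Cfsg.Agent.Lib.Helper25.MaxTS.TS Q (Submodule.span F {x + γ s₁}) :=
        ts_span_singleton Q hQu₁
      have hu₂perp : y + γ s₂ ∈
          Cfsg.Agent.Lib.Helper25.MaxTS.perp Q (Submodule.span F {x + γ s₁}) := by
        rw [Cfsg.Agent.Lib.Helper25.MaxTS.mem_perp_span]
        exact hu₁u₂
      have hu₁0 : x + γ s₁ ≠ 0 := by
        intro h
        have h1 : polar Q (x + γ s₁) y = 0 := by rw [h, polar_zero_left]
        rw [polar_add_left, hxy, polar_comm, horth y hyW _ hγs₁, add_zero] at h1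
        exact one_ne_zero h1
      have hu₂not : y + γ s₂ ∉ Submodule.span F {x + γ s₁} := by
        intro h
        obtain ⟨c, hc⟩ := Submodule.mem_span_singleton.1 h
        have h1 : (-c) • x + y = 0 := by
          apply hW _ (W.add_mem (W.smul_mem _ hxW) hyW)
          intro w hw
          have h2 : polar Q (c • (x + γ s₁)) w = polar Q (y + γ s₂) w := by rw [hc]
          rw [polar_smul_left, polar_add_left, polar_add_left, polar_comm Q (γ s₁) w,
            horth w hw _ hγs₁, polar_comm Q (γ s₂) w, horth w hw _ hγs₂, add_zero, add_zero,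
            smul_eq_mul] at h2
          rw [polar_add_left, polar_smul_left, smul_eq_mul]
          linear_combination -h2
        exact hne (-c) h1
      have hfrA := Cfsg.Agent.Lib.Helper25.MaxTS.finrank_sup_span hu₂not
      have hfrB := finrank_span_singleton (K := F) hu₁0
      refine ⟨Submodule.span F {x + γ s₁} ⊔ Submodule.span F {y + γ s₂},
        Cfsg.Agent.Lib.Helper25.MaxTS.TS.sup_span hTS₁ hQu₂ hu₂perp, by omega, ?_⟩
      refine sup_le ?_ ?_
      · rw [Submodule.span_le, Set.singleton_subset_iff]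
        exact Submodule.add_mem _ (Submodule.mem_sup_left hxW)
          (Submodule.mem_sup_right (Submodule.mem_map_of_mem hs₁W))
      · rw [Submodule.span_le, Set.singleton_subset_iff]
        exact Submodule.add_mem _ (Submodule.mem_sup_left hyW)
          (Submodule.mem_sup_right (Submodule.mem_map_of_mem hs₂W))

end iso

section concrete

variable {ι : Type} [Fintype ι] [DecidableEq ι] {F : Type*} [Field F] [Fintype F]
  (Q : QuadraticForm F (ι → F))

/-- If some isometry maps the nondegenerate even-dimensional subspace `W` of half dimension into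
its orthogonal complement then the whole space is of plus type. -/
theorem plus_of_map_perp {W : Submodule F (ι → F)} (hW : NdOn Q W) {m : ℕ}
    (hm : finrank F W = 2 * m) (hhalf : 2 * finrank F W = Fintype.card ι)
    (g : ↥(Cfsg.isometryGroup F ⇑Q))
    (hg : ∀ x ∈ W, toOG Q g x ∈ Cfsg.Agent.Lib.Helper25.MaxTS.perp Q W) :
    Cfsg.Geo.IsPlusTypeOn ⇑Q ⊤ := by
  obtain ⟨T, hTS, hfr, -⟩ := exists_ts_of_iso Q
    ((toOG Q g : (ι → F) ≃ₗ[F] (ι → F)) : (ι → F) →ₗ[F] (ι → F))
    (fun v => Q_toOG Q g v) (Cfsg.Agent.Lib.Helper25.MaxTS.perp Q W) m W hW hm (perp_orth Q W) hg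
  refine ⟨T, le_top, hTS, ?_⟩
  rw [finrank_top, Module.finrank_fintype_fun_eq_card]
  omega

end concrete

end Cfsg.Agent.Lib.Helper5.NDMax
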