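import Mathlib

/-!
helper5: general tools for market "AP" (S3614, planner helper4).

* `commute_commutator_of_mem_normalizer_zpowers` (NC): commutators of elements normalizing the
  cyclic subgroup `⟨z⟩` centralize `z`.
* `zpow_smul_of_commute`, `pow_smul_zpow_smul_of_commute`, `pow_orderOf_smul_zpow_smul_of_commute`:
  an element `c` commuting with `z` and mapping a point `δ` into its own `⟨z⟩`-orbit acts on that
  orbit as a power of `z`; so `c ^ r` fixes the orbit pointwise when `z ^ r = 1`.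
-/

set_option autoImplicit false

namespace Cfsg.Agent.Lib.Helper5.APTools

/-- conjugation by an element of the normalizer of `⟨z⟩` sends `z` to a power of `z` -/
theorem exists_zpow_of_mem_normalizer_zpowers {G : Type*} [Group G] (z n : G)
    (hn : n ∈ Subgroup.normalizer ((Subgroup.zpowers z : Subgroup G) : Set G)) :
    ∃ a : ℤ, n * z * n⁻¹ = z ^ a := by
  have h := (Subgroup.mem_normalizer_iff.1 hn z).1 (Subgroup.mem_zpowers z)
  obtain ⟨a, ha⟩ := Subgroup.mem_zpowers_iff.1 h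
  exact ⟨a, ha.symm⟩

theorem conj_zpow' {G : Type*} [Group G] (z n : G) (a : ℤ) (h : n * z * n⁻¹ = z ^ a) (b : ℤ) :
    n * z ^ b * n⁻¹ = z ^ (a * b) := by
  rw [← conj_zpow, h, ← zpow_mul]

/-- `n₁⁻¹ n₂⁻¹ n₁ n₂` centralizes `z` when `n₁`, `n₂` normalize `⟨z⟩` -/
theorem commute_aux {G : Type*} [Group G] (z n₁ n₂ : G)
    (h₁ : n₁ ∈ Subgroup.normalizer ((Subgroup.zpowers z : Subgroup G) : Set G))
    (h₂ : n₂ ∈ Subgroup.normalizer ((Subgroup.zpowers z : Subgroup G) : Set G)) :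
    Commute (n₁⁻¹ * n₂⁻¹ * n₁ * n₂) z := by
  obtain ⟨a, ha⟩ := exists_zpow_of_mem_normalizer_zpowers z n₁ h₁
  obtain ⟨b, hb⟩ := exists_zpow_of_mem_normalizer_zpowers z n₂ h₂
  have e1 : (n₁ * n₂) * z * (n₁ * n₂)⁻¹ = z ^ (a * b) := by
    have : (n₁ * n₂) * z * (n₁ * n₂)⁻¹ = n₁ * (n₂ * z * n₂⁻¹) * n₁⁻¹ := by group
    rw [this, hb, conj_zpow' z n₁ a ha b]
  have e2 : (n₂ * n₁) * z * (n₂ * n₁)⁻¹ = z ^ (a * b) := by
    have : (n₂ * n₁) * z * (n₂ * n₁)⁻¹ = n₂ * (n₁ * z * n₁⁻¹) * n₂⁻¹ := by group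
    rw [this, ha, conj_zpow' z n₂ b hb a, mul_comm]
  have e3 : (n₁ * n₂) * z * (n₁ * n₂)⁻¹ = (n₂ * n₁) * z * (n₂ * n₁)⁻¹ := e1.trans e2.symm
  show (n₁⁻¹ * n₂⁻¹ * n₁ * n₂) * z = z * (n₁⁻¹ * n₂⁻¹ * n₁ * n₂)
  have e4 : (n₂ * n₁)⁻¹ * ((n₁ * n₂) * z * (n₁ * n₂)⁻¹) * (n₁ * n₂) =
      (n₂ * n₁)⁻¹ * ((n₂ * n₁) * z * (n₂ * n₁)⁻¹) * (n₁ * n₂) := by rw [e3]
  have l : (n₂ * n₁)⁻¹ * ((n₁ * n₂) * z * (n₁ * n₂)⁻¹) * (n₁ * n₂) =
      (n₁⁻¹ * n₂⁻¹ * n₁ * n₂) * z := by group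
  have r : (n₂ * n₁)⁻¹ * ((n₂ * n₁) * z * (n₂ * n₁)⁻¹) * (n₁ * n₂) =
      z * (n₁⁻¹ * n₂⁻¹ * n₁ * n₂) := by group
  rw [← l, ← r, e4]

/-- **NC**: the commutator of two elements normalizing `⟨z⟩` centralizes `z`. -/
theorem commute_commutator_of_mem_normalizer_zpowers {G : Type*} [Group G] (z n₁ n₂ : G)
    (h₁ : n₁ ∈ Subgroup.normalizer ((Subgroup.zpowers z : Subgroup G) : Set G))
    (h₂ : n₂ ∈ Subgroup.normalizer ((Subgroup.zpowers z : Subgroup G) : Set G)) :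
    Commute (n₁ * n₂ * n₁⁻¹ * n₂⁻¹) z := by
  have h := commute_aux z n₁⁻¹ n₂⁻¹ (inv_mem h₁) (inv_mem h₂)
  rw [inv_inv, inv_inv] at h
  exact h

/-- `c` commutes with every power of `z` on points -/
theorem smul_zpow_smul_of_commute {G α : Type*} [Group G] [MulAction G α] (z c : G)
    (hc : Commute c z) (i : ℤ) (δ : α) : c • (z ^ i • δ) = z ^ i • (c • δ) := by
  rw [← mul_smul, ← mul_smul, (hc.zpow_right i).eq]

/-- if `c` commutes with `z` and `c • δ = z ^ j • δ`, then `c` acts on the whole `⟨z⟩`-orbit of `δ`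
as `z ^ j`, and `c ^ m` as `z ^ (j * m)` -/
theorem pow_smul_zpow_smul_of_commute {G α : Type*} [Group G] [MulAction G α] (z c : G)
    (hc : Commute c z) (δ : α) (j : ℤ) (hδ : c • δ = z ^ j • δ) (m : ℕ) (i : ℤ) :
    c ^ m • (z ^ i • δ) = z ^ (j * m + i) • δ := by
  induction m generalizing i with
  | zero => simp
  | succ m ih =>
    have e1 : c ^ (m + 1) • (z ^ i • δ) = c ^ m • (c • (z ^ i • δ)) := by
      rw [pow_succ, mul_smul]
    have e2 : c • (z ^ i • δ) = z ^ (i + j) • δ := by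
      rw [smul_zpow_smul_of_commute z c hc i δ, hδ, ← mul_smul, ← zpow_add]
    rw [e1, e2, ih]
    congr 2
    push_cast
    ring

/-- if moreover `z ^ r = 1`, then `c ^ r` fixes the `⟨z⟩`-orbit of `δ` pointwise -/
theorem pow_smul_zpow_smul_eq_of_commute {G α : Type*} [Group G] [MulAction G α] (z c : G)
    (hc : Commute c z) (δ : α) (j : ℤ) (hδ : c • δ = z ^ j • δ) (r : ℕ) (hr : z ^ r = 1) (i : ℤ) :
    c ^ r • (z ^ i • δ) = z ^ i • δ := by
  rw [pow_smul_zpow_smul_of_commute z c hc δ j hδ r i, zpow_add, zpow_mul', zpow_natCast, hr,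
    one_zpow, one_mul]

/-- orbit form: if `c` commutes with `z`, `z ^ r = 1` and `c • δ` lies in the `⟨z⟩`-orbit of `δ`,
then `c ^ r` fixes every point of that orbit -/
theorem pow_smul_eq_of_mem_orbit_zpowers {G α : Type*} [Group G] [MulAction G α] (z c : G)
    (hc : Commute c z) (r : ℕ) (hr : z ^ r = 1) (δ : α)
    (hδ : c • δ ∈ MulAction.orbit (Subgroup.zpowers z) δ)
    (ε : α) (hε : ε ∈ MulAction.orbit (Subgroup.zpowers z) δ) : c ^ r • ε = ε := by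
  obtain ⟨⟨_, ⟨j, rfl⟩⟩, hj⟩ := hδ
  obtain ⟨⟨_, ⟨i, rfl⟩⟩, hi⟩ := hε
  have hj' : c • δ = z ^ j • δ := hj.symm
  have hi' : ε = z ^ i • δ := hi.symm
  rw [hi']
  exact pow_smul_zpow_smul_eq_of_commute z c hc δ j hj' r hr i

end Cfsg.Agent.Lib.Helper5.APTools
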