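import Mathlib
import Cfsg.Agent.Lib.Helper5.APTools

/-!
helper5: leaf AP-CL2 of market "AP" (S3614, planner helper4): if `z` has prime order `r` and
`|supp z| = 2 r` (two `r`-cycles) and `c` commutes with `z`, then `c ^ (2 r)` fixes `supp z`
pointwise.
-/

set_option autoImplicit false

namespace Cfsg.Agent.Lib.Helper5.APCL2

open Equiv MulAction

variable {Ω : Type*} [Fintype Ω] [DecidableEq Ω]

/-- an element commuting with `z` preserves the support of `z` -/
theorem map_mem_support_of_commute {z c : Perm Ω} (hc : Commute c z) (y : Ω)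
    (hy : y ∈ z.support) : c y ∈ z.support := by
  rw [Perm.mem_support] at hy ⊢
  intro h
  apply hy
  have h1 : (c * z) y = (z * c) y := by rw [hc.eq]
  simp only [Perm.mul_apply] at h1
  rw [h] at h1
  exact c.injective h1

/-- prime order `r` and support `k r`: exactly `k` cycles -/
theorem card_cycleFactorsFinset_of_prime_order (r : ℕ) (hr : r.Prime) {z : Perm Ω}
    (hzr : orderOf z = r) (k : ℕ) (hsupp : z.support.card = k * r) :
    z.cycleFactorsFinset.card = k := by
  have hz' : (orderOf z).Prime := hzr ▸ hr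
  obtain ⟨n, hn⟩ := Perm.cycleType_prime_order hz'
  have h1 : z.cycleType.sum = k * r := by rw [Perm.sum_cycleType, hsupp]
  rw [hn, Multiset.sum_replicate, hzr, smul_eq_mul] at h1
  have hn1 : n + 1 = k := Nat.eq_of_mul_eq_mul_right hr.pos h1
  have h2 : Multiset.card z.cycleType = k := by rw [hn, Multiset.card_replicate, hn1]
  rw [← h2, Perm.cycleType_def, Multiset.card_map]
  rfl

/-- **AP-CL2**. -/
theorem APCL2 (r : ℕ) (hr : r.Prime) {z c : Perm Ω} (hzr : orderOf z = r)
    (hsupp : z.support.card = 2 * r) (hc : Commute c z) :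
    ∀ x ∈ z.support, (c ^ (2 * r)) x = x := by
  intro x hx
  have hzr1 : z ^ r = 1 := by rw [← hzr]; exact pow_orderOf_eq_one z
  have hx1 := map_mem_support_of_commute hc x hx
  have hx2 := map_mem_support_of_commute hc _ hx1
  have hcard := card_cycleFactorsFinset_of_prime_order r hr hzr 2 hsupp
  obtain ⟨σ₁, σ₂, _, hcf⟩ := Finset.card_eq_two.1 hcard
  have m0 : z.cycleOf x ∈ z.cycleFactorsFinset := Perm.cycleOf_mem_cycleFactorsFinset_iff.2 hx
  have m1 : z.cycleOf (c x) ∈ z.cycleFactorsFinset :=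
    Perm.cycleOf_mem_cycleFactorsFinset_iff.2 hx1
  have m2 : z.cycleOf (c (c x)) ∈ z.cycleFactorsFinset :=
    Perm.cycleOf_mem_cycleFactorsFinset_iff.2 hx2
  rw [hcf, Finset.mem_insert, Finset.mem_singleton] at m0 m1 m2
  have key : z.SameCycle x (c x) ∨ z.SameCycle (c x) (c (c x)) ∨ z.SameCycle x (c (c x)) := by
    rcases m0 with m0 | m0 <;> rcases m1 with m1 | m1 <;> rcases m2 with m2 | m2
    · exact Or.inl ((Perm.sameCycle_iff_cycleOf_eq_of_mem_support hx hx1).2 (m0.trans m1.symm))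
    · exact Or.inl ((Perm.sameCycle_iff_cycleOf_eq_of_mem_support hx hx1).2 (m0.trans m1.symm))
    · exact Or.inr (Or.inr
        ((Perm.sameCycle_iff_cycleOf_eq_of_mem_support hx hx2).2 (m0.trans m2.symm)))
    · exact Or.inr (Or.inl
        ((Perm.sameCycle_iff_cycleOf_eq_of_mem_support hx1 hx2).2 (m1.trans m2.symm)))
    · exact Or.inr (Or.inl
        ((Perm.sameCycle_iff_cycleOf_eq_of_mem_support hx1 hx2).2 (m1.trans m2.symm)))
    · exact Or.inr (Or.inr
        ((Perm.sameCycle_iff_cycleOf_eq_of_mem_support hx hx2).2 (m0.trans m2.symm)))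
    · exact Or.inl ((Perm.sameCycle_iff_cycleOf_eq_of_mem_support hx hx1).2 (m0.trans m1.symm))
    · exact Or.inl ((Perm.sameCycle_iff_cycleOf_eq_of_mem_support hx hx1).2 (m0.trans m1.symm))
  -- in each case `c² x = z^j x`
  have hA : ∀ i : ℤ, (z ^ i) x = c x → ∃ j : ℤ, (c ^ 2) x = (z ^ j) x := by
    intro i hi
    refine ⟨i + i, ?_⟩
    have e := APTools.smul_zpow_smul_of_commute z c hc i x
    -- c ((z^i) x) = (z^i) (c x)
    have e' : c ((z ^ i) x) = (z ^ i) (c x) := e
    rw [pow_two, Perm.mul_apply, ← hi, e', ← hi, zpow_add, Perm.mul_apply]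
  have hj : ∃ j : ℤ, (c ^ 2) x = (z ^ j) x := by
    rcases key with ⟨i, hi⟩ | ⟨i, hi⟩ | ⟨i, hi⟩
    · exact hA i hi
    · have e' : c ((z ^ i) x) = (z ^ i) (c x) := APTools.smul_zpow_smul_of_commute z c hc i x
      rw [← e'] at hi
      exact hA i (c.injective hi)
    · exact ⟨i, by rw [pow_two, Perm.mul_apply, hi]⟩
  obtain ⟨j, hj⟩ := hj
  have hfin := APTools.pow_smul_zpow_smul_eq_of_commute z (c ^ 2) (hc.pow_left 2) x j hj r hzr1 0
  simp only [zpow_zero, one_smul] at hfin
  rw [pow_mul]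
  exact hfin

end Cfsg.Agent.Lib.Helper5.APCL2
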