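/-
helper5: S2283 / S2282 (n = 3), the abstract core in the antidiagonal model `UJ σ 3`
(helper16 FusSU, helper4 SU3End): a subgroup `X ≤ UJ σ 3` containing an upper unitriangular
`u = uUM σ α β` (`α ≠ 0`), an element `w` with `w 2 0 ≠ 0` and an upper triangular `x` whose
multiplier `x 0 0 * σ (x 1 1)` generates `K` additively, contains the full root group of every
isotropic vector.
-/
import Mathlib
import Cfsg.Agent.Lib.Helper4.SU3End

set_option autoImplicit false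

namespace Cfsg.Agent.Lib.Helper5.SU3C

open Matrix Cfsg.Agent.Lib.Helper16.FusSU Cfsg.Agent.Lib.Helper4.SU3

variable {K : Type*} [Field K] (σ : K →+* K)

/-- the upper unitriangular matrices of the antidiagonal model -/
def uUM (a g : K) : Matrix (Fin 3) (Fin 3) K := !![1, a, g; 0, 1, -σ a; 0, 0, 1]

theorem rev0 : (0 : Fin 3).rev = 2 := rfl
theorem rev1 : (1 : Fin 3).rev = 1 := rfl
theorem rev2 : (2 : Fin 3).rev = 0 := rfl

theorem uUM_mul (a g a' g' : K) :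
    uUM σ a g * uUM σ a' g' = uUM σ (a + a') (g + g' - a * σ a') := by
  unfold uUM
  ext i j
  fin_cases i <;> fin_cases j <;> simp [Matrix.mul_apply, Fin.sum_univ_three] <;> ring

theorem uUM_zero : uUM σ 0 0 = 1 := by
  unfold uUM
  ext i j
  fin_cases i <;> fin_cases j <;> simp

variable {σ}

theorem adj_uUM (hσ : ∀ x, σ (σ x) = x) (a g : K) : adj σ (uUM σ a g) = uUM σ (-a) (σ g) := by
  ext i j
  fin_cases i <;> fin_cases j <;> simp [adj_apply, uUM, hσ, rev0, rev1, rev2]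

theorem TJm_eV (c : K) : TJm σ (eV : Fin 3 → K) c = uUM σ 0 c := by
  ext i j
  rw [TJm, Matrix.add_apply, Matrix.smul_apply, Matrix.vecMulVec_apply, sh_apply]
  fin_cases i <;> fin_cases j <;> simp [uUM, eV, rev0, rev1, rev2]

theorem uUM_mulVec_Pt (α β a b : K) :
    uUM σ α β *ᵥ Pt σ a b = Pt σ (a - α) (b + α * σ a + β) := by
  unfold uUM Pt
  ext i
  fin_cases i <;> simp [Matrix.mulVec, dotProduct, Fin.sum_univ_three] <;> ring

/-- upper unitriangular elements with `a ≠ 0` are regular unipotent -/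
theorem uUM_regular {a : K} (ha : a ≠ 0) (g : K) :
    IsNilpotent (uUM σ a g - 1) ∧ (uUM σ a g - 1) ^ (3 - 1) ≠ 0 := by
  have h1 : uUM σ a g - 1 = !![0, a, g; 0, 0, -σ a; 0, 0, 0] := by
    unfold uUM
    ext i j
    fin_cases i <;> fin_cases j <;> simp
  have h2 : (uUM σ a g - 1) ^ 2 = !![0, 0, -(a * σ a); 0, 0, 0; 0, 0, 0] := by
    rw [h1, pow_two]
    ext i j
    fin_cases i <;> fin_cases j <;> simp [Matrix.mul_apply, Fin.sum_univ_three]
  refine ⟨⟨3, ?_⟩, ?_⟩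
  · rw [pow_succ, h2, h1]
    ext i j
    fin_cases i <;> fin_cases j <;> simp [Matrix.mul_apply, Fin.sum_univ_three]
  · show (uUM σ a g - 1) ^ 2 ≠ 0
    rw [h2]
    intro h
    have h02 := congrFun (congrFun h 0) 2
    simp at h02
    exact ha h02

section core

variable {X : Subgroup (SpecialLinearGroup (Fin 3) K)}

theorem uUM_rel (hσ : ∀ x, σ (σ x) = x) {y : SpecialLinearGroup (Fin 3) K} (hy : y ∈ UJ σ 3)
    {a g : K} (hyM : (y : Matrix (Fin 3) (Fin 3) K) = uUM σ a g) : g + σ g + a * σ a = 0 := by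
  have h := mem_UJ.1 hy
  rw [hyM, adj_uUM hσ, uUM_mul] at h
  have h02 := congrFun (congrFun h 0) 2
  simp [uUM] at h02
  linear_combination h02

/-- the `a`-parts of the upper unitriangular elements of `X` -/
def Mpart (hσ : ∀ x, σ (σ x) = x) (hX : X ≤ UJ σ 3) : AddSubgroup K where
  carrier := {a | ∃ g : K, ∃ y ∈ X,
    ((y : SpecialLinearGroup (Fin 3) K) : Matrix (Fin 3) (Fin 3) K) = uUM σ a g}
  zero_mem' := ⟨0, 1, X.one_mem, by rw [Matrix.SpecialLinearGroup.coe_one, uUM_zero]⟩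
  add_mem' := by
    rintro a a' ⟨g, y, hy, hyM⟩ ⟨g', y', hy', hyM'⟩
    exact ⟨_, y * y', X.mul_mem hy hy',
      by rw [Matrix.SpecialLinearGroup.coe_mul, hyM, hyM', uUM_mul]⟩
  neg_mem' := by
    rintro a ⟨g, y, hy, hyM⟩
    exact ⟨_, y⁻¹, X.inv_mem hy, by rw [UJ_inv_coe (hX hy), hyM, adj_uUM hσ]⟩

theorem mem_Mpart (hσ : ∀ x, σ (σ x) = x) (hX : X ≤ UJ σ 3) (a : K) :
    a ∈ Mpart hσ hX ↔ ∃ g : K, ∃ y ∈ X,
      ((y : SpecialLinearGroup (Fin 3) K) : Matrix (Fin 3) (Fin 3) K) = uUM σ a g := Iff.rfl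

/-- conjugation of an upper unitriangular element by an upper triangular one -/
theorem conj_uUM (hσ : ∀ x, σ (σ x) = x) {x : SpecialLinearGroup (Fin 3) K} (hx : x ∈ UJ σ 3)
    (hx10 : (x : Matrix (Fin 3) (Fin 3) K) 1 0 = 0) (hx20 : (x : Matrix (Fin 3) (Fin 3) K) 2 0 = 0)
    (a g : K) :
    ∃ g', (x : Matrix (Fin 3) (Fin 3) K) * uUM σ a g * adj σ (x : Matrix (Fin 3) (Fin 3) K) =
      uUM σ ((x : Matrix (Fin 3) (Fin 3) K) 0 0 * σ ((x : Matrix (Fin 3) (Fin 3) K) 1 1) * a) g' := by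
  have hA := mem_UJ.1 hx
  set A := (x : Matrix (Fin 3) (Fin 3) K) with hAdef
  have h20 := congrFun (congrFun hA 2) 0
  simp [Matrix.mul_apply, Fin.sum_univ_three, adj_apply, rev0, rev1, rev2, hx10, hx20] at h20
  have hx21 : A 2 1 = 0 := h20
  have h00 := congrFun (congrFun hA 0) 0
  have h01 := congrFun (congrFun hA 0) 1
  have h02 := congrFun (congrFun hA 0) 2
  have h11 := congrFun (congrFun hA 1) 1
  have h12 := congrFun (congrFun hA 1) 2
  have h22 := congrFun (congrFun hA 2) 2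
  simp [Matrix.mul_apply, Fin.sum_univ_three, adj_apply, rev0, rev1, rev2, hx10, hx20, hx21]
    at h00 h01 h02 h11 h12 h22
  refine ⟨A 0 0 * a * σ (A 0 1) + (A 0 0 * g - A 0 1 * σ a) * σ (A 0 0), ?_⟩
  ext i j
  fin_cases i <;> fin_cases j <;>
    simp [Matrix.mul_apply, Fin.sum_univ_three, adj_apply, rev0, rev1, rev2, hx10, hx20, hx21, uUM, hσ]
  all_goals first
    | exact h00 | exact h11 | exact h22
    | linear_combination h01 | linear_combination h02 | linear_combination h12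

/-- `Mpart` is stable under the multiplier of an upper triangular element of `X` -/
theorem Mpart_stable (hσ : ∀ x, σ (σ x) = x) (hX : X ≤ UJ σ 3)
    {x : SpecialLinearGroup (Fin 3) K} (hx : x ∈ X)
    (hx10 : (x : Matrix (Fin 3) (Fin 3) K) 1 0 = 0) (hx20 : (x : Matrix (Fin 3) (Fin 3) K) 2 0 = 0)
    {a : K} (ha : a ∈ Mpart hσ hX) :
    (x : Matrix (Fin 3) (Fin 3) K) 0 0 * σ ((x : Matrix (Fin 3) (Fin 3) K) 1 1) * a ∈
      Mpart hσ hX := by
  obtain ⟨g, y, hy, hyM⟩ := ha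
  obtain ⟨g', hg'⟩ := conj_uUM hσ (hX hx) hx10 hx20 a g
  refine ⟨g', x * y * x⁻¹, X.mul_mem (X.mul_mem hx hy) (X.inv_mem hx), ?_⟩
  rw [Matrix.SpecialLinearGroup.coe_mul, Matrix.SpecialLinearGroup.coe_mul, UJ_inv_coe (hX hx),
    hyM, hg']

/-- the central root group from `Mpart = ⊤` -/
theorem eV_mem_Rt (hσ : ∀ x, σ (σ x) = x) (hX : X ≤ UJ σ 3)
    (hsk : ∀ c, σ c = -c → ∃ z, z - σ z = c) (hM : Mpart hσ hX = ⊤) :
    (eV : Fin 3 → K) ∈ Rt (σ := σ) X := by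
  refine ⟨?_, ?_⟩
  · rw [hJ_three]; simp [eV]
  · intro c hc
    obtain ⟨z, hz⟩ := hsk c hc
    have h1 : (1 : K) ∈ Mpart hσ hX := by rw [hM]; exact AddSubgroup.mem_top _
    have h2 : z ∈ Mpart hσ hX := by rw [hM]; exact AddSubgroup.mem_top _
    obtain ⟨g1, y1, hy1, hyM1⟩ := h1
    obtain ⟨g2, y2, hy2, hyM2⟩ := h2
    refine ⟨(y1 * y2) * (y2 * y1)⁻¹, X.mul_mem (X.mul_mem hy1 hy2)
      (X.inv_mem (X.mul_mem hy2 hy1)), ?_⟩
    have h21 : ((y2 * y1 : SpecialLinearGroup (Fin 3) K) : Matrix (Fin 3) (Fin 3) K) =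
        uUM σ (z + 1) (g2 + g1 - z * σ 1) := by
      rw [Matrix.SpecialLinearGroup.coe_mul, hyM1, hyM2, uUM_mul]
    have hrel := uUM_rel hσ (hX (X.mul_mem hy2 hy1)) h21
    rw [Matrix.SpecialLinearGroup.coe_mul, UJ_inv_coe (hX (X.mul_mem hy2 hy1)), h21,
      Matrix.SpecialLinearGroup.coe_mul, hyM1, hyM2, uUM_mul, adj_uUM hσ, uUM_mul, TJm_eV]
    congr 1
    · ring
    · simp only [map_neg, map_add, map_sub, map_mul, map_one, hσ] at hrel ⊢
      linear_combination hrel + hz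

/-- **the abstract core**: `u` upper unitriangular with `α ≠ 0`, `w` moving `⟨e⟩`, `x` upper
triangular with a multiplier generating `K`: every isotropic vector has its full root group in
`X`. -/
theorem core_of_borel (hσ : ∀ x, σ (σ x) = x) (hX : X ≤ UJ σ 3) (hne : ∃ z, σ z ≠ z)
    (hsk : ∀ c, σ c = -c → ∃ z, z - σ z = c)
    {u w x : SpecialLinearGroup (Fin 3) K} (hu : u ∈ X) (hw : w ∈ X) (hx : x ∈ X) {α β : K}
    (huM : (u : Matrix (Fin 3) (Fin 3) K) = uUM σ α β) (hα : α ≠ 0)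
    (hw20 : (w : Matrix (Fin 3) (Fin 3) K) 2 0 ≠ 0)
    (hx10 : (x : Matrix (Fin 3) (Fin 3) K) 1 0 = 0) (hx20 : (x : Matrix (Fin 3) (Fin 3) K) 2 0 = 0)
    (hfield : ∀ M : AddSubgroup K, (∃ a ∈ M, a ≠ 0) →
      (∀ y ∈ M, (x : Matrix (Fin 3) (Fin 3) K) 0 0 * σ ((x : Matrix (Fin 3) (Fin 3) K) 1 1) * y ∈ M) →
      M = ⊤)
    (v : Fin 3 → K) (hv : hJ σ v v = 0) : v ∈ Rt (σ := σ) X := by
  have hM : Mpart hσ hX = ⊤ :=
    hfield _ ⟨α, ⟨β, u, hu, huM⟩, hα⟩ (fun y hy => Mpart_stable hσ hX hx hx10 hx20 hy)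
  have he := eV_mem_Rt hσ hX hsk hM
  have hw1 := Rt_ap hX hw he
  have hP1 : Pt σ (σ ((w : Matrix (Fin 3) (Fin 3) K) 1 0 / (w : Matrix (Fin 3) (Fin 3) K) 2 0))
      ((w : Matrix (Fin 3) (Fin 3) K) 0 0 / (w : Matrix (Fin 3) (Fin 3) K) 2 0) ∈
      Rt (σ := σ) X := by
    have := Rt_smul hσ ((w : Matrix (Fin 3) (Fin 3) K) 2 0)⁻¹ hw1
    convert this using 1
    ext i
    fin_cases i <;>
      simp [Pt, eV, Matrix.mulVec, dotProduct, Fin.sum_univ_three, hσ] <;> field_simp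
  have hP2 := Rt_ap hX hu hP1
  rw [huM, uUM_mulVec_Pt] at hP2
  exact endgame3 hσ hX hne he hP1 hP2 (by intro h; apply hα; linear_combination h) v hv

end core

end Cfsg.Agent.Lib.Helper5.SU3C
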