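/-
helper5: S4395, shared arithmetic for the field block A: `q ∣ p^d - 1 ↔ ord_q(p) ∣ d`.
-/
import Mathlib

set_option autoImplicit false

namespace Cfsg.Agent.Lib.Helper5.SchFld

theorem natCast_ne_zero (p q : ℕ) [Fact p.Prime] [Fact q.Prime] (hpq : p ≠ q) : (p : ZMod q) ≠ 0 := by
  intro h
  have hd : q ∣ p := (ZMod.natCast_eq_zero_iff p q).mp h
  have hp : p.Prime := Fact.out
  have hq : q.Prime := Fact.out
  rcases (Nat.dvd_prime hp).mp hd with h1 | h1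
  · exact hq.one_lt.ne' h1
  · exact hpq h1.symm

theorem orderOf_pos (p q : ℕ) [Fact p.Prime] [Fact q.Prime] (hpq : p ≠ q) :
    0 < orderOf (p : ZMod q) := by
  have hq : q.Prime := Fact.out
  rw [orderOf_pos_iff, isOfFinOrder_iff_pow_eq_one]
  exact ⟨q - 1, Nat.sub_pos_of_lt hq.one_lt, ZMod.pow_card_sub_one_eq_one (natCast_ne_zero p q hpq)⟩

theorem one_le_pow (p d : ℕ) [Fact p.Prime] : 1 ≤ p ^ d :=
  Nat.one_le_pow _ _ (Fact.out : p.Prime).pos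

theorem dvd_pow_sub_one_iff (p q d : ℕ) [Fact p.Prime] [Fact q.Prime] :
    q ∣ p ^ d - 1 ↔ (p : ZMod q) ^ d = 1 := by
  rw [← (Nat.modEq_iff_dvd' (one_le_pow p d)), ← ZMod.natCast_eq_natCast_iff]
  push_cast
  exact eq_comm

theorem dvd_of_dvd_pow_sub_one (p q d : ℕ) [Fact p.Prime] [Fact q.Prime] (h : q ∣ p ^ d - 1) :
    orderOf (p : ZMod q) ∣ d :=
  orderOf_dvd_of_pow_eq_one ((dvd_pow_sub_one_iff p q d).mp h)

theorem dvd_pow_orderOf_sub_one (p q : ℕ) [Fact p.Prime] [Fact q.Prime] :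
    q ∣ p ^ orderOf (p : ZMod q) - 1 :=
  (dvd_pow_sub_one_iff p q _).mpr (pow_orderOf_eq_one _)

end Cfsg.Agent.Lib.Helper5.SchFld
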