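/-
helper5: S4395 leaf FIELD (`exists_field`): the field with `p ^ ord_q(p)` elements and an element of order `q`.
-/
import Mathlib
import Cfsg.Agent.Lib.Helper5.SchFld

set_option autoImplicit false
universe u v

namespace Cfsg.Agent.Lib.Helper5.SchFIELD

open Cfsg.Agent.Lib.Helper5.SchFld

/-- **TAG FIELD** the field and `ω`. -/
theorem exists_field (p q : ℕ) [Fact p.Prime] [Fact q.Prime] (hpq : p ≠ q) :
    ∃ (K : Type u) (_ : Field K) (_ : Finite K) (_ : CharP K p) (ω : K),
      Nat.card K = p ^ orderOf (p : ZMod q) ∧ orderOf ω = q := by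
  have ha : orderOf (p : ZMod q) ≠ 0 := (orderOf_pos p q hpq).ne'
  have hcard : Nat.card (ULift.{u} (GaloisField p (orderOf (p : ZMod q)))) =
      p ^ orderOf (p : ZMod q) := by
    rw [Nat.card_ulift, GaloisField.card p _ ha]
  have : Finite (GaloisField p (orderOf (p : ZMod q))) :=
    Nat.finite_of_card_ne_zero (by
      rw [GaloisField.card p _ ha]
      exact pow_ne_zero _ (Fact.out : p.Prime).ne_zero)
  have : Finite (ULift.{u} (GaloisField p (orderOf (p : ZMod q)))) := inferInstance
  have hunits : Nat.card (ULift.{u} (GaloisField p (orderOf (p : ZMod q))))ˣ =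
      p ^ orderOf (p : ZMod q) - 1 := by
    rw [Nat.card_units, hcard]
  have hdvd : q ∣ Nat.card (ULift.{u} (GaloisField p (orderOf (p : ZMod q))))ˣ := by
    rw [hunits]
    exact dvd_pow_orderOf_sub_one p q
  obtain ⟨x, hx⟩ := exists_prime_orderOf_dvd_card' q hdvd
  refine ⟨ULift.{u} (GaloisField p (orderOf (p : ZMod q))), inferInstance, inferInstance,
    inferInstance, (x : ULift.{u} (GaloisField p (orderOf (p : ZMod q)))), hcard, ?_⟩
  rw [orderOf_units, hx]

end Cfsg.Agent.Lib.Helper5.SchFIELD
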