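/-
helper5: S4395 leaf GEN (`card_eq_of_span`): a finite field of characteristic `p` generated by an element of order `q`
has `p ^ ord_q(p)` elements.
-/
import Mathlib
import Cfsg.Agent.Lib.Helper5.SchFld

set_option autoImplicit false
universe u v

namespace Cfsg.Agent.Lib.Helper5.SchGEN

open Cfsg.Agent.Lib.Helper5.SchFld Polynomial

/-- **TAG GEN** -/
theorem card_eq_of_span {L : Type*} [Field L] [Finite L] (p q : ℕ) [Fact p.Prime] [Fact q.Prime] [CharP L p]
    (hpq : p ≠ q) (t : L) (ht : orderOf t = q)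
    (hspan : ∀ S : AddSubgroup L, (1 : L) ∈ S → (∀ v ∈ S, t * v ∈ S) → S = ⊤) :
    Nat.card L = p ^ orderOf (p : ZMod q) := by
  classical
  have hp : p.Prime := Fact.out
  have hq : q.Prime := Fact.out
  let _ : Fintype L := Fintype.ofFinite L
  have ha0 : orderOf (p : ZMod q) ≠ 0 := (orderOf_pos p q hpq).ne'
  -- `|L| = p ^ d`
  obtain ⟨d, _, hd⟩ := FiniteField.card L p
  have hcard : Nat.card L = p ^ (d : ℕ) := by rw [Nat.card_eq_fintype_card, hd]
  -- `q ∣ p ^ d - 1`
  have ht0 : t ≠ 0 := by
    intro h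
    rw [h, orderOf_zero] at ht
    · exact hq.ne_zero ht.symm
  have hq_dvd : q ∣ p ^ (d : ℕ) - 1 := by
    have h := orderOf_dvd_natCard (Units.mk0 t ht0)
    rw [← orderOf_units, Units.val_mk0, ht, Nat.card_units, hcard] at h
    exact h
  have had : orderOf (p : ZMod q) ∣ (d : ℕ) := dvd_of_dvd_pow_sub_one p q d hq_dvd
  -- `t ^ (p ^ a) = t`
  have htpow : t ^ p ^ orderOf (p : ZMod q) = t := by
    obtain ⟨c, hc⟩ := dvd_pow_orderOf_sub_one p q
    have h1 : p ^ orderOf (p : ZMod q) = q * c + 1 := by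
      have := one_le_pow p (orderOf (p : ZMod q))
      omega
    rw [h1, pow_succ, pow_mul, ← ht, pow_orderOf_eq_one, one_pow, one_mul]
  -- the fixed points of the `a`-th power of Frobenius
  let S₀ : AddSubgroup L :=
    { carrier := {x | x ^ p ^ orderOf (p : ZMod q) = x}
      add_mem' := by
        intro x y hx hy
        show (x + y) ^ p ^ orderOf (p : ZMod q) = x + y
        rw [add_pow_char_pow, hx, hy]
      zero_mem' := by
        show (0 : L) ^ p ^ orderOf (p : ZMod q) = 0
        exact zero_pow (pow_ne_zero _ hp.ne_zero)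
      neg_mem' := by
        intro x hx
        show (-x) ^ p ^ orderOf (p : ZMod q) = -x
        have h0 : (x + -x) ^ p ^ orderOf (p : ZMod q) =
            x ^ p ^ orderOf (p : ZMod q) + (-x) ^ p ^ orderOf (p : ZMod q) :=
          add_pow_char_pow x (-x) p _
        rw [add_neg_cancel, zero_pow (pow_ne_zero _ hp.ne_zero), hx] at h0
        exact (neg_eq_of_add_eq_zero_right h0.symm).symm }
  have hS₀ : S₀ = ⊤ := by
    apply hspan
    · show (1 : L) ^ p ^ orderOf (p : ZMod q) = 1
      exact one_pow _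
    · intro v hv
      show (t * v) ^ p ^ orderOf (p : ZMod q) = t * v
      have hv' : v ^ p ^ orderOf (p : ZMod q) = v := hv
      rw [mul_pow, htpow, hv']
  -- every element is a root of `X ^ (p ^ a) - X`
  have hroots : (Finset.univ : Finset L).val ⊆
      (X ^ p ^ orderOf (p : ZMod q) - X : L[X]).roots := by
    intro x _
    rw [mem_roots (FiniteField.X_pow_card_pow_sub_X_ne_zero L ha0 hp.one_lt)]
    have hx : x ∈ S₀ := by rw [hS₀]; trivial
    have hx' : x ^ p ^ orderOf (p : ZMod q) = x := hx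
    simp [hx']
  have hle : Fintype.card L ≤ p ^ orderOf (p : ZMod q) := by
    have h := card_le_degree_of_subset_roots hroots
    rwa [Finset.card_univ, FiniteField.X_pow_card_pow_sub_X_natDegree_eq L ha0 hp.one_lt] at h
  rw [hd] at hle
  have hda : (d : ℕ) ≤ orderOf (p : ZMod q) := (Nat.pow_le_pow_iff_right hp.one_lt).mp hle
  have : (d : ℕ) = orderOf (p : ZMod q) :=
    le_antisymm hda (Nat.le_of_dvd d.pos had)
  rw [hcard, this]

end Cfsg.Agent.Lib.Helper5.SchGEN
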