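/-
helper5: S4395 leaf GEOM (`geom_sum_omega`).
-/
import Mathlib

set_option autoImplicit false
universe u v

namespace Cfsg.Agent.Lib.Helper5.SchGEOM

/-- **TAG GEOM** -/
theorem geom_sum_omega {K : Type*} [Field K] (q : ℕ) [Fact q.Prime] (ω : K) (hω : orderOf ω = q) :
    ∑ i ∈ Finset.range q, ω ^ i = 0 := by
  have hq : q.Prime := Fact.out
  have hωq : ω ^ q = 1 := by rw [← hω]; exact pow_orderOf_eq_one ω
  have hne : ω ≠ 1 := by
    intro h
    rw [h, orderOf_one] at hω
    exact hq.one_lt.ne hω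
  have h := mul_geom_sum ω q
  rw [hωq, sub_self] at h
  rcases mul_eq_zero.mp h with h0 | h0
  · exact absurd (sub_eq_zero.mp h0) hne
  · exact h0

end Cfsg.Agent.Lib.Helper5.SchGEOM
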