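/-
helper5: S4395 leaf SPAN (`addSubgroup_eq_top`): `K = 𝔽_p[ω]` for a field `K` with `p ^ ord_q(p)` elements and `ω`
of order `q`.  Proof: the multiplier set `{x | x S ⊆ S}` is a subfield containing `ω`; its order `p^d` has
`q ∣ p^d - 1`, so `ord_q(p) ∣ d`, so it is `K`.
-/
import Mathlib
import Cfsg.Agent.Lib.Helper5.SchFld

set_option autoImplicit false
universe u v

namespace Cfsg.Agent.Lib.Helper5.SchSPAN

open Cfsg.Agent.Lib.Helper5.SchFld

theorem exists_inv_eq_pow {K : Type*} [Field K] [Finite K] (a : K) (h0 : a ≠ 0) :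
    ∃ n : ℕ, a⁻¹ = a ^ n := by
  have h := isOfFinOrder_of_finite (Units.mk0 a h0)
  obtain ⟨n, hn, hpow⟩ := (isOfFinOrder_iff_pow_eq_one).mp h
  refine ⟨n - 1, ?_⟩
  have h1 : a ^ n = 1 := by
    have := congrArg Units.val hpow
    simpa using this
  have h2 : a * a ^ (n - 1) = 1 := by
    rw [← pow_succ', Nat.sub_add_cancel hn, h1]
  exact (eq_inv_of_mul_eq_one_right h2).symm ▸ rfl

/-- the multiplier subfield of an additive subgroup of a finite field -/
def multField {K : Type*} [Field K] [Finite K] (S : AddSubgroup K) : Subfield K where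
  carrier := {x | ∀ s ∈ S, x * s ∈ S}
  mul_mem' := by
    intro a b ha hb s hs
    rw [mul_assoc]
    exact ha _ (hb _ hs)
  one_mem' := by
    intro s hs
    rwa [one_mul]
  add_mem' := by
    intro a b ha hb s hs
    rw [add_mul]
    exact S.add_mem (ha _ hs) (hb _ hs)
  zero_mem' := by
    intro s _
    rw [zero_mul]
    exact S.zero_mem
  neg_mem' := by
    intro a ha s hs
    rw [neg_mul]
    exact S.neg_mem (ha _ hs)
  inv_mem' := by
    intro a ha
    by_cases h0 : a = 0
    · rw [h0, inv_zero]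
      intro s _
      rw [zero_mul]
      exact S.zero_mem
    · obtain ⟨n, hn⟩ := exists_inv_eq_pow a h0
      rw [hn]
      clear hn
      induction n with
      | zero =>
        intro s hs
        rwa [pow_zero, one_mul]
      | succ k ih =>
        intro s hs
        rw [pow_succ, mul_assoc]
        exact ih _ (ha _ hs)

theorem mem_multField {K : Type*} [Field K] [Finite K] (S : AddSubgroup K) (x : K) :
    x ∈ multField S ↔ ∀ s ∈ S, x * s ∈ S := Iff.rfl

/-- a subfield of a field with `p ^ ord_q(p)` elements containing an element of order `q` is everything -/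
theorem subfield_eq_top {K : Type*} [Field K] [Finite K] (p q : ℕ) [Fact p.Prime] [Fact q.Prime]
    (hpq : p ≠ q) (hK : Nat.card K = p ^ orderOf (p : ZMod q)) (ω : K) (hω : orderOf ω = q)
    (M : Subfield K) (hωM : ω ∈ M) : ∀ x : K, x ∈ M := by
  have hp : p.Prime := Fact.out
  have hq : q.Prime := Fact.out
  -- the order of `M` is `p ^ d`
  have hdvd : Nat.card ↥M.toSubring.toAddSubgroup ∣ Nat.card K :=
    AddSubgroup.card_addSubgroup_dvd_card _
  rw [hK] at hdvd
  obtain ⟨d, hd, hMd⟩ := (Nat.dvd_prime_pow hp).mp hdvd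
  have hMd' : Nat.card ↥M = p ^ d := hMd
  -- `ω` as a unit of `M`
  have hω0 : (⟨ω, hωM⟩ : ↥M) ≠ 0 := by
    intro h
    have h' : ω = 0 := congrArg Subtype.val h
    rw [h', orderOf_zero] at hω
    · exact hq.ne_zero hω.symm
  have hord : orderOf (Units.mk0 (⟨ω, hωM⟩ : ↥M) hω0) = q := by
    rw [← orderOf_units, Units.val_mk0, ← orderOf_injective M.subtype.toMonoidHom
      Subtype.val_injective]
    exact hω
  have hq_dvd : q ∣ p ^ d - 1 := by
    have h := orderOf_dvd_natCard (Units.mk0 (⟨ω, hωM⟩ : ↥M) hω0)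
    rwa [hord, Nat.card_units, hMd'] at h
  have had : orderOf (p : ZMod q) ∣ d := dvd_of_dvd_pow_sub_one p q d hq_dvd
  -- `d ≠ 0`
  have hd0 : d ≠ 0 := by
    intro h
    rw [h, pow_zero] at hMd'
    have hsub : Subsingleton ↥M := (Nat.card_eq_one_iff_unique.mp hMd').1
    exact hω0 (Subsingleton.elim _ _)
  have hda : d = orderOf (p : ZMod q) :=
    le_antisymm hd (Nat.le_of_dvd (Nat.pos_of_ne_zero hd0) had)
  have htop : M.toSubring.toAddSubgroup = ⊤ := by
    apply AddSubgroup.eq_top_of_card_eq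
    rw [hMd, hK, hda]
  intro x
  have : x ∈ M.toSubring.toAddSubgroup := by rw [htop]; trivial
  exact this

/-- **TAG SPAN** `K = 𝔽_p[ω]`. -/
theorem addSubgroup_eq_top {K : Type*} [Field K] [Finite K] (p q : ℕ) [Fact p.Prime] [Fact q.Prime] [CharP K p]
    (hpq : p ≠ q) (hK : Nat.card K = p ^ orderOf (p : ZMod q)) (ω : K) (hω : orderOf ω = q)
    (S : AddSubgroup K) (h1 : (1 : K) ∈ S) (hS : ∀ v ∈ S, ω * v ∈ S) : S = ⊤ := by
  have hall := subfield_eq_top p q hpq hK ω hω (multField S) hS
  rw [eq_top_iff]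
  intro x _
  have := hall x 1 h1
  rwa [mul_one] at this

end Cfsg.Agent.Lib.Helper5.SchSPAN
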