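/-
helper5: S4705 market "BS" (planner helper6, `notes/S4705_leaves.lean`), leaf BS-TB `twoBlock_of_vals`:
`TwoVals → TwoBlock` for `Y = Set.range ψs` (cyclotomic sums: `∑_Y ψ(x) = -ε`, `∑_Y |ψ(x)|² = p - 2`,
`∑_{x ∈ P \ 1} ψ(x) = -2ε`; the fibres of `ψs` are `{i, -i}`).
-/
import Mathlib
import Cfsg.Prelude.Def_BlockRank
import Cfsg.Agent.Lib.Helper6.BRHDefs
import Cfsg.Agent.Lib.Helper6.BSDefs
import Cfsg.Agent.Lib.Helper5.BREEASYYOf

set_option autoImplicit false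

namespace Cfsg.Agent.Lib.Helper5.BSTB

open Cfsg Cfsg.Agent.Lib.Helper8.DOM Cfsg.Agent.Lib.Helper27.DO Cfsg.Agent.CharLib
open Cfsg.Agent.Lib.Helper6.BRH Cfsg.Agent.Lib.Helper6.BS
open Cfsg.Agent.Lib.Helper5.BREEASYYOf
open scoped ComplexConjugate

universe u

section roots

variable {p : ℕ} [hp : Fact p.Prime]

/-- the sum of `η^u` over the units `u` of `ℤ/p`, `η` a primitive `p`-th root of unity, is `-1` -/
theorem sum_units_prim {η : ℂ} (hη : IsPrimitiveRoot η p) :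
    ∑ u : (ZMod p)ˣ, η ^ ((u : ZMod p).val) = -1 := by
  classical
  have : NeZero p := ⟨hp.out.ne_zero⟩
  have h1 : ∑ z : ZMod p, η ^ z.val = ∑ k ∈ Finset.range p, η ^ k := by
    apply Finset.sum_bij (fun z _ => z.val)
    · intro z _
      exact Finset.mem_range.mpr (ZMod.val_lt z)
    · intro a _ b _ h
      exact ZMod.val_injective p h
    · intro k hk
      exact ⟨(k : ZMod p), Finset.mem_univ _, ZMod.val_natCast_of_lt (Finset.mem_range.mp hk)⟩
    · intro z _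
      rfl
  have h2 : ∑ u : (ZMod p)ˣ, η ^ ((u : ZMod p).val) =
      ∑ z ∈ (Finset.univ : Finset (ZMod p)).erase 0, η ^ z.val := by
    apply Finset.sum_bij (fun (u : (ZMod p)ˣ) _ => ((u : (ZMod p)ˣ) : ZMod p))
    · intro u _
      exact Finset.mem_erase.mpr ⟨Units.ne_zero u, Finset.mem_univ _⟩
    · intro a _ b _ h
      exact Units.ext h
    · intro z hz
      exact ⟨Units.mk0 z (Finset.mem_erase.mp hz).1, Finset.mem_univ _, rfl⟩
    · intro u _
      rfl
  rw [h2, Finset.sum_erase_eq_sub (Finset.mem_univ _), h1, hη.geom_sum_eq_zero hp.out.one_lt,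
    ZMod.val_zero, pow_zero, zero_sub]

theorem sum_units_prim_neg {η : ℂ} (hη : IsPrimitiveRoot η p) :
    ∑ u : (ZMod p)ˣ, η ^ ((-(u : ZMod p)).val) = -1 := by
  rw [← sum_units_prim hη]
  exact Fintype.sum_equiv (Equiv.neg _) _ _ (fun u => by simp [Units.val_neg])

theorem prim_pow {j : ℕ} (hj : ¬ p ∣ j) : IsPrimitiveRoot (zetaP p ^ j) p :=
  zeta_prim.pow_of_coprime j ((Nat.Prime.coprime_iff_not_dvd hp.out).mpr hj).symm

theorem card_units_zmod : Fintype.card (ZMod p)ˣ = p - 1 := ZMod.card_units p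

/-- `η^a η^a' = 1` for `a = i.val`, `a' = (-i).val` -/
theorem pow_val_mul_pow_neg_val {η : ℂ} (hη : IsPrimitiveRoot η p) (a : ZMod p) :
    η ^ a.val * η ^ (-a).val = 1 := by
  have : NeZero p := ⟨hp.out.ne_zero⟩
  rw [← pow_add]
  apply (hη.pow_eq_one_iff_dvd _).mpr
  apply (ZMod.natCast_eq_zero_iff _ _).mp
  push_cast
  rw [ZMod.natCast_zmod_val, ZMod.natCast_zmod_val, add_neg_cancel]

theorem sum_pair (j : ℕ) (hj : ¬ p ∣ j) :
    ∑ i : (ZMod p)ˣ, (zetaP p ^ ((i : ZMod p).val * j) + zetaP p ^ ((-(i : ZMod p)).val * j)) = -2 := by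
  have h1 : ∀ i : (ZMod p)ˣ, zetaP p ^ ((i : ZMod p).val * j) = (zetaP p ^ j) ^ ((i : ZMod p).val) := by
    intro i; rw [← pow_mul, mul_comm]
  have h2 : ∀ i : (ZMod p)ˣ, zetaP p ^ ((-(i : ZMod p)).val * j) =
      (zetaP p ^ j) ^ ((-(i : ZMod p)).val) := by
    intro i; rw [← pow_mul, mul_comm]
  simp_rw [h1, h2]
  rw [Finset.sum_add_distrib, sum_units_prim (prim_pow hj), sum_units_prim_neg (prim_pow hj)]
  norm_num

theorem sum_pair_sq (hp2 : p ≠ 2) (j : ℕ) (hj : ¬ p ∣ j) :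
    ∑ i : (ZMod p)ˣ, (zetaP p ^ ((i : ZMod p).val * j) + zetaP p ^ ((-(i : ZMod p)).val * j)) ^ 2 =
      2 * (p : ℂ) - 4 := by
  have hj2 : ¬ p ∣ 2 * j := by
    intro h
    rcases (Nat.Prime.dvd_mul hp.out).mp h with h | h
    · exact hp2 ((Nat.prime_dvd_prime_iff_eq hp.out Nat.prime_two).mp h)
    · exact hj h
  have hη := prim_pow (p := p) hj
  have hterm : ∀ i : (ZMod p)ˣ,
      (zetaP p ^ ((i : ZMod p).val * j) + zetaP p ^ ((-(i : ZMod p)).val * j)) ^ 2 =
      (zetaP p ^ (2 * j)) ^ ((i : ZMod p).val) + (zetaP p ^ (2 * j)) ^ ((-(i : ZMod p)).val) + 2 := by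
    intro i
    have e1 : zetaP p ^ ((i : ZMod p).val * j) = (zetaP p ^ j) ^ ((i : ZMod p).val) := by
      rw [← pow_mul, mul_comm]
    have e2 : zetaP p ^ ((-(i : ZMod p)).val * j) = (zetaP p ^ j) ^ ((-(i : ZMod p)).val) := by
      rw [← pow_mul, mul_comm]
    have e3 : (zetaP p ^ (2 * j)) ^ ((i : ZMod p).val) = ((zetaP p ^ j) ^ ((i : ZMod p).val)) ^ 2 := by
      rw [← pow_mul, ← pow_mul, ← pow_mul]; congr 1; ring
    have e4 : (zetaP p ^ (2 * j)) ^ ((-(i : ZMod p)).val) =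
        ((zetaP p ^ j) ^ ((-(i : ZMod p)).val)) ^ 2 := by
      rw [← pow_mul, ← pow_mul, ← pow_mul]; congr 1; ring
    have e5 := pow_val_mul_pow_neg_val hη (i : ZMod p)
    rw [e1, e2, e3, e4]
    linear_combination 2 * e5
  simp_rw [hterm]
  rw [Finset.sum_add_distrib, Finset.sum_add_distrib, sum_units_prim (prim_pow hj2),
    sum_units_prim_neg (prim_pow hj2), Finset.sum_const, Finset.card_univ, card_units_zmod,
    nsmul_eq_mul, Nat.cast_sub hp.out.one_le]
  push_cast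
  ring

/-- the sum over `j = 1, …, p-1` -/
theorem sum_erase_pow (a : ZMod p) (ha : a ≠ 0) :
    ∑ j ∈ (Finset.range p).erase 0, zetaP p ^ (a.val * j) = -1 := by
  have : NeZero p := ⟨hp.out.ne_zero⟩
  have hcop : ¬ p ∣ a.val := by
    intro h
    have h0 : a.val = 0 := Nat.eq_zero_of_dvd_of_lt h (ZMod.val_lt a)
    exact ha ((ZMod.val_eq_zero a).mp h0)
  have hη := prim_pow (p := p) hcop
  have h1 : ∀ j : ℕ, zetaP p ^ (a.val * j) = (zetaP p ^ a.val) ^ j := fun j => by rw [← pow_mul]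
  simp_rw [h1]
  rw [Finset.sum_erase_eq_sub (Finset.mem_range.mpr hp.out.pos), hη.geom_sum_eq_zero hp.out.one_lt,
    pow_zero, zero_sub]

end roots

section main

variable {G : Type u} [Group G] [Finite G] {p : ℕ} [hp : Fact p.Prime]

omit hp in
theorem finsum_mem_zpowers_ne_one {x0 : G} (hord : orderOf x0 = p) (f : G → ℂ) :
    ∑ᶠ x ∈ {x : G | x ∈ Subgroup.zpowers x0 ∧ x ≠ 1}, f x =
      ∑ j ∈ (Finset.range p).erase 0, f (x0 ^ j) := by
  classical
  have hset : {x : G | x ∈ Subgroup.zpowers x0 ∧ x ≠ 1} =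
      ↑(((Finset.range p).erase 0).image (x0 ^ ·)) := by
    ext y
    simp only [Set.mem_ofPred_eq, Finset.coe_image, Set.mem_image, Finset.mem_coe, Finset.mem_erase,
      Finset.mem_range]
    constructor
    · rintro ⟨hy, hy1⟩
      rw [mem_zpowers_iff_mem_range_orderOf, hord] at hy
      obtain ⟨j, hj, rfl⟩ := Finset.mem_image.mp hy
      refine ⟨j, ⟨?_, Finset.mem_range.mp hj⟩, rfl⟩
      rintro rfl
      exact hy1 (pow_zero _)
    · rintro ⟨j, ⟨hj0, hjp⟩, rfl⟩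
      refine ⟨Subgroup.pow_mem _ (Subgroup.mem_zpowers x0) j, ?_⟩
      exact pow_ne_one_of_lt_orderOf hj0 (hord ▸ hjp)
  rw [hset, finsum_mem_coe_finset, Finset.sum_image]
  intro a ha b hb hab
  have ha' : a < orderOf x0 := by
    rw [hord]; exact Finset.mem_range.mp (Finset.mem_of_mem_erase (Finset.mem_coe.mp ha))
  have hb' : b < orderOf x0 := by
    rw [hord]; exact Finset.mem_range.mp (Finset.mem_of_mem_erase (Finset.mem_coe.mp hb))
  exact pow_injOn_Iio_orderOf ha' hb' hab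

omit [Finite G] in
/-- the fibres of `ψs` have two elements: a sum over the units is twice the sum over the range -/
theorem sum_eq_two_nsmul_finsum_range {A : Type*} [AddCommMonoid A] (hp2 : p ≠ 2)
    (ψs : (ZMod p)ˣ → IrrCharacter G)
    (heq : ∀ i j : (ZMod p)ˣ, ψs i = ψs j ↔ (i = j ∨ i = -j)) (g : IrrCharacter G → A) :
    ∑ i : (ZMod p)ˣ, g (ψs i) = 2 • ∑ᶠ ψ ∈ Set.range ψs, g ψ := by
  classical
  have hset : Set.range ψs = ↑((Finset.univ : Finset (ZMod p)ˣ).image ψs) := by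
    ext ψ; simp
  rw [hset, finsum_mem_coe_finset, Finset.sum_comp g ψs, Finset.smul_sum]
  apply Finset.sum_congr rfl
  intro b hb
  obtain ⟨i0, -, rfl⟩ := Finset.mem_image.mp hb
  have hne : i0 ≠ -i0 := by
    intro h
    have h1 : ((i0 : (ZMod p)ˣ) : ZMod p) = -((i0 : (ZMod p)ˣ) : ZMod p) := by
      conv_lhs => rw [h]
      exact Units.val_neg i0
    have h2 : (2 : ZMod p) * (i0 : ZMod p) = 0 := by
      rw [two_mul]; nth_rewrite 1 [h1]; exact neg_add_cancel _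
    rcases mul_eq_zero.mp h2 with h3 | h3
    · have h4 : ((2 : ℕ) : ZMod p) = 0 := by exact_mod_cast h3
      have h5 := (ZMod.natCast_eq_zero_iff 2 p).mp h4
      exact hp2 ((Nat.prime_dvd_prime_iff_eq hp.out Nat.prime_two).mp h5)
    · exact Units.ne_zero i0 h3
  have hfil : (Finset.univ.filter (fun a => ψs a = ψs i0)) = {i0, -i0} := by
    ext a
    simp only [Finset.mem_filter, Finset.mem_univ, true_and, Finset.mem_insert,
      Finset.mem_singleton]
    exact heq a i0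
  rw [hfil, Finset.card_pair hne]

theorem twoBlock_of_vals (hp2 : p ≠ 2) (P : Subgroup G) (hP : Nat.card P = p) (x0 : G)
    (η₁ η₂ : IrrCharacter G) (v₁ v₂ : ℤ) (ψs : (ZMod p)ˣ → IrrCharacter G) (ε : ℤ)
    (d : TwoVals p P x0 η₁ η₂ v₁ v₂ ψs ε) : TwoBlock p P η₁ η₂ v₁ v₂ (Set.range ψs) ε := by
  classical
  have hord : orderOf x0 = p := by
    rw [← Nat.card_zpowers, ← d.gen]; exact hP
  have hmem : ∀ x ∈ P, x ≠ 1 → ∃ j : ℕ, ¬ p ∣ j ∧ x0 ^ j = x := by
    intro x hx hx1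
    rw [d.gen, mem_zpowers_iff_mem_range_orderOf, hord] at hx
    obtain ⟨j, hj, rfl⟩ := Finset.mem_image.mp hx
    refine ⟨j, ?_, rfl⟩
    intro hdvd
    have h0 : j = 0 := Nat.eq_zero_of_dvd_of_lt hdvd (Finset.mem_range.mp hj)
    subst h0
    exact hx1 (pow_zero _)
  have hε2 : (ε : ℂ) * (ε : ℂ) = 1 := by
    rcases d.sgn with h | h <;> subst h <;> norm_num
  refine
    { sgn1 := d.sgn1, sgn2 := d.sgn2, sgn := d.sgn, ne := d.ne, notY1 := ?_, notY2 := ?_,
      neY := ⟨ψs 1, 1, rfl⟩, val1 := ?_, val2 := ?_, sumY := ?_, normY := ?_, psumY := ?_,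
      relY := ?_ }
  · rintro ⟨i, hi⟩
    exact d.notY1 i hi
  · rintro ⟨i, hi⟩
    exact d.notY2 i hi
  · intro x hx hx1
    obtain ⟨j, hj, rfl⟩ := hmem x hx hx1
    exact d.val1 j hj
  · intro x hx hx1
    obtain ⟨j, hj, rfl⟩ := hmem x hx hx1
    exact d.val2 j hj
  · -- sumY
    intro x hx hx1
    obtain ⟨j, hj, rfl⟩ := hmem x hx hx1
    have h2 := sum_eq_two_nsmul_finsum_range hp2 ψs d.eqY
      (fun ψ : IrrCharacter G => (ψ : G → ℂ) (x0 ^ j))
    have h3 : ∑ i : (ZMod p)ˣ, (ψs i : G → ℂ) (x0 ^ j) = (ε : ℂ) * (-2) := by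
      simp_rw [d.valY _ j hj]
      rw [← Finset.mul_sum, sum_pair j hj]
    rw [h3, nsmul_eq_mul] at h2
    have h4 : (2 : ℂ) * ∑ᶠ ψ ∈ Set.range ψs, (ψ : G → ℂ) (x0 ^ j) = 2 * (-(ε : ℂ)) := by
      rw [show ((2 : ℕ) : ℂ) = 2 by norm_num] at h2
      rw [← h2]; ring
    exact mul_left_cancel₀ (two_ne_zero) h4
  · -- normY
    intro x hx hx1
    obtain ⟨j, hj, rfl⟩ := hmem x hx hx1
    have h2 := sum_eq_two_nsmul_finsum_range hp2 ψs d.eqY
      (fun ψ : IrrCharacter G => Complex.normSq ((ψ : G → ℂ) (x0 ^ j)))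
    have h3 : ∑ i : (ZMod p)ˣ, Complex.normSq ((ψs i : G → ℂ) (x0 ^ j)) = 2 * (p : ℝ) - 4 := by
      apply Complex.ofReal_injective
      rw [Complex.ofReal_sum]
      have hterm : ∀ i : (ZMod p)ˣ, ((Complex.normSq ((ψs i : G → ℂ) (x0 ^ j)) : ℝ) : ℂ) =
          (zetaP p ^ ((i : ZMod p).val * j) + zetaP p ^ ((-(i : ZMod p)).val * j)) ^ 2 := by
        intro i
        rw [Complex.normSq_eq_conj_mul_self, d.valY i j hj, map_mul, map_add, map_intCast]
        have hη := prim_pow (p := p) hj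
        have e1 : zetaP p ^ ((i : ZMod p).val * j) = (zetaP p ^ j) ^ ((i : ZMod p).val) := by
          rw [← pow_mul, mul_comm]
        have e2 : zetaP p ^ ((-(i : ZMod p)).val * j) = (zetaP p ^ j) ^ ((-(i : ZMod p)).val) := by
          rw [← pow_mul, mul_comm]
        have e5 := pow_val_mul_pow_neg_val hη (i : ZMod p)
        have c1 : conj (zetaP p ^ ((i : ZMod p).val * j)) = zetaP p ^ ((-(i : ZMod p)).val * j) := by
          rw [conj_zeta_pow, e1, e2]
          exact inv_eq_of_mul_eq_one_right e5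
        have c2 : conj (zetaP p ^ ((-(i : ZMod p)).val * j)) = zetaP p ^ ((i : ZMod p).val * j) := by
          rw [conj_zeta_pow, e1, e2]
          exact inv_eq_of_mul_eq_one_left e5
        rw [c1, c2]
        linear_combination (zetaP p ^ ((i : ZMod p).val * j) +
          zetaP p ^ ((-(i : ZMod p)).val * j)) ^ 2 * hε2
      simp_rw [hterm]
      rw [sum_pair_sq hp2 j hj]
      push_cast
      ring
    rw [h3, nsmul_eq_mul] at h2
    have h4 : (2 : ℝ) * ∑ᶠ ψ ∈ Set.range ψs, Complex.normSq ((ψ : G → ℂ) (x0 ^ j)) =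
        2 * ((p : ℝ) - 2) := by
      rw [show ((2 : ℕ) : ℝ) = 2 by norm_num] at h2
      rw [← h2]; ring
    exact mul_left_cancel₀ (two_ne_zero) h4
  · -- psumY
    rintro ψ ⟨i, rfl⟩
    have hsetP : {x : G | x ∈ P ∧ x ≠ 1} = {x : G | x ∈ Subgroup.zpowers x0 ∧ x ≠ 1} := by
      rw [d.gen]
    rw [hsetP, finsum_mem_zpowers_ne_one hord]
    have hterm : ∀ j ∈ (Finset.range p).erase 0, (ψs i : G → ℂ) (x0 ^ j) =
        (ε : ℂ) * (zetaP p ^ ((i : ZMod p).val * j) + zetaP p ^ ((-(i : ZMod p)).val * j)) := by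
      intro j hj
      apply d.valY i j
      intro hdvd
      have hj' := Finset.mem_erase.mp hj
      exact hj'.1 (Nat.eq_zero_of_dvd_of_lt hdvd (Finset.mem_range.mp hj'.2))
    rw [Finset.sum_congr rfl hterm, ← Finset.mul_sum, Finset.sum_add_distrib,
      sum_erase_pow (i : ZMod p) (Units.ne_zero i),
      sum_erase_pow (-(i : ZMod p)) (neg_ne_zero.mpr (Units.ne_zero i))]
    ring
  · rintro ψ ⟨i, rfl⟩ g hg
    exact d.relY i g hg

end main

end Cfsg.Agent.Lib.Helper5.BSTB
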