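import Cfsg.Agent.Lib.Helper5.UOGBase
import Cfsg.Agent.Lib.Helper5.UOGDefs3

/-!
helper5: S5681 / S5709 part (G): leaves `exists_Sg`, `exists_partner`, `omega_le_of_all` (core of `omega_le_of_P`).
-/

set_option autoImplicit false
set_option linter.unusedSectionVars false
set_option linter.unusedVariables false

namespace Cfsg.Agent.Lib.Helper5.UOGLeaf
open Matrix QuadraticMap Module
open Cfsg.Agent.Lib.Helper25.Tens Cfsg.Agent.Lib.Helper2.SOT Cfsg.Agent.Lib.Helper7.OTT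
  Cfsg.Agent.Lib.Helper25.CD Cfsg.Agent.Lib.Helper5.NSMax Cfsg.Agent.Lib.Helper5.PairMax
  Cfsg.Agent.Lib.Helper5.TSMax Cfsg.Agent.Lib.Helper5.NDMax Cfsg.Agent.Lib.Helper5.UOG
  Cfsg.Agent.Lib.Helper25.PS
open scoped Kronecker

variable {F : Type*} [Field F] [Fintype F] {a b : ℕ} {G₁ : Matrix (Fin a) (Fin a) F}
  {G₂ : Matrix (Fin b) (Fin b) F} {M : Subgroup (GL (Idx a b) F)}

theorem QG_eq_zero_of {n : ℕ} {G : Matrix (Fin n) (Fin n) F} {x : Fin n → F} (h : fB G x x = 0) :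
    QG G x = 0 := by
  rw [QG_eq_fB, h, mul_zero]

theorem fB_self_of_QG {n : ℕ} {G : Matrix (Fin n) (Fin n) F} (h2 : (2 : F) ≠ 0) {x : Fin n → F}
    (h : QG G x = 0) : fB G x x = 0 := by
  rw [QG_eq_fB] at h
  rcases mul_eq_zero.1 h with h | h
  · exact absurd h (inv_ne_zero h2)
  · exact h

/-- (F0) existence of nonzero singular vectors -/
theorem exists_Sg {n : ℕ} {G : Matrix (Fin n) (Fin n) F} (hG : Gᵀ = G) (hdet : G.det ≠ 0)
    (h2 : (2 : F) ≠ 0) (hn : 3 ≤ n) : ∃ x, Sg G x := by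
  have h3 : 3 ≤ finrank F (Fin n → F) := by
    rw [Module.finrank_fintype_fun_eq_card, Fintype.card_fin]; exact hn
  obtain ⟨v, hv0, hv⟩ := Cfsg.Agent.Lib.Helper15.exists_singular_of_three_le (QG G) h3
  exact ⟨v, hv0, fB_self_of_QG h2 hv⟩

/-- (F1) partners -/
theorem exists_partner {n : ℕ} {G : Matrix (Fin n) (Fin n) F} (hG : Gᵀ = G) (hdet : G.det ≠ 0)
    (h2 : (2 : F) ≠ 0) {x : Fin n → F} (hx : Sg G x) : ∃ xs, Sg G xs ∧ fB G x xs = 1 := by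
  obtain ⟨f, hQf, hxf⟩ := Cfsg.Agent.Lib.Helper25.Fam.exists_sing_partner (QG G)
    (nd_QG hG hdet h2) hx.1 (QG_eq_zero_of hx.2)
  rw [polar_QG_fB hG h2] at hxf
  refine ⟨f, ⟨?_, fB_self_of_QG h2 hQf⟩, hxf⟩
  rintro rfl
  have : fB G x 0 = 0 := by simp [fB]
  rw [this] at hxf
  exact zero_ne_one hxf

theorem card_Idx (ha : 3 ≤ a) (hb : 5 ≤ b) : 7 ≤ Fintype.card (Idx a b) := by
  rw [Fintype.card_prod, Fintype.card_fin, Fintype.card_fin]
  nlinarith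

/-- (F2) the end: two opposite good points. -/
theorem omega_le_of_all (h : GCtx G₁ G₂ M)
    (hall : ∀ (x : Fin a → F) (y : Fin b → F), Sg G₁ x → Sg G₂ y →
      ∀ v : Idx a b → F, polar (QV G₁ G₂) (pt x y) v = 0 → IA (QV G₁ G₂) M (pt x y) v) :
    Cfsg.Geo.omegaGL ⇑(QV G₁ G₂) ≤ M := by
  obtain ⟨hK, hKd⟩ := kron_symm_det h.symA h.symB h.detA h.detB
  have hQ : (polarBilin (QV G₁ G₂)).Nondegenerate := nd_QG hK hKd h.two
  have hcard := card_Idx h.ha h.hb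
  obtain ⟨x, hx⟩ := exists_Sg h.symA h.detA h.two h.ha
  obtain ⟨y, hy⟩ := exists_Sg h.symB h.detB h.two (by have := h.hb; omega)
  obtain ⟨xs, hxs, hxxs⟩ := exists_partner h.symA h.detA h.two hx
  obtain ⟨ys, hys, hyys⟩ := exists_partner h.symB h.detB h.two hy
  have hu0 : pt x y ≠ 0 := by
    intro h0
    rcases (pt_eq_zero_iff x y).1 h0 with h0 | h0
    · exact hx.1 h0
    · exact hy.1 h0
  have hw0 : pt xs ys ≠ 0 := by
    intro h0
    rcases (pt_eq_zero_iff xs ys).1 h0 with h0 | h0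
    · exact hxs.1 h0
    · exact hys.1 h0
  have hu : QV G₁ G₂ (pt x y) = 0 := by rw [QV_pt, hx.2, zero_mul, mul_zero]
  have hw : QV G₁ G₂ (pt xs ys) = 0 := by rw [QV_pt, hxs.2, zero_mul, mul_zero]
  have g1 : Good (QV G₁ G₂) (MI (QV G₁ G₂) M) (mk' (QV G₁ G₂) (pt x y) hu0 hu) :=
    good_of_all hu0 hu (hall x y hx hy)
  have g2 : Good (QV G₁ G₂) (MI (QV G₁ G₂) M) (mk' (QV G₁ G₂) (pt xs ys) hw0 hw) :=
    good_of_all hw0 hw (hall xs ys hxs hys)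
  have hopp : ¬ ort (QV G₁ G₂) (mk' (QV G₁ G₂) (pt x y) hu0 hu)
      (mk' (QV G₁ G₂) (pt xs ys) hw0 hw) := by
    rw [ort_mk', pol h.symA h.symB h.two, hxxs, hyys]
    norm_num
  have hgood := all_good_of_opposite (QV G₁ G₂) hQ (by omega) (MI (QV G₁ G₂) M) g1 g2 hopp
  have hle := MI_le_omega (QV G₁ G₂) h.le_om
  have heq := eq_omega_of_all_good (QV G₁ G₂) hQ hcard (MI (QV G₁ G₂) M) hle hgood
  apply omegaGL_le_of_MI
  rw [heq]

end Cfsg.Agent.Lib.Helper5.UOGLeaf
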