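import Cfsg.Agent.Lib.Helper5.UOGDefs
import Cfsg.Agent.Lib.Helper5.UOGDefs2
import Cfsg.Agent.Lib.Helper5.UOGDefs3
import Cfsg.Agent.Lib.Helper5.UOGBase
import Cfsg.Agent.Lib.Helper5.UOGEnd
import Cfsg.Agent.Lib.Helper10.UOGT
import Cfsg.Agent.Lib.Helper22.UOGC

/-!
helper5: S5681 / S5709 part (G): leaves `P1plus` (C1) and `A_perp` (C3) of notes/S5681_G_leaves.lean.
`A_perp` takes the leaf `mixed` (C2) as a hypothesis in `A_perp_core`.
-/

set_option autoImplicit false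
set_option linter.unusedSectionVars false
set_option linter.unusedVariables false

namespace Cfsg.Agent.Lib.Helper5.UOGLeaf
open Matrix QuadraticMap Module
open Cfsg.Agent.Lib.Helper25.Tens Cfsg.Agent.Lib.Helper2.SOT Cfsg.Agent.Lib.Helper7.OTT
  Cfsg.Agent.Lib.Helper25.CD Cfsg.Agent.Lib.Helper5.NSMax Cfsg.Agent.Lib.Helper5.PairMax
  Cfsg.Agent.Lib.Helper5.TSMax Cfsg.Agent.Lib.Helper5.NDMax Cfsg.Agent.Lib.Helper5.UOG
open scoped Kronecker

variable {F : Type*} [Field F] [Fintype F] {a b : ℕ} {G₁ : Matrix (Fin a) (Fin a) F}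
  {G₂ : Matrix (Fin b) (Fin b) F} {M : Subgroup (GL (Idx a b) F)}

/-- (C1) `x ⊗ B ⊆ A(x ⊗ y)` for `x` singular and any `y ≠ 0`. -/
theorem P1plus (h : GCtx G₁ G₂ M) (h1 : ∀ x y, Sg G₁ x → Sg G₂ y → P1 G₁ G₂ M x y) :
    ∀ (x : Fin a → F) (y d : Fin b → F), Sg G₁ x → y ≠ 0 →
      IA (QV G₁ G₂) M (pt x y) (pt x d) := by
  intro x y d hx hy
  have hQ : ∀ z : Fin b → F, QV G₁ G₂ (pt x z) = 0 := fun z => by
    rw [QV_pt, hx.2]; ring
  have hpol : ∀ z z' : Fin b → F, polar (QV G₁ G₂) (pt x z) (pt x z') = 0 := fun z z' => by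
    rw [pol h.symA h.symB h.two, hx.2]; ring
  let S : Submodule F (Fin b → F) :=
    { carrier := {d | IA (QV G₁ G₂) M (pt x y) (pt x d)}
      add_mem' := by
        intro p q hp hq
        show IA (QV G₁ G₂) M (pt x y) (pt x (p + q))
        rw [pt_add_right]
        exact InA.add (hQ y) (hpol y p) (hpol y q) hp hq
      zero_mem' := by
        show IA (QV G₁ G₂) M (pt x y) (pt x 0)
        rw [pt_zero_right]
        exact Cfsg.Agent.Lib.Helper22.UOGLeaf.InA_zero _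
      smul_mem' := by
        intro c p hp
        show IA (QV G₁ G₂) M (pt x y) (pt x (c • p))
        rw [pt_smul_right]
        exact InA.smul hp c }
  have h3 : 3 ≤ finrank F (Fin b → F) := by
    rw [Module.finrank_fintype_fun_eq_card, Fintype.card_fin]
    have := h.hb
    omega
  have hS : S = ⊤ := by
    rw [eq_top_iff, ← Cfsg.Agent.Lib.Helper25.OGeom.span_singular_eq_top (QG G₂)
      (nd_QG h.symB h.detB h.two) h3, Submodule.span_le]
    intro y'' hy''
    have hy''0 : QG G₂ y'' = 0 := hy''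
    by_cases h0 : y'' = 0
    · rw [h0]; exact S.zero_mem
    · have hsg : Sg G₂ y'' := ⟨h0, fB_self_of_QG h.two hy''0⟩
      have := h1 x y'' hx hsg y
      exact Cfsg.Agent.Lib.Helper22.UOGLeaf.InA_symm (hQ y'') (hQ y) (hpol y'' y) this
  have : d ∈ S := by rw [hS]; exact Submodule.mem_top
  exact this

/-- (C3) core: `A ⊗ y^⊥ ⊆ A(x y)`, from `mixed`. -/
theorem A_perp_core (h : GCtx G₁ G₂ M)
    (hmix : ∀ (x x' : Fin a → F) (y y' : Fin b → F), Sg G₁ x → Sg G₂ y → Sg G₁ x' →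
      fB G₁ x x' ≠ 0 → fB G₂ y y' = 0 → IA (QV G₁ G₂) M (pt x y) (pt x' y')) :
    ∀ (x x'' : Fin a → F) (y y' : Fin b → F), Sg G₁ x → Sg G₂ y → fB G₂ y y' = 0 →
      IA (QV G₁ G₂) M (pt x y) (pt x'' y') := by
  intro x x'' y y' hx hy hyy'
  have hQ : QV G₁ G₂ (pt x y) = 0 := by
    rw [QV_pt, hx.2]; ring
  have hpol : ∀ z : Fin a → F, polar (QV G₁ G₂) (pt x y) (pt z y') = 0 := fun z => by
    rw [pol h.symA h.symB h.two, hyy']; ring
  let S : Submodule F (Fin a → F) :=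
    { carrier := {z | IA (QV G₁ G₂) M (pt x y) (pt z y')}
      add_mem' := by
        intro p q hp hq
        show IA (QV G₁ G₂) M (pt x y) (pt (p + q) y')
        rw [pt_add_left]
        exact InA.add hQ (hpol p) (hpol q) hp hq
      zero_mem' := by
        show IA (QV G₁ G₂) M (pt x y) (pt 0 y')
        rw [pt_zero_left]
        exact Cfsg.Agent.Lib.Helper22.UOGLeaf.InA_zero _
      smul_mem' := by
        intro c p hp
        show IA (QV G₁ G₂) M (pt x y) (pt (c • p) y')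
        rw [pt_smul_left]
        exact InA.smul hp c }
  have h3 : 3 ≤ Fintype.card (Fin a) := by
    rw [Fintype.card_fin]; exact h.ha
  have hS : S = ⊤ := by
    rw [eq_top_iff, ← Cfsg.Agent.Lib.Helper10.UOGLeaf.span_opp (Q := QG G₁)
      (nd_QG h.symA h.detA h.two) h.two h3 hx.1 (QG_eq_zero_of hx.2), Submodule.span_le]
    rintro x' ⟨hx'Q, hx'p⟩
    rw [polar_QG_fB h.symA h.two] at hx'p
    have hx'0 : x' ≠ 0 := by
      rintro rfl
      apply hx'p
      simp [fB]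
    exact hmix x x' y y' hx hy ⟨hx'0, fB_self_of_QG h.two hx'Q⟩ hx'p hyy'
  have : x'' ∈ S := by rw [hS]; exact Submodule.mem_top
  exact this

end Cfsg.Agent.Lib.Helper5.UOGLeaf
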