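import Mathlib

set_option autoImplicit false

namespace Cfsg.Agent.Lib.Helper5.CycMax

/-- LTE consequence: for odd `p`, `r^p ≡ 1 mod p^(m+1)` forces `r ≡ 1 mod p^m`. -/
theorem modEq_one_of_pow_modEq_one {p : ℕ} [hp : Fact p.Prime] (hp2 : p ≠ 2) (m r : ℕ)
    (h : r ^ p ≡ 1 [MOD p ^ (m + 1)]) : r ≡ 1 [MOD p ^ m] := by
  have hodd : Odd p := hp.out.odd_of_ne_two hp2
  have hp0 : p ≠ 0 := hp.out.ne_zero
  rcases Nat.lt_or_ge 1 r with hr | hr
  · -- r ≥ 2
    have hdvd : p ^ (m + 1) ∣ r ^ p - 1 := by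
      have := (Nat.modEq_iff_dvd' (Nat.one_le_pow _ _ (by omega))).mp h.symm
      exact this
    -- r ≡ 1 mod p
    have hrp : p ∣ r - 1 := by
      have h1 : (r : ZMod p) ^ p = 1 := by
        have h2 : p ∣ r ^ p - 1 := (dvd_pow_self p (Nat.succ_ne_zero m)).trans hdvd
        have h3 := (ZMod.natCast_eq_zero_iff (r ^ p - 1) p).mpr h2
        rw [Nat.cast_sub (Nat.one_le_pow _ _ (by omega))] at h3
        push_cast at h3
        exact sub_eq_zero.mp h3
      rw [ZMod.pow_card] at h1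
      have h4 : ((r - 1 : ℕ) : ZMod p) = 0 := by
        rw [Nat.cast_sub (by omega)]; push_cast; rw [h1, sub_self]
      exact (ZMod.natCast_eq_zero_iff _ _).mp h4
    have hrnp : ¬ p ∣ r := by
      intro hpr
      have : p ∣ 1 := by
        have h5 : p ∣ r - (r - 1) := Nat.dvd_sub hpr hrp
        have : r - (r - 1) = 1 := by omega
        rwa [this] at h5
      exact hp.out.one_lt.ne' (Nat.dvd_one.mp this)
    have hlte := padicValNat.pow_sub_pow hodd hr (by simpa using hrp) hrnp hp0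
    rw [one_pow, padicValNat_self] at hlte
    have hne : r ^ p - 1 ≠ 0 := by
      have : 1 < r ^ p := Nat.one_lt_pow hp0 hr
      omega
    have hge : m + 1 ≤ padicValNat p (r ^ p - 1) :=
      (padicValNat_dvd_iff_le hne).mp hdvd
    have hge' : m ≤ padicValNat p (r - 1) := by omega
    have hd : p ^ m ∣ r - 1 := (padicValNat_dvd_iff_le (by omega)).mpr hge'
    exact ((Nat.modEq_iff_dvd' (by omega)).mpr hd).symm
  · -- r ≤ 1
    interval_cases r
    · -- r = 0: 0 ≡ 1 mod p^(m+1) impossible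
      exfalso
      rw [zero_pow hp0] at h
      have := (Nat.modEq_zero_iff_dvd.mp h.symm)
      have h1 : p ∣ 1 := (dvd_pow_self p (Nat.succ_ne_zero m)).trans this
      exact hp.out.one_lt.ne' (Nat.dvd_one.mp h1)
    · rfl


section Grp

variable {G : Type*} [Group G] {c g : G} {r : ℕ}

theorem conj_pow_exp (h : g * c * g⁻¹ = c ^ r) (k : ℕ) : g * c ^ k * g⁻¹ = c ^ (r * k) := by
  rw [← conj_pow, h, ← pow_mul]

theorem pow_conj_exp (h : g * c * g⁻¹ = c ^ r) (j : ℕ) : g ^ j * c * (g ^ j)⁻¹ = c ^ (r ^ j) := by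
  induction j with
  | zero => simp
  | succ j ih =>
    have : g ^ (j + 1) * c * (g ^ (j + 1))⁻¹ = g * (g ^ j * c * (g ^ j)⁻¹) * g⁻¹ := by
      rw [pow_succ']; group
    rw [this, ih, conj_pow_exp h, pow_succ']

theorem mul_pow_formula (h : g * c * g⁻¹ = c ^ r) (u k : ℕ) :
    (c ^ u * g) ^ k = c ^ (u * ∑ i ∈ Finset.range k, r ^ i) * g ^ k := by
  induction k with
  | zero => simp
  | succ k ih =>
    rw [pow_succ', ih, Finset.sum_range_succ', pow_zero]
    have h1 : c ^ u * g * (c ^ (u * ∑ i ∈ Finset.range k, r ^ i) * g ^ k) =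
        c ^ u * (g * c ^ (u * ∑ i ∈ Finset.range k, r ^ i) * g⁻¹) * g ^ (k + 1) := by
      rw [pow_succ' g k]; group
    rw [h1, conj_pow_exp h, ← pow_add]
    congr 2
    rw [Finset.mul_sum, Finset.mul_sum, mul_add, mul_one, add_comm, Finset.mul_sum]
    congr 1
    apply Finset.sum_congr rfl
    intro i _
    rw [pow_succ]; ring

end Grp

section NT

theorem lin_pow {R : Type*} [CommRing R] (y : R) (hy : y * y = 0) (j : ℕ) :
    (1 + y) ^ j = 1 + j * y := by
  induction j with
  | zero => simp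
  | succ j ih =>
    rw [pow_succ, ih]
    push_cast
    linear_combination (j : R) * hy

theorem geom_sum_lin {R : Type*} [CommRing R] (y : R) (hy : y * y = 0) (p : ℕ) (hodd : Odd p)
    (hpy : (p : R) * y = 0) : ∑ i ∈ Finset.range p, (1 + y) ^ i = p := by
  have h1 : ∀ i ∈ Finset.range p, (1 + y) ^ i = 1 + (i : R) * y := fun i _ => lin_pow y hy i
  rw [Finset.sum_congr rfl h1, Finset.sum_add_distrib, Finset.sum_const, Finset.card_range,
    nsmul_eq_mul, mul_one, ← Finset.sum_mul, ← Nat.cast_sum, Finset.sum_range_id]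
  obtain ⟨t, ht⟩ := hodd
  have h2 : p * (p - 1) / 2 = p * t := by
    rw [ht]
    have : (2 * t + 1) * (2 * t + 1 - 1) = 2 * ((2 * t + 1) * t) := by
      simp only [Nat.add_sub_cancel]; ring
    rw [this, Nat.mul_div_cancel_left _ (by norm_num)]
  rw [h2]
  push_cast
  have : (p : R) * t * y = t * ((p : R) * y) := by ring
  rw [this, hpy, mul_zero, add_zero]

end NT

end Cfsg.Agent.Lib.Helper5.CycMax
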