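/-
helper5: S4482 leaf NIDX (`exists_normal_complement`): the normal 2-complement of `C(J)` (S0514) has index exactly
`2^n = |P|`.
-/
import Mathlib
import Cfsg.Prelude.Def_Blocks
import Cfsg.Prelude.Def_Solvable
import Cfsg.Agent.S0514

set_option autoImplicit false

namespace Cfsg.Agent.Lib.Helper5.BOFNIDX

open Cfsg

universe u

/-- (NIDX) the normal 2-complement of `C(J)` (S0514) has index exactly `2^n = |P|`. -/
theorem exists_normal_complement {G : Type u} [Group G] [Finite G] (n : ℕ) (hn : 3 ≤ n) (P : Sylow 2 G)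
    (hP : Nonempty (↥(P : Subgroup G) ≃* DihedralGroup (2 ^ (n - 1)))) (hPc : Nat.card (P : Subgroup G) = 2 ^ n)
    (J : G) (hJ : orderOf J = 2) (hPJ : (P : Subgroup G) ≤ Subgroup.centralizer ({J} : Set G)) :
    ∃ N : Subgroup ↥(Subgroup.centralizer ({J} : Set G)), N.Normal ∧ Odd (Nat.card N) ∧ N.index = 2 ^ n := by
  have : Fact (Nat.Prime 2) := ⟨Nat.prime_two⟩
  have h2le : 2 ≤ 2 ^ (n - 1) := by
    calc 2 = 2 ^ 1 := (pow_one 2).symm
      _ ≤ 2 ^ (n - 1) := Nat.pow_le_pow_right (by norm_num) (by omega)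
  obtain ⟨N, hNn, hNodd, k, hk⟩ := Cfsg.Agent.S0514.result P (2 ^ (n - 1)) h2le hP J hJ
  refine ⟨N, hNn, hNodd, ?_⟩
  rw [hk]
  -- `|C| = 2^k |N|`
  have hC : Nat.card ↥(Subgroup.centralizer ({J} : Set G)) = 2 ^ k * Nat.card N := by
    rw [← hk]; exact (N.index_mul_card).symm
  -- `2^n ∣ |C|`
  have h1 : 2 ^ n ∣ Nat.card ↥(Subgroup.centralizer ({J} : Set G)) := by
    rw [← hPc]; exact Subgroup.card_dvd_of_le hPJ
  have hcop : (2 ^ n).Coprime (Nat.card N) :=
    Nat.Coprime.pow_left n (Nat.coprime_two_left.mpr hNodd)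
  have h2 : 2 ^ n ∣ 2 ^ k := by
    rw [hC] at h1
    exact Nat.Coprime.dvd_of_dvd_mul_right hcop h1
  have hnk : n ≤ k := (Nat.pow_dvd_pow_iff_le_right (by norm_num)).mp h2
  -- `2^k ∣ |G|`
  have h3 : 2 ^ k ∣ Nat.card G :=
    dvd_trans (Dvd.intro _ hC.symm) (Subgroup.card_subgroup_dvd_card _)
  have h4 : k ≤ (Nat.card G).factorization 2 :=
    (Nat.Prime.pow_dvd_iff_le_factorization Nat.prime_two Nat.card_pos.ne').mp h3
  have h5 : Nat.card (P : Subgroup G) = 2 ^ (Nat.card G).factorization 2 := P.card_eq_multiplicity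
  rw [hPc] at h5
  have h6 : n = (Nat.card G).factorization 2 := Nat.pow_right_injective (le_refl 2) h5
  have hkn : k = n := by omega
  rw [hkn]

end Cfsg.Agent.Lib.Helper5.BOFNIDX
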