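/-
helper5: S4482 leaf SECV (`section_value`): characters of the principal 2-block are constant on `σ^l ρ`,
`ρ ∈ C(σ^l)` of odd order (dihedral Sylow 2-subgroup).
-/
import Mathlib
import Cfsg.Prelude.Def_Blocks
import Cfsg.Prelude.Def_Solvable
import Cfsg.Agent.S0514
import Cfsg.Agent.Lib.Lead.SecondMain8
import Cfsg.Agent.Lib.Helper12.Cores

set_option autoImplicit false

namespace Cfsg.Agent.Lib.Helper5.BOFSECV

open Cfsg

universe u

/-- `J = σ^(2^(n-2))` is a power of `σ^l` for `0 < l < 2^(n-1)`. -/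
theorem exists_pow_eq_J {G : Type u} [Group G] (n : ℕ) (hn : 3 ≤ n) (σ : G)
    (hσo : orderOf σ = 2 ^ (n - 1)) (l : ℕ) (hl0 : 0 < l) (hl : l < 2 ^ (n - 1)) :
    ∃ e : ℕ, (σ ^ l) ^ e = σ ^ (2 ^ (n - 2)) := by
  obtain ⟨s, m, hm, rfl⟩ := Nat.exists_eq_two_pow_mul_odd hl0.ne'
  have hs : s < n - 1 := by
    by_contra hcon
    push Not at hcon
    have h1 : 2 ^ (n - 1) ≤ 2 ^ s := Nat.pow_le_pow_right (by norm_num) hcon
    have h2 : 2 ^ s ≤ 2 ^ s * m := Nat.le_mul_of_pos_right _ hm.pos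
    omega
  refine ⟨2 ^ (n - 2 - s), ?_⟩
  obtain ⟨t, rfl⟩ := hm
  have hJ2 : (σ ^ (2 ^ (n - 2))) ^ 2 = 1 := by
    rw [← pow_mul, ← pow_succ, show n - 2 + 1 = n - 1 by omega, ← hσo]
    exact pow_orderOf_eq_one σ
  have hexp : 2 ^ s * (2 * t + 1) * 2 ^ (n - 2 - s) = 2 ^ (n - 2) * (2 * t) + 2 ^ (n - 2) := by
    have : 2 ^ s * 2 ^ (n - 2 - s) = 2 ^ (n - 2) := by
      rw [← pow_add]; congr 1; omega
    calc 2 ^ s * (2 * t + 1) * 2 ^ (n - 2 - s) = (2 ^ s * 2 ^ (n - 2 - s)) * (2 * t + 1) := by ring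
      _ = 2 ^ (n - 2) * (2 * t + 1) := by rw [this]
      _ = 2 ^ (n - 2) * (2 * t) + 2 ^ (n - 2) := by ring
  rw [← pow_mul, hexp, pow_add, pow_mul, pow_mul, hJ2, one_pow, one_mul]

/-- (SECV) characters of the principal 2-block are constant on `σ^l ρ`, `ρ ∈ C(σ^l)` of odd order. -/
theorem section_value {G : Type u} [Group G] [Finite G] (M : Ideal AlgInt) (hM : IsPModular 2 M) (n : ℕ)
    (hn : 3 ≤ n) (P : Sylow 2 G) (hP : Nonempty (↥(P : Subgroup G) ≃* DihedralGroup (2 ^ (n - 1))))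
    (σ : G) (hσo : orderOf σ = 2 ^ (n - 1))
    (χ : IrrCharacter G) (hχ : χ ∈ principalBlock M G) (l : ℕ) (hl0 : 0 < l) (hl : l < 2 ^ (n - 1)) (ρ : G)
    (hρ : Commute (σ ^ l) ρ) (hρo : Odd (orderOf ρ)) :
    (χ : G → ℂ) (σ ^ l * ρ) = (χ : G → ℂ) (σ ^ l) := by
  have hp2 : Fact (Nat.Prime 2) := ⟨Nat.prime_two⟩
  have h2le : 2 ≤ 2 ^ (n - 1) := by
    calc 2 = 2 ^ 1 := (pow_one 2).symm
      _ ≤ 2 ^ (n - 1) := Nat.pow_le_pow_right (by norm_num) (by omega)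
  -- `J`
  have hJo : orderOf (σ ^ (2 ^ (n - 2))) = 2 := by
    rw [orderOf_pow' σ (pow_ne_zero _ two_ne_zero), hσo]
    have h1 : Nat.gcd (2 ^ (n - 1)) (2 ^ (n - 2)) = 2 ^ (n - 2) :=
      Nat.gcd_eq_right (pow_dvd_pow 2 (by omega))
    rw [h1]
    have h2 : 2 ^ (n - 1) = 2 ^ (n - 2) * 2 := by
      rw [← pow_succ]; congr 1; omega
    rw [h2, Nat.mul_div_cancel_left _ (pow_pos (by norm_num) _)]
  obtain ⟨N, hNn, hNodd, k, hk⟩ :=
    Cfsg.Agent.S0514.result P (2 ^ (n - 1)) h2le hP (σ ^ (2 ^ (n - 2))) hJo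
  -- `C(σ^l) ≤ C(J)`
  obtain ⟨e, he⟩ := exists_pow_eq_J n hn σ hσo l hl0 hl
  have hle : Subgroup.centralizer ({σ ^ l} : Set G) ≤
      Subgroup.centralizer ({σ ^ (2 ^ (n - 2))} : Set G) := by
    intro g hg
    rw [Subgroup.mem_centralizer_singleton_iff] at hg ⊢
    rw [← he]
    exact (Commute.pow_left (show Commute (σ ^ l) g from hg.symm) e).eq.symm
  -- the normal odd subgroup of `C(σ^l)` of 2-power index
  have hN'n : (N.comap (Subgroup.inclusion hle)).Normal := Subgroup.Normal.comap hNn _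
  have hN'card : Nat.card (N.comap (Subgroup.inclusion hle)) ∣ Nat.card N :=
    Subgroup.card_comap_dvd_of_injective N _ (Subgroup.inclusion_injective hle)
  have hN'odd : Odd (Nat.card (N.comap (Subgroup.inclusion hle))) := by
    obtain ⟨c, hc⟩ := hN'card
    rw [hc] at hNodd
    exact (Nat.odd_mul.mp hNodd).1
  have hN'idx : (N.comap (Subgroup.inclusion hle)).index ∣ 2 ^ k := by
    rw [Subgroup.index_comap, ← hk]
    exact Subgroup.relIndex_dvd_index_of_normal N _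
  have hcore : N.comap (Subgroup.inclusion hle) ≤
      pPrimeCore 2 ↥(Subgroup.centralizer ({σ ^ l} : Set G)) :=
    Cfsg.Agent.Lib.Helper12.le_pPrimeCore 2 _ hN'n (Nat.coprime_two_right.mpr hN'odd)
  have hidx : (pPrimeCore 2 ↥(Subgroup.centralizer ({σ ^ l} : Set G))).index ∣ 2 ^ k :=
    dvd_trans (Subgroup.index_dvd_of_le hcore) hN'idx
  obtain ⟨k', _, hk'⟩ := (Nat.dvd_prime_pow Nat.prime_two).mp hidx
  -- `σ^l` is a 2-element
  have hz : ∃ j : ℕ, orderOf (σ ^ l) = 2 ^ j := by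
    have : orderOf (σ ^ l) ∣ 2 ^ (n - 1) := hσo ▸ orderOf_pow_dvd l
    obtain ⟨j, _, hj⟩ := (Nat.dvd_prime_pow Nat.prime_two).mp this
    exact ⟨j, hj⟩
  have hρC : ρ ∈ Subgroup.centralizer ({σ ^ l} : Set G) := by
    rw [Subgroup.mem_centralizer_singleton_iff]
    exact hρ.eq.symm
  have hy : ¬ 2 ∣ orderOf (⟨ρ, hρC⟩ : ↥(Subgroup.centralizer ({σ ^ l} : Set G))) := by
    rw [Subgroup.orderOf_mk]
    exact hρo.not_two_dvd_nat
  exact Cfsg.Agent.CharLib.apply_section_of_pcomplement_aux hM (σ ^ l) hz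
    (Subgroup.centralizer ({σ ^ l} : Set G)) rfl ⟨k', hk'⟩ χ hχ ⟨ρ, hρC⟩ hy

end Cfsg.Agent.Lib.Helper5.BOFSECV
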