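/-
helper5: S4651-C1 (Knorr-Robinson, leaf C1 of helper24's plan `notes/S4651_leaves.lean`):
the chains of nontrivial `p`-subgroups that are NOT normal chains cancel in any alternating sum of a
function of the chain stabilizer.

Involution: `T` := the top of the chain `s`, `Q*` := the largest member not normalized by `T`,
`Y` := the smallest subgroup containing `Q*` that is normalized by `T` (`ncl T Q*`, the normal closure
of `Q*` in `T`); `s' := s` with `Y` toggled.  Then `Q* < Y < T` (a proper subgroup of a finite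
`p`-group lies in a normal maximal subgroup), `T`, `Q*`, `Y` are the same for `s'`, the stabilizer is
the same and the parity flips.
-/
import Mathlib
import Cfsg.Agent.Lib.Helper24.KRDefs

set_option autoImplicit false

namespace Cfsg.Agent.Lib.Helper5.KRC1

open Cfsg Cfsg.Agent.Lib.Helper24.KR

open Classical

universe u

section general

variable {G : Type u} [Group G]

/-- The smallest subgroup containing `Q` that is normalized by `T`. -/
def ncl (T Q : Subgroup G) : Subgroup G :=
  sInf {X : Subgroup G | Q ≤ X ∧ T ≤ Subgroup.normalizer ((X : Subgroup G) : Set G)}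

theorem le_ncl (T Q : Subgroup G) : Q ≤ ncl T Q :=
  le_sInf (fun _ hX => hX.1)

theorem ncl_le {T Q X : Subgroup G} (h1 : Q ≤ X)
    (h2 : T ≤ Subgroup.normalizer ((X : Subgroup G) : Set G)) : ncl T Q ≤ X :=
  sInf_le ⟨h1, h2⟩

theorem ncl_le_self {T Q : Subgroup G} (h : Q ≤ T) : ncl T Q ≤ T :=
  ncl_le h Subgroup.le_normalizer

theorem le_normalizer_ncl (T Q : Subgroup G) :
    T ≤ Subgroup.normalizer ((ncl T Q : Subgroup G) : Set G) := by
  intro t ht
  rw [Subgroup.mem_normalizer_iff]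
  intro n
  unfold ncl
  simp only [Subgroup.mem_sInf, Set.mem_ofPred_eq]
  constructor
  · intro h X hX
    exact ((Subgroup.mem_normalizer_iff.mp (hX.2 ht)) n).mp (h X hX)
  · intro h X hX
    exact ((Subgroup.mem_normalizer_iff.mp (hX.2 ht)) n).mpr (h X hX)

theorem conj_mem_ncl {T Q : Subgroup G} {h : G}
    (hT : h ∈ Subgroup.normalizer ((T : Subgroup G) : Set G))
    (hQ : h ∈ Subgroup.normalizer ((Q : Subgroup G) : Set G)) {n : G} (hn : n ∈ ncl T Q) :
    h * n * h⁻¹ ∈ ncl T Q := by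
  unfold ncl
  rw [Subgroup.mem_sInf]
  intro X hX
  have hX' : ncl T Q ≤ X.comap (MulAut.conj h).toMonoidHom := by
    apply ncl_le
    · intro q hq
      rw [Subgroup.mem_comap]
      show h * q * h⁻¹ ∈ X
      exact hX.1 ((Subgroup.mem_normalizer_iff.mp hQ q).mp hq)
    · intro t ht
      rw [Subgroup.mem_normalizer_iff]
      intro m
      rw [Subgroup.mem_comap, Subgroup.mem_comap]
      show h * m * h⁻¹ ∈ X ↔ h * (t * m * t⁻¹) * h⁻¹ ∈ X
      have ht' : h * t * h⁻¹ ∈ T := (Subgroup.mem_normalizer_iff.mp hT t).mp ht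
      have h3 := Subgroup.mem_normalizer_iff.mp (hX.2 ht') (h * m * h⁻¹)
      rw [h3]
      have e : h * t * h⁻¹ * (h * m * h⁻¹) * (h * t * h⁻¹)⁻¹ = h * (t * m * t⁻¹) * h⁻¹ := by
        group
      rw [e]
  have h4 := hX' hn
  rw [Subgroup.mem_comap] at h4
  exact h4

theorem mem_normalizer_ncl {T Q : Subgroup G} {g : G}
    (hT : g ∈ Subgroup.normalizer ((T : Subgroup G) : Set G))
    (hQ : g ∈ Subgroup.normalizer ((Q : Subgroup G) : Set G)) :
    g ∈ Subgroup.normalizer ((ncl T Q : Subgroup G) : Set G) := by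
  rw [Subgroup.mem_normalizer_iff]
  intro n
  constructor
  · exact fun hn => conj_mem_ncl hT hQ hn
  · intro hn
    have h1 := conj_mem_ncl (inv_mem hT) (inv_mem hQ) hn
    have e : g⁻¹ * (g * n * g⁻¹) * g⁻¹⁻¹ = n := by group
    rwa [e] at h1

/-- A proper subgroup of a finite `p`-group has a proper normal closure. -/
theorem ncl_ne_top [Finite G] {p : ℕ} [Fact p.Prime] {T Q : Subgroup G} (hT : IsPGroup p T)
    (hQT : Q ≤ T) (hne : Q ≠ T) : ncl T Q ≠ T := by
  have hK : Q.subgroupOf T ≠ ⊤ := by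
    intro h
    rw [Subgroup.subgroupOf_eq_top] at h
    exact hne (le_antisymm hQT h)
  have : Group.IsNilpotent T := hT.isNilpotent
  have hnc : NormalizerCondition T := Group.normalizerCondition_of_isNilpotent
  obtain ⟨M, hM, hKM⟩ := (eq_top_or_exists_le_coatom (Q.subgroupOf T)).resolve_left hK
  have hMn : M.Normal := Subgroup.NormalizerCondition.normal_of_coatom M hnc hM
  have h1 : Q ≤ M.map T.subtype := by
    have h0 := Subgroup.map_mono (f := T.subtype) hKM
    rwa [Subgroup.map_subgroupOf_eq_of_le hQT] at h0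
  have h2 : T ≤ Subgroup.normalizer ((M.map T.subtype : Subgroup G) : Set G) := by
    have h0 := Subgroup.le_normalizer_map (H := M) T.subtype
    rw [Subgroup.normalizer_eq_top, ← MonoidHom.range_eq_map, Subgroup.range_subtype] at h0
    exact h0
  intro h
  have h3 : T ≤ M.map T.subtype := by
    have h0 := ncl_le h1 h2
    rwa [h] at h0
  apply hM.1
  rw [eq_top_iff]
  intro x _
  obtain ⟨y, hy, hyx⟩ := h3 x.2
  have hxy : y = x := Subtype.ext hyx
  exact hxy ▸ hy

/-- A nonempty finite chain of subgroups contains its supremum. -/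
theorem sup_mem_of_chain {t : Finset (Subgroup G)} (hne : t.Nonempty)
    (hch : ∀ Q ∈ t, ∀ R ∈ t, Q ≤ R ∨ R ≤ Q) : t.sup id ∈ t := by
  have h0 := Finset.sup'_mem (↑t : Set (Subgroup G)) (by
    intro x hx y hy
    rcases hch x hx y hy with h | h
    · rw [sup_eq_right.mpr h]; exact hy
    · rw [sup_eq_left.mpr h]; exact hx) t hne id (fun i hi => hi)
  rw [Finset.sup'_eq_sup] at h0
  exact h0

/-- The top of a chain. -/
noncomputable def ctop (s : Finset (Subgroup G)) : Subgroup G := s.sup id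

/-- The members not normalized by the top. -/
noncomputable def bad (s : Finset (Subgroup G)) : Finset (Subgroup G) :=
  s.filter (fun Q => ¬ ctop s ≤ Subgroup.normalizer ((Q : Subgroup G) : Set G))

/-- The largest member not normalized by the top. -/
noncomputable def qstar (s : Finset (Subgroup G)) : Subgroup G := (bad s).sup id

/-- The normal closure of `qstar` in the top. -/
noncomputable def yy (s : Finset (Subgroup G)) : Subgroup G := ncl (ctop s) (qstar s)

/-- Toggle the membership of `yy s`. -/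
noncomputable def tog (s : Finset (Subgroup G)) : Finset (Subgroup G) :=
  if yy s ∈ s then s.erase (yy s) else insert (yy s) s

theorem le_ctop {s : Finset (Subgroup G)} {Q : Subgroup G} (hQ : Q ∈ s) : Q ≤ ctop s :=
  Finset.le_sup (f := id) hQ

theorem ctop_mem {p : ℕ} {s : Finset (Subgroup G)} (h : IsPChain p s) : ctop s ∈ s :=
  sup_mem_of_chain h.1 h.2.1

theorem mem_bad {s : Finset (Subgroup G)} {Q : Subgroup G} :
    Q ∈ bad s ↔ Q ∈ s ∧ ¬ ctop s ≤ Subgroup.normalizer ((Q : Subgroup G) : Set G) := by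
  unfold bad; rw [Finset.mem_filter]

theorem bad_nonempty {p : ℕ} {s : Finset (Subgroup G)} (h : IsPChain p s)
    (hn : ¬ IsNormalChain s) : (bad s).Nonempty := by
  by_contra hb
  rw [Finset.not_nonempty_iff_eq_empty] at hb
  apply hn
  refine ⟨ctop s, ctop_mem h, fun Q hQ => ⟨le_ctop hQ, ?_⟩⟩
  by_contra hQn
  have h0 : Q ∈ bad s := mem_bad.mpr ⟨hQ, hQn⟩
  rw [hb] at h0
  exact Finset.notMem_empty _ h0

theorem not_normal_of_bad_nonempty {p : ℕ} {s : Finset (Subgroup G)} (h : IsPChain p s)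
    (hb : (bad s).Nonempty) : ¬ IsNormalChain s := by
  rintro ⟨T', hT', hall⟩
  have hTT : T' = ctop s := le_antisymm (le_ctop hT') (hall _ (ctop_mem h)).1
  obtain ⟨Q, hQ⟩ := hb
  rw [mem_bad] at hQ
  exact hQ.2 (hTT ▸ (hall Q hQ.1).2)

theorem le_qstar {s : Finset (Subgroup G)} {Q : Subgroup G} (hQ : Q ∈ bad s) : Q ≤ qstar s :=
  Finset.le_sup (f := id) hQ

theorem qstar_le_yy {s : Finset (Subgroup G)} : qstar s ≤ yy s := le_ncl _ _

theorem ctop_le_normalizer_yy {s : Finset (Subgroup G)} :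
    ctop s ≤ Subgroup.normalizer ((yy s : Subgroup G) : Set G) := le_normalizer_ncl _ _

section chain

variable {p : ℕ} {s : Finset (Subgroup G)} (h : IsPChain p s) (hn : ¬ IsNormalChain s)

include h hn

theorem qstar_mem_bad : qstar s ∈ bad s := by
  apply sup_mem_of_chain (bad_nonempty h hn)
  intro Q hQ R hR
  exact h.2.1 Q (mem_bad.mp hQ).1 R (mem_bad.mp hR).1

theorem qstar_mem : qstar s ∈ s := (mem_bad.mp (qstar_mem_bad h hn)).1

theorem qstar_not_normal :
    ¬ ctop s ≤ Subgroup.normalizer ((qstar s : Subgroup G) : Set G) :=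
  (mem_bad.mp (qstar_mem_bad h hn)).2

theorem yy_le_ctop : yy s ≤ ctop s := ncl_le_self (le_ctop (qstar_mem h hn))

theorem yy_ne_qstar : yy s ≠ qstar s := fun e =>
  qstar_not_normal h hn (e ▸ ctop_le_normalizer_yy)

theorem yy_ne_ctop [Finite G] [Fact p.Prime] : yy s ≠ ctop s := by
  apply ncl_ne_top (p := p)
  · exact (h.2.2 _ (ctop_mem h)).2
  · exact le_ctop (qstar_mem h hn)
  · intro e
    apply qstar_not_normal h hn
    rw [e]
    exact Subgroup.le_normalizer

theorem yy_comparable {Q : Subgroup G} (hQ : Q ∈ s) : Q ≤ yy s ∨ yy s ≤ Q := by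
  by_cases hb : Q ∈ bad s
  · left; exact (le_qstar hb).trans qstar_le_yy
  · rcases h.2.1 Q hQ (qstar s) (qstar_mem h hn) with h1 | h1
    · left; exact h1.trans qstar_le_yy
    · right
      apply ncl_le h1
      by_contra hc
      exact hb (mem_bad.mpr ⟨hQ, hc⟩)

theorem yy_ne_bot : yy s ≠ ⊥ := by
  intro e
  have h0 := qstar_le_yy (s := s)
  rw [e, le_bot_iff] at h0
  exact (h.2.2 _ (qstar_mem h hn)).1 h0

theorem yy_isPGroup : IsPGroup p (yy s) :=
  (h.2.2 _ (ctop_mem h)).2.to_le (yy_le_ctop h hn)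

end chain

/-- `s'` agrees with `s` away from `yy s`. -/
def Tw (s s' : Finset (Subgroup G)) : Prop := ∀ Q, Q ≠ yy s → (Q ∈ s' ↔ Q ∈ s)

section twin

variable [Finite G] {p : ℕ} [Fact p.Prime] {s s' : Finset (Subgroup G)} (h : IsPChain p s)
  (hn : ¬ IsNormalChain s) (ht : Tw s s')

include h hn ht

theorem tw_ctop_mem : ctop s ∈ s' := (ht _ (yy_ne_ctop h hn).symm).mpr (ctop_mem h)

theorem tw_qstar_mem : qstar s ∈ s' := (ht _ (yy_ne_qstar h hn).symm).mpr (qstar_mem h hn)

theorem tw_le_ctop {Q : Subgroup G} (hQ : Q ∈ s') : Q ≤ ctop s := by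
  by_cases e : Q = yy s
  · rw [e]; exact yy_le_ctop h hn
  · exact le_ctop ((ht Q e).mp hQ)

theorem tw_ctop : ctop s' = ctop s :=
  le_antisymm (Finset.sup_le (fun _ hQ => tw_le_ctop h hn ht hQ))
    (le_ctop (tw_ctop_mem h hn ht))

theorem tw_isPChain : IsPChain p s' := by
  refine ⟨⟨_, tw_ctop_mem h hn ht⟩, ?_, ?_⟩
  · intro Q hQ R hR
    by_cases eQ : Q = yy s
    · by_cases eR : R = yy s
      · left; rw [eQ, eR]
      · rw [eQ]; exact (yy_comparable h hn ((ht R eR).mp hR)).symm
    · by_cases eR : R = yy s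
      · rw [eR]; exact yy_comparable h hn ((ht Q eQ).mp hQ)
      · exact h.2.1 Q ((ht Q eQ).mp hQ) R ((ht R eR).mp hR)
  · intro Q hQ
    by_cases eQ : Q = yy s
    · rw [eQ]; exact ⟨yy_ne_bot h hn, yy_isPGroup h hn⟩
    · exact h.2.2 Q ((ht Q eQ).mp hQ)

theorem tw_bad : bad s' = bad s := by
  ext Q
  rw [mem_bad, mem_bad, tw_ctop h hn ht]
  by_cases eQ : Q = yy s
  · rw [eQ]
    constructor
    · intro hh; exact absurd ctop_le_normalizer_yy hh.2
    · intro hh; exact absurd ctop_le_normalizer_yy hh.2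
  · rw [ht Q eQ]

theorem tw_qstar : qstar s' = qstar s := by unfold qstar; rw [tw_bad h hn ht]

theorem tw_yy : yy s' = yy s := by unfold yy; rw [tw_ctop h hn ht, tw_qstar h hn ht]

theorem tw_not_normal : ¬ IsNormalChain s' := by
  apply not_normal_of_bad_nonempty (tw_isPChain h hn ht)
  rw [tw_bad h hn ht]; exact bad_nonempty h hn

theorem tw_symm : Tw s' s := by
  intro Q hQ
  rw [tw_yy h hn ht] at hQ
  exact (ht Q hQ).symm

theorem tw_chainNorm_le : chainNorm s' ≤ chainNorm s := by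
  intro g hg
  rw [mem_chainNorm_iff] at hg ⊢
  intro Q hQ
  by_cases eQ : Q = yy s
  · rw [eQ]
    exact mem_normalizer_ncl (hg _ (tw_ctop_mem h hn ht)) (hg _ (tw_qstar_mem h hn ht))
  · exact hg Q ((ht Q eQ).mpr hQ)

theorem tw_chainNorm : chainNorm s' = chainNorm s :=
  le_antisymm (tw_chainNorm_le h hn ht)
    (tw_chainNorm_le (tw_isPChain h hn ht) (tw_not_normal h hn ht) (tw_symm h hn ht))

end twin

theorem tw_tog (s : Finset (Subgroup G)) : Tw s (tog s) := by
  intro Q hQ
  unfold tog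
  split_ifs with hY
  · rw [Finset.mem_erase]; exact ⟨fun h => h.2, fun h => ⟨hQ, h⟩⟩
  · rw [Finset.mem_insert]; exact ⟨fun h => h.resolve_left hQ, fun h => Or.inr h⟩

theorem yy_mem_tog_iff (s : Finset (Subgroup G)) : yy s ∈ tog s ↔ yy s ∉ s := by
  unfold tog
  split_ifs with hY
  · simp [hY]
  · simp [hY]

theorem tog_ne (s : Finset (Subgroup G)) : tog s ≠ s := by
  intro e
  have h0 := yy_mem_tog_iff s
  rw [e] at h0
  exact iff_not_self h0

theorem tog_tog [Finite G] {p : ℕ} [Fact p.Prime] {s : Finset (Subgroup G)} (h : IsPChain p s)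
    (hn : ¬ IsNormalChain s) : tog (tog s) = s := by
  have hy : yy (tog s) = yy s := tw_yy h hn (tw_tog s)
  ext Q
  by_cases eQ : Q = yy s
  · rw [eQ]
    have h1 := yy_mem_tog_iff (tog s)
    rw [hy] at h1
    rw [h1, yy_mem_tog_iff s, not_not]
  · have h1 := tw_tog (tog s) Q (by rw [hy]; exact eQ)
    rw [h1, tw_tog s Q eQ]

theorem card_tog (s : Finset (Subgroup G)) :
    s.card = (tog s).card + 1 ∨ (tog s).card = s.card + 1 := by
  unfold tog
  split_ifs with hY
  · left
    rw [Finset.card_erase_of_mem hY]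
    have h0 := Finset.card_pos.mpr ⟨_, hY⟩
    omega
  · right; rw [Finset.card_insert_of_notMem hY]

theorem parity_aux (a b : ℕ) (ha : 1 ≤ a) (hb : 1 ≤ b) (h : a = b + 1 ∨ b = a + 1) :
    (-1 : ℤ) ^ (a - 1) + (-1 : ℤ) ^ (b - 1) = 0 := by
  rcases h with h | h
  · obtain ⟨c, rfl⟩ : ∃ c, b = c + 1 := ⟨b - 1, by omega⟩
    subst h
    simp only [Nat.add_sub_cancel]
    rw [pow_succ]; ring
  · obtain ⟨c, rfl⟩ : ∃ c, a = c + 1 := ⟨a - 1, by omega⟩
    subst h
    simp only [Nat.add_sub_cancel]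
    rw [pow_succ]; ring

end general

variable {G : Type u} [Group G] [Finite G] {p : ℕ} [hpp : Fact p.Prime] {M : Ideal AlgInt}

/-- (C1) the non-normal chains cancel. -/
theorem finsum_nonnormal_chains (Ψ : Subgroup G → ℤ) :
    ∑ᶠ s ∈ {s : Finset (Subgroup G) | IsPChain p s ∧ ¬ IsNormalChain s},
      (-1 : ℤ) ^ (s.card - 1) * Ψ (chainNorm s) = 0 := by
  have hfin : {s : Finset (Subgroup G) | IsPChain p s ∧ ¬ IsNormalChain s}.Finite :=
    Set.toFinite _
  rw [finsum_mem_eq_finite_toFinset_sum _ hfin]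
  apply Finset.sum_involution (fun s _ => tog s)
  · intro s hs
    rw [Set.Finite.mem_toFinset] at hs
    obtain ⟨h, hn⟩ := hs
    rw [tw_chainNorm h hn (tw_tog s), ← add_mul]
    have h1 : 1 ≤ s.card := Finset.card_pos.mpr h.1
    have h2 : 1 ≤ (tog s).card := Finset.card_pos.mpr (tw_isPChain h hn (tw_tog s)).1
    rw [parity_aux _ _ h1 h2 (card_tog s), zero_mul]
  · intro s _ _
    exact tog_ne s
  · intro s hs
    rw [Set.Finite.mem_toFinset] at hs ⊢
    exact ⟨tw_isPChain hs.1 hs.2 (tw_tog s), tw_not_normal hs.1 hs.2 (tw_tog s)⟩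
  · intro s hs
    rw [Set.Finite.mem_toFinset] at hs
    exact tog_tog hs.1 hs.2

end Cfsg.Agent.Lib.Helper5.KRC1
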