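import Cfsg.Agent.Lib.Helper5.UOGDefs
import Cfsg.Agent.Lib.Helper5.UOGDefs2
import Cfsg.Agent.Lib.Helper5.UOGDefs3
import Cfsg.Agent.Lib.Helper5.UOGEnd
import Cfsg.Agent.Lib.Helper11.UOGSL
import Cfsg.Agent.Lib.Helper22.UOGAllPt
import Cfsg.Agent.Lib.Helper23.UOGF4b
import Cfsg.Agent.Lib.Helper26.UOGX
import Cfsg.Agent.Lib.Helper28.UOGLwMain

/-!
helper5: S5681 / S5709 part (G) "GROWTH": final assembly.
`growthO'` : a subgroup `M` between the tensor subgroup and `Ω` of the model `QV G₁ G₂` that contains one of the three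
kinds of extra root elements (`HasS`, `HasL`, `HasLw`) contains `Ω`.
Leaves: helper10 (UOGT), helper11 (UOGSL), helper12 (UOGRE), helper22 (UOGC, UOGAllPt), helper23 (UOGF4b),
helper26 (UOGX), helper28 (UOGLwMain), helper5 (UOGBase, UOGEnd, UOGSpan).
-/

set_option autoImplicit false
set_option linter.unusedSectionVars false
set_option linter.unusedVariables false

namespace Cfsg.Agent.Lib.Helper5.UOGMain
open Matrix QuadraticMap Module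
open Cfsg.Agent.Lib.Helper25.Tens Cfsg.Agent.Lib.Helper2.SOT Cfsg.Agent.Lib.Helper7.OTT
  Cfsg.Agent.Lib.Helper25.CD Cfsg.Agent.Lib.Helper5.NSMax Cfsg.Agent.Lib.Helper5.PairMax
  Cfsg.Agent.Lib.Helper5.TSMax Cfsg.Agent.Lib.Helper5.NDMax Cfsg.Agent.Lib.Helper5.UOG
open scoped Kronecker

variable {F : Type*} [Field F] [Fintype F] {a b : ℕ} {G₁ : Matrix (Fin a) (Fin a) F}
  {G₂ : Matrix (Fin b) (Fin b) F} {M : Subgroup (GL (Idx a b) F)}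

/-- (F2) `P1` and `P2` everywhere give `Ω ≤ M`. -/
theorem omega_le_of_P (h : GCtx G₁ G₂ M) (h1 : ∀ x y, Sg G₁ x → Sg G₂ y → P1 G₁ G₂ M x y)
    (h2 : ∀ x y, Sg G₁ x → Sg G₂ y → P2 G₁ G₂ M x y) :
    Cfsg.Geo.omegaGL ⇑(QV G₁ G₂) ≤ M :=
  Cfsg.Agent.Lib.Helper5.UOGLeaf.omega_le_of_all h
    (Cfsg.Agent.Lib.Helper22.UOGLeaf.inA_all_pt h h1 h2)

/-- PART (G): growth, with the three exits (S), (L+), (Lw). -/
theorem growthO' (h : GCtx G₁ G₂ M) (hr : HasS G₁ G₂ M ∨ HasL G₁ G₂ M ∨ HasLw G₁ G₂ M) :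
    Cfsg.Geo.omegaGL ⇑(QV G₁ G₂) ≤ M := by
  have hP2 : ∀ x y, Sg G₁ x → Sg G₂ y → P2 G₁ G₂ M x y := by
    rcases hr with hS | hL | hLw
    · obtain ⟨x₀, y₀, hx₀, hy₀, h0⟩ := Cfsg.Agent.Lib.Helper11.UOGLeaf.P1'_of_hasS h hS
      exact Cfsg.Agent.Lib.Helper23.UOGLeaf.P2_of_P1' h
        (Cfsg.Agent.Lib.Helper26.UOGLeaf.P1'_all h hx₀ hy₀ h0)
    · obtain ⟨x₀, y₀, hx₀, hy₀, h0⟩ := Cfsg.Agent.Lib.Helper11.UOGLeaf.P2_of_hasL h hL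
      exact Cfsg.Agent.Lib.Helper26.UOGLeaf.P2_all h hx₀ hy₀ h0
    · obtain ⟨x₀, y₀, hx₀, hy₀, h0⟩ := Cfsg.Agent.Lib.Helper28.UOGLeaf.P1'_of_hasLw h hLw
      exact Cfsg.Agent.Lib.Helper23.UOGLeaf.P2_of_P1' h
        (Cfsg.Agent.Lib.Helper26.UOGLeaf.P1'_all h hx₀ hy₀ h0)
  exact omega_le_of_P h (Cfsg.Agent.Lib.Helper23.UOGLeaf.P1_of_P2 h hP2) hP2

/-- PART (G): growth, two exits. -/
theorem growthO (h : GCtx G₁ G₂ M) (hr : HasS G₁ G₂ M ∨ HasL G₁ G₂ M) :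
    Cfsg.Geo.omegaGL ⇑(QV G₁ G₂) ≤ M :=
  growthO' h (hr.elim Or.inl (fun hL => Or.inr (Or.inl hL)))

end Cfsg.Agent.Lib.Helper5.UOGMain
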