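import Mathlib
import Cfsg.Agent.Lib.Helper26.HTDefs

/-! Helper5: HT market (S3371), leaf HT-CARDV (`card_V_eq`). -/

set_option autoImplicit false

namespace Cfsg.Agent.Lib.Helper5.HTCARDV

open Subgroup
open Cfsg.Agent.Lib.Helper26.HT

variable {q : ℕ} [Fact q.Prime] {V : Type*} [AddCommGroup V] [Module (ZMod q) V]
  {G : Type*} [Group G]

/-- **HT-CARDV** `|V| = |W 0|^2`. -/
theorem card_V_eq [Finite V] (ρ : G →* (V ≃ₗ[ZMod q] V))
    (H : Subgroup G) (W : Fin 2 → Submodule (ZMod q) V) (h : Imp2 ρ H W) :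
    Nat.card V = Nat.card (W 0) ^ 2 := by
  have hd : Disjoint (W 0) (W 1) := h.indep.pairwiseDisjoint (by decide : (0 : Fin 2) ≠ 1)
  have hc : Codisjoint (W 0) (W 1) := by
    rw [codisjoint_iff, eq_top_iff, ← h.sup]
    refine iSup_le (fun i => ?_)
    fin_cases i
    · exact le_sup_left
    · exact le_sup_right
  have hcompl : IsCompl (W 0) (W 1) := ⟨hd, hc⟩
  have e1 : Nat.card V = Nat.card (W 0) * Nat.card (W 1) := by
    rw [← Nat.card_prod]
    exact (Nat.card_congr (Submodule.prodEquivOfIsCompl (W 0) (W 1) hcompl).toEquiv).symm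
  obtain ⟨t, ht⟩ := h.exists_not_mem
  obtain ⟨σ, hσ, hmap⟩ := h.swap t ht
  obtain ⟨h0, _⟩ := Imp2.perm_two σ hσ
  have hm := hmap 0
  rw [h0] at hm
  have e2 : Nat.card (W 1) = Nat.card (W 0) := by
    rw [← hm]
    exact (Nat.card_congr ((ρ t).submoduleMap (W 0)).toEquiv).symm
  rw [e1, e2, sq]

end Cfsg.Agent.Lib.Helper5.HTCARDV
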