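import Mathlib
import Cfsg.Agent.Lib.Helper26.HTDefs

/-! Helper5: HT market (S3371), leaf HT-MIX (`mixed_fixed`): every mixed vector `w0 + w1` is fixed
by an element outside `H`. -/

set_option autoImplicit false

namespace Cfsg.Agent.Lib.Helper5.HTMIX

open Subgroup
open Cfsg.Agent.Lib.Helper26.HT

variable {q : ℕ} [Fact q.Prime] {V : Type*} [AddCommGroup V] [Module (ZMod q) V]
  {G : Type*} [Group G]

/-- the vectors of `W0` fixed by all `k` satisfying `P`. -/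
def fixC (ρ : G →* (V ≃ₗ[ZMod q] V)) (W0 : Submodule (ZMod q) V) (P : G → Prop) :
    Submodule (ZMod q) V where
  carrier := {w | w ∈ W0 ∧ ∀ k, P k → ρ k w = w}
  add_mem' := by
    rintro a b ⟨ha, ha'⟩ ⟨hb, hb'⟩
    exact ⟨W0.add_mem ha hb, fun k hk => by rw [map_add, ha' k hk, hb' k hk]⟩
  zero_mem' := ⟨W0.zero_mem, fun k _ => map_zero _⟩
  smul_mem' := by
    rintro c a ⟨ha, ha'⟩
    exact ⟨W0.smul_mem c ha, fun k hk => by rw [map_smul, ha' k hk]⟩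

theorem mem_fixC (ρ : G →* (V ≃ₗ[ZMod q] V)) (W0 : Submodule (ZMod q) V) (P : G → Prop) (w : V) :
    w ∈ fixC ρ W0 P ↔ w ∈ W0 ∧ ∀ k, P k → ρ k w = w := Iff.rfl

/-- if `C` is `H`-invariant, `H` is normal of index 2 and `t ∉ H`, then `C ⊔ ρ t C` is
`G`-invariant. -/
theorem sup_map_invariant (ρ : G →* (V ≃ₗ[ZMod q] V)) {H : Subgroup G} (hidx : H.index = 2)
    (C : Submodule (ZMod q) V) (hC : ∀ g ∈ H, ∀ c ∈ C, ρ g c ∈ C) {t : G} (ht : t ∉ H) :
    ∀ g : G, ∀ v ∈ C ⊔ C.map (ρ t : V →ₗ[ZMod q] V), ρ g v ∈ C ⊔ C.map (ρ t : V →ₗ[ZMod q] V) := by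
  have hn : H.Normal := Subgroup.normal_of_index_eq_two hidx
  have hmul : ∀ {a b : G}, a ∉ H → b ∉ H → a * b ∈ H := by
    intro a b ha hb
    by_contra hab
    have := (Subgroup.mul_mem_iff_of_index_two hidx).not.mp hab
    tauto
  have hti : t⁻¹ ∉ H := fun h' => ht (by simpa using H.inv_mem h')
  intro g v hv
  obtain ⟨c, hc, d, hd, rfl⟩ := Submodule.mem_sup.mp hv
  obtain ⟨c', hc', rfl⟩ := (Submodule.mem_map).mp hd
  rw [map_add]
  by_cases hg : g ∈ H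
  · apply Submodule.add_mem
    · exact Submodule.mem_sup_left (hC g hg c hc)
    · apply Submodule.mem_sup_right
      have hconj : t⁻¹ * g * t ∈ H := by
        have := hn.conj_mem g hg t⁻¹
        rwa [inv_inv] at this
      refine Submodule.mem_map.mpr ⟨ρ (t⁻¹ * g * t) c', hC _ hconj c' hc', ?_⟩
      show ρ t (ρ (t⁻¹ * g * t) c') = ρ g (ρ t c')
      rw [← mul_apply', ← mul_apply']
      congr 2
      group
  · apply Submodule.add_mem
    · apply Submodule.mem_sup_right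
      refine Submodule.mem_map.mpr ⟨ρ (t⁻¹ * g) c, hC _ (hmul hti hg) c hc, ?_⟩
      show ρ t (ρ (t⁻¹ * g) c) = ρ g c
      rw [← mul_apply']
      congr 2
      group
    · apply Submodule.mem_sup_left
      have : ρ g (ρ t c') = ρ (g * t) c' := (mul_apply' ρ g t c').symm
      show ρ g (ρ t c') ∈ C
      rw [this]
      exact hC _ (hmul hg ht) c' hc'

/-- **HT-MIX** every "mixed" vector is fixed by some element outside `H`. -/
theorem mixed_fixed [Finite V] [Finite G] (ρ : G →* (V ≃ₗ[ZMod q] V))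
    (hρ : Function.Injective ρ) (hT : HalfT ρ)
    (hirr : ∀ W : Submodule (ZMod q) V, (∀ g : G, ∀ w ∈ W, ρ g w ∈ W) → W = ⊥ ∨ W = ⊤)
    (H : Subgroup G) (W : Fin 2 → Submodule (ZMod q) V) (h : Imp2 ρ H W) :
    ∀ w0 ∈ W 0, ∀ w1 ∈ W 1, w0 ≠ 0 → w1 ≠ 0 →
      ∃ g : G, g ∉ H ∧ ρ g (w0 + w1) = w0 + w1 := by
  intro w0 hw0 w1 hw1 hw00 hw10
  by_contra hcon
  push Not at hcon
  -- `stab (w0 + w1) ≤ H`
  have hSH : ∀ g, ρ g (w0 + w1) = w0 + w1 → g ∈ H := by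
    intro g hg
    by_contra hgH
    exact hcon g hgH hg
  -- `stab (w0 + w1) ≤ stab w0 ⊓ stab w1`
  have hle : stab ρ (w0 + w1) ≤ stab ρ w0 ⊓ stab ρ w1 := by
    intro g hg
    have hg' : ρ g (w0 + w1) = w0 + w1 := hg
    have hgH := hSH g hg'
    rw [map_add] at hg'
    obtain ⟨e0, e1⟩ := h.uniq (h.inv g hgH 0 w0 hw0) (h.inv g hgH 1 w1 hw1) hw0 hw1 hg'
    exact ⟨e0, e1⟩
  have hne : w0 + w1 ≠ 0 := by
    intro h0
    have h1 : w0 = -w1 := eq_neg_of_add_eq_zero_left h0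
    have h2 : w0 ∈ W 1 := by rw [h1]; exact (W 1).neg_mem hw1
    exact hw00 (h.disj hw0 h2)
  have e1 : stab ρ (w0 + w1) = stab ρ w1 :=
    Subgroup.eq_of_le_of_card_ge (hle.trans inf_le_right) (hT _ _ hne hw10).symm.le
  have h10 : stab ρ w1 ≤ stab ρ w0 := by
    rw [← e1]; exact hle.trans inf_le_left
  -- the kernel of `H` on `W 1`
  set P : G → Prop := fun k => k ∈ H ∧ ∀ w ∈ W 1, ρ k w = w with hP
  have hPconj : ∀ g ∈ H, ∀ k, P k → P (g⁻¹ * k * g) := by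
    intro g hg k hk
    refine ⟨H.mul_mem (H.mul_mem (H.inv_mem hg) hk.1) hg, fun w hw => ?_⟩
    rw [mul_apply', mul_apply', hk.2 _ (h.inv g hg 1 w hw), inv_apply_apply]
  have hPw0 : ∀ k, P k → ρ k w0 = w0 := by
    intro k hk
    have : k ∈ stab ρ w1 := hk.2 w1 hw1
    exact h10 this
  -- the fixed space `C`
  set C := fixC ρ (W 0) P with hCdef
  have hw0C : w0 ∈ C := ⟨hw0, hPw0⟩
  have hCinv : ∀ g ∈ H, ∀ c ∈ C, ρ g c ∈ C := by
    intro g hg c hc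
    refine ⟨h.inv g hg 0 c hc.1, fun k hk => ?_⟩
    have := hc.2 _ (hPconj g hg k hk)
    -- ρ (g⁻¹ k g) c = c  ⟹  ρ k (ρ g c) = ρ g c
    rw [mul_apply', mul_apply'] at this
    have h2 := congrArg (ρ g) this
    rw [apply_inv_apply] at h2
    exact h2
  obtain ⟨t, ht⟩ := h.exists_not_mem
  have hDinv := sup_map_invariant ρ h.index C hCinv ht
  have hDtop : C ⊔ C.map (ρ t : V →ₗ[ZMod q] V) = ⊤ := by
    rcases hirr _ hDinv with hb | htop
    · exfalso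
      have : w0 ∈ C ⊔ C.map (ρ t : V →ₗ[ZMod q] V) := Submodule.mem_sup_left hw0C
      rw [hb, Submodule.mem_bot] at this
      exact hw00 this
    · exact htop
  -- `C = W 0`
  have hCW : ∀ w ∈ W 0, w ∈ C := by
    intro w hw
    have hwD : w ∈ C ⊔ C.map (ρ t : V →ₗ[ZMod q] V) := by rw [hDtop]; exact Submodule.mem_top
    obtain ⟨c, hc, d, hd, hsum⟩ := Submodule.mem_sup.mp hwD
    obtain ⟨c', hc', rfl⟩ := (Submodule.mem_map).mp hd
    have hd1 : ρ t c' ∈ W 1 := (h.map_mem ht).1 c' hc'.1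
    have he : c + ρ t c' = w + 0 := by rw [add_zero]; exact hsum
    obtain ⟨e0, _⟩ := h.uniq hc.1 hd1 hw (W 1).zero_mem he
    rw [← e0]; exact hc
  -- the kernel is trivial: contradiction with `h.ker 1`
  obtain ⟨k, hkH, hk1, hkW⟩ := h.ker 1
  apply hk1
  apply hρ
  rw [map_one]
  apply LinearEquiv.ext
  intro v
  obtain ⟨a0, ha0, a1, ha1, rfl⟩ := h.decomp v
  have hPk : P k := ⟨hkH, hkW⟩
  rw [map_add, (hCW a0 ha0).2 k hPk, hkW a1 ha1]
  rfl

end Cfsg.Agent.Lib.Helper5.HTMIX
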