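import Mathlib
import Cfsg.Agent.Lib.Helper26.HTDefs

/-! Helper5: HT market (S3371), leaf HT-TRANS (`trans_W0`). -/

set_option autoImplicit false

namespace Cfsg.Agent.Lib.Helper5.HTTRANS

open Subgroup
open Cfsg.Agent.Lib.Helper26.HT

variable {q : ℕ} [Fact q.Prime] {V : Type*} [AddCommGroup V] [Module (ZMod q) V]
  {G : Type*} [Group G]

/-- **HT-TRANS** `H` is transitive on the nonzero vectors of `W 0`. -/
theorem trans_W0 (ρ : G →* (V ≃ₗ[ZMod q] V))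
    (H : Subgroup G) (W : Fin 2 → Submodule (ZMod q) V) (h : Imp2 ρ H W)
    (hmix : ∀ w0 ∈ W 0, ∀ w1 ∈ W 1, w0 ≠ 0 → w1 ≠ 0 →
      ∃ g : G, g ∉ H ∧ ρ g (w0 + w1) = w0 + w1) :
    ∀ w ∈ W 0, ∀ w' ∈ W 0, w ≠ 0 → w' ≠ 0 → ∃ g ∈ H, ρ g w = w' := by
  intro w hw w' hw' hw0 hw'0
  obtain ⟨t, ht⟩ := h.exists_not_mem
  have hti : t⁻¹ ∉ H := Imp2.inv_not_mem ht
  have hw1 : ρ t⁻¹ w' ∈ W 1 := (h.map_mem hti).1 w' hw'
  have hw10 : ρ t⁻¹ w' ≠ 0 := by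
    intro h0
    apply hw'0
    have := apply_inv_apply ρ t w'
    rw [h0, map_zero] at this
    exact this.symm
  obtain ⟨g, hg, hfix⟩ := hmix w hw (ρ t⁻¹ w') hw1 hw0 hw10
  rw [map_add] at hfix
  have hgw : ρ g w ∈ W 1 := (h.map_mem hg).1 w hw
  have hgw1 : ρ g (ρ t⁻¹ w') ∈ W 0 := (h.map_mem hg).2 _ hw1
  have he : ρ g (ρ t⁻¹ w') + ρ g w = w + ρ t⁻¹ w' := by rw [add_comm]; exact hfix
  obtain ⟨_, h2⟩ := h.uniq hgw1 hgw hw hw1 he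
  refine ⟨t * g, h.mul_mem_of_not_mem ht hg, ?_⟩
  rw [mul_apply', h2, apply_inv_apply]

end Cfsg.Agent.Lib.Helper5.HTTRANS
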