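/-
helper5: S4017 market (planner helper26), leaf MIX-BSW in `_of` form.
`bsw_data_core`: the hypotheses of `Cfsg.Agent.S3282.result` for `K = T <t>`, `s ∈ Q \ <t>`, from the four facts
about `T = θ t` that the other leaves provide (CORELE, STRUCT, INV, TI), stated for an arbitrary subgroup `T`.
-/
import Mathlib
import Cfsg.Prelude.Def_Local
import Cfsg.Agent.Lib.Helper26.MixDefs
import Cfsg.Agent.S3282

set_option autoImplicit false

namespace Cfsg.Agent.Lib.Helper5.MIXBSWOf

open Cfsg Cfsg.Agent.Lib.Helper26.Mix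
open scoped Pointwise

universe u

variable {G : Type u} [Group G] [Finite G]

omit [Finite G] in
theorem mem_zpowers_of_sq {t x : G} (htt : t * t = 1) (hx : x ∈ Subgroup.zpowers t) :
    x = 1 ∨ x = t := by
  obtain ⟨k, rfl⟩ := Subgroup.mem_zpowers_iff.mp hx
  rcases Int.emod_two_eq_zero_or_one k with h | h
  · left
    have hk : k = 2 * (k / 2) := by omega
    rw [hk, zpow_mul, zpow_two, htt, one_zpow]
  · right
    have hk : k = 2 * (k / 2) + 1 := by omega
    rw [hk, zpow_add, zpow_mul, zpow_two, htt, one_zpow, one_mul, zpow_one]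

/-- every involution is conjugate into a Sylow 2-subgroup `Q` -/
theorem conj_into {a : ℕ} (Q : Subgroup G) (hQcard : Nat.card Q = 2 ^ a)
    (hQsyl : (Nat.card G).factorization 2 = a) (x : G) (hx : orderOf x = 2) :
    ∃ k : G, k * x * k⁻¹ ∈ Q ∧ k * x * k⁻¹ ≠ 1 := by
  have : Fact (Nat.Prime 2) := ⟨Nat.prime_two⟩
  let P : Sylow 2 G := Sylow.ofCard Q (by rw [hQcard, hQsyl])
  have hPQ : (P : Subgroup G) = Q := rfl
  have hzp : IsPGroup 2 (Subgroup.zpowers x) := by
    apply IsPGroup.of_card (n := 1)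
    rw [Nat.card_zpowers, hx, pow_one]
  obtain ⟨P', hP'⟩ := hzp.exists_le_sylow
  obtain ⟨k, hk⟩ := MulAction.exists_smul_eq G P' P
  refine ⟨k, ?_, ?_⟩
  · have h1 : x ∈ (P' : Subgroup G) := hP' (Subgroup.mem_zpowers x)
    have h2 : MulAut.conj k • x ∈ MulAut.conj k • (P' : Subgroup G) :=
      Subgroup.smul_mem_pointwise_smul _ _ _ h1
    rw [← Sylow.coe_subgroup_smul, hk, hPQ] at h2
    simpa [MulAut.smul_def] using h2
  · intro h
    have : x = 1 := by
      have h3 : k⁻¹ * (k * x * k⁻¹) * k = x := by group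
      rw [h] at h3
      rw [← h3]
      group
    rw [this, orderOf_one] at hx
    omega

theorem bsw_data_core {p a : ℕ} {Q : Subgroup G} {g : G} (c : Ctx G p a Q g) (ha2 : a = 2)
    (t : G) (ht : t ∈ Q) (ht1 : t ≠ 1) (T : Subgroup G)
    (hTle : T ≤ Subgroup.centralizer ({t} : Set G))
    (hTodd : Odd (Nat.card ↥T))
    (hTp : IsPGroup p ↥T)
    (hfact : ∀ x ∈ Subgroup.centralizer ({t} : Set G), ∃ w ∈ T, ∃ u ∈ Q, x = w * u)
    (hinvs : ∀ s ∈ Q, s ≠ 1 → s ≠ t → ∀ w ∈ T, s * w * s⁻¹ = w⁻¹)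
    (hTI : ∀ x : G, x ∉ Subgroup.centralizer ({t} : Set G) →
      (T ⊔ Subgroup.zpowers t) ⊓
        (T ⊔ Subgroup.zpowers t).map (MulAut.conj x).toMonoidHom = ⊥) :
    ∃ Q1 D : Subgroup G,
      2 * Nat.card G = Nat.card ↥Q1 * (Nat.card ↥Q1 + 1) * (Nat.card ↥Q1 - 1) ∧
      (∀ x ∈ Q1, x ≠ 1 → Subgroup.centralizer ({x} : Set G) = Q1) ∧
      IsMulCommutative ↥D ∧ 2 * Nat.card ↥D + 1 = Nat.card ↥Q1 ∧ Q1 ⊓ D = ⊥ ∧
      Subgroup.normalizer (Q1 : Set G) = Q1 ⊔ D ∧
      ∀ X : Subgroup G, X ≤ D → X ≠ ⊥ →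
        Subgroup.normalizer (X : Set G) = Subgroup.normalizer (D : Set G) ∧
        ∃ u : G, orderOf u = 2 ∧ u ∉ D ∧ (∀ d ∈ D, u * d * u⁻¹ = d⁻¹) ∧
          Subgroup.normalizer (D : Set G) = D ⊔ Subgroup.zpowers u := by
  classical
  have : Fact (Nat.Prime 2) := ⟨Nat.prime_two⟩
  have hQ4 : Nat.card Q = 4 := by rw [c.hQcard, ha2]; norm_num
  have htt : t * t = 1 := c.hQexp t ht
  have hot : orderOf t = 2 := orderOf_eq_prime (by rw [pow_two]; exact htt) ht1
  have htinv : t⁻¹ = t := inv_eq_of_mul_eq_one_left htt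
  -- t commutes with T
  have htT : ∀ w ∈ T, t * w = w * t := by
    intro w hw
    exact (Subgroup.mem_centralizer_iff.mp (hTle hw)) t rfl
  -- a second involution
  obtain ⟨s, hs, hs1, hst⟩ : ∃ s ∈ Q, s ≠ 1 ∧ s ≠ t := by
    by_contra hcon
    push Not at hcon
    have hsub : (Q : Set G) ⊆ {1, t} := by
      intro x hx
      by_cases hx1 : x = 1
      · left; exact hx1
      · right; exact hcon x hx hx1
    have h1 : (Q : Set G).ncard ≤ ({1, t} : Set G).ncard :=
      Set.ncard_le_ncard hsub (Set.toFinite _)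
    have h2 : ({1, t} : Set G).ncard ≤ 2 := by
      have := Set.ncard_insert_le (1 : G) ({t} : Set G)
      rw [Set.ncard_singleton] at this
      exact this
    have h3 : Nat.card Q = (Q : Set G).ncard := rfl
    omega
  have hss : s * s = 1 := c.hQexp s hs
  have hos : orderOf s = 2 := orderOf_eq_prime (by rw [pow_two]; exact hss) hs1
  have hsinv : s⁻¹ = s := inv_eq_of_mul_eq_one_left hss
  have hst_comm : s * t = t * s := c.hQab s hs t ht
  -- Q = <t><s>
  have hQle : Q ≤ Subgroup.zpowers t ⊔ Subgroup.zpowers s := by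
    have hle : Subgroup.zpowers t ⊔ Subgroup.zpowers s ≤ Q :=
      sup_le (Subgroup.zpowers_le.mpr ht) (Subgroup.zpowers_le.mpr hs)
    have hdvd : Nat.card ↥(Subgroup.zpowers t ⊔ Subgroup.zpowers s) ∣ 4 := by
      rw [← hQ4]; exact Subgroup.card_dvd_of_le hle
    have h2dvd : 2 ∣ Nat.card ↥(Subgroup.zpowers t ⊔ Subgroup.zpowers s) := by
      have := Subgroup.card_dvd_of_le (le_sup_left : Subgroup.zpowers t ≤ Subgroup.zpowers t ⊔ Subgroup.zpowers s)
      rwa [Nat.card_zpowers, hot] at this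
    have hne2 : Nat.card ↥(Subgroup.zpowers t ⊔ Subgroup.zpowers s) ≠ 2 := by
      intro h2
      have heq : Subgroup.zpowers t = Subgroup.zpowers t ⊔ Subgroup.zpowers s :=
        Subgroup.eq_of_le_of_card_ge le_sup_left (by rw [Nat.card_zpowers, hot, h2])
      have hsin : s ∈ Subgroup.zpowers t := by
        rw [heq]; exact Subgroup.mem_sup_right (Subgroup.mem_zpowers s)
      rcases mem_zpowers_of_sq htt hsin with h | h
      · exact hs1 h
      · exact hst h
    have h4 : Nat.card ↥(Subgroup.zpowers t ⊔ Subgroup.zpowers s) = 4 := by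
      have hle4 := Nat.le_of_dvd (by norm_num) hdvd
      interval_cases (Nat.card ↥(Subgroup.zpowers t ⊔ Subgroup.zpowers s)) <;> omega
    have := Subgroup.eq_of_le_of_card_ge hle (by rw [h4, hQ4])
    rw [this]
  -- K
  set K : Subgroup G := T ⊔ Subgroup.zpowers t with hKdef
  have hTK : T ≤ K := le_sup_left
  have htK : t ∈ K := Subgroup.mem_sup_right (Subgroup.mem_zpowers t)
  have hKab : IsMulCommutative ↥K := by
    have hcomm : ∀ x ∈ ((T : Set G) ∪ {t}), ∀ y ∈ ((T : Set G) ∪ {t}), x * y = y * x := by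
      intro x hx y hy
      rcases hx with hx | hx <;> rcases hy with hy | hy
      · exact c.hab T hTp x hx y hy
      · rw [Set.mem_singleton_iff] at hy; subst hy; exact (htT x hx).symm
      · rw [Set.mem_singleton_iff] at hx; subst hx; exact htT y hy
      · rw [Set.mem_singleton_iff] at hx hy; subst hx; subst hy; rfl
    have h := Subgroup.isMulCommutative_closure hcomm
    rwa [Subgroup.closure_union, Subgroup.closure_eq, ← Subgroup.zpowers_eq_closure] at h
  have hKH : K ≤ Subgroup.centralizer ({t} : Set G) := by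
    refine sup_le hTle (Subgroup.zpowers_le.mpr ?_)
    rw [Subgroup.mem_centralizer_iff]
    intro h hh
    rw [Set.mem_singleton_iff] at hh
    subst hh
    rfl
  -- decomposition of K
  have hKmem : ∀ x ∈ K, ∃ w ∈ T, (x = w ∨ x = w * t) := by
    intro x hx
    have hLE : Subgroup.zpowers t ≤ Subgroup.normalizer (T : Set G) := by
      refine le_trans ?_ (Subgroup.centralizer_le_normalizer (T : Set G))
      rw [Subgroup.zpowers_le, Subgroup.mem_centralizer_iff]
      intro w hw
      exact (htT w hw).symm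
    have hcoe := Subgroup.coe_mul_of_right_le_normalizer_left T (Subgroup.zpowers t) hLE
    have hx' : x ∈ ((T ⊔ Subgroup.zpowers t : Subgroup G) : Set G) := hx
    rw [hcoe] at hx'
    obtain ⟨w, hw, z, hz, rfl⟩ := Set.mem_mul.mp hx'
    refine ⟨w, hw, ?_⟩
    rcases mem_zpowers_of_sq htt hz with h | h
    · left; rw [h, mul_one]
    · right; rw [h]
  -- odd order
  have hodd1 : ∀ w ∈ T, w * w = 1 → w = 1 := by
    intro w hw hww
    have h2 : orderOf w ∣ 2 := orderOf_dvd_of_pow_eq_one (by rw [pow_two]; exact hww)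
    have hT : orderOf w ∣ Nat.card ↥T := Subgroup.orderOf_dvd_natCard T hw
    have hcop : Nat.gcd 2 (Nat.card ↥T) = 1 := Nat.coprime_two_left.mpr hTodd
    have := Nat.dvd_gcd h2 hT
    rw [hcop] at this
    exact orderOf_eq_one_iff.mp (Nat.dvd_one.mp this)
  have hsK : s ∉ K := by
    intro hsK
    obtain ⟨w, hw, h | h⟩ := hKmem s hsK
    · have : w = 1 := hodd1 w hw (by rw [← h]; exact hss)
      exact hs1 (by rw [h, this])
    · have hwQ : w ∈ Q := by
        have : w = s * t := by rw [h, mul_assoc, htt, mul_one]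
        rw [this]; exact Q.mul_mem hs ht
      have : w = 1 := hodd1 w hw (c.hQexp w hwQ)
      exact hst (by rw [h, this, one_mul])
  have hsH : s ∈ Subgroup.centralizer ({t} : Set G) := by
    rw [Subgroup.mem_centralizer_iff]
    intro h hh
    rw [Set.mem_singleton_iff] at hh
    subst hh
    exact hst_comm.symm
  have hH : K ⊔ Subgroup.zpowers s = Subgroup.centralizer ({t} : Set G) := by
    apply le_antisymm
    · exact sup_le hKH (Subgroup.zpowers_le.mpr hsH)
    · intro x hx
      obtain ⟨w, hw, u, hu, rfl⟩ := hfact x hx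
      refine Subgroup.mul_mem _ (Subgroup.mem_sup_left (hTK hw)) ?_
      have h1 : Subgroup.zpowers t ⊔ Subgroup.zpowers s ≤ K ⊔ Subgroup.zpowers s :=
        sup_le_sup_right (le_sup_right : Subgroup.zpowers t ≤ K) _
      exact h1 (hQle hu)
  have hinv : ∀ x ∈ K, s * x * s⁻¹ = x⁻¹ := by
    intro x hx
    obtain ⟨w, hw, h | h⟩ := hKmem x hx
    · rw [h]; exact hinvs s hs hs1 hst w hw
    · rw [h]
      have h1 : s * w * s⁻¹ = w⁻¹ := hinvs s hs hs1 hst w hw
      have h2 : s * t * s⁻¹ = t := by rw [hst_comm, mul_assoc, mul_inv_cancel, mul_one]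
      have h3 : t * w⁻¹ = w⁻¹ * t := htT w⁻¹ (T.inv_mem hw)
      calc s * (w * t) * s⁻¹ = (s * w * s⁻¹) * (s * t * s⁻¹) := by group
        _ = w⁻¹ * t := by rw [h1, h2]
        _ = t * w⁻¹ := h3.symm
        _ = (w * t)⁻¹ := by rw [mul_inv_rev, htinv]
  have hCK : K ⊓ Subgroup.centralizer ({s} : Set G) = Subgroup.zpowers t := by
    apply le_antisymm
    · intro x hx
      obtain ⟨hxK, hxs⟩ := Subgroup.mem_inf.mp hx
      have hsx : s * x = x * s := (Subgroup.mem_centralizer_iff.mp hxs) s rfl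
      have hxx : x * x = 1 := by
        have h1 := hinv x hxK
        have h2 : s * x * s⁻¹ = x := by rw [hsx, mul_assoc, mul_inv_cancel, mul_one]
        rw [h2] at h1
        calc x * x = x * x⁻¹ := by rw [← h1]
          _ = 1 := mul_inv_cancel x
      obtain ⟨w, hw, h | h⟩ := hKmem x hxK
      · have : w = 1 := hodd1 w hw (by rw [← h]; exact hxx)
        rw [h, this]; exact Subgroup.one_mem _
      · have hww : w * w = 1 := by
          have h1 : x * x = w * w * (t * t) := by
            rw [h]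
            calc w * t * (w * t) = w * (t * w) * t := by group
              _ = w * (w * t) * t := by rw [htT w hw]
              _ = w * w * (t * t) := by group
          rw [hxx, htt, mul_one] at h1
          exact h1.symm
        have : w = 1 := hodd1 w hw hww
        rw [h, this, one_mul]; exact Subgroup.mem_zpowers t
    · intro x hx
      refine Subgroup.mem_inf.mpr ⟨(le_sup_right : Subgroup.zpowers t ≤ K) hx, ?_⟩
      have hts : t ∈ Subgroup.centralizer ({s} : Set G) := by
        rw [Subgroup.mem_centralizer_iff]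
        intro h hh
        rw [Set.mem_singleton_iff] at hh
        subst hh
        exact hst_comm
      exact (Subgroup.zpowers_le.mpr hts) hx
  have hconj : ∀ x y : G, orderOf x = 2 → orderOf y = 2 → IsConj x y := by
    intro x y hx hy
    obtain ⟨k, hkQ, hk1⟩ := conj_into Q c.hQcard c.hQsyl x hx
    obtain ⟨m, hmQ, hm1⟩ := conj_into Q c.hQcard c.hQsyl y hy
    obtain ⟨i, hi⟩ := c.htrans _ hkQ hk1 _ hmQ hm1
    rw [isConj_iff]
    refine ⟨m⁻¹ * g ^ i * k, ?_⟩
    calc m⁻¹ * g ^ i * k * x * (m⁻¹ * g ^ i * k)⁻¹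
        = m⁻¹ * (g ^ i * (k * x * k⁻¹) * (g ^ i)⁻¹) * m := by group
      _ = m⁻¹ * (m * y * m⁻¹) * m := by rw [hi]
      _ = y := by group
  exact Cfsg.Agent.S3282.result t hot K hKab hKH htK s hos hsH hsK hH hCK hinv hTI hconj

end Cfsg.Agent.Lib.Helper5.MIXBSWOf
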