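/-
helper5 (S2344, leaf ST5 `exists_xi_of` of helper26's plan `notes/S2344_leaves.lean`, same name and
binders): the vector `ξ = Σ_t ρ (levi (transvection i₀ b t)) m` for a GIVEN `0 ≠ m ∈ wt (V0 i₀ a b 0)`.
-/
import Mathlib
import Cfsg.Agent.Lib.Helper26.OOMinDefs
import Cfsg.Agent.Lib.Helper26.OOMinStageDefs
import Cfsg.Agent.Lib.Helper5.OPMinS4

set_option autoImplicit false
set_option linter.unusedSectionVars false
set_option linter.unusedVariables false

namespace Cfsg.Agent.Lib.Helper5.OOMin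

open Matrix Module Cfsg.Agent.Lib.Helper27.OPMin Cfsg.Agent.Lib.Helper16.SLMin
  Cfsg.Agent.Lib.Helper15.OrbitBound Cfsg.Agent.Lib.Helper13.SLMinWt Cfsg.Agent.Lib.Helper13.SLMin
  Cfsg.Agent.Lib.Helper24.OPMin Cfsg.Agent.Lib.Helper5.OPMin Cfsg.Agent.Lib.Helper26.OOMin

section ST

variable {F : Type*} [Field F] [Fintype F] [DecidableEq F] {n : ℕ} {H : Type*} [Group H]
  {M : Type*} [AddCommGroup M] [Module ℂ M] [FiniteDimensional ℂ M]
  (D : SiegelB F n H) (ρ : Representation ℂ H M)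

/-- ST5: helper5's `exists_xi` for a GIVEN vector `m` (abstract `Siegel`; copy of `Helper5/OPMinS4.lean`). -/
theorem exists_xi_of (E : Siegel F n H) (i₀ a b : Fin n) (hab : a ≠ b) (hi₀a : i₀ ≠ a)
    (hi₀b : i₀ ≠ b) (m : M) (hm : m ∈ wt ρ E.radv (V0 i₀ a b 0)) (hm0 : m ≠ 0)
    (hfix : ∀ (i j : Fin n) (hij : i ≠ j), i ≠ a → i ≠ b → (j = a ∨ j = b) → ¬ (i = i₀ ∧ j = b) →
      ∀ t : F, ρ (E.levi (SpecialLinearGroup.transvection hij t)) m = m) :
    ∃ ξ : M, ξ ≠ 0 ∧
      (∀ R : Matrix (Fin n) (Fin n) F, (∀ i j, R i j ≠ 0 → i ≠ a ∧ i ≠ b ∧ j ≠ a ∧ j ≠ b) →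
        ρ (E.rad R) ξ = ξ) ∧
      (∀ (i j : Fin n) (hij : i ≠ j), i ≠ a → i ≠ b → (j = a ∨ j = b) → ∀ t : F,
        ρ (E.levi (SpecialLinearGroup.transvection hij t)) ξ = ξ) ∧
      ∀ r : F, ρ (E.rad (Matrix.single i₀ a r)) ξ = (eps F r : ℂ) • ξ := by
  classical
  set g : F → SpecialLinearGroup (Fin n) F := fun t => SpecialLinearGroup.transvection hi₀b t
    with hg
  have hmt : ∀ t, ρ (E.levi (g t)) m ∈ wt ρ E.radv (V0 i₀ a b t) := by
    intro t
    rw [← map_wt_levi E ρ (g t) (V0 i₀ a b 0) (V0 i₀ a b t) (toM_V0_conj i₀ a b hab hi₀a hi₀b t)]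
    exact Submodule.mem_map_of_mem hm
  have hgadd : ∀ s t, g (s + t) = g s * g t := fun s t =>
    SpecialLinearGroup.transvection_add hi₀b s t
  have hg0 : g 0 = 1 := SpecialLinearGroup.transvection_coeff_zero hi₀b
  refine ⟨∑ t : F, ρ (E.levi (g t)) m, ?_, ?_, ?_, ?_⟩
  · intro h0
    set x : (Fin n × Fin n → F) → Module.End ℂ M := fun r => ρ (E.radv r) with hx
    have hxa : ∀ v w, x (v + w) = x v * x w := fun v w => by
      show ρ (E.radv (v + w)) = ρ (E.radv v) * ρ (E.radv w)
      rw [E.radv_add, map_mul]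
    have hrange : ∀ v, wt ρ E.radv v = LinearMap.range (Pr (eps F) x v) := fun v =>
      wt_eq_range ρ E.radv E.radv_add v
    have hP := congrArg (fun z => (Pr (eps F) x (V0 i₀ a b 0) : Module.End ℂ M) z) h0
    beta_reduce at hP
    rw [map_sum, map_zero, Finset.sum_eq_single (0 : F)] at hP
    · have h1 : ρ (E.levi (g 0)) m = m := by
        rw [hg0, map_one, map_one]
        rfl
      rw [h1] at hP
      have h2 : (Pr (eps F) x (V0 i₀ a b 0) : Module.End ℂ M) m = m :=
        (mem_range_idem (Pr_idem (eps F) x (eps_prim F) hxa _)).mp (by rw [← hrange]; exact hm)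
      rw [h2] at hP
      exact hm0 hP
    · intro t _ ht
      have h3 : ρ (E.levi (g t)) m ∈ LinearMap.range (Pr (eps F) x (V0 i₀ a b t)) := by
        rw [← hrange]
        exact hmt t
      obtain ⟨z, hz⟩ := h3
      rw [← hz]
      have hne : V0 i₀ a b (0 : F) ≠ V0 i₀ a b t := by
        intro h
        have h' := congrFun h (a, b)
        rw [V0_apply_ab i₀ a b hab hi₀a hi₀b, V0_apply_ab i₀ a b hab hi₀a hi₀b] at h'
        exact ht h'.symm
      show ((Pr (eps F) x (V0 i₀ a b 0) : Module.End ℂ M) * Pr (eps F) x (V0 i₀ a b t)) z = 0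
      rw [Pr_orth (eps F) x (eps_prim F) hxa hne]
      rfl
    · intro h
      exact absurd (Finset.mem_univ _) h
  · intro R hR
    rw [map_sum]
    apply Finset.sum_congr rfl
    intro t _
    rw [rho_rad_of_mem_wt E ρ _ _ (hmt t) R]
    have h0 : V0 i₀ a b t ⬝ᵥ ofM R = 0 := by
      unfold dotProduct
      apply Finset.sum_eq_zero
      rintro ⟨x, y⟩ _
      by_cases hxy : R x y = 0
      · rw [ofM_apply, hxy, mul_zero]
      · obtain ⟨h1, h2, h3, h4⟩ := hR x y hxy
        rw [V0_apply_off i₀ a b t x y h1 h2 h3 h4, zero_mul]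
    rw [h0, AddChar.map_zero_eq_one, one_smul]
  · intro i j hij hia hib hj s
    rw [map_sum]
    by_cases hc : i = i₀ ∧ j = b
    · have hT : SpecialLinearGroup.transvection hij s = g s := by
        obtain ⟨h1, h2⟩ := hc
        subst h1 h2
        rfl
      rw [hT]
      have hst : ∀ t, ρ (E.levi (g s)) (ρ (E.levi (g t)) m) = ρ (E.levi (g (s + t))) m := by
        intro t
        rw [hgadd, map_mul, map_mul]
        rfl
      rw [Finset.sum_congr rfl (fun t _ => hst t)]
      exact Equiv.sum_comp (Equiv.addLeft s) (fun t => ρ (E.levi (g t)) m)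
    · apply Finset.sum_congr rfl
      intro t _
      have hji₀ : j ≠ i₀ := by
        rcases hj with rfl | rfl
        · exact hi₀a.symm
        · exact hi₀b.symm
      have hcomm : SpecialLinearGroup.transvection hij s * g t =
          g t * SpecialLinearGroup.transvection hij s :=
        transvection_comm hij hi₀b hji₀ hib.symm s t
      have h1 : ρ (E.levi (SpecialLinearGroup.transvection hij s)) (ρ (E.levi (g t)) m) =
          ρ (E.levi (g t)) (ρ (E.levi (SpecialLinearGroup.transvection hij s)) m) := by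
        rw [← Module.End.mul_apply, ← map_mul, ← map_mul, hcomm, map_mul, map_mul]
        rfl
      rw [h1, hfix i j hij hia hib hj hc s]
  · intro r
    rw [map_sum, Finset.smul_sum]
    apply Finset.sum_congr rfl
    intro t _
    rw [rho_rad_of_mem_wt E ρ _ _ (hmt t), dotProduct_ofM_single,
      V0_apply_i₀a i₀ a b hab hi₀a hi₀b, one_mul]

end ST

end Cfsg.Agent.Lib.Helper5.OOMin
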