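/-
helper5 (S2345, the stage lemma `stage` of helper27's plan `notes/S2345_leaves.lean`, same name
and binders): assembly S5 of the sub-leaves S1 (helper16), S2 (helper5), S3 (helper16), S4 (helper5).
-/
import Mathlib
import Cfsg.Agent.Lib.Helper5.OPMinS2
import Cfsg.Agent.Lib.Helper16.OPMinS1
import Cfsg.Agent.Lib.Helper16.OPMinS3

set_option autoImplicit false
set_option linter.unusedSectionVars false
set_option linter.unusedVariables false

namespace Cfsg.Agent.Lib.Helper5.OPMin

open Matrix Module Cfsg.Agent.Lib.Helper27.OPMin Cfsg.Agent.Lib.Helper16.SLMin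
  Cfsg.Agent.Lib.Helper13.SLMin Cfsg.Agent.Lib.Helper24.OPMin

section mat

variable {F : Type*} [Field F] {n : ℕ}

theorem indep_smul_single (x y : Fin n) (hxy : x ≠ y) (c : F) (hc : c ≠ 0) :
    LinearIndependent F ![c • (Pi.single x (1 : F) : Fin n → F), Pi.single y (1 : F)] := by
  rw [LinearIndependent.pair_iff]
  intro s t h
  have hx := congrFun h x
  have hy := congrFun h y
  simp only [Pi.add_apply, Pi.smul_apply, Pi.single_eq_same, Pi.single_eq_of_ne hxy,
    Pi.single_eq_of_ne hxy.symm, smul_eq_mul, mul_one, mul_zero, add_zero, zero_add,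
    Pi.zero_apply] at hx hy
  refine ⟨?_, hy⟩
  rcases mul_eq_zero.mp hx with h0 | h0
  · exact h0
  · exact absurd h0 hc

theorem wedge_smul_left (c : F) (x y : Fin n → F) : wedge (c • x) y = c • wedge x y := by
  ext k l
  simp only [wedge_apply, Matrix.smul_apply, Pi.smul_apply, smul_eq_mul]
  ring

theorem Wd_eq_ofM_wedge (a b : Fin n) (δ : F) :
    Wd a b δ = ofM (wedge (δ • (Pi.single a (1 : F) : Fin n → F)) (Pi.single b (1 : F))) := by
  unfold Wd
  rw [wedge_smul_left]

theorem Wd_zero (a b : Fin n) : Wd a b (0 : F) = 0 := by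
  unfold Wd
  rw [zero_smul]
  rfl

theorem V0_zero_eq (i₀ a b : Fin n) :
    V0 i₀ a b (0 : F) = ofM (wedge (Pi.single i₀ (1 : F)) (Pi.single a (1 : F))) := by
  unfold V0
  rw [zero_smul, add_zero]

end mat

section ST

variable {F : Type*} [Field F] [Fintype F] [DecidableEq F] {n : ℕ} {H : Type*} [Group H]
  {M : Type*} [AddCommGroup M] [Module ℂ M] [FiniteDimensional ℂ M]
  (D : Siegel F n H) (ρ : Representation ℂ H M)

theorem fix_inv (g : H) (m : M) (h : ρ g m = m) : ρ g⁻¹ m = m := by
  have h1 : ρ g⁻¹ (ρ g m) = m := by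
    rw [← Module.End.mul_apply, ← map_mul, inv_mul_cancel, map_one]
    rfl
  rw [h] at h1
  exact h1

theorem fix_mul (g h : H) (m : M) (hg : ρ g m = m) (hh : ρ h m = m) : ρ (g * h) m = m := by
  rw [map_mul, Module.End.mul_apply, hh, hg]

/-- conjugation by `w` as a homomorphism applied to the radical -/
theorem conj_rad_add (a b : Fin n) (R S : Matrix (Fin n) (Fin n) F) :
    D.w a b * D.rad (R + S) * (D.w a b)⁻¹ =
      (D.w a b * D.rad R * (D.w a b)⁻¹) * (D.w a b * D.rad S * (D.w a b)⁻¹) := by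
  rw [D.rad_add]
  group

/-- the elements of `w Q' w⁻¹` fix `m` as soon as its two kinds of generators do -/
theorem conj_fix (a b : Fin n) (hab : a ≠ b) (m : M)
    (h1 : ∀ R : Matrix (Fin n) (Fin n) F,
      (∀ i j, R i j ≠ 0 → i ≠ a ∧ i ≠ b ∧ j ≠ a ∧ j ≠ b) → ρ (D.rad R) m = m)
    (h2 : ∀ (i j : Fin n) (hij : i ≠ j), i ≠ a → i ≠ b → (j = a ∨ j = b) → ∀ t : F,
      ρ (D.levi (SpecialLinearGroup.transvection hij t)) m = m)
    (R : Matrix (Fin n) (Fin n) F) (hRab : R a b = 0) (hRba : R b a = 0) :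
    ρ (D.w a b * D.rad R * (D.w a b)⁻¹) m = m := by
  classical
  -- the one-entry matrices
  have hone : ∀ i j : Fin n, ρ (D.w a b * D.rad (Matrix.single i j (R i j)) * (D.w a b)⁻¹) m = m := by
    intro i j
    have hsymm : ∀ k : Fin n, ∀ r : F, D.rad (Matrix.single k k r) = 1 := fun k r =>
      D.rad_of_symm _ (by rw [transpose_single])
    have htr : ∀ (k l : Fin n) (r : F), D.rad (Matrix.single k l r) =
        (D.rad (Matrix.single l k r))⁻¹ := fun k l r => by
      rw [← D.rad_transpose, transpose_single]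
    by_cases hia : i = a
    · subst hia
      by_cases hja : j = i
      · subst hja
        rw [hsymm, mul_one, mul_inv_cancel, map_one]
        rfl
      by_cases hjb : j = b
      · subst hjb
        rw [hRab, Matrix.single_zero, D.rad_zero, mul_one, mul_inv_cancel, map_one]
        rfl
      · rw [htr, show D.w i b * (D.rad (Matrix.single j i (R i j)))⁻¹ * (D.w i b)⁻¹ =
          (D.w i b * D.rad (Matrix.single j i (R i j)) * (D.w i b)⁻¹)⁻¹ by group,
          D.w_rad_single_left i b j hab hja hjb]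
        exact fix_inv ρ _ m (h2 j i hja hja hjb (Or.inl rfl) _)
    by_cases hib : i = b
    · subst hib
      by_cases hjb : j = i
      · subst hjb
        rw [hsymm, mul_one, mul_inv_cancel, map_one]
        rfl
      by_cases hja : j = a
      · subst hja
        rw [hRba, Matrix.single_zero, D.rad_zero, mul_one, mul_inv_cancel, map_one]
        rfl
      · rw [htr, show D.w a i * (D.rad (Matrix.single j i (R i j)))⁻¹ * (D.w a i)⁻¹ =
          (D.w a i * D.rad (Matrix.single j i (R i j)) * (D.w a i)⁻¹)⁻¹ by group,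
          D.w_rad_single_right a i j hab hja hjb]
        exact fix_inv ρ _ m (h2 j i hjb hja hjb (Or.inr rfl) _)
    by_cases hja : j = a
    · subst hja
      rw [D.w_rad_single_left j b i hab hia hib]
      exact h2 i j hia hia hib (Or.inl rfl) _
    by_cases hjb : j = b
    · subst hjb
      rw [D.w_rad_single_right a j i hab hia hib]
      exact h2 i j hib hia hib (Or.inr rfl) _
    · have hsupp : ∀ k l, (Matrix.single i j (R i j)) k l ≠ 0 →
          k ≠ a ∧ k ≠ b ∧ l ≠ a ∧ l ≠ b := by
        intro k l hkl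
        by_cases hk : i = k
        · by_cases hl : j = l
          · subst hk hl
            exact ⟨hia, hib, hja, hjb⟩
          · exact absurd (Matrix.single_apply_of_col_ne _ _ hl _) hkl
        · exact absurd (Matrix.single_apply_of_row_ne hk _ _ _) hkl
      rw [D.w_rad_comm a b _ hsupp, mul_assoc, mul_inv_cancel, mul_one]
      exact h1 _ hsupp
  -- sums
  have hsum : ∀ (s : Finset (Fin n × Fin n)),
      ρ (D.w a b * D.rad (∑ p ∈ s, Matrix.single p.1 p.2 (R p.1 p.2)) * (D.w a b)⁻¹) m = m := by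
    intro s
    induction s using Finset.induction_on with
    | empty =>
      rw [Finset.sum_empty, D.rad_zero, mul_one, mul_inv_cancel, map_one]
      rfl
    | insert p s hp ih =>
      rw [Finset.sum_insert hp, conj_rad_add]
      exact fix_mul ρ _ _ m (hone p.1 p.2) ih
  have hR : R = ∑ p : Fin n × Fin n, Matrix.single p.1 p.2 (R p.1 p.2) := by
    rw [Fintype.sum_prod_type]
    exact Matrix.matrix_eq_sum_single R
  have := hsum Finset.univ
  rw [← hR] at this
  exact this

/-- `ρ (w⁻¹) m` lies in the fixed space of `Q'` when `w Q' w⁻¹` fixes `m` -/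
theorem inv_mem_fixN (a b : Fin n) (m : M)
    (h : ∀ R : Matrix (Fin n) (Fin n) F, R a b = 0 → R b a = 0 →
      ρ (D.w a b * D.rad R * (D.w a b)⁻¹) m = m) :
    ρ (D.w a b)⁻¹ m ∈ fixN D ρ a b := by
  rw [mem_fixN]
  intro R h1 h2
  have h3 := congrArg (ρ (D.w a b)⁻¹) (h R h1 h2)
  rw [← Module.End.mul_apply, ← map_mul] at h3
  rw [← Module.End.mul_apply, ← map_mul, ← h3]
  congr 2
  group

theorem mem_map_of_inv_mem (g : H) (P : Submodule ℂ M) (m : M) (h : ρ g⁻¹ m ∈ P) :
    m ∈ Submodule.map (ρ g) P := by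
  refine ⟨ρ g⁻¹ m, h, ?_⟩
  rw [← Module.End.mul_apply, ← map_mul, mul_inv_cancel, map_one]
  rfl

/-- S (the stage lemma): the Levi factor `SL_n` acts non-trivially on the fixed space of the
radical. -/
theorem stage (hn : 4 ≤ n) (hq : 3 < Fintype.card F)
    (hm2 : ∀ a b : Fin n → F, LinearIndependent F ![a, b] →
      finrank ℂ ↥(wt ρ D.radv (ofM (wedge a b))) = 1)
    (htriv : ∀ g : SpecialLinearGroup (Fin n) F, ∀ m ∈ wt ρ D.radv 0, ρ (D.levi g) m = m) :
    False := by
  classical
  -- the three indices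
  let a : Fin n := ⟨0, by omega⟩
  let b : Fin n := ⟨1, by omega⟩
  let i₀ : Fin n := ⟨2, by omega⟩
  have hab : a ≠ b := by
    intro h
    have := congrArg Fin.val h
    simp [a, b] at this
  have hi₀a : i₀ ≠ a := by
    intro h
    have := congrArg Fin.val h
    simp [a, i₀] at this
  have hi₀b : i₀ ≠ b := by
    intro h
    have := congrArg Fin.val h
    simp [b, i₀] at this
  -- the lines
  have hWd1 : ∀ δ : F, δ ≠ 0 → finrank ℂ ↥(wt ρ D.radv (Wd a b δ)) ≤ 1 := by
    intro δ hδ
    rw [Wd_eq_ofM_wedge, hm2 _ _ (indep_smul_single a b hab δ hδ)]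
  have hV1 : finrank ℂ ↥(wt ρ D.radv (V0 i₀ a b 0)) = 1 := by
    rw [V0_zero_eq]
    have h := hm2 _ _ (indep_smul_single i₀ a hi₀a 1 one_ne_zero)
    rw [one_smul] at h
    exact h
  have hV : wt ρ D.radv (V0 i₀ a b 0) ≠ ⊥ := by
    intro h
    rw [h, finrank_bot] at hV1
    exact zero_ne_one hV1
  -- `U` fixes `N` pointwise
  have hUN : ∀ (i j : Fin n) (hij : i ≠ j), i ≠ a → i ≠ b → (j = a ∨ j = b) → ∀ t : F,
      ∀ m ∈ fixN D ρ a b, ρ (D.levi (SpecialLinearGroup.transvection hij t)) m = m := by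
    intro i j hij hia hib hj t
    have hle : fixN D ρ a b ≤
        LinearMap.eqLocus (ρ (D.levi (SpecialLinearGroup.transvection hij t))) LinearMap.id := by
      rw [Cfsg.Agent.Lib.Helper16.OPMin.fixN_eq_iSup D ρ a b hab]
      apply iSup_le
      intro δ m hm
      rw [LinearMap.mem_eqLocus]
      show ρ (D.levi (SpecialLinearGroup.transvection hij t)) m = m
      by_cases hδ : δ = 0
      · rw [hδ, Wd_zero] at hm
        exact htriv _ m hm
      · exact levi_transvection_fix_Wd D ρ hn a b i j hab hia hib hj hij t δ (hWd1 δ hδ) m hm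
    intro m hm
    exact LinearMap.mem_eqLocus.mp (hle hm)
  -- `N ≤ ρ(w) N`, hence `N = ρ(w) N`
  have hN1 : ∀ m ∈ fixN D ρ a b, ρ (D.w a b)⁻¹ m ∈ fixN D ρ a b := by
    intro m hm
    apply inv_mem_fixN
    apply conj_fix D ρ a b hab m
    · intro R hR
      apply (mem_fixN.mp hm) R
      · by_contra h
        exact (hR a b h).1 rfl
      · by_contra h
        exact (hR b a h).2.1 rfl
    · intro i j hij hia hib hj t
      exact hUN i j hij hia hib hj t m hm
  have hle : fixN D ρ a b ≤ Submodule.map (ρ (D.w a b)) (fixN D ρ a b) := fun m hm =>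
    mem_map_of_inv_mem ρ _ _ m (hN1 m hm)
  have heq : fixN D ρ a b = Submodule.map (ρ (D.w a b)) (fixN D ρ a b) :=
    Submodule.eq_of_le_of_finrank_eq hle (finrank_map_rho ρ _ _).symm
  -- the vector `ξ`
  obtain ⟨ξ, hξ0, hξ1, hξ2, hξ3⟩ := exists_xi D ρ i₀ a b hab hi₀a hi₀b hV
    (fun i j hij hia hib hj hne t =>
      Cfsg.Agent.Lib.Helper16.OPMin.levi_transvection_fix_V0 D ρ hq i₀ a b i j hab hi₀a hi₀b hia hib
        hj hij hne t hV1.le)
  have hξN : ξ ∈ fixN D ρ a b := by
    rw [heq]
    apply mem_map_of_inv_mem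
    apply inv_mem_fixN
    exact conj_fix D ρ a b hab ξ hξ1 hξ2
  -- the contradiction
  have hone : (1 : F) = 0 := by
    apply eq_zero_of_eps_mul_eq_one
    intro r
    rw [one_mul]
    have h1 := (mem_fixN.mp hξN) (Matrix.single i₀ a r)
      (Matrix.single_apply_of_row_ne hi₀a _ _ _) (Matrix.single_apply_of_row_ne hi₀b _ _ _)
    rw [hξ3 r] at h1
    by_contra hne
    apply hξ0
    have h2 : ((eps F r : ℂ) - 1) • ξ = 0 := by rw [sub_smul, one_smul, h1, sub_self]
    rcases smul_eq_zero.mp h2 with h3 | h3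
    · exact absurd (sub_eq_zero.mp h3) hne
    · exact h3
  exact one_ne_zero hone

end ST

end Cfsg.Agent.Lib.Helper5.OPMin
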