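/-
helper5 (S2344, leaf ST4 `stage_O` of helper26's plan `notes/S2344_leaves.lean`): the assembly, with
the leaves H2, ST3, ST6 as explicit hypotheses (`stage_O_of`).  Copy of `Helper5/OPMinStage.lean`.
-/
import Mathlib
import Cfsg.Agent.Lib.Helper26.OOMinDefs
import Cfsg.Agent.Lib.Helper26.OOMinStageDefs
import Cfsg.Agent.Lib.Helper5.OPMinStage
import Cfsg.Agent.Lib.Helper5.OOMinST5

set_option autoImplicit false
set_option linter.unusedSectionVars false
set_option linter.unusedVariables false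

namespace Cfsg.Agent.Lib.Helper5.OOMin

open Matrix Module Cfsg.Agent.Lib.Helper27.OPMin Cfsg.Agent.Lib.Helper16.SLMin
  Cfsg.Agent.Lib.Helper13.SLMin Cfsg.Agent.Lib.Helper24.OPMin Cfsg.Agent.Lib.Helper5.OPMin
  Cfsg.Agent.Lib.Helper26.OOMin

section ST

variable {F : Type*} [Field F] [Fintype F] [DecidableEq F] {n : ℕ} {H : Type*} [Group H]
  {M : Type*} [AddCommGroup M] [Module ℂ M] [FiniteDimensional ℂ M]
  (D : SiegelB F n H) (ρ : Representation ℂ H M)

/-- ST4 with the leaves H2, ST3, ST6 as hypotheses. -/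
theorem stage_O_of
    (hH2 : ∀ (v : Fin n × Fin n → F) (i j : Fin n), v (i, j) ≠ 0 →
      Fintype.card F * finrank ℂ ↥(wt ρ D.toSiegel.radv v ⊓ shoFix D ρ i) =
        finrank ℂ ↥(wt ρ D.toSiegel.radv v))
    (hST3 : ∀ (a b i j : Fin n) (hab : a ≠ b) (hia : i ≠ a) (hib : i ≠ b) (hj : j = a ∨ j = b)
      (hij : i ≠ j) (t δ : F) (hδ : δ ≠ 0)
      (hmq : finrank ℂ ↥(wt ρ D.toSiegel.radv (Wd a b δ)) ≤ Fintype.card F),
      ∀ m ∈ wt ρ D.toSiegel.radv (Wd a b δ),
        ρ (D.levi (SpecialLinearGroup.transvection hij t)) m = m)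
    (hST6 : ∀ (i₀ a b i j : Fin n) (hab : a ≠ b) (hi₀a : i₀ ≠ a) (hi₀b : i₀ ≠ b) (hia : i ≠ a)
      (hib : i ≠ b) (hj : j = a ∨ j = b) (hij : i ≠ j) (hne : ¬ (i = i₀ ∧ j = b)) (t : F)
      (h1 : finrank ℂ ↥(wt ρ D.toSiegel.radv (V0 i₀ a b 0) ⊓ shoFix D ρ i₀) ≤ 1),
      ∀ m ∈ wt ρ D.toSiegel.radv (V0 i₀ a b 0) ⊓ shoFix D ρ i₀,
        ρ (D.levi (SpecialLinearGroup.transvection hij t)) m = m)
    (hn : 3 ≤ n)
    (hmq : ∀ a b : Fin n → F, LinearIndependent F ![a, b] →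
      finrank ℂ ↥(wt ρ D.toSiegel.radv (ofM (wedge a b))) = Fintype.card F)
    (htriv : ∀ g : SpecialLinearGroup (Fin n) F, ∀ m ∈ wt ρ D.toSiegel.radv 0,
      ρ (D.levi g) m = m) : False := by
  classical
  -- the three indices
  let a : Fin n := ⟨0, by omega⟩
  let b : Fin n := ⟨1, by omega⟩
  let i₀ : Fin n := ⟨2, by omega⟩
  have hab : a ≠ b := by
    intro h
    have := congrArg Fin.val h
    simp [a, b] at this
  have hi₀a : i₀ ≠ a := by
    intro h
    have := congrArg Fin.val h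
    simp [a, i₀] at this
  have hi₀b : i₀ ≠ b := by
    intro h
    have := congrArg Fin.val h
    simp [b, i₀] at this
  have hq0 : 0 < Fintype.card F := Fintype.card_pos
  -- the multiplicities
  have hWdq : ∀ δ : F, δ ≠ 0 →
      finrank ℂ ↥(wt ρ D.toSiegel.radv (Wd a b δ)) ≤ Fintype.card F := by
    intro δ hδ
    rw [Wd_eq_ofM_wedge, hmq _ _ (indep_smul_single a b hab δ hδ)]
  have hVq : finrank ℂ ↥(wt ρ D.toSiegel.radv (V0 i₀ a b 0)) = Fintype.card F := by
    rw [V0_zero_eq]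
    have h := hmq _ _ (indep_smul_single i₀ a hi₀a 1 one_ne_zero)
    rw [one_smul] at h
    exact h
  -- the line `L₀`
  have hL1 : finrank ℂ ↥(wt ρ D.toSiegel.radv (V0 i₀ a b 0) ⊓ shoFix D ρ i₀) = 1 := by
    have h := hH2 (V0 i₀ a b 0) i₀ a (by
      rw [V0_apply_i₀a i₀ a b hab hi₀a hi₀b]; exact one_ne_zero)
    rw [hVq] at h
    exact Nat.eq_of_mul_eq_mul_left hq0 (by rw [h, mul_one])
  have hL : wt ρ D.toSiegel.radv (V0 i₀ a b 0) ⊓ shoFix D ρ i₀ ≠ ⊥ := by
    intro h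
    rw [h, finrank_bot] at hL1
    exact zero_ne_one hL1
  -- `U` fixes `N` pointwise
  have hUN : ∀ (i j : Fin n) (hij : i ≠ j), i ≠ a → i ≠ b → (j = a ∨ j = b) → ∀ t : F,
      ∀ m ∈ fixN D.toSiegel ρ a b,
        ρ (D.levi (SpecialLinearGroup.transvection hij t)) m = m := by
    intro i j hij hia hib hj t
    have hle : fixN D.toSiegel ρ a b ≤
        LinearMap.eqLocus (ρ (D.levi (SpecialLinearGroup.transvection hij t))) LinearMap.id := by
      rw [Cfsg.Agent.Lib.Helper16.OPMin.fixN_eq_iSup D.toSiegel ρ a b hab]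
      apply iSup_le
      intro δ m hm
      rw [LinearMap.mem_eqLocus]
      show ρ (D.levi (SpecialLinearGroup.transvection hij t)) m = m
      by_cases hδ : δ = 0
      · rw [hδ, Wd_zero] at hm
        exact htriv _ m hm
      · exact hST3 a b i j hab hia hib hj hij t δ hδ (hWdq δ hδ) m hm
    intro m hm
    exact LinearMap.mem_eqLocus.mp (hle hm)
  -- `N ≤ ρ(w) N`, hence `N = ρ(w) N`
  have hN1 : ∀ m ∈ fixN D.toSiegel ρ a b, ρ (D.w a b)⁻¹ m ∈ fixN D.toSiegel ρ a b := by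
    intro m hm
    apply inv_mem_fixN
    apply conj_fix D.toSiegel ρ a b hab m
    · intro R hR
      apply (mem_fixN.mp hm) R
      · by_contra h
        exact (hR a b h).1 rfl
      · by_contra h
        exact (hR b a h).2.1 rfl
    · intro i j hij hia hib hj t
      exact hUN i j hij hia hib hj t m hm
  have hle : fixN D.toSiegel ρ a b ≤ Submodule.map (ρ (D.w a b)) (fixN D.toSiegel ρ a b) :=
    fun m hm => mem_map_of_inv_mem ρ _ _ m (hN1 m hm)
  have heq : fixN D.toSiegel ρ a b = Submodule.map (ρ (D.w a b)) (fixN D.toSiegel ρ a b) :=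
    Submodule.eq_of_le_of_finrank_eq hle (finrank_map_rho ρ _ _).symm
  -- the vector `ξ`
  obtain ⟨m, hmL, hm0⟩ := Submodule.exists_mem_ne_zero_of_ne_bot hL
  obtain ⟨ξ, hξ0, hξ1, hξ2, hξ3⟩ := exists_xi_of ρ D.toSiegel i₀ a b hab hi₀a hi₀b m hmL.1 hm0
    (fun i j hij hia hib hj hne t =>
      hST6 i₀ a b i j hab hi₀a hi₀b hia hib hj hij hne t hL1.le m hmL)
  have hξN : ξ ∈ fixN D.toSiegel ρ a b := by
    rw [heq]
    apply mem_map_of_inv_mem
    apply inv_mem_fixN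
    exact conj_fix D.toSiegel ρ a b hab ξ hξ1 hξ2
  -- the contradiction
  have hone : (1 : F) = 0 := by
    apply eq_zero_of_eps_mul_eq_one
    intro r
    rw [one_mul]
    have h1 := (mem_fixN.mp hξN) (Matrix.single i₀ a r)
      (Matrix.single_apply_of_row_ne hi₀a _ _ _) (Matrix.single_apply_of_row_ne hi₀b _ _ _)
    rw [hξ3 r] at h1
    by_contra hne
    apply hξ0
    have h2 : ((eps F r : ℂ) - 1) • ξ = 0 := by rw [sub_smul, one_smul, h1, sub_self]
    rcases smul_eq_zero.mp h2 with h3 | h3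
    · exact absurd (sub_eq_zero.mp h3) hne
    · exact h3
  exact one_ne_zero hone

end ST

end Cfsg.Agent.Lib.Helper5.OOMin
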