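import Mathlib
import Cfsg.Agent.Lib.Helper5.BLFullB
import Cfsg.Agent.S1241

/-!
helper5: Brauer–Leonard degree equation, part C: abelian Sylow subgroups (not necessarily of prime
order) with the Frobenius-type hypothesis.
* `central_sylow_trivial`: in a perfect group, an element of an abelian Sylow subgroup `P` which is
  central in `N_G(P)` is trivial.
* `frob_two`: if `|N_G(P) : C_G(P)| = 2` then `C_G(y) ∩ N_G(P) = C_G(P)` for `1 ≠ y ∈ P`.
* `core_full_ab`: the degree equation.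
-/

set_option autoImplicit false
set_option linter.style.haveILetI false
set_option linter.unusedSectionVars false

namespace Cfsg.Agent.Lib.Helper5.BLFull

open Cfsg Cfsg.Agent.CharLib Cfsg.Agent.Lib.Helper24 Cfsg.Agent.Lib.Helper6
open Cfsg.Agent.Lib.Helper12.BSF
open scoped ComplexConjugate

universe u

variable {G : Type u} [Group G] [Finite G]

/-- In a perfect group, an element of an abelian Sylow subgroup `P` which commutes with `N_G(P)`
is trivial (transfer). -/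
theorem central_sylow_trivial (hperf : commutator G = ⊤) {p : ℕ} [hp : Fact p.Prime]
    (P : Sylow p G) (hab : IsMulCommutative P) (y : G) (hy : y ∈ (P : Subgroup G))
    (hcent : ∀ n ∈ Subgroup.normalizer ((P : Subgroup G) : Set G), n * y = y * n) : y = 1 := by
  by_contra hy1
  have hcomm : ∀ a ∈ (P : Subgroup G), ∀ b ∈ (P : Subgroup G), a * b = b * a := by
    intro a ha b hb
    exact congrArg Subtype.val (hab.is_comm.comm ⟨a, ha⟩ ⟨b, hb⟩)
  have h1 := Cfsg.Agent.S1241.result (p := p) (P : Subgroup G) ⊥ bot_le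
    (by rw [Subgroup.bot_subgroupOf]; infer_instance)
    (by
      intro a ha b hb
      rw [Subgroup.mem_bot, hcomm a ha b hb]
      group)
    ((Nat.Prime.coprime_iff_not_dvd hp.out).mpr P.not_dvd_index) y hy
    (by rw [Subgroup.mem_bot]; exact hy1)
    (by
      obtain ⟨k, hk⟩ := (IsPGroup.iff_orderOf.mp P.2) ⟨y, hy⟩
      exact ⟨k, by rw [← hk, Subgroup.orderOf_mk]⟩)
    (by
      intro m a ha
      rw [Subgroup.mem_bot]
      have hym : y ^ m ∈ (P : Subgroup G) := Subgroup.zpow_mem _ hy m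
      have hconj : IsConj (y ^ m) (a * y ^ m * a⁻¹) := isConj_iff.mpr ⟨a, rfl⟩
      obtain ⟨n, hn, hn'⟩ := exists_normalizer_conj_of_isConj P hab _ _ hym ha hconj
      have h2 : n * y ^ m = y ^ m * n := by
        have hc : Commute n y := hcent n hn
        exact (hc.zpow_right m).eq
      rw [hn', h2]
      group)
  apply h1
  rw [hperf]
  exact Subgroup.mem_top y

/-- If `|N_G(P) : C_G(P)| = 2` for an abelian Sylow subgroup `P` of a perfect group then
`C_G(y) ∩ N_G(P) = C_G(P)` for all `1 ≠ y ∈ P`. -/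
theorem frob_two (hperf : commutator G = ⊤) {p : ℕ} [hp : Fact p.Prime]
    (P : Sylow p G) (hab : IsMulCommutative P)
    (hCN : (Subgroup.centralizer ((P : Subgroup G) : Set G)).relIndex
      (Subgroup.normalizer ((P : Subgroup G) : Set G)) = 2) :
    ∀ y : G, y ∈ (P : Subgroup G) → y ≠ 1 →
      Subgroup.centralizer ({y} : Set G) ⊓ Subgroup.normalizer ((P : Subgroup G) : Set G) =
        Subgroup.centralizer ((P : Subgroup G) : Set G) := by
  intro y hy hy1
  have hCleN : Subgroup.centralizer ((P : Subgroup G) : Set G) ≤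
      Subgroup.normalizer ((P : Subgroup G) : Set G) := Subgroup.centralizer_le_normalizer _
  apply le_antisymm
  · rintro g ⟨hgy, hgN⟩
    by_contra hgC
    apply hy1
    apply central_sylow_trivial hperf P hab y hy
    -- `N = C ∪ C g`
    have hidx : ((Subgroup.centralizer ((P : Subgroup G) : Set G)).subgroupOf
        (Subgroup.normalizer ((P : Subgroup G) : Set G))).index = 2 := hCN
    obtain ⟨a, ha⟩ := Subgroup.index_eq_two_iff.mp hidx
    have hgy' : g * y = y * g := by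
      exact Subgroup.mem_centralizer_singleton_iff.mp hgy
    have hyC : ∀ c ∈ Subgroup.centralizer ((P : Subgroup G) : Set G), c * y = y * c := by
      intro c hc
      exact ((Subgroup.mem_centralizer_iff.mp hc) y hy).symm
    have hga : g * (a : G) ∈ Subgroup.centralizer ((P : Subgroup G) : Set G) := by
      have h1 := ha ⟨g, hgN⟩
      rcases h1 with ⟨h2, -⟩ | ⟨h2, -⟩
      · exact h2
      · exact absurd h2 hgC
    intro n hn
    have h1 := ha ⟨n, hn⟩
    rcases h1 with ⟨h2, -⟩ | ⟨h2, -⟩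
    · -- n a ∈ C, g a ∈ C so n g⁻¹ ∈ C
      have h3 : n * (a : G) ∈ Subgroup.centralizer ((P : Subgroup G) : Set G) := h2
      have h4 : n * g⁻¹ ∈ Subgroup.centralizer ((P : Subgroup G) : Set G) := by
        have h5 := Subgroup.mul_mem _ h3 (Subgroup.inv_mem _ hga)
        have h6 : n * (a : G) * (g * (a : G))⁻¹ = n * g⁻¹ := by group
        rwa [h6] at h5
      have h7 := hyC _ h4
      have h8 : n = (n * g⁻¹) * g := by group
      rw [h8, mul_assoc, hgy', ← mul_assoc, h7, mul_assoc]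
    · exact hyC n h2
  · apply le_inf _ hCleN
    intro g hg
    rw [Subgroup.mem_centralizer_singleton_iff]
    rw [Subgroup.mem_centralizer_iff] at hg
    exact (hg y hy).symm

/-- **General degree equation** for an abelian Sylow subgroup `P` with the Frobenius-type
hypothesis, `|N_G(P) : C_G(P)| = m`, `1 < m`, `m + 1 < |P|`; `t = (|P|-1)/m`. -/
theorem core_full_ab (p : ℕ) [hp : Fact p.Prime] (P : Sylow p G) (hab : IsMulCommutative P)
    (m : ℕ) (hm1 : 1 < m) (hm2 : m + 1 < Nat.card (P : Subgroup G))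
    (hCN : (Subgroup.centralizer ((P : Subgroup G) : Set G)).relIndex
      (Subgroup.normalizer ((P : Subgroup G) : Set G)) = m)
    (hcyc : ∃ g : G, g ∈ Subgroup.normalizer ((P : Subgroup G) : Set G) ∧
      Subgroup.centralizer ((P : Subgroup G) : Set G) ⊔ Subgroup.zpowers g =
        Subgroup.normalizer ((P : Subgroup G) : Set G))
    (hfrob : ∀ y : G, y ∈ (P : Subgroup G) → y ≠ 1 →
      Subgroup.centralizer ({y} : Set G) ⊓ Subgroup.normalizer ((P : Subgroup G) : Set G) =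
        Subgroup.centralizer ((P : Subgroup G) : Set G)) :
    ∃ (X : Finset (IrrCharacter G)) (a : IrrCharacter G → ℤ) (η : IrrCharacter G) (d δ : ℤ),
      (δ = 1 ∨ δ = -1) ∧ X.card + 1 ≤ m ∧ (∀ χ ∈ X, (χ : G → ℂ) ≠ fun _ => 1) ∧
      (∀ χ ∈ X, a χ ≠ 0) ∧
      (d - δ) ^ 2 + ((((Nat.card (P : Subgroup G) - 1) / m : ℕ) : ℤ) - 1) * d ^ 2 +
        ∑ χ ∈ X, a χ ^ 2 = (m : ℤ) ∧
      (∀ χ ∈ X, (Nat.card (P : Subgroup G) : ℤ) ∣ (charDegree (χ : G → ℂ) : ℤ) - a χ) ∧
      ((((Nat.card (P : Subgroup G) - 1) / m : ℕ) : ℤ) * d - δ) *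
          (charDegree (η : G → ℂ) : ℤ) + 1 +
        ∑ χ ∈ X, a χ * (charDegree (χ : G → ℂ) : ℤ) = 0 ∧
      (∀ χ ∈ X, ∀ y w : G, y ∈ (P : Subgroup G) → y ≠ 1 → Commute y w → ¬ p ∣ orderOf w →
        (χ : G → ℂ) (y * w) = (a χ : ℂ)) := by
  classical
  have hpp : p.Prime := hp.out
  obtain ⟨M, hM⟩ := exists_isPModular p
  obtain ⟨s, X, Y, hsm, -, -, hXs, hYr, ⟨χ₁, hχ₁X, hχ₁⟩, a, d, δ, ζ, hδ, hX, -, -, -, -,
    hnorm, -, hdeg⟩ := Cfsg.Agent.CharLib.brauer_leonard_main p M hM P hab m hm1 hm2 hCN hcyc hfrob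
  have hPpos : 0 < Nat.card (P : Subgroup G) := Nat.card_pos
  -- a non-identity element of P
  have hnt : Nontrivial ↥(P : Subgroup G) := by
    haveI : Finite ↥(P : Subgroup G) := inferInstance
    rw [← Finite.one_lt_card_iff_nontrivial]
    omega
  obtain ⟨y₀, hy₀⟩ := exists_ne (1 : ↥(P : Subgroup G))
  -- values on p-singular elements
  have hvalg : ∀ χ ∈ X, ∀ y w : G, y ∈ (P : Subgroup G) → y ≠ 1 → Commute y w →
      ¬ p ∣ orderOf w → (χ : G → ℂ) (y * w) = (a χ : ℂ) := by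
    intro χ hχ y w hy hy1 hyw hw
    refine (hX χ hχ).2 (y * w) y ?_ hy hy1
    obtain ⟨k, hk⟩ := (IsPGroup.iff_orderOf.mp P.2) ⟨y, hy⟩
    exact ⟨w, rfl, hyw, ⟨k, by rw [← hk, Subgroup.orderOf_mk]⟩, hw⟩
  have hval : ∀ χ ∈ X, ∀ y : ↥(P : Subgroup G), y ≠ 1 → (χ : G → ℂ) (y : G) = (a χ : ℂ) := by
    intro χ hχ y hy
    have hy1 : (y : G) ≠ 1 := fun h => hy (Subtype.ext h)
    have := hvalg χ hχ (y : G) 1 y.2 hy1 (Commute.one_right _)
      (by rw [orderOf_one]; exact hpp.one_lt.ne' ∘ Nat.dvd_one.mp)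
    rwa [mul_one] at this
  -- a χ₁ = 1
  have ha1 : a χ₁ = 1 := by
    have h1 := hval χ₁ hχ₁X y₀ hy₀
    rw [hχ₁] at h1
    have h2 : ((a χ₁ : ℤ) : ℂ) = ((1 : ℤ) : ℂ) := by rw [← h1]; simp
    exact_mod_cast h2
  -- congruences
  have hcong : ∀ χ ∈ X,
      (Nat.card (P : Subgroup G) : ℤ) ∣ (charDegree (χ : G → ℂ) : ℤ) - a χ := by
    intro χ hχ
    haveI : Fintype ↥(P : Subgroup G) := Fintype.ofFinite _
    obtain ⟨n, hn⟩ := sum_subgroup_irr (P : Subgroup G) χ
    have hcardF : Fintype.card ↥(P : Subgroup G) = Nat.card (P : Subgroup G) := by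
      rw [← Nat.card_eq_fintype_card]
    rw [← Finset.add_sum_erase Finset.univ _ (Finset.mem_univ (1 : ↥(P : Subgroup G)))] at hn
    have h1 : ∀ y ∈ Finset.univ.erase (1 : ↥(P : Subgroup G)),
        (χ : G → ℂ) (y : G) = (a χ : ℂ) := fun y hy => hval χ hχ y (Finset.ne_of_mem_erase hy)
    rw [Finset.sum_congr rfl h1, Finset.sum_const, Finset.card_erase_of_mem (Finset.mem_univ _),
      Finset.card_univ, nsmul_eq_mul, hcardF] at hn
    have h2 : (χ : G → ℂ) ((1 : ↥(P : Subgroup G)) : G) = (charDegree (χ : G → ℂ) : ℂ) := by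
      rw [Subgroup.coe_one, irr_apply_one]
    rw [h2] at hn
    refine ⟨(n : ℤ) - a χ, ?_⟩
    have h3 : (((charDegree (χ : G → ℂ) : ℤ) - a χ : ℤ) : ℂ) =
        (((Nat.card (P : Subgroup G) : ℤ) * ((n : ℤ) - a χ) : ℤ) : ℂ) := by
      push_cast
      rw [Nat.cast_sub hPpos] at hn
      push_cast at hn
      linear_combination hn
    exact_mod_cast h3
  -- finite set X
  have hXfin : X.Finite := Set.toFinite X
  set XF : Finset (IrrCharacter G) := hXfin.toFinset with hXF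
  have hmemXF : ∀ χ, χ ∈ XF ↔ χ ∈ X := fun χ => Set.Finite.mem_toFinset hXfin
  have hχ₁XF : χ₁ ∈ XF := (hmemXF χ₁).mpr hχ₁X
  have hXFcard : XF.card = s := by
    rw [← hXs, Nat.card_coe_set_eq, Set.ncard_eq_toFinset_card X hXfin]
  -- norm equation
  rw [finsum_mem_eq_finite_toFinset_sum _ hXfin] at hnorm
  have hr : ((Nat.card P : ℤ) - 1) / (m : ℤ) =
      (((Nat.card (P : Subgroup G) - 1) / m : ℕ) : ℤ) := by
    rw [Int.natCast_div, Nat.cast_sub hPpos]
    simp
  rw [hr] at hnorm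
  have hsplit : ∑ χ ∈ XF, a χ ^ 2 = 1 + ∑ χ ∈ XF.erase χ₁, a χ ^ 2 := by
    rw [← Finset.add_sum_erase XF _ hχ₁XF, ha1]
    norm_num
  -- Y nonempty
  have hYne : Nonempty ↥Y := by
    have h1 : Nat.card ↥Y ≠ 0 := by
      rw [hYr]
      have h2 : 1 ≤ (Nat.card (P : Subgroup G) - 1) / m := by
        rw [Nat.le_div_iff_mul_le (by omega)]
        omega
      exact fun h => by omega
    exact (Nat.card_ne_zero.mp h1).1
  obtain ⟨⟨η, hη⟩⟩ := hYne
  have hdeg1 := hdeg η hη 1 (by rw [orderOf_one]; exact hpp.one_lt.ne' ∘ Nat.dvd_one.mp)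
  rw [finsum_mem_eq_finite_toFinset_sum _ hXfin] at hdeg1
  rw [← Finset.add_sum_erase XF _ hχ₁XF, ha1, hχ₁] at hdeg1
  have hdeg2 : ∑ χ ∈ XF.erase χ₁, (a χ : ℂ) * (χ : G → ℂ) 1 =
      ((∑ χ ∈ XF.erase χ₁, a χ * (charDegree (χ : G → ℂ) : ℤ) : ℤ) : ℂ) := by
    push_cast
    apply Finset.sum_congr rfl
    intro χ _
    rw [irr_apply_one]
  rw [hdeg2, irr_apply_one] at hdeg1
  clear hr
  have hYr' : (Nat.card ↥(P : Subgroup G) - 1) / m = (Nat.card (P : Subgroup G) - 1) / m := rfl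
  generalize (Nat.card (P : Subgroup G) - 1) / m = t at hdeg1 hnorm ⊢
  refine ⟨XF.erase χ₁, a, η, d, δ, hδ, ?_, ?_, ?_, ?_, ?_, ?_, ?_⟩
  · rw [Finset.card_erase_of_mem hχ₁XF, hXFcard]
    have : 0 < s := by rw [← hXFcard]; exact Finset.card_pos.mpr ⟨χ₁, hχ₁XF⟩
    omega
  · intro χ hχ hχ1
    apply Finset.ne_of_mem_erase hχ
    apply Subtype.ext
    rw [hχ1, hχ₁]
  · intro χ hχ
    exact (hX χ ((hmemXF χ).mp (Finset.mem_of_mem_erase hχ))).1
  · rw [hsplit] at hnorm
    linarith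
  · intro χ hχ
    exact hcong χ ((hmemXF χ).mp (Finset.mem_of_mem_erase hχ))
  · have h4 : ((((t : ℤ) * d - δ) * (charDegree (η : G → ℂ) : ℤ) + 1 +
        ∑ χ ∈ XF.erase χ₁, a χ * (charDegree (χ : G → ℂ) : ℤ) : ℤ) : ℂ) = ((0 : ℤ) : ℂ) := by
      push_cast
      push_cast at hdeg1
      linear_combination hdeg1
    exact_mod_cast h4
  · intro χ hχ
    exact hvalg χ ((hmemXF χ).mp (Finset.mem_of_mem_erase hχ))

end Cfsg.Agent.Lib.Helper5.BLFull
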