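import Mathlib
import Cfsg.Agent.Lib.Helper5.BLFullC
import Cfsg.Agent.Lib.Helper5.BLOrdB

/-!
helper5: order 4800, the case `n_5 = 96` (Brauer–Leonard with an abelian Sylow subgroup of
order 25, `|N : C| = 2`).
-/

set_option autoImplicit false
set_option linter.style.haveILetI false

namespace Cfsg.Agent.Lib.Helper5.BLOrd

open Cfsg Cfsg.Agent.CharLib Cfsg.Agent.Lib.Helper24 Cfsg.Agent.Lib.Helper12.BSF
open Cfsg.Agent.Lib.Helper5.BLFull Cfsg.Agent.Lib.Helper8.OrdSieve

/-- A simple group of order 4800 does not have 96 Sylow 5-subgroups. -/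
theorem not_count_96_of_card_4800 {G : Type*} [Group G] [Finite G] [IsSimpleGroup G]
    (h : Nat.card G = 4800) : Nat.card (Sylow 5 G) ≠ 96 := by
  intro hn
  classical
  have hG : ¬ IsMulCommutative G :=
    Cfsg.Agent.Lib.Helper7.not_comm_of_card_not_prime (by rw [h]; norm_num)
  have hperf := commutator_eq_top_of_simple hG
  have hp : Nat.Prime 5 := by norm_num
  haveI : Fact (Nat.Prime 5) := ⟨hp⟩
  obtain ⟨P⟩ : Nonempty (Sylow 5 G) := inferInstance
  have hN' : Nat.card G = 5 ^ 2 * 192 := by rw [h]; norm_num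
  obtain ⟨hPc, hPi⟩ := Cfsg.Agent.Lib.Helper7.sylow_card_index_of_pow hN' (by norm_num) P
  have hab : IsMulCommutative ↥(P : Subgroup G) :=
    IsPGroup.isMulCommutative_of_card_eq_prime_sq hPc
  have hcomm := Cfsg.Agent.Lib.Helper7.comm_of_card_prime_sq (P : Subgroup G) hPc
  have hk := card_normalizer_of_count hp (n := 96) (k := 50) h (by norm_num) P hn
  have h3 := Cfsg.Agent.Lib.Helper7.card_centralizer_mul_relIndex (P : Subgroup G)
  rw [hk] at h3
  have hPC : (P : Subgroup G) ≤ Subgroup.centralizer ((P : Subgroup G) : Set G) := by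
    intro x hx
    rw [Subgroup.mem_centralizer_iff]
    intro z hz
    exact hcomm z hz x hx
  have h4 : 25 ∣ Nat.card ↥(Subgroup.centralizer ((P : Subgroup G) : Set G)) := by
    have h5 := Subgroup.card_dvd_of_le hPC
    rwa [hPc] at h5
  have hne : (Subgroup.centralizer ((P : Subgroup G) : Set G)).relIndex
      (Subgroup.normalizer ((P : Subgroup G) : Set G)) ≠ 1 := by
    intro h1
    exact Cfsg.Agent.Lib.Helper7.not_normalizer_le_centralizer hG P
      (by rw [hPc]; norm_num) hcomm (Subgroup.relIndex_eq_one.mp h1)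
  have hm : (Subgroup.centralizer ((P : Subgroup G) : Set G)).relIndex
      (Subgroup.normalizer ((P : Subgroup G) : Set G)) = 2 := by
    obtain ⟨c, hc⟩ := h4
    rw [hc] at h3
    generalize (Subgroup.centralizer ((P : Subgroup G) : Set G)).relIndex
      (Subgroup.normalizer ((P : Subgroup G) : Set G)) = m at h3 hne
    have hcm : c * m = 2 := by
      have : 25 * (c * m) = 25 * 2 := by rw [← mul_assoc, h3]
      exact Nat.eq_of_mul_eq_mul_left (by norm_num) this
    have hm2 : m ∣ 2 := ⟨c, by rw [← hcm, mul_comm]⟩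
    rcases (Nat.dvd_prime Nat.prime_two).mp hm2 with h1 | h1
    · exact absurd h1 hne
    · exact h1
  have hCleN : Subgroup.centralizer ((P : Subgroup G) : Set G) ≤
      Subgroup.normalizer ((P : Subgroup G) : Set G) := Subgroup.centralizer_le_normalizer _
  have hcyc := exists_cyc_of_relIndex_prime _ _ hCleN 2 Nat.prime_two hm
  have hfrob := frob_two hperf P hab hm
  obtain ⟨X, a, η, d, δ, hδ, hXc, hXne, ha0, hsq, hcong, hdeg, -⟩ :=
    core_full_ab 5 P hab 2 (by norm_num) (by rw [hPc]; norm_num) hm hcyc hfrob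
  rw [hPc] at hsq hcong hdeg
  have ht : (((5 ^ 2 - 1) / 2 : ℕ) : ℤ) = 12 := by norm_num
  rw [ht] at hsq hdeg
  rw [Nat.cast_ofNat] at hsq
  have hηdvd : charDegree (η : G → ℂ) ∣ 4800 := by
    rw [← h]; exact irr_charDegree_dvd_card η
  have hcand : ∀ χ ∈ X, a χ = 1 ∨ a χ = -1 →
      (charDegree (χ : G → ℂ), a χ) ∈ candList 4800 (5 ^ 2) := by
    intro χ hχ hb
    refine mem_candList (by norm_num) hb ?_ (hcong χ hχ) ?_ (irr_charDegree_pos χ)
    · rw [← h]; exact irr_charDegree_dvd_card χ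
    · exact fun h1 => hXne χ hχ (eq_one_of_charDegree_one hperf χ h1)
  have hcl : candList 4800 (5 ^ 2) = [(24, -1)] := by decide +kernel
  rw [hcl] at hcand
  have hsum0 : 0 ≤ ∑ χ ∈ X, a χ ^ 2 := Finset.sum_nonneg (fun χ _ => sq_nonneg _)
  have hd0 : d = 0 := by
    have h1 : -1 < d := by nlinarith [sq_nonneg (d - δ)]
    have h2 : d < 1 := by nlinarith [sq_nonneg (d - δ)]
    omega
  subst hd0
  have hδ2 : δ ^ 2 = 1 := by rcases hδ with rfl | rfl <;> norm_num
  have hs1 : ∑ χ ∈ X, a χ ^ 2 = 1 := by nlinarith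
  obtain ⟨hpm, hcard⟩ := sum_sq_small X a ha0 1 hs1 (by norm_num)
  have hX1 : X.card = 1 := by exact_mod_cast hcard
  obtain ⟨χ, rfl⟩ := Finset.card_eq_one.mp hX1
  rw [Finset.sum_singleton] at hdeg
  have hv : 1 + a χ * (charDegree (χ : G → ℂ) : ℤ) = δ * (charDegree (η : G → ℂ) : ℤ) := by
    linarith
  have h1 := hcand χ (by simp) (hpm χ (by simp))
  simp only [List.mem_cons, Prod.mk.injEq, List.not_mem_nil, or_false] at h1
  obtain ⟨hf1, hb1⟩ := h1
  rw [hf1, hb1] at hv
  exact final_contra 4800 _ δ _ hδ hv hηdvd (by decide)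

end Cfsg.Agent.Lib.Helper5.BLOrd
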