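/-
helper5: S4638-LINB (leaf of helper27's plan `notes/S4638_leaves.lean`; twin of helper29's): `k(B) = 4`,
`l(B) = 3`, `n` a sign vector with `∑ n χ • χ = 0` on the `2`-regular elements.  The map
`Φ : (B → ℂ) → (G → ℂ)`, `a ↦ ∑ a χ • pRegularPart χ` has rank `3`, so its kernel is a line; it contains `n`
and, by weak block orthogonality (S0907), the vector `(conj χ(x))_χ` for every `2`-singular `x`.
-/
import Mathlib
import Cfsg.Agent.Lib.Helper27.KleinPIDefs
import Cfsg.Agent.S0907

set_option autoImplicit false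

namespace Cfsg.Agent.Lib.Helper5.KleinPILINB

open Cfsg Cfsg.Agent.Lib.Helper27.KleinPI
open scoped ComplexConjugate

universe u

/-- (LINB) `k(B) = 4`, `l(B) = 3`: a sign vector `n` with `∑ n χ • χ = 0` on the `p`-regular elements spans
the orthogonal complement of the columns `(χ s)_χ`, `s` regular, so every column at a singular element is a
multiple of `n` (weak block orthogonality S0907). -/
theorem eq_mul_of_rank_three {G : Type u} [Group G] [Fintype G] {M : Ideal AlgInt}
    (hM : IsPModular 2 M) (B : Set (IrrCharacter G)) (hB : IsPBlock M B)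
    (hk : Nat.card B = 4) (hl : blockRank 2 B = 3) (n : IrrCharacter G → ℤ)
    (hn : ∀ χ ∈ B, n χ = 1 ∨ n χ = -1)
    (hreg : ∀ x : G, IsPRegular 2 x → thetaFun B n x = 0) :
    ∀ χ ∈ B, ∀ x : G, ¬ IsPRegular 2 x →
      (χ : G → ℂ) x = (n χ : ℂ) * thetaFun B n x / 4 := by
  classical
  have : Finite B := Nat.finite_of_card_ne_zero (by rw [hk]; norm_num)
  have : Fintype B := Fintype.ofFinite B
  have hcard : Fintype.card B = 4 := by rw [← Nat.card_eq_fintype_card, hk]
  let v : B → (G → ℂ) := fun b => pRegularPart 2 ((b : IrrCharacter G) : G → ℂ)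
  let Φ : (B → ℂ) →ₗ[ℂ] (G → ℂ) := Fintype.linearCombination ℂ v
  have hrange : Module.finrank ℂ (LinearMap.range Φ) = 3 := by
    have h1 : LinearMap.range Φ = Submodule.span ℂ (Set.range v) :=
      Fintype.range_linearCombination ℂ v
    have h2 : Set.range v = (fun χ : IrrCharacter G => pRegularPart 2 (χ : G → ℂ)) '' B := by
      rw [Set.image_eq_range]
    rw [h1, h2]; exact hl
  have hker : Module.finrank ℂ (LinearMap.ker Φ) = 1 := by
    have h1 := LinearMap.finrank_range_add_finrank_ker Φ
    rw [hrange, Module.finrank_fintype_fun_eq_card, hcard] at h1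
    omega
  have hΦ : ∀ (a : B → ℂ) (g : G), Φ a g =
      if IsPRegular 2 g then ∑ b : B, a b * ((b : IrrCharacter G) : G → ℂ) g else 0 := by
    intro a g
    have h1 : Φ a = ∑ b : B, a b • v b := Fintype.linearCombination_apply ℂ v a
    rw [h1, Finset.sum_apply]
    simp only [Pi.smul_apply, smul_eq_mul, v, pRegularPart]
    split_ifs with h
    · rfl
    · simp
  have hθ : ∀ x, thetaFun B n x = ∑ b : B, (n b : ℂ) * ((b : IrrCharacter G) : G → ℂ) x := by
    intro x
    unfold thetaFun
    rw [← finsum_set_coe_eq_finsum_mem, finsum_eq_sum_of_fintype]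
  let nv : B → ℂ := fun b => (n b : ℂ)
  have hnker : nv ∈ LinearMap.ker Φ := by
    rw [LinearMap.mem_ker]
    funext g
    rw [hΦ]
    split_ifs with h
    · rw [← hθ]; exact hreg g h
    · rfl
  have hn0 : (⟨nv, hnker⟩ : LinearMap.ker Φ) ≠ 0 := by
    intro h0
    have h1 : nv = 0 := congrArg Subtype.val h0
    obtain ⟨b⟩ : Nonempty B := by
      rw [← Fintype.card_pos_iff, hcard]; norm_num
    have hb : (n b : ℂ) = 0 := congrFun h1 b
    rcases hn b b.2 with h2 | h2
    · rw [h2] at hb; norm_num at hb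
    · rw [h2] at hb; norm_num at hb
  have hspan := (finrank_eq_one_iff_of_nonzero' (⟨nv, hnker⟩ : LinearMap.ker Φ) hn0).mp hker
  intro χ hχ x hx
  have hx2 : 2 ∣ orderOf x := by
    unfold IsPRegular at hx
    exact not_not.mp hx
  let w : B → ℂ := fun b => conj (((b : IrrCharacter G) : G → ℂ) x)
  have hwker : w ∈ LinearMap.ker Φ := by
    rw [LinearMap.mem_ker]
    funext g
    rw [hΦ]
    split_ifs with h
    · have h1 := Cfsg.Agent.S0907.result 2 M hM B hB g x h hx2
      rw [← finsum_set_coe_eq_finsum_mem, finsum_eq_sum_of_fintype] at h1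
      rw [Pi.zero_apply, ← h1]
      apply Finset.sum_congr rfl
      intro b _
      rw [mul_comm]
    · rfl
  obtain ⟨c, hc⟩ := hspan ⟨w, hwker⟩
  have hc' : ∀ b : B, c * (n b : ℂ) = conj (((b : IrrCharacter G) : G → ℂ) x) := by
    intro b
    have h1 : c • nv = w := congrArg Subtype.val hc
    exact congrFun h1 b
  have hχb : ∀ b : B, ((b : IrrCharacter G) : G → ℂ) x = conj c * (n b : ℂ) := by
    intro b
    have h1 := congrArg (starRingEnd ℂ) (hc' b)
    rw [map_mul, Complex.conj_conj, map_intCast] at h1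
    exact h1.symm
  have hθx : thetaFun B n x = 4 * conj c := by
    rw [hθ]
    have h1 : ∀ b : B, (n b : ℂ) * ((b : IrrCharacter G) : G → ℂ) x = conj c := by
      intro b
      rw [hχb b]
      rcases hn b b.2 with h2 | h2
      · rw [h2]; push_cast; ring
      · rw [h2]; push_cast; ring
    rw [Finset.sum_congr rfl (fun b _ => h1 b), Finset.sum_const, Finset.card_univ, hcard]
    simp
  have h3 := hχb ⟨χ, hχ⟩
  rw [h3, hθx]
  ring

end Cfsg.Agent.Lib.Helper5.KleinPILINB
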