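import Cfsg.Agent.Lib.Helper27.SpMDefs
import Cfsg.Agent.S5648

/-!
# SpnMax leaf E1 (helper5): `q = 2`, the stabiliser of a decomposition into non-degenerate 2-spaces
lies in the similarity group of the "parity of the number of non-zero components" quadratic form.
-/

set_option autoImplicit false
set_option linter.unusedSectionVars false
set_option linter.unusedVariables false

namespace Cfsg.Agent.Lib.Helper5.SpMLeaf

open Cfsg Cfsg.Geo Matrix Module Cfsg.Agent.Lib.Helper27.SpM

variable {m : ℕ} {F : Type*} [Field F] [Fintype F]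

open Cfsg.Agent.S5648.S5648aux Cfsg.Agent.Lib.Helper5 in
theorem ndec_two_le_quad (hq : Fintype.card F = 2) {t : ℕ} {D : Fin t → Submodule F (Fin m ⊕ Fin m → F)}
    (hD : IsNondegenerateMDecomposition (sympForm m F) 2 D) :
    ∃ Q : (Fin m ⊕ Fin m → F) → F, IsNondegenerateQuadraticForm Q ∧
      (∀ u v, QuadraticMap.polar Q u v = sympForm m F u v) ∧
      decompositionStabilizer D ≤ quadSimilarityGroup Q := by
  have hI : DirectSum.IsInternal D :=
    DirectSum.isInternal_submodule_of_iSupIndep_of_iSup_eq_top hD.decomp.indep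
      hD.decomp.iSup_eq_top
  have hpol : ∀ u v, QuadraticMap.polar (Q D hI) u v = sympForm m F u v := by
    intro u v
    unfold QuadraticMap.polar
    rw [Q_add hq D hD hI u v]
    ring
  have hpolfun : QuadraticMap.polar (Q D hI) = sympForm m F := by
    funext u v
    exact hpol u v
  refine ⟨Q D hI, ⟨?_, ?_, ?_⟩, hpol, ?_⟩
  · intro c v
    rcases eq_zero_or_one hq c with rfl | rfl
    · rw [zero_smul, Q_zero]
      ring
    · rw [one_smul]
      ring
  · rw [hpolfun]
    exact ⟨fun x y v => sympForm_add_left x y v, fun c x v => sympForm_smul_left c x v,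
      fun v x y => sympForm_add_right v x y, fun c v x => sympForm_smul_right c v x⟩
  · rw [hpolfun]
    intro v hv
    obtain ⟨a, ha⟩ := sympForm_nondeg v hv
    refine ⟨⟨a, ?_⟩, ⟨a, ha⟩⟩
    rw [sympForm_swap]
    exact neg_ne_zero.mpr ha
  · intro g hg
    refine ⟨1, fun v => ?_⟩
    rw [Units.val_one, one_mul]
    exact (mem_Kq D hI).mp (stab_le_Kq D hI hg) v

end Cfsg.Agent.Lib.Helper5.SpMLeaf
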