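import Cfsg.Agent.Lib.Helper27.SpMDefs
import Cfsg.Agent.Lib.Helper5.TensorGen
import Cfsg.Agent.Lib.Helper5.SpMax
import Cfsg.Agent.Lib.Helper5.Symp

/-!
# SpnMax leaf E2 (helper5): over the field with three elements the stabiliser in `Sp` of a tensor
decomposition with an orthogonal 3-space as second factor stabilises a decomposition into three
non-degenerate subspaces (the images of `F^{n₁} ⊗ E_i` for an orthogonal frame `E₀, E₁, E₂`).
-/

set_option autoImplicit false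
set_option linter.unusedSectionVars false
set_option linter.unusedVariables false
set_option linter.unusedSimpArgs false

namespace Cfsg.Agent.Lib.Helper5.SpMLeaf

open Cfsg Cfsg.Geo Matrix Module Cfsg.Agent.Lib.Helper27.SpM

variable {m : ℕ} {F : Type*} [Field F] [Fintype F]

namespace E2aux
open Cfsg.Agent.Lib.Helper5 Cfsg.Agent.Lib.Helper5.TensorGen Cfsg.Agent.Lib.Helper5.SpMax

/-- a frame-like vector is a multiple of a frame vector -/
lemma fr_cases {f : (Fin 3 → F) → (Fin 3 → F) → F} {d : F} {E₀ E₁ E₂ : Fin 3 → F}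
    (h : IsFr f d E₀ E₁ E₂) (hf : IsSymmetricForm f) (hq : Fintype.card F = 3)
    {v : Fin 3 → F} (hv : v ∈ Fr f) :
    (∃ s : F, v = s • E₀) ∨ (∃ s : F, v = s • E₁) ∨ (∃ s : F, v = s • E₂) := by
  rcases h.cases0 hf hq hv with h0 | h0
  · rcases (h.swap01 hf).cases0 hf hq hv with h1 | h1
    · have h201 : IsFr f d E₂ E₀ E₁ := (h.swap12 hf).swap01 hf
      rcases h201.cases0 hf hq hv with h2 | h2
      · exfalso
        obtain ⟨a₀, a₁, a₂, rfl⟩ := h.span v
        rw [h.pairR0 hf] at h0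
        rw [h.pairR1 hf] at h1
        rw [h.pairR2 hf] at h2
        have e0 : a₀ = 0 := (mul_eq_zero.mp h0).resolve_left h.d_ne
        have e1 : a₁ = 0 := (mul_eq_zero.mp h1).resolve_left h.d_ne
        have e2 : a₂ = 0 := (mul_eq_zero.mp h2).resolve_left h.d_ne
        apply hv.1
        rw [h.comb hf, e0, e1, e2]
        ring
      · exact Or.inr (Or.inr h2)
    · exact Or.inr (Or.inl h1)
  · exact Or.inl h0

lemma main_aux (hm : 1 ≤ m) {n₁ : ℕ} (e : (Fin m ⊕ Fin m) ≃ Fin n₁ × Fin 3)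
    (P : GL (Fin m ⊕ Fin m) F) (f₁ : (Fin n₁ → F) → (Fin n₁ → F) → F)
    (f₂ : (Fin 3 → F) → (Fin 3 → F) → F)
    (hf₁ : IsSymplecticForm f₁) (hf₂ : IsSymmetricForm f₂) (c₀ : F) (hc₀ : c₀ ≠ 0)
    (hH : ∀ u u' v v', sympForm m F (tau e P u v) (tau e P u' v') = c₀ * (f₁ u u' * f₂ v v'))
    (d : F) (hd : d ≠ 0) (Ev : Fin 3 → (Fin 3 → F))
    (hnorm : ∀ i, f₂ (Ev i) (Ev i) = d) (horth : ∀ i j, i ≠ j → f₂ (Ev i) (Ev j) = 0)
    (hspan : ∀ v : Fin 3 → F, ∃ a : Fin 3 → F, v = ∑ i, a i • Ev i)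
    (hmem : ∀ i, Ev i ∈ Fr f₂)
    (hfr : ∀ v ∈ Fr f₂, ∃ (k : Fin 3) (s : F), v = s • Ev k) :
    ∃ D : Fin 3 → Submodule F (Fin m ⊕ Fin m → F),
      IsNondegenerateMDecomposition (sympForm m F) n₁ D ∧
      tensorProductSubgroup n₁ 3 e P ⊓ spGL m F ≤ decompositionStabilizer D := by
  classical
  have hn₁ : 0 < n₁ := Fin.pos (e (Sum.inl ⟨0, hm⟩)).1
  have hb₁ := hf₁.bilinear
  have hb₂ := hf₂.bilinear
  let L : Fin 3 → (Fin n₁ → F) →ₗ[F] (Fin m ⊕ Fin m → F) := fun i =>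
    { toFun := fun u => tau e P u (Ev i)
      map_add' := fun u u' => tau_add_left e P u u' (Ev i)
      map_smul' := fun c u => by simpa using tau_smul_left e P c u (Ev i) }
  have hL : ∀ i u, L i u = tau e P u (Ev i) := fun i u => rfl
  have hHL : ∀ i j u u', sympForm m F (L i u) (L j u') = c₀ * (f₁ u u' * f₂ (Ev i) (Ev j)) :=
    fun i j u u' => hH u u' (Ev i) (Ev j)
  have hLinj : ∀ i, Function.Injective (L i) := by
    intro i
    rw [injective_iff_map_eq_zero]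
    intro u hu
    apply nd_left hf₁.nondegenerate
    intro y
    have h1 := hHL i i u y
    rw [hu, sympForm_zero_left, hnorm] at h1
    rcases mul_eq_zero.mp h1.symm with h | h
    · exact absurd h hc₀
    · exact (mul_eq_zero.mp h).resolve_right hd
  set D : Fin 3 → Submodule F (Fin m ⊕ Fin m → F) := fun i => LinearMap.range (L i) with hD
  have horthD : ∀ i j, i ≠ j → AreOrthogonalFor (sympForm m F) (D i) (D j) := by
    intro i j hij x hx y hy
    obtain ⟨u, rfl⟩ := hx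
    obtain ⟨u', rfl⟩ := hy
    rw [hHL, horth i j hij, mul_zero, mul_zero]
  have hndD : ∀ i, IsNondegenerateOn (sympForm m F) (D i) := by
    intro i w hw hw0
    obtain ⟨u, rfl⟩ := hw
    have hu : u ≠ 0 := by
      rintro rfl
      exact hw0 (map_zero _)
    obtain ⟨⟨x, hx⟩, ⟨y, hy⟩⟩ := hf₁.nondegenerate u hu
    refine ⟨⟨L i x, ⟨x, rfl⟩, ?_⟩, ⟨L i y, ⟨y, rfl⟩, ?_⟩⟩
    · rw [hHL, hnorm]
      exact mul_ne_zero hc₀ (mul_ne_zero hx hd)
    · rw [hHL, hnorm]
      exact mul_ne_zero hc₀ (mul_ne_zero hy hd)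
  have hindep : iSupIndep D := by
    intro i
    rw [Submodule.disjoint_def]
    intro z hz1 hz2
    by_contra hz0
    obtain ⟨⟨x, hx, hne⟩, -⟩ := hndD i z hz1 hz0
    apply hne
    let Perp : Submodule F (Fin m ⊕ Fin m → F) :=
      { carrier := {y | sympForm m F x y = 0}
        add_mem' := fun {a b} ha hb => by
          have ha' : sympForm m F x a = 0 := ha
          have hb' : sympForm m F x b = 0 := hb
          show sympForm m F x (a + b) = 0
          rw [sympForm_add_right, ha', hb', add_zero]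
        zero_mem' := by
          show sympForm m F x 0 = 0
          rw [sympForm_swap, sympForm_zero_left, neg_zero]
        smul_mem' := fun c a ha => by
          have ha' : sympForm m F x a = 0 := ha
          show sympForm m F x (c • a) = 0
          rw [sympForm_smul_right, ha', mul_zero] }
    have hle : (⨆ j, ⨆ (_ : j ≠ i), D j) ≤ Perp :=
      iSup_le fun j => iSup_le fun hj => fun y hy => horthD i j (Ne.symm hj) x hx y hy
    exact hle hz2
  have hsup : iSup D = ⊤ := by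
    rw [eq_top_iff]
    intro z _
    have hpure : ∀ u v, tau e P u v ∈ iSup D := by
      intro u v
      obtain ⟨a, rfl⟩ := hspan v
      have h3 : tau e P u (∑ i, a i • Ev i) = ∑ i, a i • tau e P u (Ev i) := by
        rw [Fin.sum_univ_three, Fin.sum_univ_three, tau_add_right, tau_add_right,
          tau_smul_right, tau_smul_right, tau_smul_right]
      rw [h3]
      exact Submodule.sum_mem _ fun i _ =>
        Submodule.smul_mem _ _ (Submodule.mem_iSup_of_mem i ⟨u, rfl⟩)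
    set x : Fin n₁ × Fin 3 → F :=
      (((P⁻¹ : GL (Fin m ⊕ Fin m) F) : Matrix (Fin m ⊕ Fin m) (Fin m ⊕ Fin m) F) *ᵥ z) ∘ e.symm
      with hx
    have hz : z = (P : Matrix (Fin m ⊕ Fin m) (Fin m ⊕ Fin m) F) *ᵥ (x ∘ e) := by
      rw [hx, Function.comp_assoc, Equiv.symm_comp_self, Function.comp_id, Matrix.mulVec_mulVec,
        ← Units.val_mul, mul_inv_cancel, Units.val_one, Matrix.one_mulVec]
    have hxsum : x = ∑ j : Fin 3, pt (fun a => x (a, j)) (Pi.single j 1) := by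
      funext ⟨a, k⟩
      rw [Finset.sum_apply]
      simp only [pt]
      rw [Finset.sum_eq_single k]
      · simp
      · intro j _ hjk
        rw [Pi.single_apply, if_neg (Ne.symm hjk), mul_zero]
      · intro h
        exact absurd (Finset.mem_univ k) h
    have hzsum : z = ∑ j : Fin 3, tau e P (fun a => x (a, j)) (Pi.single j 1) := by
      rw [hz]
      conv_lhs => rw [hxsum]
      unfold tau
      have hlin : ∀ y : Fin m ⊕ Fin m → F,
          (P : Matrix (Fin m ⊕ Fin m) (Fin m ⊕ Fin m) F) *ᵥ y =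
            Matrix.toLin' (P : Matrix (Fin m ⊕ Fin m) (Fin m ⊕ Fin m) F) y :=
        fun y => (Matrix.toLin'_apply _ _).symm
      simp only [hlin]
      rw [← map_sum]
      congr 1
    rw [hzsum]
    exact Submodule.sum_mem _ fun j _ => hpure _ _
  have hfin : ∀ i, finrank F (D i) = n₁ := by
    intro i
    show finrank F (LinearMap.range (L i)) = n₁
    rw [LinearMap.finrank_range_of_inj (hLinj i), Module.finrank_fin_fun]
  refine ⟨D, ⟨⟨by norm_num, hn₁, hfin, hindep, hsup⟩, hndD, horthD⟩, ?_⟩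
  intro g hg
  obtain ⟨a, b, hab⟩ := T_act e P hg.1
  have hgf := mem_spGL.mp hg.2
  obtain ⟨w₀, w₀', hw⟩ : ∃ w₀ w₀' : Fin n₁ → F, f₁ w₀ w₀' ≠ 0 := by
    have hne : (Pi.single (⟨0, hn₁⟩ : Fin n₁) (1 : F) : Fin n₁ → F) ≠ 0 := by
      intro h
      have := congrFun h ⟨0, hn₁⟩
      simp at this
    obtain ⟨-, ⟨x, hx⟩⟩ := hf₁.nondegenerate _ hne
    exact ⟨_, x, hx⟩
  have key : ∀ x x', f₁ ((a : Matrix (Fin n₁) (Fin n₁) F) *ᵥ w₀)
      ((a : Matrix (Fin n₁) (Fin n₁) F) *ᵥ w₀') *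
      f₂ ((b : Matrix (Fin 3) (Fin 3) F) *ᵥ x) ((b : Matrix (Fin 3) (Fin 3) F) *ᵥ x') =
      f₁ w₀ w₀' * f₂ x x' := by
    intro x x'
    have := hgf (tau e P w₀ x) (tau e P w₀' x')
    rw [hab, hab, hH, hH] at this
    exact mul_left_cancel₀ hc₀ this
  have hA : f₁ ((a : Matrix (Fin n₁) (Fin n₁) F) *ᵥ w₀)
      ((a : Matrix (Fin n₁) (Fin n₁) F) *ᵥ w₀') ≠ 0 := by
    intro h0
    have := key (Ev 0) (Ev 0)
    rw [h0, zero_mul, hnorm] at this
    exact (mul_ne_zero hw hd) this.symm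
  obtain ⟨μ, hμ⟩ : ∃ μ, μ = f₁ w₀ w₀' / f₁ ((a : Matrix (Fin n₁) (Fin n₁) F) *ᵥ w₀)
      ((a : Matrix (Fin n₁) (Fin n₁) F) *ᵥ w₀') := ⟨_, rfl⟩
  have hμ0 : μ ≠ 0 := by
    rw [hμ]
    exact div_ne_zero hw hA
  have hB : ∀ v v', f₂ ((b : Matrix (Fin 3) (Fin 3) F) *ᵥ v)
      ((b : Matrix (Fin 3) (Fin 3) F) *ᵥ v') = μ * f₂ v v' := by
    intro x x'
    rw [hμ, div_mul_eq_mul_div, eq_div_iff hA, mul_comm _ (f₁ _ _)]
    exact key x x'
  have hbE : ∀ i, ∃ (k : Fin 3) (s : F),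
      (b : Matrix (Fin 3) (Fin 3) F) *ᵥ Ev i = s • Ev k := fun i =>
    hfr _ (Fr_simil hμ0 hB (hmem i))
  choose σ s hσ using hbE
  have hs0 : ∀ i, s i ≠ 0 := by
    intro i h0
    have := hB (Ev i) (Ev i)
    rw [hσ, h0, zero_smul, bf_zero_left f₂ hb₂, hnorm] at this
    exact (mul_ne_zero hμ0 hd) this.symm
  have hσinj : Function.Injective σ := by
    intro i j hij
    by_contra hne
    have := hB (Ev i) (Ev j)
    rw [horth i j hne, mul_zero, hσ i, hσ j, hij, hb₂.smul_left, hb₂.smul_right, hnorm] at this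
    exact (mul_ne_zero (hs0 i) (mul_ne_zero (hs0 j) hd)) this
  refine ⟨Equiv.ofBijective σ (Finite.injective_iff_bijective.mp hσinj), fun i => ?_⟩
  rw [Equiv.ofBijective_apply]
  ext z
  constructor
  · rintro ⟨y, ⟨u, rfl⟩, rfl⟩
    rw [Matrix.toLin'_apply, hL, hab, hσ, tau_smul_right, ← tau_smul_left]
    exact ⟨_, rfl⟩
  · rintro ⟨u', rfl⟩
    refine ⟨L i (((a⁻¹ : GL (Fin n₁) F) : Matrix (Fin n₁) (Fin n₁) F) *ᵥ ((s i)⁻¹ • u')),
      ⟨_, rfl⟩, ?_⟩
    rw [Matrix.toLin'_apply, hL, hab, hσ, Matrix.mulVec_mulVec, ← Units.val_mul, mul_inv_cancel,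
      Units.val_one, Matrix.one_mulVec, tau_smul_right, tau_smul_left, smul_smul,
      mul_inv_cancel₀ (hs0 i), one_smul]
    rfl

end E2aux

open Cfsg.Agent.Lib.Helper5 Cfsg.Agent.Lib.Helper5.TensorGen in
theorem tensor_three_le_ndec (hm : 1 ≤ m) (hq : Fintype.card F = 3) {n₁ : ℕ} (e : (Fin m ⊕ Fin m) ≃ Fin n₁ × Fin 3)
    (P : GL (Fin m ⊕ Fin m) F) (f₁ : (Fin n₁ → F) → (Fin n₁ → F) → F) (f₂ : (Fin 3 → F) → (Fin 3 → F) → F)
    (hf₁ : IsSymplecticForm f₁) (hf₂ : IsSymmetricForm f₂)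
    (hT : IsTensorFormStructure id (sympForm m F) f₁ f₂ e P) :
    ∃ D : Fin 3 → Submodule F (Fin m ⊕ Fin m → F), IsNondegenerateMDecomposition (sympForm m F) n₁ D ∧
      tensorProductSubgroup n₁ 3 e P ⊓ spGL m F ≤ decompositionStabilizer D := by
  classical
  obtain ⟨c₀, hc₀, hT'⟩ := hT
  have hH := form_tau e P (sympForm m F) f₁ hf₁.bilinear f₂ hf₂.bilinear c₀ hT'
  obtain ⟨d, E₀, E₁, E₂, hE⟩ := exists_isFr hq hf₂
  refine E2aux.main_aux hm e P f₁ f₂ hf₁ hf₂ c₀ hc₀ hH d hE.d_ne ![E₀, E₁, E₂] ?_ ?_ ?_ ?_ ?_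
  · intro i
    fin_cases i
    · exact hE.n0
    · exact hE.n1
    · exact hE.n2
  · intro i j hij
    fin_cases i <;> fin_cases j
    · exact absurd rfl hij
    · exact hE.o01
    · exact hE.o02
    · exact hE.o10 hf₂
    · exact absurd rfl hij
    · exact hE.o12
    · exact hE.o20 hf₂
    · exact hE.o21 hf₂
    · exact absurd rfl hij
  · intro v
    obtain ⟨a₀, a₁, a₂, rfl⟩ := hE.span v
    refine ⟨![a₀, a₁, a₂], ?_⟩
    rw [Fin.sum_univ_three]
    rfl
  · intro i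
    fin_cases i
    · exact hE.mem0 hf₂ hq
    · exact (hE.swap01 hf₂).mem0 hf₂ hq
    · exact ((hE.swap12 hf₂).swap01 hf₂).mem0 hf₂ hq
  · intro v hv
    rcases E2aux.fr_cases hE hf₂ hq hv with ⟨s, hs⟩ | ⟨s, hs⟩ | ⟨s, hs⟩
    · exact ⟨0, s, hs⟩
    · exact ⟨1, s, hs⟩
    · exact ⟨2, s, hs⟩

end Cfsg.Agent.Lib.Helper5.SpMLeaf
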