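import Mathlib
import Cfsg.Agent.Lib.Helper29.WDDefs
import Cfsg.Agent.Lib.Helper7.DHBGP
import Cfsg.Agent.Lib.Helper7.DHB2S

/-!
S3572 market "WD", leaf N8 (planner helper29): the `Z_8` parity check.
-/

set_option autoImplicit false
set_option linter.unusedSectionVars false
set_option linter.unusedVariables false

namespace Cfsg.Agent.Lib.Helper5.WDLeaf

open Finset DihedralGroup
open Cfsg.Agent.Lib.Helper19.SchurCyclic
open Cfsg.Agent.Lib.Helper7.DHB
open Cfsg.Agent.Lib.Helper29.WD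

/-- conditions on `Xh`. -/
def n8CondX (Xh : Finset (ZMod 8)) : Prop :=
  (∀ i ∈ Xh, -i ∈ Xh) ∧ (∀ i ∈ Xh, i + 4 ∈ Xh) ∧ (∀ i ∈ Xh, i.val % 2 = 0) ∧ Xh.Nonempty

instance n8CondX_dec (Xh : Finset (ZMod 8)) : Decidable (n8CondX Xh) := by
  unfold n8CondX; infer_instance

/-- conditions on `Y` (with `lam = 2 * rep Xh Y 0`). -/
def n8CondY (Xh Y : Finset (ZMod 8)) : Prop :=
  Y.Nonempty ∧ (∀ i : ZMod 8, i ≠ 0 → rep Xh Xh i + dif Y Y i = 2 * rep Xh Y 0) ∧
    (∀ j : ZMod 8, 2 * rep Xh Y j = 2 * rep Xh Y 0)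

instance n8CondY_dec (Xh Y : Finset (ZMod 8)) : Decidable (n8CondY Xh Y) := by
  unfold n8CondY; infer_instance

set_option maxRecDepth 1000000 in
theorem n8_aux : ∀ Xh : Finset (ZMod 8), n8CondX Xh → ∀ Y : Finset (ZMod 8), ¬ n8CondY Xh Y := by
  decide +kernel

theorem n8_odd_smul : ∀ i : ZMod 8, i.val % 2 = 1 → i.val • i = 1 := by decide

variable {n : ℕ} [NeZero n] {U : Type*} [Group U] {star : U → DihedralGroup n → DihedralGroup n}
variable {T T' T₁ T₂ : Finset (DihedralGroup n)}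

/-- the `Z_8` parity check at the end of Lemma Z / 2S (`κ' = 2`, `|Y| = 4`, `λ = 2`; differences `1, 5`). -/
theorem n8_contra (h8 : n = 8) (Xh Y : Finset (ZMod n)) (lam : ℕ) (hneg : ∀ i ∈ Xh, -i ∈ Xh)
    (hz : ∀ i ∈ Xh, i + ((4 : ℕ) : ZMod n) ∈ Xh) (B : AddSubgroup (ZMod n)) (hB : B ≠ ⊤) (hXB : ∀ i ∈ Xh, i ∈ B)
    (hXh : Xh.Nonempty) (hY : Y.Nonempty)
    (hE1 : ∀ i : ZMod n, i ≠ 0 → rep Xh Xh i + dif Y Y i = lam)
    (hE2 : ∀ j : ZMod n, 2 * rep Xh Y j = lam) : False := by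
  subst h8
  have heven : ∀ i ∈ Xh, i.val % 2 = 0 := by
    intro i hi
    by_contra hodd
    have hodd' : i.val % 2 = 1 := by omega
    apply hB
    have h1 : (1 : ZMod 8) ∈ B := by
      rw [← n8_odd_smul i hodd']
      exact B.nsmul_mem (hXB i hi) _
    rw [eq_top_iff]
    intro x _
    have : x = x.val • (1 : ZMod 8) := by
      rw [nsmul_eq_mul, mul_one, ZMod.natCast_zmod_val]
    rw [this]
    exact B.nsmul_mem h1 _
  have hX : n8CondX Xh := by
    refine ⟨hneg, ?_, heven, hXh⟩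
    intro i hi
    have := hz i hi
    simpa using this
  have hlam : lam = 2 * rep Xh Y 0 := (hE2 0).symm
  refine n8_aux Xh hX Y ⟨hY, ?_, ?_⟩
  · intro i hi
    rw [← hlam]; exact hE1 i hi
  · intro j
    rw [← hlam]; exact hE2 j

end Cfsg.Agent.Lib.Helper5.WDLeaf
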