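import Mathlib
import Cfsg.Agent.Lib.Helper29.WDDefs
import Cfsg.Agent.Lib.Helper7.DHBGP
import Cfsg.Agent.Lib.Helper7.DHB2S

/-!
S3572 market "WD", leaf TWOP (planner helper29): the two-primes trick.
-/

set_option autoImplicit false
set_option linter.unusedSectionVars false
set_option linter.unusedVariables false

namespace Cfsg.Agent.Lib.Helper5.WDLeaf

open Finset DihedralGroup
open Cfsg.Agent.Lib.Helper19.SchurCyclic
open Cfsg.Agent.Lib.Helper7.DHB
open Cfsg.Agent.Lib.Helper29.WD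

/-- an element killed by two distinct primes is zero. -/
theorem eq_zero_of_two_primes {A : Type*} [AddGroup A] {p q : ℕ} (hp : p.Prime) (hq : q.Prime)
    (hpq : p ≠ q) (g : A) (h1 : p • g = 0) (h2 : q • g = 0) : g = 0 := by
  have d1 : addOrderOf g ∣ p := addOrderOf_dvd_of_nsmul_eq_zero h1
  have d2 : addOrderOf g ∣ q := addOrderOf_dvd_of_nsmul_eq_zero h2
  have d3 := Nat.dvd_gcd d1 d2
  have hc : Nat.Coprime p q := (Nat.coprime_primes hp hq).2 hpq
  rw [hc] at d3
  exact AddMonoid.addOrderOf_eq_one_iff.1 (Nat.dvd_one.1 d3)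

variable {n : ℕ} [NeZero n] {U : Type*} [Group U] {star : U → DihedralGroup n → DihedralGroup n}
variable {T T' T₁ T₂ : Finset (DihedralGroup n)}

/-- two-primes trick. -/
theorem two_primes {p q : ℕ} (hp : p.Prime) (hq : q.Prime) (hpq : p ≠ q) (hpn : p ∣ n) (hqn : q ∣ n)
    (X : Finset (ZMod n)) (hXp : PInvOff p X) (hXq : PInvOff q X) (g : ZMod n) (hg : g ∈ X) (hg0 : g ≠ 0)
    (hgp : p • g = 0) : ∀ t : ZMod n, q • t = 0 → t ≠ 0 → t ∈ X := by
  intro t ht ht0
  have hqg : q • g ≠ 0 := fun h => hg0 (eq_zero_of_two_primes hp hq hpq g hgp h)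
  have h1 : g + t ∈ X := hXq g hg hqg t ht
  have hpt : p • t ≠ 0 := fun h => ht0 (eq_zero_of_two_primes hp hq hpq t h ht)
  have h2 : p • (g + t) ≠ 0 := by
    rw [smul_add, hgp, zero_add]; exact hpt
  have h3 : p • (-g) = 0 := by rw [smul_neg, hgp, neg_zero]
  have h4 := hXp (g + t) h1 h2 (-g) h3
  have h5 : g + t + -g = t := by abel
  rwa [h5] at h4

end Cfsg.Agent.Lib.Helper5.WDLeaf
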