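import Mathlib
import Cfsg.Agent.Lib.Helper5.APTools

/-!
helper5: leaf AP-NC of market "AP" (S3614, planner helper4): commutators of elements normalizing
`⟨z⟩` centralize `z`.
-/

set_option autoImplicit false

namespace Cfsg.Agent.Lib.Helper5.APNC

open Equiv MulAction

/-- **AP-NC**. -/
theorem APNC {Γ : Type*} [Group Γ] {z n₁ n₂ : Γ}
    (h₁ : n₁ ∈ Subgroup.normalizer ((Subgroup.zpowers z : Subgroup Γ) : Set Γ))
    (h₂ : n₂ ∈ Subgroup.normalizer ((Subgroup.zpowers z : Subgroup Γ) : Set Γ)) :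
    Commute (n₁ * n₂ * n₁⁻¹ * n₂⁻¹) z :=
  Cfsg.Agent.Lib.Helper5.APTools.commute_commutator_of_mem_normalizer_zpowers z n₁ n₂ h₁ h₂

end Cfsg.Agent.Lib.Helper5.APNC
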