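import Mathlib
import Cfsg.Agent.Lib.Helper5.APCL2
import Cfsg.Agent.Lib.Helper29.APJ2

/-!
helper5: leaf AP-C2 of market "AP" (S3614, planner helper4), parametrized form:
`|Ω| = 3r+4`, `z ∈ H` of order `r` with two `r`-cycles, `H` 5-transitive ⟹ `Alt Ω ≤ H`,
given the statements of the leaves AP-COMM (`t = 5`) and AP-CT as hypotheses
(AP-CL2 and AP-J2 are cited from main).
-/

set_option autoImplicit false

namespace Cfsg.Agent.Lib.Helper5.APC2Of

open Equiv MulAction

variable {Ω : Type*} [Fintype Ω] [DecidableEq Ω]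

set_option linter.unusedVariables false

/-- the commutator `⁅swap 1 2, swap 2 3⁆` in `Perm (Fin 5)`: the 3-cycle `1 ↦ 3 ↦ 2 ↦ 1` -/
def π5 : Perm (Fin 5) := swap 1 2 * swap 2 3 * (swap 1 2)⁻¹ * (swap 2 3)⁻¹

set_option maxRecDepth 100000 in
theorem π5_vals : π5 0 = 0 ∧ π5 1 = 3 ∧ π5 2 = 1 ∧ π5 3 = 2 := by decide

set_option maxRecDepth 100000 in
theorem π5_cube : ∀ i : Fin 5, π5 (π5 (π5 i)) = i := by decide

theorem π5_pow_three : π5 ^ 3 = 1 := by
  ext i
  simp only [pow_succ, pow_zero, one_mul, Perm.mul_apply, Perm.one_apply, π5_cube]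

omit [Fintype Ω] [DecidableEq Ω] in
/-- `c` acts on the tuple `x` like `k`: then so do the powers -/
theorem pow_apply_emb {t : ℕ} (c : Perm Ω) (x : Fin t ↪ Ω) (k : Perm (Fin t))
    (h : ∀ i, c (x i) = x (k i)) (m : ℕ) : ∀ i, (c ^ m) (x i) = x ((k ^ m) i) := by
  induction m with
  | zero => intro i; simp
  | succ m ih =>
    intro i
    rw [pow_succ, Perm.mul_apply, h i, ih (k i), pow_succ, Perm.mul_apply]

/-- **AP-C2**, with the statements of AP-COMM (`t = 5`) and AP-CT as hypotheses. -/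
theorem APC2Of (H : Subgroup (Perm Ω)) (h5 : IsMultiplyPretransitive ↥H Ω 5)
    (r : ℕ) (hr : r.Prime) (hr5 : 5 ≤ r) (hΩ : Fintype.card Ω = 3 * r + 4)
    {z : Perm Ω} (hz : z ∈ H) (hzr : orderOf z = r)
    (hk : z.support.card = 2 * r)
    (hCOMM : ∀ x : Fin 5 ↪ Ω, (∀ i, z (x i) = x i) → ∀ σ τ : Perm (Fin 5),
      ∃ c ∈ H, Commute c z ∧ Perm.sign c = 1 ∧ ∀ i, c (x i) = x ((σ * τ * σ⁻¹ * τ⁻¹) i))
    (hCT : ∀ t : ℕ, IsMultiplyPretransitive ↥H Ω t → t < Fintype.card Ω →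
      ∀ u : Perm Ω, u ∈ H → u ≠ 1 → u.support.card ≤ t → alternatingGroup Ω ≤ H) :
    alternatingGroup Ω ≤ H := by
  classical
  have hr3 : ¬ 3 ∣ 2 * r := by
    intro h
    have h3 : (3 : ℕ).Prime := by norm_num
    rcases (Nat.Prime.dvd_mul h3).1 h with h | h
    · omega
    · have := (Nat.prime_dvd_prime_iff_eq h3 hr).1 h
      omega
  -- the complement of the support
  have hFix : (z.support)ᶜ.card = r + 4 := by
    rw [Finset.card_compl, hΩ, hk]; omega
  -- key: for distinct α β γ fixed by z, an element of H fixing supp z pointwise, fixing α,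
  -- and sending β to γ
  have hK : ∀ α β γ : Ω, α ∉ z.support → β ∉ z.support → γ ∉ z.support → α ≠ β → α ≠ γ →
      β ≠ γ → ∃ k ∈ H, (∀ x ∈ z.support, k x = x) ∧ k α = α ∧ k β = γ := by
    intro α β γ hα hβ hγ hαβ hαγ hβγ
    -- two more fixed points
    have hT : 1 < ((z.support)ᶜ \ {α, β, γ}).card := by
      have h1 : ({α, β, γ} : Finset Ω).card ≤ 3 := Finset.card_le_three
      have h2 := Finset.le_card_sdiff ({α, β, γ} : Finset Ω) (z.support)ᶜ
      omega
    obtain ⟨δ, hδ, ε, hε, hδε⟩ := Finset.one_lt_card.1 hT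
    simp only [Finset.mem_sdiff, Finset.mem_compl, Finset.mem_insert, Finset.mem_singleton,
      not_or] at hδ hε
    obtain ⟨hδz, hδα, hδβ, hδγ⟩ := hδ
    obtain ⟨hεz, hεα, hεβ, hεγ⟩ := hε
    have hl : ([α, β, γ, δ, ε] : List Ω).Nodup := by
      simp only [List.nodup_cons, List.mem_cons, List.not_mem_nil, or_false, not_or,
        List.nodup_nil, and_true, not_false_eq_true]
      exact ⟨⟨hαβ, hαγ, Ne.symm hδα, Ne.symm hεα⟩, ⟨hβγ, Ne.symm hδβ, Ne.symm hεβ⟩,
        ⟨Ne.symm hδγ, Ne.symm hεγ⟩, hδε⟩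
    let x : Fin 5 ↪ Ω :=
      ⟨fun i => ([α, β, γ, δ, ε] : List Ω).get i, List.nodup_iff_injective_get.1 hl⟩
    have hx0 : x 0 = α := rfl
    have hx1 : x 1 = β := rfl
    have hx2 : x 2 = γ := rfl
    have hx3 : x 3 = δ := rfl
    have hx4 : x 4 = ε := rfl
    have hxfix : ∀ i, z (x i) = x i := by
      intro i
      have hmem : ∀ y : Ω, y ∉ z.support → z y = y := fun y hy => by
        rwa [Perm.mem_support, not_not] at hy
      fin_cases i
      · exact hmem _ hα
      · exact hmem _ hβ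
      · exact hmem _ hγ
      · exact hmem _ hδz
      · exact hmem _ hεz
    obtain ⟨c, hcH, hcz, -, hcx⟩ := hCOMM x hxfix (swap 1 2) (swap 2 3)
    have hcx' : ∀ i, c (x i) = x (π5 i) := hcx
    have hpow := pow_apply_emb c x π5 hcx' (2 * r)
    have hCL := APCL2.APCL2 r hr hzr hk hcz
    obtain ⟨hv0, hv1, hv2, hv3⟩ := π5_vals
    -- reduce the exponent mod 3
    have hmod : π5 ^ (2 * r) = π5 ^ ((2 * r) % 3) := by
      conv_lhs => rw [← Nat.div_add_mod (2 * r) 3]
      rw [pow_add, pow_mul, π5_pow_three, one_pow, one_mul]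
    have hcases : (2 * r) % 3 = 1 ∨ (2 * r) % 3 = 2 := by
      have : (2 * r) % 3 ≠ 0 := fun h => hr3 (Nat.dvd_of_mod_eq_zero h)
      omega
    rcases hcases with h1 | h2
    · -- `c^(2r)` acts like `π5`: use the inverse
      rw [h1, pow_one] at hmod
      refine ⟨(c ^ (2 * r))⁻¹, inv_mem (pow_mem hcH _), ?_, ?_, ?_⟩
      · intro y hy
        rw [Perm.inv_eq_iff_eq, hCL y hy]
      · rw [Perm.inv_eq_iff_eq, ← hx0, hpow 0, hmod, hv0]
      · rw [Perm.inv_eq_iff_eq, ← hx2, hpow 2, hmod, hv2]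
        exact hx1.symm
    · -- `c^(2r)` acts like `π5²`
      rw [h2] at hmod
      refine ⟨c ^ (2 * r), pow_mem hcH _, hCL, ?_, ?_⟩
      · rw [← hx0, hpow 0, hmod, pow_two, Perm.mul_apply, hv0, hv0]
      · rw [← hx1, hpow 1, hmod, pow_two, Perm.mul_apply, hv1, hv3]
        exact hx2
  -- primitivity
  have h2 : IsMultiplyPretransitive ↥H Ω 2 :=
    isMultiplyPretransitive_of_le (n := 5) (by norm_num)
      (by rw [Nat.card_eq_fintype_card]; omega)
  have hprim : IsPreprimitive ↥H Ω := isPreprimitive_of_is_two_pretransitive h2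
  -- Jordan: `H` is `(2r+1)`-transitive
  have hJ : IsMultiplyPretransitive ↥H Ω (2 * r - 1 + 2) :=
    Cfsg.Agent.Lib.Helper29.APJ2.APJ2 H hprim z.support (2 * r - 1) (by rw [hk]; omega)
      (by omega) hK
  -- three fixed points
  have h3 : 2 < (z.support)ᶜ.card := by omega
  obtain ⟨α, hα, β, hβ, γ, hγ, hαβ, hαγ, hβγ⟩ := Finset.two_lt_card.1 h3
  rw [Finset.mem_compl] at hα hβ hγ
  obtain ⟨u, huH, husupp, -, huβ⟩ := hK α β γ hα hβ hγ hαβ hαγ hβγ
  have hu1 : u ≠ 1 := by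
    intro h
    rw [h, Perm.one_apply] at huβ
    exact hβγ huβ
  have hucard : u.support.card ≤ 2 * r - 1 + 2 := by
    have hsub : u.support ⊆ (z.support)ᶜ := by
      intro y hy
      rw [Finset.mem_compl]
      intro hyz
      exact (Perm.mem_support.1 hy) (husupp y hyz)
    have := Finset.card_le_card hsub
    omega
  exact hCT (2 * r - 1 + 2) hJ (by omega) u huH hu1 hucard

end Cfsg.Agent.Lib.Helper5.APC2Of
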