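import Mathlib
import Cfsg.Agent.Lib.Helper1.U23Opp
import Cfsg.Agent.Lib.Helper11.T23UDefs
import Cfsg.Agent.Lib.Helper11.C4UBasic

/-!
# S5801 conjunct (8), `q = 3` glue (helper8's Q1b): an element of `M` fixing the fibre `x ⊗ B` POINTWISE
is a root element `t_x(c) ⊗ 1`, `c` skew  (helper5)

`fix_pointwise`: `M ≤ GS 2 3 q F`, `x ≠ 0` isotropic in `A = F²`, `(L1)` at `x` as a hypothesis
(`∀ m ∈ M, m ∈ StabA x → m ∈ KG 2 3 F`); if `m ∈ M` fixes every `x ⊗ y` then `m = kA q x c hx` with `c ^ q = -c`.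

Proof: `m ∈ StabA x`, so `m = α ⊗ β`; `α x = κ x`, `β = κ⁻¹`; `A := κ⁻¹ α` is an isometry of `F²` fixing `x`;
with a hyperbolic partner `xs` of `x`: `A xs = t x + xs`, `t + t^q = 0`, `A a = a + t h(a,x) x`.
-/

set_option autoImplicit false
set_option linter.unusedSectionVars false
set_option linter.unusedVariables false
set_option linter.unusedSimpArgs false

namespace Cfsg.Agent.Lib.Helper5.U23Fix
open Matrix
open Cfsg.Agent.Lib.Helper25.Tens Cfsg.Agent.Lib.Helper25.TensLeaf Cfsg.Agent.Lib.Helper20.UT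
  Cfsg.Agent.Lib.Helper20.UTLeaf Cfsg.Agent.Lib.Helper5.UForm Cfsg.Agent.Lib.Helper5.HermBridge
  Cfsg.Agent.Lib.Helper11.T23U Cfsg.Agent.Lib.Helper1.U23Opp Cfsg.Agent.Lib.Helper11.C4U
open scoped Kronecker

variable {F : Type*} [Field F] [Fintype F] {q : ℕ}

/-- `pt x` is injective for `x ≠ 0` -/
lemma pt_right_inj {a b : ℕ} {x : Fin a → F} (hx : x ≠ 0) {y y' : Fin b → F}
    (h : pt x y = pt x y') : y = y' := by
  obtain ⟨i, hi⟩ : ∃ i, x i ≠ 0 := by
    by_contra hh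
    push_neg at hh
    exact hx (funext hh)
  funext l
  have e := congrFun h (i, l)
  simp only [pt] at e
  exact mul_left_cancel₀ hi e

/-- an element of `M` fixing the fibre `x ⊗ B` pointwise is `t_x(c) ⊗ 1` with `c` skew -/
theorem fix_pointwise (hF : Fintype.card F = q ^ 2) {M : Subgroup (GL (Idx 2 3) F)}
    (hleG : M ≤ GS 2 3 q F) {x : Fin 2 → F} (hx0 : x ≠ 0) (hx : hv q x x = 0)
    (hL1 : ∀ m ∈ M, m ∈ StabA (b := 3) x → m ∈ KG 2 3 F)
    {m : GL (Idx 2 3) F} (hm : m ∈ M) (hfix : ∀ y : Fin 3 → F, mv m (pt x y) = pt x y) :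
    ∃ c : F, c ^ q = -c ∧ m = kA q x c hx := by
  classical
  have hf2 := hv_unitary (n := 2) hF
  have hS : m ∈ StabA (b := 3) x := mem_StabA_of_maps (fun y => by
    rw [hfix]; exact mem_FibA.2 ⟨y, rfl⟩)
  obtain ⟨α, β, hαβ⟩ := (mem_KG_iff m).1 (hL1 m hm hS)
  have hmv : ∀ (a : Fin 2 → F) (y : Fin 3 → F), mv m (pt a y) =
      pt ((α : Matrix (Fin 2) (Fin 2) F) *ᵥ a) ((β : Matrix (Fin 3) (Fin 3) F) *ᵥ y) := by
    intro a y
    unfold mv
    rw [hαβ, kron_mulVec_pt]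
  -- `α x = κ x`
  obtain ⟨e0, he0, he1⟩ : ∃ e0 : Fin 3 → F, e0 ≠ 0 ∧ hv q e0 e0 = 1 := by
    refine ⟨Pi.single 0 1, ?_, ?_⟩
    · intro h
      have := congrFun h 0
      simp at this
    · simp [hv, Fin.sum_univ_three, Pi.single_apply]
  obtain ⟨κ, hκ⟩ : ∃ κ : F, (α : Matrix (Fin 2) (Fin 2) F) *ᵥ x = κ • x := by
    have h := hfix e0
    rw [hmv] at h
    exact pt_left_of_eq hx0 he0 h
  have hκ0 : κ ≠ 0 := by
    rintro rfl
    have h := hfix e0
    rw [hmv, hκ, zero_smul, (pt_eq_zero_iff (0 : Fin 2 → F) _).mpr (Or.inl rfl)] at h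
    rcases (pt_eq_zero_iff x e0).mp h.symm with h' | h'
    · exact hx0 h'
    · exact he0 h'
  have hβ : ∀ y : Fin 3 → F, (β : Matrix (Fin 3) (Fin 3) F) *ᵥ y = κ⁻¹ • y := by
    intro y
    have h := hfix y
    rw [hmv, hκ, pt_smul_left, ← pt_smul_right] at h
    have h2 := pt_right_inj hx0 h
    have h3 := congrArg (fun z => κ⁻¹ • z) h2
    simp only [smul_smul, inv_mul_cancel₀ hκ0, one_smul] at h3
    exact h3
  -- the normalised `A`-part
  obtain ⟨A, hA⟩ : ∃ A : (Fin 2 → F) → (Fin 2 → F),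
      A = fun a => κ⁻¹ • ((α : Matrix (Fin 2) (Fin 2) F) *ᵥ a) := ⟨_, rfl⟩
  have hAadd : ∀ a a', A (a + a') = A a + A a' := by
    intro a a'; rw [hA]; simp only [Matrix.mulVec_add, smul_add]
  have hAsmul : ∀ (c : F) a, A (c • a) = c • A a := by
    intro c a; rw [hA]; simp only [Matrix.mulVec_smul]; rw [smul_comm]
  have hAx : A x = x := by
    rw [hA]; simp only [hκ]; rw [smul_smul, inv_mul_cancel₀ hκ0, one_smul]
  have hmA : ∀ (a : Fin 2 → F) (y : Fin 3 → F), mv m (pt a y) = pt (A a) y := by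
    intro a y
    rw [hmv, hβ, pt_smul_right, ← pt_smul_left, hA]
  -- `A` is an isometry
  have hmG : m ∈ GUI 2 3 q F := (hleG hm).1
  have hAiso : ∀ a a', hv q (A a) (A a') = hv q a a' := by
    intro a a'
    have h := (mem_GUI.1 hmG) (pt a e0) (pt a' e0)
    rw [hmA, hmA, hv_pt, hv_pt, he1, mul_one, mul_one] at h
    exact h
  -- hyperbolic partner
  obtain ⟨xs, -, hss, h1⟩ := exists_partner hf2 (ND_top hf2) (Submodule.mem_top (x := x)) hx0 hx
  have h1' : hv q xs x = 1 := by rw [← hv_conj hF, h1, one_pow]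
  obtain ⟨t, ht⟩ : ∃ t : F, t = hv q (A xs) xs := ⟨_, rfl⟩
  have hAxs : A xs = t • x + xs := by
    have h := hyp_decomp2 hF hx hss h1 (A xs)
    have e : hv q (A xs) x = 1 := by
      have := hAiso xs x
      rw [hAx] at this
      rw [this, h1']
    rw [e, one_smul, ← ht] at h
    exact h
  have hAa : ∀ a, A a = a + (t * hv q a x) • x := by
    intro a
    have h := hyp_decomp2 hF hx hss h1 a
    have e : A a = hv q a xs • x + hv q a x • (t • x + xs) := by
      conv_lhs => rw [h]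
      rw [hAadd, hAsmul, hAsmul, hAx, hAxs]
    have e2 : a + (t * hv q a x) • x =
        hv q a xs • x + hv q a x • xs + (t * hv q a x) • x :=
      congrArg (fun z => z + (t * hv q a x) • x) h
    rw [e, e2, smul_add, smul_smul, mul_comm t]
    abel
  have hskew : t ^ q = -t := by
    have h := hAiso xs xs
    rw [hAxs, hss, hv_add_left, hv_add_right hF, hv_add_right hF, hv_smul_left, hv_smul_left,
      hv_smul_right, hv_smul_right, hx, h1, h1', hss] at h
    have : t + t ^ q = 0 := by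
      have h' := h
      ring_nf at h'
      linear_combination h'
    linear_combination this
  refine ⟨t, hskew, ?_⟩
  apply ext_mv
  intro v
  have hv' := hyp_decompV (b := 3) hF hx hss h1 v
  rw [hv', mv_add, mv_add, hmA, hmA, mv_kA_pt, mv_kA_pt, hAa, hAa]

/-- the same with the context structure `MC` -/
theorem fix_pointwise_MC {M : Subgroup (GL (Idx 2 3) F)} (h : MC q M) {x : Fin 2 → F} (hx0 : x ≠ 0)
    (hx : hv q x x = 0) (hL1 : ∀ m ∈ M, m ∈ StabA (b := 3) x → m ∈ KG 2 3 F)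
    {m : GL (Idx 2 3) F} (hm : m ∈ M) (hfix : ∀ y : Fin 3 → F, mv m (pt x y) = pt x y) :
    ∃ c : F, c ^ q = -c ∧ m = kA q x c hx :=
  fix_pointwise h.hF h.le_G hx0 hx hL1 hm hfix

end Cfsg.Agent.Lib.Helper5.U23Fix
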