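import Mathlib
import Cfsg.Agent.Lib.Helper5.APCL2
import Cfsg.Agent.Lib.Helper5.APC2Of
import Cfsg.Agent.Lib.Helper15.APCT

/-!
helper5: leaf AP-C1 of market "AP" (S3614, planner helper4), parametrized form:
`|Ω| = 2r+3`, `z ∈ H` of order `r` with two `r`-cycles, `H` 5-transitive ⟹ `Alt Ω ≤ H`,
given the statement of the leaf AP-COMM (`t = 3`) as a hypothesis
(AP-CL2 and AP-CT are cited from main).
-/

set_option autoImplicit false

namespace Cfsg.Agent.Lib.Helper5.APC1Of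

open Equiv MulAction

variable {Ω : Type*} [Fintype Ω] [DecidableEq Ω]

set_option linter.unusedVariables false

/-- the commutator `⁅swap 0 1, swap 1 2⁆` in `Perm (Fin 3)`: a 3-cycle -/
def π3 : Perm (Fin 3) := swap 0 1 * swap 1 2 * (swap 0 1)⁻¹ * (swap 1 2)⁻¹

set_option maxRecDepth 100000 in
theorem π3_ne : π3 0 ≠ 0 ∧ π3 (π3 0) ≠ 0 := by decide

set_option maxRecDepth 100000 in
theorem π3_cube : ∀ i : Fin 3, π3 (π3 (π3 i)) = i := by decide

theorem π3_pow_three : π3 ^ 3 = 1 := by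
  ext i
  simp only [pow_succ, pow_zero, one_mul, Perm.mul_apply, Perm.one_apply, π3_cube]

/-- **AP-C1**, with the statement of AP-COMM (`t = 3`) as a hypothesis. -/
theorem APC1Of (H : Subgroup (Perm Ω)) (h5 : IsMultiplyPretransitive ↥H Ω 5)
    (r : ℕ) (hr : r.Prime) (hr5 : 5 ≤ r) (hΩ : Fintype.card Ω = 2 * r + 3)
    {z : Perm Ω} (hz : z ∈ H) (hzr : orderOf z = r)
    (hk : z.support.card = 2 * r)
    (hCOMM : ∀ x : Fin 3 ↪ Ω, (∀ i, z (x i) = x i) → ∀ σ τ : Perm (Fin 3),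
      ∃ c ∈ H, Commute c z ∧ Perm.sign c = 1 ∧ ∀ i, c (x i) = x ((σ * τ * σ⁻¹ * τ⁻¹) i)) :
    alternatingGroup Ω ≤ H := by
  classical
  have hr3 : ¬ 3 ∣ 2 * r := by
    intro h
    have h3 : (3 : ℕ).Prime := by norm_num
    rcases (Nat.Prime.dvd_mul h3).1 h with h | h
    · omega
    · have := (Nat.prime_dvd_prime_iff_eq h3 hr).1 h
      omega
  have hFix : (z.support)ᶜ.card = 3 := by
    rw [Finset.card_compl, hΩ, hk]; omega
  have h3 : 2 < (z.support)ᶜ.card := by omega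
  obtain ⟨α, hα, β, hβ, γ, hγ, hαβ, hαγ, hβγ⟩ := Finset.two_lt_card.1 h3
  rw [Finset.mem_compl] at hα hβ hγ
  have hl : ([α, β, γ] : List Ω).Nodup := by
    simp only [List.nodup_cons, List.mem_cons, List.not_mem_nil, or_false, not_or,
      List.nodup_nil, and_true, not_false_eq_true]
    exact ⟨⟨hαβ, hαγ⟩, hβγ⟩
  let x : Fin 3 ↪ Ω :=
    ⟨fun i => ([α, β, γ] : List Ω).get i, List.nodup_iff_injective_get.1 hl⟩
  have hxfix : ∀ i, z (x i) = x i := by
    intro i
    have hmem : ∀ y : Ω, y ∉ z.support → z y = y := fun y hy => by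
      rwa [Perm.mem_support, not_not] at hy
    fin_cases i
    · exact hmem _ hα
    · exact hmem _ hβ
    · exact hmem _ hγ
  obtain ⟨c, hcH, hcz, -, hcx⟩ := hCOMM x hxfix (swap 0 1) (swap 1 2)
  have hcx' : ∀ i, c (x i) = x (π3 i) := hcx
  have hpow := APC2Of.pow_apply_emb c x π3 hcx' (2 * r)
  have hCL := APCL2.APCL2 r hr hzr hk hcz
  have hmod : π3 ^ (2 * r) = π3 ^ ((2 * r) % 3) := by
    conv_lhs => rw [← Nat.div_add_mod (2 * r) 3]
    rw [pow_add, pow_mul, π3_pow_three, one_pow, one_mul]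
  have hcases : (2 * r) % 3 = 1 ∨ (2 * r) % 3 = 2 := by
    have : (2 * r) % 3 ≠ 0 := fun h => hr3 (Nat.dvd_of_mod_eq_zero h)
    omega
  -- `u = c^(2r)` moves `x 0`
  have hmove : (c ^ (2 * r)) (x 0) ≠ x 0 := by
    rw [hpow 0, hmod]
    intro h
    have h' := x.injective h
    rcases hcases with h1 | h2
    · rw [h1, pow_one] at h'
      exact π3_ne.1 h'
    · rw [h2, pow_two, Perm.mul_apply] at h'
      exact π3_ne.2 h'
  have hu1 : c ^ (2 * r) ≠ 1 := by
    intro h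
    apply hmove
    rw [h, Perm.one_apply]
  have hucard : (c ^ (2 * r)).support.card ≤ 5 := by
    have hsub : (c ^ (2 * r)).support ⊆ (z.support)ᶜ := by
      intro y hy
      rw [Finset.mem_compl]
      intro hyz
      exact (Perm.mem_support.1 hy) (hCL y hyz)
    have := Finset.card_le_card hsub
    omega
  exact Cfsg.Agent.Lib.Helper15.APCT.APCT H 5 h5 (by omega) (pow_mem hcH _) hu1 hucard

end Cfsg.Agent.Lib.Helper5.APC1Of
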