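import Mathlib
import Cfsg.Agent.Lib.Helper5.APC1Of
import Cfsg.Agent.Lib.Helper4.APCOMM

/-!
helper5: leaf AP-C1 of market "AP" (S3614, planner helper4): `|Ω| = 2r+3`, `z ∈ H` of order `r`
with minimal support `2r`, `H` 5-transitive ⟹ `Alt Ω ≤ H`.
(`APC1Of` + AP-COMM (helper4); AP-CL2 (helper5), AP-CT (helper15) inside.)
-/

set_option autoImplicit false

namespace Cfsg.Agent.Lib.Helper5.APC1

open Equiv MulAction

variable {Ω : Type*} [Fintype Ω] [DecidableEq Ω]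

/-- **AP-C1**. -/
theorem APC1 (H : Subgroup (Perm Ω)) (h5 : IsMultiplyPretransitive ↥H Ω 5)
    (r : ℕ) (hr : r.Prime) (hr5 : 5 ≤ r) (hΩ : Fintype.card Ω = 2 * r + 3)
    {z : Perm Ω} (hz : z ∈ H) (hzr : orderOf z = r)
    (hmax : ∀ g ∈ H, orderOf g = r → z.support.card ≤ g.support.card)
    (hk : z.support.card = 2 * r) : alternatingGroup Ω ≤ H := by
  refine Cfsg.Agent.Lib.Helper5.APC1Of.APC1Of H h5 r hr hr5 hΩ hz hzr hk ?_
  intro x hx σ τ
  have h3 : IsMultiplyPretransitive ↥H Ω 3 :=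
    isMultiplyPretransitive_of_le (n := 5) (by norm_num)
      (by rw [Nat.card_eq_fintype_card]; omega)
  refine Cfsg.Agent.Lib.Helper4.APCOMM.APCOMM H r hr 3 h3 hz hzr hmax ?_ ?_ x hx σ τ
  · rw [hΩ, hk]; omega
  · rw [hΩ]; nlinarith

end Cfsg.Agent.Lib.Helper5.APC1
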