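import Mathlib
import Cfsg.Agent.Lib.Helper5.APC2Of
import Cfsg.Agent.Lib.Helper4.APCOMM
import Cfsg.Agent.Lib.Helper15.APCT

/-!
helper5: leaf AP-C2 of market "AP" (S3614, planner helper4): `|Ω| = 3r+4`, `z ∈ H` of order `r`
with minimal support `2r`, `H` 5-transitive ⟹ `Alt Ω ≤ H`.
(`APC2Of` + AP-COMM (helper4) + AP-CT (helper15); AP-CL2 (helper5), AP-J2 (helper29) inside.)
-/

set_option autoImplicit false

namespace Cfsg.Agent.Lib.Helper5.APC2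

open Equiv MulAction

variable {Ω : Type*} [Fintype Ω] [DecidableEq Ω]

/-- **AP-C2**. -/
theorem APC2 (H : Subgroup (Perm Ω)) (h5 : IsMultiplyPretransitive ↥H Ω 5)
    (r : ℕ) (hr : r.Prime) (hr5 : 5 ≤ r) (hΩ : Fintype.card Ω = 3 * r + 4)
    {z : Perm Ω} (hz : z ∈ H) (hzr : orderOf z = r)
    (hmax : ∀ g ∈ H, orderOf g = r → z.support.card ≤ g.support.card)
    (hk : z.support.card = 2 * r) : alternatingGroup Ω ≤ H := by
  refine Cfsg.Agent.Lib.Helper5.APC2Of.APC2Of H h5 r hr hr5 hΩ hz hzr hk ?_ ?_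
  · intro x hx σ τ
    refine Cfsg.Agent.Lib.Helper4.APCOMM.APCOMM H r hr 5 h5 hz hzr hmax ?_ ?_ x hx σ τ
    · rw [hΩ, hk]; omega
    · rw [hΩ]; nlinarith
  · intro t ht htΩ u hu hu1 hsupp
    exact Cfsg.Agent.Lib.Helper15.APCT.APCT H t ht htΩ hu hu1 hsupp

end Cfsg.Agent.Lib.Helper5.APC2
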