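/-
S4411 leaf CM1 (`cm1`): transfer of (F2) to the quotient `M ⧸ L`. (helper5; statement frozen in
`notes/S4411_leaves.lean`, planner helper26.)
-/
import Mathlib
import Cfsg.Prelude.Def_Solvable
import Cfsg.Prelude.Def_Local
import Cfsg.Prelude.Def_Transfer
import Cfsg.Prelude.Def_PLocal
import Cfsg.Agent.Lib.Helper26.AUTQDefs
import Cfsg.Agent.Lib.Helper12.Basic
import Cfsg.Agent.Lib.Helper12.PComplement
import Cfsg.Agent.Lib.Helper12.AUTQLift

set_option autoImplicit false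

namespace Cfsg.Agent.Lib.Helper5.AUTQCM1

open Cfsg Cfsg.Agent.Lib.Helper26.AUTQ

universe u

/-- (CM1) transfer of (F2) to `M ⧸ L`. -/
theorem cm1 {M : Type u} [Group M] [Finite M] (p q : ℕ) [Fact p.Prime] [Fact q.Prime]
    (L : Subgroup M) [L.Normal]
    (hF : ∀ (R : Sylow p M) (T : Subgroup M), T ≤ R → (R : Subgroup M) ≤ Subgroup.normalizer (T : Set M) → ¬ T ≤ L →
        ∀ y ∈ Subgroup.normalizer (T : Set M), QElt q y → y ∈ L) :
    ∀ (R' : Sylow p (M ⧸ L)) (T' : Subgroup (M ⧸ L)), T' ≠ ⊥ → T' ≤ R' →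
        (R' : Subgroup (M ⧸ L)) ≤ Subgroup.normalizer (T' : Set (M ⧸ L)) →
        ∀ y ∈ Subgroup.normalizer (T' : Set (M ⧸ L)), QElt q y → y = 1 := by
  intro R' T' hT'1 hT'R hR'N y' hy'N hy'q
  obtain ⟨π, hπ⟩ : ∃ π : M →* M ⧸ L, π = QuotientGroup.mk' L := ⟨_, rfl⟩
  have hπs : Function.Surjective π := by rw [hπ]; exact QuotientGroup.mk'_surjective L
  have hπ1 : ∀ x : M, π x = 1 ↔ x ∈ L := by
    intro x
    rw [hπ]
    exact QuotientGroup.eq_one_iff x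
  obtain ⟨R, hR⟩ := Sylow.mapSurjective_surjective hπs p R'
  have hRmap : (R : Subgroup M).map π = (R' : Subgroup (M ⧸ L)) := by
    rw [← hR]
    rfl
  obtain ⟨W, hW⟩ : ∃ W : Subgroup M, W = T'.comap π := ⟨_, rfl⟩
  have hmemW : ∀ x : M, x ∈ W ↔ π x ∈ T' := by
    intro x
    rw [hW, Subgroup.mem_comap]
  obtain ⟨T, hT⟩ : ∃ T : Subgroup M, T = (R : Subgroup M) ⊓ W := ⟨_, rfl⟩
  have hmemT : ∀ x : M, x ∈ T ↔ x ∈ (R : Subgroup M) ∧ x ∈ W := by
    intro x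
    rw [hT, Subgroup.mem_inf]
  have hTR : T ≤ R := by rw [hT]; exact inf_le_left
  have hTW : T ≤ W := by rw [hT]; exact inf_le_right
  have hmemNW : ∀ g : M, π g ∈ Subgroup.normalizer (T' : Set (M ⧸ L)) →
      g ∈ Subgroup.normalizer (W : Set M) := by
    intro g hg
    rw [Subgroup.mem_normalizer_iff] at hg ⊢
    intro x
    rw [hmemW, hmemW, map_mul, map_mul, map_inv]
    exact hg (π x)
  have hRNW : (R : Subgroup M) ≤ Subgroup.normalizer (W : Set M) := by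
    intro r hr
    apply hmemNW
    apply hR'N
    rw [← hRmap]
    exact Subgroup.mem_map_of_mem π hr
  have hRNT : (R : Subgroup M) ≤ Subgroup.normalizer (T : Set M) := by
    intro r hr
    rw [Subgroup.mem_normalizer_iff]
    intro x
    have h1 := (Subgroup.mem_normalizer_iff.mp (hRNW hr)) x
    rw [hmemT, hmemT]
    constructor
    · rintro ⟨hxR, hxW⟩
      exact ⟨R.1.mul_mem (R.1.mul_mem hr hxR) (R.1.inv_mem hr), h1.mp hxW⟩
    · rintro ⟨hxR, hxW⟩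
      refine ⟨?_, h1.mpr hxW⟩
      have e : x = r⁻¹ * (r * x * r⁻¹) * r := by group
      rw [e]
      exact R.1.mul_mem (R.1.mul_mem (R.1.inv_mem hr) hxR) hr
  have hTmap : T.map π = T' := by
    apply le_antisymm
    · rintro _ ⟨t, ht, rfl⟩
      exact (hmemW t).mp (hTW ht)
    · intro t' ht'
      have h1 : t' ∈ (R : Subgroup M).map π := by
        rw [hRmap]
        exact hT'R ht'
      obtain ⟨r, hr, rfl⟩ := h1
      exact ⟨r, (hmemT r).mpr ⟨hr, (hmemW r).mpr ht'⟩, rfl⟩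
  have hTL : ¬ T ≤ L := by
    intro h
    apply hT'1
    rw [← hTmap, eq_bot_iff]
    rintro _ ⟨t, ht, rfl⟩
    rw [Subgroup.mem_bot]
    exact (hπ1 t).mpr (h ht)
  -- `T` is a Sylow `p`-subgroup of `W`
  have hidx : ¬ p ∣ T.relIndex W := by
    rw [hT]
    exact Cfsg.Agent.Lib.Helper12.sylow_inf_relIndex R (Subgroup.normalizer (W : Set M)) W hRNW
      Subgroup.le_normalizer (fun h hh k hk => (Subgroup.mem_normalizer_iff.mp hh k).mp hk)
  have hTp : IsPGroup p T := R.2.to_le hTR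
  -- lift `y'`
  obtain ⟨y₀, rfl⟩ := hπs y'
  have hy₀W : y₀ ∈ Subgroup.normalizer (W : Set M) := hmemNW y₀ hy'N
  obtain ⟨Q, hQ⟩ : ∃ Q : Subgroup M, Q = T.map (MulAut.conj y₀).toMonoidHom := ⟨_, rfl⟩
  have hQW : Q ≤ W := by
    rw [hQ]
    rintro _ ⟨t, ht, rfl⟩
    exact (Subgroup.mem_normalizer_iff.mp hy₀W t).mp (hTW ht)
  have hQp : IsPGroup p Q := by
    rw [hQ]
    exact hTp.map _
  obtain ⟨n, hnW, hn⟩ := Cfsg.Agent.Lib.Helper12.exists_conj_mem_of_relIndex T W Q hTp hidx hQW hQp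
  have hy₁ : ∀ t ∈ T, (n * y₀) * t * (n * y₀)⁻¹ ∈ T := by
    intro t ht
    have h1 := hn (y₀ * t * y₀⁻¹) (by rw [hQ]; exact ⟨t, ht, rfl⟩)
    have e : n * y₀ * t * (n * y₀)⁻¹ = n * (y₀ * t * y₀⁻¹) * n⁻¹ := by group
    rw [e]
    exact h1
  have hy₁N : n * y₀ ∈ Subgroup.normalizer (T : Set M) := by
    rw [Subgroup.mem_normalizer_iff_map_conj_eq]
    apply Subgroup.eq_of_le_of_card_ge
    · rintro _ ⟨t, ht, rfl⟩
      exact hy₁ t ht
    · rw [Subgroup.card_map_of_injective (MulAut.conj (n * y₀)).injective]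
  have hπn : π n ∈ T.map π := by
    rw [hTmap]
    exact (hmemW n).mp hnW
  obtain ⟨t, ht, htn⟩ := hπn
  have hy₂N : t⁻¹ * (n * y₀) ∈ Subgroup.normalizer (T : Set M) :=
    (Subgroup.normalizer (T : Set M)).mul_mem
      ((Subgroup.normalizer (T : Set M)).inv_mem (Subgroup.le_normalizer ht)) hy₁N
  have hπy₂ : π (t⁻¹ * (n * y₀)) = π y₀ := by
    rw [map_mul, map_mul, map_inv, htn, inv_mul_cancel_left]
  have hq1 : QElt q (π (t⁻¹ * (n * y₀))) := by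
    rw [hπy₂]
    exact hy'q
  obtain ⟨k, hk1, hk2⟩ := Cfsg.Agent.Lib.Helper12.AUTQLift.exists_pow_qElt q π (t⁻¹ * (n * y₀))
    (orderOf_pos _).ne' hq1
  have hL : (t⁻¹ * (n * y₀)) ^ k ∈ L :=
    hF R T hTR hRNT hTL _ (Subgroup.pow_mem _ hy₂N k) hk1
  have h1 : π ((t⁻¹ * (n * y₀)) ^ k) = 1 := (hπ1 _).mpr hL
  rw [hk2, hπy₂] at h1
  exact h1

end Cfsg.Agent.Lib.Helper5.AUTQCM1
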