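import Mathlib
import Cfsg.Prelude.Def_GeometricClasses
import Cfsg.Agent.Lib.Helper9.SympA
import Cfsg.Agent.Lib.Helper15.AltIso
import Cfsg.Agent.Lib.Helper14.SympCount
import Cfsg.Agent.Lib.Helper2.GLCard
import Cfsg.Agent.Lib.Helper5.Symp
import Cfsg.Agent.Lib.Helper5.AltSim
import Cfsg.Agent.Lib.Helper12.ElusH

set_option autoImplicit false
open scoped MatrixGroups

/-! Derangements of odd prime order of `SL_n(q)` on the cosets of the symplectic-type subgroup:
transport of an abstract model to `SL_n`, the three models, and the index arithmetic. -/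

namespace Cfsg.Agent.Lib.Helper5.AltDer

open Module
open Cfsg.Agent.Lib.Helper12.Elus Cfsg.Agent.Lib.Helper9.SympA Cfsg.Agent.Lib.Helper5.AltSim

section bridge

variable {F : Type*} [Field F] {n : ℕ}

theorem toBilin_nondeg (f : (Fin n → F) → (Fin n → F) → F) (hf : Cfsg.Geo.IsSymplecticForm f) :
    (toBilin f hf.bilinear).Nondegenerate := by
  refine ⟨fun u hu => ?_, fun v hv => ?_⟩
  · by_contra hne
    obtain ⟨-, w, hw⟩ := hf.nondegenerate u hne
    exact hw (hu w)
  · by_contra hne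
    obtain ⟨⟨w, hw⟩, -⟩ := hf.nondegenerate v hne
    exact hw (hv w)

/-- transport of an abstract model `(V', T')` to an element of `SL_n(F)` with no conjugate in the
similarity group of `f`. -/
theorem exists_derangement (f : (Fin n → F) → (Fin n → F) → F)
    (hf : Cfsg.Geo.IsSymplecticForm f) (r : ℕ)
    {V' : Type*} [AddCommGroup V'] [Module F V'] [FiniteDimensional F V']
    (hdim : finrank F V' = n) (T' : V' →ₗ[F] V') (hdet : LinearMap.det T' = 1)
    (hpow : T' ^ r = 1) (hns : ∀ c : F, T' ≠ c • (1 : V' →ₗ[F] V'))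
    (hno : ∀ (μ : F) (B : LinearMap.BilinForm F V'), μ ^ n = 1 → B.IsAlt →
      (∀ u, (∀ v, B u v = 0) → u = 0) → (∀ u v, B (T' u) (T' v) = μ * B u v) → False) :
    ∃ x : Matrix.SpecialLinearGroup (Fin n) F,
      (∃ z : F, ((x ^ r : Matrix.SpecialLinearGroup (Fin n) F) : Matrix (Fin n) (Fin n) F) =
        z • (1 : Matrix (Fin n) (Fin n) F)) ∧
      (∀ z : F, (x : Matrix (Fin n) (Fin n) F) ≠ z • (1 : Matrix (Fin n) (Fin n) F)) ∧
      ∀ P : Matrix.SpecialLinearGroup (Fin n) F, P⁻¹ * x * P ∉ HS f := by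
  classical
  have e : V' ≃ₗ[F] (Fin n → F) :=
    LinearEquiv.ofFinrankEq _ _ (by rw [hdim, Module.finrank_fin_fun])
  obtain ⟨T, hTdef⟩ : ∃ T : (Fin n → F) →ₗ[F] (Fin n → F), T = e.conjAlgEquiv F T' := ⟨_, rfl⟩
  have hTe : ∀ v, T (e v) = e (T' v) := by
    intro v
    rw [hTdef, LinearEquiv.conjAlgEquiv_apply]
    simp
  have hTdet : LinearMap.det T = 1 := by
    rw [hTdef, LinearEquiv.conjAlgEquiv_apply, LinearMap.det_conj, hdet]
  have hTpow : T ^ r = 1 := by rw [hTdef, ← map_pow, hpow, map_one]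
  have hTns : ∀ c : F, T ≠ c • (1 : (Fin n → F) →ₗ[F] (Fin n → F)) := by
    intro c hc
    apply hns c
    apply (e.conjAlgEquiv F).injective
    rw [← hTdef, hc, map_smul, map_one]
  obtain ⟨x, hxdef⟩ : ∃ x : Matrix.SpecialLinearGroup (Fin n) F,
      (x : Matrix (Fin n) (Fin n) F) = LinearMap.toMatrix' T :=
    ⟨⟨LinearMap.toMatrix' T, by rw [LinearMap.det_toMatrix', hTdet]⟩, rfl⟩
  have hx : Matrix.toLin' (x : Matrix (Fin n) (Fin n) F) = T := by
    rw [hxdef]
    exact Matrix.toLin'_toMatrix' T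
  have hsm : ∀ c : F, Matrix.toLin' (c • (1 : Matrix (Fin n) (Fin n) F)) =
      c • (1 : (Fin n → F) →ₗ[F] (Fin n → F)) := by
    intro c
    rw [map_smul, Matrix.toLin'_one]
    rfl
  refine ⟨x, ⟨1, ?_⟩, ?_, ?_⟩
  · apply Matrix.toLin'.injective
    rw [Matrix.SpecialLinearGroup.coe_pow, Matrix.toLin'_pow, hx, hsm, hTpow, one_smul]
  · intro z hz
    apply hTns z
    rw [← hx, hz, hsm]
  · intro P hP
    rw [Subgroup.mem_comap] at hP
    obtain ⟨c, hc⟩ := hP
    obtain ⟨Pi, hPi⟩ : ∃ Pi : Matrix (Fin n) (Fin n) F,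
        Pi = ((P⁻¹ : Matrix.SpecialLinearGroup (Fin n) F) : Matrix (Fin n) (Fin n) F) := ⟨_, rfl⟩
    obtain ⟨Pm, hPm⟩ : ∃ Pm : Matrix (Fin n) (Fin n) F,
        Pm = (P : Matrix (Fin n) (Fin n) F) := ⟨_, rfl⟩
    obtain ⟨X, hX⟩ : ∃ X : Matrix (Fin n) (Fin n) F,
        X = (x : Matrix (Fin n) (Fin n) F) := ⟨_, rfl⟩
    have hy0 : ((P⁻¹ * x * P : Matrix.SpecialLinearGroup (Fin n) F) :
        Matrix (Fin n) (Fin n) F) = Pi * X * Pm := by
      rw [Matrix.SpecialLinearGroup.coe_mul, Matrix.SpecialLinearGroup.coe_mul, hPi, hPm, hX]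
    have hy : ((Matrix.SpecialLinearGroup.toGL (P⁻¹ * x * P) : GL (Fin n) F) :
        Matrix (Fin n) (Fin n) F) = Pi * X * Pm := hy0
    have hc' : ∀ u v, f ((Pi * X * Pm).mulVec u) ((Pi * X * Pm).mulVec v) = (c : F) * f u v := by
      intro u v
      rw [← hy]
      exact hc u v
    have hPmPi : Pm * Pi = 1 := by
      rw [hPm, hPi, ← Matrix.SpecialLinearGroup.coe_mul, mul_inv_cancel,
        Matrix.SpecialLinearGroup.coe_one]
    have hPiPm : Pi * Pm = 1 := by
      rw [hPm, hPi, ← Matrix.SpecialLinearGroup.coe_mul, inv_mul_cancel,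
        Matrix.SpecialLinearGroup.coe_one]
    have hydet : (Pi * X * Pm).det = 1 := by
      rw [← hy0]
      exact Matrix.SpecialLinearGroup.det_coe _
    have hcn : (c : F) ^ n = 1 :=
      sim_pow_card (toBilin f hf.bilinear) (toBilin_nondeg f hf) (Pi * X * Pm) hydet c
        (fun u v => hc' u v)
    obtain ⟨L, hL⟩ : ∃ L : V' →ₗ[F] (Fin n → F),
        L = (Matrix.toLin' Pi) ∘ₗ (e : V' →ₗ[F] (Fin n → F)) := ⟨_, rfl⟩
    have hLapp : ∀ v, L v = Pi.mulVec (e v) := by
      intro v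
      rw [hL]
      rfl
    apply hno (c : F) ((toBilin f hf.bilinear).comp L L) hcn
    · intro u
      exact hf.alternating _
    · intro u hu
      have hLu : L u = 0 := by
        by_contra hne
        obtain ⟨-, w, hw⟩ := hf.nondegenerate (L u) hne
        apply hw
        have h := hu (e.symm (Pm.mulVec w))
        rw [LinearMap.BilinForm.comp_apply, hLapp (e.symm _), LinearEquiv.apply_symm_apply,
          Matrix.mulVec_mulVec, hPiPm, Matrix.one_mulVec] at h
        exact h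
      rw [hLapp] at hLu
      have h2 := congrArg (fun w => Pm.mulVec w) hLu
      simp only [Matrix.mulVec_mulVec, hPmPi, Matrix.one_mulVec, Matrix.mulVec_zero] at h2
      exact e.map_eq_zero_iff.1 h2
    · intro u v
      rw [LinearMap.BilinForm.comp_apply, LinearMap.BilinForm.comp_apply, hLapp, hLapp, hLapp,
        hLapp]
      have key : ∀ w, Pi.mulVec (e (T' w)) = (Pi * X * Pm).mulVec (Pi.mulVec (e w)) := by
        intro w
        rw [Matrix.mulVec_mulVec, Matrix.mul_assoc (Pi * X), hPmPi, Matrix.mul_one,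
          ← Matrix.mulVec_mulVec, ← hTe, ← hx, Matrix.toLin'_apply, hX]
      rw [key, key]
      exact hc' _ _

end bridge

section prodmodel

variable {F : Type*} [Field F] {M : Type*} [AddCommGroup M] [Module F M]

/-- `1 ⊕ g` on `F^ν × M` -/
def pm (ν : ℕ) (g : M →ₗ[F] M) : ((Fin ν → F) × M) →ₗ[F] ((Fin ν → F) × M) :=
  LinearMap.prodMapRingHom F (Fin ν → F) M (1, g)

theorem pm_apply (ν : ℕ) (g : M →ₗ[F] M) (a : Fin ν → F) (z : M) :
    pm ν g (a, z) = (a, g z) := rfl

theorem pm_pow (ν : ℕ) (g : M →ₗ[F] M) (r : ℕ) (hg : g ^ r = 1) : pm ν g ^ r = 1 := by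
  unfold pm
  rw [← map_pow, Prod.pow_mk, one_pow, hg]
  exact map_one _

theorem pm_det [FiniteDimensional F M] (ν : ℕ) (g : M →ₗ[F] M) :
    LinearMap.det (pm ν g) = LinearMap.det g := by
  show LinearMap.det (LinearMap.prodMap (1 : (Fin ν → F) →ₗ[F] (Fin ν → F)) g) = _
  rw [LinearMap.det_prodMap, map_one, one_mul]

theorem pm_fixE (ν : ℕ) (g : M →ₗ[F] M) (hfix : ∀ z, g z = z → z = 0) :
    fixE (pm ν g) = LinearMap.ker (LinearMap.snd F (Fin ν → F) M) := by
  ext ⟨a, z⟩
  rw [mem_fixE, LinearMap.mem_ker, pm_apply]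
  show (a, g z) = (a, z) ↔ z = 0
  constructor
  · intro h
    exact hfix z (congrArg Prod.snd h)
  · intro h
    rw [h, map_zero]

theorem pm_finrank_fixE [FiniteDimensional F M] (ν : ℕ) (g : M →ₗ[F] M)
    (hfix : ∀ z, g z = z → z = 0) : finrank F (fixE (pm ν g)) = ν := by
  rw [pm_fixE ν g hfix]
  have h := LinearMap.finrank_range_add_finrank_ker (LinearMap.snd F (Fin ν → F) M)
  rw [LinearMap.range_eq_top.2 LinearMap.snd_surjective, finrank_top, Module.finrank_prod,
    Module.finrank_fin_fun] at h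
  omega

theorem pm_finrank_movR [FiniteDimensional F M] (ν : ℕ) (g : M →ₗ[F] M)
    (hfix : ∀ z, g z = z → z = 0) : finrank F (movR (pm ν g)) = finrank F M := by
  have h1 := finrank_fix_add_mov (pm ν g)
  rw [pm_finrank_fixE ν g hfix, Module.finrank_prod, Module.finrank_fin_fun] at h1
  omega

theorem pm_finrank_eig_le [FiniteDimensional F M] (ν : ℕ) (g : M →ₗ[F] M) (μ : F)
    (hμ : μ ≠ 1) : finrank F (eig (pm ν g) μ) ≤ finrank F M := by
  have hinj : Function.Injective
      ((LinearMap.snd F (Fin ν → F) M).domRestrict (eig (pm ν g) μ)) := by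
    rw [← LinearMap.ker_eq_bot, eq_bot_iff]
    rintro ⟨⟨a, z⟩, hx⟩ hker
    rw [LinearMap.mem_ker, LinearMap.domRestrict_apply] at hker
    have hz : z = 0 := hker
    rw [mem_eig, pm_apply] at hx
    have ha : a = μ • a := congrArg Prod.fst hx
    have ha0 : a = 0 := by
      have h3 : (1 - μ) • a = 0 := by rw [sub_smul, one_smul, ← ha, sub_self]
      rcases smul_eq_zero.1 h3 with h | h
      · exact absurd (sub_eq_zero.1 h).symm hμ
      · exact h
    rw [Submodule.mem_bot]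
    apply Subtype.ext
    show (a, z) = 0
    rw [ha0, hz]
    rfl
  exact LinearMap.finrank_le_finrank_of_injective hinj

theorem pm_ne_smul [FiniteDimensional F M] (ν : ℕ) (hν : 1 ≤ ν) (g : M →ₗ[F] M)
    (hfix : ∀ z, g z = z → z = 0) (hM : 0 < finrank F M) (c : F) :
    pm ν g ≠ c • (1 : ((Fin ν → F) × M) →ₗ[F] ((Fin ν → F) × M)) := by
  intro h
  obtain ⟨z, hz⟩ := (Module.finrank_pos_iff_exists_ne_zero (R := F) (M := M)).1 hM
  have hc1 : c = 1 := by
    have h1 := LinearMap.congr_fun h ((Pi.single (⟨0, hν⟩ : Fin ν) (1 : F) : Fin ν → F), (0 : M))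
    have h2 : (Pi.single (⟨0, hν⟩ : Fin ν) (1 : F) : Fin ν → F) ⟨0, hν⟩ =
        (c • (Pi.single (⟨0, hν⟩ : Fin ν) (1 : F) : Fin ν → F)) ⟨0, hν⟩ :=
      congrFun (congrArg Prod.fst h1) ⟨0, hν⟩
    rw [Pi.smul_apply, Pi.single_eq_same, smul_eq_mul, mul_one] at h2
    exact h2.symm
  have h3 : g z = c • z := congrArg Prod.snd (LinearMap.congr_fun h ((0 : Fin ν → F), z))
  rw [hc1, one_smul] at h3
  exact hz (hfix z h3)

/-- the semisimple model: `1 ⊕ g` with `g` of prime order `r`, fixed-point-free, on a space of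
odd dimension. -/
theorem prod_model {n : ℕ} (f : (Fin n → F) → (Fin n → F) → F)
    (hf : Cfsg.Geo.IsSymplecticForm f) (r : ℕ) [Fact r.Prime] (hr0 : (r : F) ≠ 0)
    [FiniteDimensional F M] (g : M →ₗ[F] M) (hodd : Odd (finrank F M))
    (hlt : finrank F M < n) (hg : g ^ r = 1) (hfix : ∀ z, g z = z → z = 0)
    (hdet : LinearMap.det g = 1)
    (hμ : ∀ μ : F, μ ≠ 1 → μ ^ r = 1 → μ ^ n = 1 → finrank F M < n - finrank F M) :
    ∃ x : Matrix.SpecialLinearGroup (Fin n) F,
      (∃ z : F, ((x ^ r : Matrix.SpecialLinearGroup (Fin n) F) : Matrix (Fin n) (Fin n) F) =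
        z • (1 : Matrix (Fin n) (Fin n) F)) ∧
      (∀ z : F, (x : Matrix (Fin n) (Fin n) F) ≠ z • (1 : Matrix (Fin n) (Fin n) F)) ∧
      ∀ P : Matrix.SpecialLinearGroup (Fin n) F, P⁻¹ * x * P ∉ HS f := by
  have hν : 1 ≤ n - finrank F M := by omega
  apply exists_derangement f hf r (V' := (Fin (n - finrank F M) → F) × M) ?_
    (pm (n - finrank F M) g) ?_ (pm_pow _ g r hg) (pm_ne_smul _ hν g hfix hodd.pos) ?_
  · rw [Module.finrank_prod, Module.finrank_fin_fun]
    omega
  · rw [pm_det, hdet]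
  · intro μ B hμn hA hN hsim
    refine no_similitude n r (pm _ g) (pm_pow _ g r hg) hr0 ?_ ?_ μ B hμn hA hN hsim
    · rw [pm_finrank_movR _ g hfix]
      exact hodd
    · intro μ' h1 h2 h3
      rw [pm_finrank_fixE _ g hfix]
      exact lt_of_le_of_lt (pm_finrank_eig_le _ g μ' h1) (hμ μ' h1 h2 h3)

end prodmodel

end Cfsg.Agent.Lib.Helper5.AltDer
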