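import Mathlib
import Cfsg.Agent.Lib.Helper5.AltDer

set_option autoImplicit false
open scoped MatrixGroups

/-! The three models of derangements of odd prime order for the symplectic-type subgroup of
`SL_n(q)`: unipotent (Jordan type `(3, 1^(n-3))`), split semisimple (`diag(1,…,1,λ,λ,λ⁻²)`) and
nonsplit semisimple (a root of unity of an odd-degree extension field). -/

namespace Cfsg.Agent.Lib.Helper5.AltDer

open Module
open Cfsg.Agent.Lib.Helper12.Elus Cfsg.Agent.Lib.Helper9.SympA Cfsg.Agent.Lib.Helper5.AltSim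

section J3

variable (F : Type*) [Field F]

/-- a regular unipotent `3 × 3` matrix -/
def J3 : Matrix (Fin 3) (Fin 3) F := !![1, 1, 1; 0, 1, 1; 0, 0, 1]

/-- its nilpotent part -/
def N3 : Matrix (Fin 3) (Fin 3) F := !![0, 1, 1; 0, 0, 1; 0, 0, 0]

theorem J3_eq : J3 F = 1 + N3 F := by
  ext i j
  fin_cases i <;> fin_cases j <;> simp [J3, N3]

theorem N3_cube : N3 F ^ 3 = 0 := by
  have h2 : N3 F * N3 F = !![0, 0, 1; 0, 0, 0; 0, 0, 0] := by
    unfold N3
    rw [Matrix.mul_fin_three]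
    simp
  have h3 : (!![0, 0, 1; 0, 0, 0; 0, 0, 0] : Matrix (Fin 3) (Fin 3) F) * N3 F = 0 := by
    unfold N3
    rw [Matrix.mul_fin_three]
    ext i j
    fin_cases i <;> fin_cases j <;> simp
  rw [pow_succ, pow_two, h2, h3]

theorem J3_pow (p : ℕ) [Fact p.Prime] [CharP F p] (hp : 3 ≤ p) : J3 F ^ p = 1 := by
  have hN : N3 F ^ p = 0 := by
    have h : p = 3 + (p - 3) := by omega
    rw [h, pow_add, N3_cube, zero_mul]
  rw [J3_eq, add_pow_char_of_commute p (Commute.one_left (N3 F)), one_pow, hN, add_zero]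

theorem J3_det : (J3 F).det = 1 := by
  simp [J3, Matrix.det_fin_three]

theorem J3_mulVec (z : Fin 3 → F) :
    (J3 F).mulVec z = ![z 0 + z 1 + z 2, z 1 + z 2, z 2] := by
  ext i
  fin_cases i <;> simp [J3, Matrix.mulVec, dotProduct, Fin.sum_univ_three]

end J3

section cases

variable {F : Type*} [Field F]

theorem eq_one_of_pow_char (p : ℕ) [Fact p.Prime] [CharP F p] (δ : F) (h : δ ^ p = 1) :
    δ = 1 := by
  have h1 : (δ - 1) ^ p = 0 := by rw [sub_pow_char, h, one_pow, sub_self]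
  exact sub_eq_zero.1 ((pow_eq_zero_iff (Fact.out : p.Prime).ne_zero).1 h1)

/-- the unipotent model -/
theorem case_unip {p : ℕ} [Fact p.Prime] [CharP F p] (hp3 : 3 ≤ p) {n : ℕ} (hn : 3 ≤ n)
    (f : (Fin n → F) → (Fin n → F) → F) (hf : Cfsg.Geo.IsSymplecticForm f) :
    ∃ x : Matrix.SpecialLinearGroup (Fin n) F,
      (∃ z : F, ((x ^ p : Matrix.SpecialLinearGroup (Fin n) F) : Matrix (Fin n) (Fin n) F) =
        z • (1 : Matrix (Fin n) (Fin n) F)) ∧
      (∀ z : F, (x : Matrix (Fin n) (Fin n) F) ≠ z • (1 : Matrix (Fin n) (Fin n) F)) ∧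
      ∀ P : Matrix.SpecialLinearGroup (Fin n) F, P⁻¹ * x * P ∉ HS f := by
  obtain ⟨g, hgdef⟩ : ∃ g : (Fin 3 → F) →ₗ[F] (Fin 3 → F), g = Matrix.toLin' (J3 F) :=
    ⟨_, rfl⟩
  have hgapp : ∀ z : Fin 3 → F, g z = ![z 0 + z 1 + z 2, z 1 + z 2, z 2] := by
    intro z
    rw [hgdef, Matrix.toLin'_apply, J3_mulVec]
  have hg : g ^ p = 1 := by
    rw [hgdef, ← Matrix.toLin'_pow, J3_pow F p hp3, Matrix.toLin'_one]
    rfl
  have hgdet : LinearMap.det g = 1 := by
    rw [hgdef, LinearMap.det_toLin', J3_det]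
  have hg0 : g ![1, 0, 0] = ![1, 0, 0] := by
    rw [hgapp]
    ext i
    fin_cases i <;> simp
  have hg1 : g ![0, 1, 0] = ![1, 0, 0] + ![0, 1, 0] := by
    rw [hgapp]
    ext i
    fin_cases i <;> simp
  have hg2 : g ![0, 0, 1] = ![1, 0, 0] + ![0, 1, 0] + ![0, 0, 1] := by
    rw [hgapp]
    ext i
    fin_cases i <;> simp
  apply exists_derangement f hf p (V' := (Fin (n - 3) → F) × (Fin 3 → F)) ?_
    (pm (n - 3) g) ?_ (pm_pow _ g p hg) ?_ ?_
  · rw [Module.finrank_prod, Module.finrank_fin_fun, Module.finrank_fin_fun]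
    omega
  · rw [pm_det, hgdet]
  · intro c h
    have h1 := LinearMap.congr_fun h ((0 : Fin (n - 3) → F), (![0, 1, 0] : Fin 3 → F))
    have h2 : g ![0, 1, 0] = c • (![0, 1, 0] : Fin 3 → F) := congrArg Prod.snd h1
    rw [hg1] at h2
    have h3 := congrFun h2 0
    simp at h3
  · intro μ B hμn hA hN hsim
    have hE0 : (((0 : Fin (n - 3) → F), (![1, 0, 0] : Fin 3 → F)) :
        (Fin (n - 3) → F) × (Fin 3 → F)) ≠ 0 := by
      intro h
      have h1 := congrFun (congrArg Prod.snd h) 0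
      simp at h1
    have hex : ∃ v, B ((0 : Fin (n - 3) → F), (![1, 0, 0] : Fin 3 → F)) v ≠ 0 := by
      by_contra hcon
      apply hE0
      apply hN
      intro v
      by_contra h
      exact hcon ⟨v, h⟩
    obtain ⟨v, hv⟩ := hex
    have hμp : μ ^ p = 1 := mu_pow_eq_one B _ μ hsim p (pm_pow _ g p hg) _ _ hv
    have hμ1 : μ = 1 := eq_one_of_pow_char p μ hμp
    subst hμ1
    refine unip3_false B hA hN (pm (n - 3) g) (fun u v => by rw [hsim, one_mul])
      ((0 : Fin (n - 3) → F), (![1, 0, 0] : Fin 3 → F))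
      ((0 : Fin (n - 3) → F), (![0, 1, 0] : Fin 3 → F))
      ((0 : Fin (n - 3) → F), (![0, 0, 1] : Fin 3 → F)) ?_ ?_ ?_ hE0 ?_
    · rw [pm_apply, hg0]
    · rw [pm_apply, hg1, Prod.mk_add_mk, add_zero]
    · rw [pm_apply, hg2, Prod.mk_add_mk, Prod.mk_add_mk, add_zero, add_zero]
    · rintro ⟨a, z⟩
      refine ⟨(a, 0), z 0, z 1, z 2, ?_, ?_⟩
      · rw [pm_apply, map_zero]
      · apply Prod.ext
        · simp
        · funext i
          fin_cases i <;> simp

theorem char_ne_zero_of_ne {p : ℕ} [Fact p.Prime] [CharP F p] (r : ℕ) [Fact r.Prime]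
    (hrp : r ≠ p) : (r : F) ≠ 0 := by
  rw [Ne, CharP.cast_eq_zero_iff F p]
  intro hd
  exact hrp ((Nat.prime_dvd_prime_iff_eq Fact.out Fact.out).1 hd).symm

variable [Fintype F]

/-- the nonsplit semisimple model -/
theorem case_nonsplit {p : ℕ} [Fact p.Prime] [CharP F p] {n : ℕ}
    (f : (Fin n → F) → (Fin n → F) → F) (hf : Cfsg.Geo.IsSymplecticForm f)
    (r : ℕ) [Fact r.Prime] (hrp : r ≠ p) (hrq : ¬ r ∣ Fintype.card F - 1)
    (hodd : Odd (orderOf (Fintype.card F : ZMod r)))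
    (hlt : orderOf (Fintype.card F : ZMod r) < n) :
    ∃ x : Matrix.SpecialLinearGroup (Fin n) F,
      (∃ z : F, ((x ^ r : Matrix.SpecialLinearGroup (Fin n) F) : Matrix (Fin n) (Fin n) F) =
        z • (1 : Matrix (Fin n) (Fin n) F)) ∧
      (∀ z : F, (x : Matrix (Fin n) (Fin n) F) ≠ z • (1 : Matrix (Fin n) (Fin n) F)) ∧
      ∀ P : Matrix.SpecialLinearGroup (Fin n) F, P⁻¹ * x * P ∉ HS f := by
  have hr : r.Prime := Fact.out
  have hr0 : (r : F) ≠ 0 := char_ne_zero_of_ne r hrp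
  set c₀ := orderOf (Fintype.card F : ZMod r) with hc₀
  have : NeZero c₀ := ⟨(orderOf_card_pos r hrp).ne'⟩
  let K := FiniteField.Extension F p c₀
  have hKcard : Nat.card K = Fintype.card F ^ c₀ := by
    rw [FiniteField.natCard_extension, Nat.card_eq_fintype_card]
  have hKrank : finrank F K = c₀ := FiniteField.finrank_extension F p c₀
  have hdvd : r ∣ Nat.card Kˣ := by
    rw [Nat.card_units, hKcard]
    exact dvd_pow_orderOf_sub_one r _ Fintype.card_pos
  obtain ⟨ζ, hζ⟩ := exists_prime_orderOf_dvd_card' r hdvd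
  have hζr : (ζ : K) ^ r = 1 := by
    rw [← Units.val_pow_eq_pow_val, ← hζ, pow_orderOf_eq_one, Units.val_one]
  have hζ1 : (ζ : K) ≠ 1 := by
    intro h
    have h1 : ζ = 1 := Units.ext h
    rw [h1, orderOf_one] at hζ
    exact hr.one_lt.ne hζ
  let g : K →ₗ[F] K := Algebra.lsmul F F K (ζ : K)
  have hg : g ^ r = 1 := by
    show (Algebra.lsmul F F K (ζ : K)) ^ r = 1
    rw [← map_pow, hζr, map_one]
  have hfix : ∀ z, g z = z → z = 0 := by
    intro z hz
    have h2 : (ζ : K) • z = z := hz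
    have h3 : ((ζ : K) - 1) • z = 0 := by rw [sub_smul, one_smul, h2, sub_self]
    rcases smul_eq_zero.1 h3 with h | h
    · exact absurd (sub_eq_zero.1 h) hζ1
    · exact h
  have hdet : LinearMap.det g = 1 :=
    eq_one_of_pow_eq_one_of_coprime r hr hrq _ (by rw [← map_pow, hg, map_one])
  apply prod_model f hf r hr0 g (by rw [hKrank]; exact hodd) (by rw [hKrank]; exact hlt) hg
    hfix hdet
  intro μ h1 h2 _
  exact absurd (eq_one_of_pow_eq_one_of_coprime r hr hrq μ h2) h1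

theorem arith_gap (n r : ℕ) (hn : 4 ≤ n) (he : Even n) (hr : r.Prime) (hr2 : r ≠ 2)
    (hgap : ¬ (n = 6 ∧ r = 3)) (hdvd : r ∣ n) : 3 < n - 3 := by
  by_contra hcon
  have hn6 : n ≤ 6 := by omega
  obtain ⟨k, hk⟩ := he
  have hr3 : 3 ≤ r := by
    have := hr.two_le
    omega
  have hrn : r ≤ n := Nat.le_of_dvd (by omega) hdvd
  have hn46 : n = 4 ∨ n = 6 := by omega
  rcases hn46 with rfl | rfl
  · have h34 : r = 3 ∨ r = 4 := by omega
    rcases h34 with rfl | rfl
    · omega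
    · exact absurd hr (by norm_num)
  · have h : r = 3 ∨ r = 4 ∨ r = 5 ∨ r = 6 := by omega
    rcases h with rfl | rfl | rfl | rfl
    · exact hgap ⟨rfl, rfl⟩
    · exact absurd hr (by norm_num)
    · omega
    · exact absurd hr (by norm_num)

/-- the split semisimple model -/
theorem case_split {p : ℕ} [Fact p.Prime] [CharP F p] {n : ℕ} (hn : 4 ≤ n) (he : Even n)
    (f : (Fin n → F) → (Fin n → F) → F) (hf : Cfsg.Geo.IsSymplecticForm f)
    (r : ℕ) [Fact r.Prime] (hr2 : r ≠ 2) (hrp : r ≠ p) (hgap : ¬ (n = 6 ∧ r = 3))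
    (hrq : r ∣ Fintype.card F - 1) :
    ∃ x : Matrix.SpecialLinearGroup (Fin n) F,
      (∃ z : F, ((x ^ r : Matrix.SpecialLinearGroup (Fin n) F) : Matrix (Fin n) (Fin n) F) =
        z • (1 : Matrix (Fin n) (Fin n) F)) ∧
      (∀ z : F, (x : Matrix (Fin n) (Fin n) F) ≠ z • (1 : Matrix (Fin n) (Fin n) F)) ∧
      ∀ P : Matrix.SpecialLinearGroup (Fin n) F, P⁻¹ * x * P ∉ HS f := by
  have hr : r.Prime := Fact.out
  have hr3 : 3 ≤ r := by
    have := hr.two_le
    omega
  have hr0 : (r : F) ≠ 0 := char_ne_zero_of_ne r hrp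
  have hdvd : r ∣ Nat.card Fˣ := by
    rw [Nat.card_units, Nat.card_eq_fintype_card]
    exact hrq
  obtain ⟨lam, hlam⟩ := exists_prime_orderOf_dvd_card' r hdvd
  have hlr : (lam : F) ^ r = 1 := by
    rw [← Units.val_pow_eq_pow_val, ← hlam, pow_orderOf_eq_one, Units.val_one]
  have hl1 : (lam : F) ≠ 1 := by
    intro h
    have h1 : lam = 1 := Units.ext h
    rw [h1, orderOf_one] at hlam
    exact hr.one_lt.ne hlam
  have hl2 : (lam : F) ^ (r - 2) ≠ 1 := by
    intro h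
    have h1 : lam ^ (r - 2) = 1 := Units.ext (by rw [Units.val_pow_eq_pow_val, h, Units.val_one])
    have h2 := orderOf_dvd_of_pow_eq_one h1
    rw [hlam] at h2
    have := Nat.le_of_dvd (by omega) h2
    omega
  obtain ⟨d, hd⟩ : ∃ d : Fin 3 → F, d = ![(lam : F), (lam : F), (lam : F) ^ (r - 2)] :=
    ⟨_, rfl⟩
  have hd0 : d 0 = (lam : F) := by rw [hd]; rfl
  have hd1' : d 1 = (lam : F) := by rw [hd]; rfl
  have hd2 : d 2 = (lam : F) ^ (r - 2) := by rw [hd]; rfl
  have hdne : ∀ i, d i ≠ 1 := by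
    intro i
    fin_cases i
    · show d 0 ≠ 1
      rw [hd0]; exact hl1
    · show d 1 ≠ 1
      rw [hd1']; exact hl1
    · show d 2 ≠ 1
      rw [hd2]; exact hl2
  have hdr : ∀ i, d i ^ r = 1 := by
    intro i
    fin_cases i
    · show d 0 ^ r = 1
      rw [hd0]; exact hlr
    · show d 1 ^ r = 1
      rw [hd1']; exact hlr
    · show d 2 ^ r = 1
      rw [hd2, ← pow_mul, mul_comm, pow_mul, hlr, one_pow]
  have hdprod : ∏ i, d i = 1 := by
    rw [Fin.prod_univ_three, hd0, hd1', hd2, ← pow_two, ← pow_add,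
      show 2 + (r - 2) = r by omega, hlr]
  obtain ⟨g, hgdef⟩ : ∃ g : (Fin 3 → F) →ₗ[F] (Fin 3 → F),
      g = Matrix.toLin' (Matrix.diagonal d) := ⟨_, rfl⟩
  have hgapp : ∀ z i, g z i = d i * z i := by
    intro z i
    rw [hgdef, Matrix.toLin'_apply, Matrix.mulVec_diagonal]
  have hg : g ^ r = 1 := by
    rw [hgdef, ← Matrix.toLin'_pow, Matrix.diagonal_pow]
    have h1 : d ^ r = fun _ => (1 : F) := by
      funext i
      exact hdr i
    rw [h1, Matrix.diagonal_one, Matrix.toLin'_one]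
    rfl
  have hfix : ∀ z, g z = z → z = 0 := by
    intro z hz
    funext i
    have h1 := congrFun hz i
    rw [hgapp] at h1
    have h3 : (d i - 1) * z i = 0 := by rw [sub_mul, one_mul, h1, sub_self]
    rcases mul_eq_zero.1 h3 with h | h
    · exact absurd (sub_eq_zero.1 h) (hdne i)
    · exact h
  have hdet : LinearMap.det g = 1 := by
    rw [hgdef, LinearMap.det_toLin', Matrix.det_diagonal, hdprod]
  have hfr : finrank F (Fin 3 → F) = 3 := Module.finrank_fin_fun F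
  apply prod_model f hf r hr0 g (by rw [hfr]; exact ⟨1, rfl⟩) (by rw [hfr]; omega) hg hfix hdet
  intro μ h1 h2 h3
  rw [hfr]
  have ho : orderOf μ ∣ r := orderOf_dvd_of_pow_eq_one h2
  rcases (Nat.dvd_prime hr).1 ho with h | h
  · exact absurd (orderOf_eq_one_iff.1 h) h1
  · have hrn : r ∣ n := by
      rw [← h]
      exact orderOf_dvd_of_pow_eq_one h3
    exact arith_gap n r hn he hr hr2 hgap hrn

end cases

end Cfsg.Agent.Lib.Helper5.AltDer
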