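import Mathlib
import Cfsg.Agent.Lib.Helper5.AltDer

set_option autoImplicit false
open scoped MatrixGroups

/-! The index of the symplectic-type subgroup of `SL_{2m}(q)`: every prime divisor is the
characteristic or divides some `q^(2i+1) - 1`, `i < m`. -/

namespace Cfsg.Agent.Lib.Helper5.AltDer

open Module
open Cfsg.Agent.Lib.Helper12.Elus Cfsg.Agent.Lib.Helper9.SympA Cfsg.Agent.Lib.Helper5.AltSim

theorem prod_range_two_mul_pow (q m : ℕ) :
    ∏ k ∈ Finset.range (2 * m), (q ^ (k + 1) - 1) =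
      (∏ i ∈ Finset.range m, (q ^ (2 * i + 1) - 1)) *
        ∏ i ∈ Finset.range m, (q ^ (2 * (i + 1)) - 1) := by
  induction m with
  | zero => simp
  | succ m ih =>
    have h : 2 * (m + 1) = 2 * m + 1 + 1 := by ring
    rw [h, Finset.prod_range_succ, Finset.prod_range_succ, ih, Finset.prod_range_succ,
      Finset.prod_range_succ, ← h]
    ring

theorem prod_split (q m : ℕ) :
    ∏ i : Fin (2 * m), (q ^ (2 * m) - q ^ (i : ℕ)) =
      (∏ i : Fin (2 * m), q ^ (i : ℕ)) *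
        ((∏ i ∈ Finset.range m, (q ^ (2 * i + 1) - 1)) *
          ∏ i ∈ Finset.range m, (q ^ (2 * (i + 1)) - 1)) := by
  rw [prod_pow_sub_pow q (2 * m) (2 * m) le_rfl]
  congr 1
  rw [Fin.prod_univ_eq_prod_range (fun i => q ^ (2 * m - i) - 1) (2 * m)]
  have h1 : ∏ i ∈ Finset.range (2 * m), (q ^ (2 * m - i) - 1) =
      ∏ j ∈ Finset.range (2 * m), (q ^ (j + 1) - 1) := by
    rw [← Finset.prod_range_reflect (fun j => q ^ (j + 1) - 1) (2 * m)]
    apply Finset.prod_congr rfl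
    intro j hj
    have hj' := Finset.mem_range.1 hj
    have h2 : 2 * m - 1 - j + 1 = 2 * m - j := by omega
    show q ^ (2 * m - j) - 1 = q ^ (2 * m - 1 - j + 1) - 1
    rw [h2]
  rw [h1, prod_range_two_mul_pow]

section idx

variable {F : Type*} [Field F] [Fintype F]

theorem card_symplectic_dvd {n m : ℕ} (hnm : n = 2 * m) (f : (Fin n → F) → (Fin n → F) → F)
    (hf : Cfsg.Geo.IsSymplecticForm f) :
    Nat.card (Matrix.symplecticGroup (Fin m) F) ∣ Nat.card (HS f) := by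
  classical
  have e : Fin m ⊕ Fin m ≃ Fin n := Fintype.equivOfCardEq (by simp [hnm, two_mul])
  obtain ⟨ε, -⟩ : ∃ ε : (Fin n → F) ≃ₗ[F] (Fin m ⊕ Fin m → F),
      ε = LinearEquiv.funCongrLeft F F e := ⟨_, rfl⟩
  obtain ⟨β₂, hβ₂def⟩ : ∃ β₂ : LinearMap.BilinForm F (Fin n → F),
      β₂ = (Matrix.toBilin' (Matrix.J (Fin m) F)).comp
        (ε : (Fin n → F) →ₗ[F] (Fin m ⊕ Fin m → F))
        (ε : (Fin n → F) →ₗ[F] (Fin m ⊕ Fin m → F)) := ⟨_, rfl⟩
  have hβ₂ : ∀ u v, β₂ u v = Cfsg.sympForm m F (ε u) (ε v) := by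
    intro u v
    rw [hβ₂def, LinearMap.BilinForm.comp_apply, Matrix.toBilin'_apply']
    rfl
  have hβ₂alt : β₂.IsAlt := by
    intro u
    rw [hβ₂]
    exact Cfsg.Agent.Lib.Helper5.sympForm_self m _
  have hnd₂ : ∀ u, (∀ v, β₂ u v = 0) → u = 0 := by
    intro u hu
    by_contra hne
    have hεu : ε u ≠ 0 := fun h => hne (ε.map_eq_zero_iff.1 h)
    obtain ⟨a, ha⟩ := Cfsg.Agent.Lib.Helper5.sympForm_nondeg (ε u) hεu
    apply ha
    have h := hu (ε.symm a)
    rw [hβ₂, LinearEquiv.apply_symm_apply] at h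
    exact h
  have hnd₁ : ∀ u, (∀ v, (toBilin f hf.bilinear) u v = 0) → u = 0 := (toBilin_nondeg f hf).1
  obtain ⟨θ, hθ⟩ := Cfsg.Agent.Lib.Helper15.AltIso.exists_isometry_of_alt
    (toBilin f hf.bilinear) β₂ (fun u => hf.alternating u) hβ₂alt hnd₁ hnd₂
  obtain ⟨φ, hφdef⟩ : ∃ φ : (Fin m ⊕ Fin m → F) ≃ₗ[F] (Fin n → F), φ = ε.symm.trans θ :=
    ⟨_, rfl⟩
  have hφ : ∀ a b, f (φ a) (φ b) = Cfsg.sympForm m F a b := by
    intro a b
    have h := hθ (ε.symm a) (ε.symm b)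
    rw [hβ₂, LinearEquiv.apply_symm_apply, LinearEquiv.apply_symm_apply] at h
    rw [hφdef]
    exact h
  obtain ⟨Φ, hΦdef⟩ : ∃ Φ : Matrix (Fin n) (Fin m ⊕ Fin m) F,
      Φ = LinearMap.toMatrix' (φ : (Fin m ⊕ Fin m → F) →ₗ[F] (Fin n → F)) := ⟨_, rfl⟩
  obtain ⟨Φ', hΦ'def⟩ : ∃ Φ' : Matrix (Fin m ⊕ Fin m) (Fin n) F,
      Φ' = LinearMap.toMatrix' (φ.symm : (Fin n → F) →ₗ[F] (Fin m ⊕ Fin m → F)) := ⟨_, rfl⟩
  have hΦΦ' : Φ * Φ' = 1 := by
    rw [hΦdef, hΦ'def, ← LinearMap.toMatrix'_comp]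
    simp
  have hΦ'Φ : Φ' * Φ = 1 := by
    rw [hΦdef, hΦ'def, ← LinearMap.toMatrix'_comp]
    simp
  have hΦv : ∀ a, Φ.mulVec a = φ a := by
    intro a
    rw [hΦdef, LinearMap.toMatrix'_mulVec]
    rfl
  have hΦ'v : ∀ u, Φ'.mulVec u = φ.symm u := by
    intro u
    rw [hΦ'def, LinearMap.toMatrix'_mulVec]
    rfl
  have hcancel : ∀ {k : Type} [Fintype k] (Z : Matrix (Fin m ⊕ Fin m) k F), Φ' * (Φ * Z) = Z := by
    intro k _ Z
    rw [← Matrix.mul_assoc, hΦ'Φ, Matrix.one_mul]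
  let ψ0 : Matrix.symplecticGroup (Fin m) F → Matrix.SpecialLinearGroup (Fin n) F :=
    fun A => ⟨Φ * (A : Matrix (Fin m ⊕ Fin m) (Fin m ⊕ Fin m) F) * Φ', by
        rw [Matrix.det_conj_of_mul_eq_one hΦΦ' hΦ'Φ]
        exact SymplecticGroup.det_eq_one A.2⟩
  have hψ0 : ∀ A : Matrix.symplecticGroup (Fin m) F,
      ((ψ0 A : Matrix.SpecialLinearGroup (Fin n) F) : Matrix (Fin n) (Fin n) F) =
        Φ * (A : Matrix (Fin m ⊕ Fin m) (Fin m ⊕ Fin m) F) * Φ' := fun A => rfl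
  let ψ : Matrix.symplecticGroup (Fin m) F →* Matrix.SpecialLinearGroup (Fin n) F :=
    { toFun := ψ0
      map_one' := by
        apply Subtype.ext
        show ((ψ0 1 : Matrix.SpecialLinearGroup (Fin n) F) : Matrix (Fin n) (Fin n) F) =
          ((1 : Matrix.SpecialLinearGroup (Fin n) F) : Matrix (Fin n) (Fin n) F)
        rw [hψ0, Matrix.SpecialLinearGroup.coe_one, OneMemClass.coe_one, Matrix.mul_one, hΦΦ']
      map_mul' := fun A B => by
        apply Subtype.ext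
        show ((ψ0 (A * B) : Matrix.SpecialLinearGroup (Fin n) F) : Matrix (Fin n) (Fin n) F) =
          ((ψ0 A * ψ0 B : Matrix.SpecialLinearGroup (Fin n) F) : Matrix (Fin n) (Fin n) F)
        rw [Matrix.SpecialLinearGroup.coe_mul, hψ0, hψ0, hψ0, Submonoid.coe_mul]
        simp only [Matrix.mul_assoc]
        rw [hcancel] }
  have hψ : ∀ A : Matrix.symplecticGroup (Fin m) F,
      ((ψ A : Matrix.SpecialLinearGroup (Fin n) F) : Matrix (Fin n) (Fin n) F) =
        Φ * (A : Matrix (Fin m ⊕ Fin m) (Fin m ⊕ Fin m) F) * Φ' := fun A => rfl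
  have hmem : ∀ A, ψ A ∈ HS f := by
    intro A
    rw [Subgroup.mem_comap]
    refine ⟨1, fun u v => ?_⟩
    have hval : ((Matrix.SpecialLinearGroup.toGL (ψ A) : GL (Fin n) F) :
        Matrix (Fin n) (Fin n) F) =
        Φ * (A : Matrix (Fin m ⊕ Fin m) (Fin m ⊕ Fin m) F) * Φ' := hψ A
    rw [hval, Units.val_one, one_mul]
    have hact : ∀ w, (Φ * (A : Matrix (Fin m ⊕ Fin m) (Fin m ⊕ Fin m) F) * Φ').mulVec w =
        φ ((A : Matrix (Fin m ⊕ Fin m) (Fin m ⊕ Fin m) F).mulVec (φ.symm w)) := by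
      intro w
      rw [← Matrix.mulVec_mulVec, ← Matrix.mulVec_mulVec, hΦ'v, hΦv]
    rw [hact, hact, hφ, Cfsg.Agent.Lib.Helper5.sympForm_mulVec_of_mem A.2, ← hφ,
      LinearEquiv.apply_symm_apply, LinearEquiv.apply_symm_apply]
  have hinj : Function.Injective (ψ.codRestrict (HS f) hmem) := by
    intro A B hAB
    have h0 : ψ A = ψ B := congrArg Subtype.val hAB
    have h1 : Φ * (A : Matrix (Fin m ⊕ Fin m) (Fin m ⊕ Fin m) F) * Φ' =
        Φ * (B : Matrix (Fin m ⊕ Fin m) (Fin m ⊕ Fin m) F) * Φ' := by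
      rw [← hψ A, ← hψ B, h0]
    have h2 := congrArg (fun Z => Φ' * Z * Φ) h1
    simp only [Matrix.mul_assoc, hΦ'Φ, Matrix.mul_one, hcancel] at h2
    exact Subtype.ext h2
  exact Subgroup.card_dvd_of_injective (ψ.codRestrict (HS f) hmem) hinj

theorem prime_dvd_index {p : ℕ} [Fact p.Prime] [CharP F p] {n m : ℕ} (hnm : n = 2 * m)
    (hm : 1 ≤ m) (f : (Fin n → F) → (Fin n → F) → F) (hf : Cfsg.Geo.IsSymplecticForm f)
    (r : ℕ) [Fact r.Prime] (h : r ∣ (HS f).index) :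
    r = p ∨ ∃ i, i < m ∧ r ∣ Fintype.card F ^ (2 * i + 1) - 1 := by
  have hr : r.Prime := Fact.out
  subst hnm
  have hq2 : 2 ≤ Fintype.card F := Fintype.one_lt_card
  obtain ⟨t, ht⟩ := card_symplectic_dvd (m := m) rfl f hf
  have hLag := Subgroup.card_mul_index (HS f)
  have hS := Cfsg.Agent.Lib.Helper2.card_SL_field (F := F) (2 * m) (by omega)
  rw [prod_split, ← hLag, ht, Cfsg.Agent.Lib.Helper14.card_symplectic] at hS
  have hEpos : 0 < ∏ i ∈ Finset.range m, (Fintype.card F ^ (2 * (i + 1)) - 1) := by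
    apply Finset.prod_pos
    intro i _
    have : 1 < Fintype.card F ^ (2 * (i + 1)) := Nat.one_lt_pow (by omega) hq2
    omega
  have hcancel : (Fintype.card F - 1) * Fintype.card F ^ m ^ 2 * t * (HS f).index =
      (∏ i : Fin (2 * m), Fintype.card F ^ (i : ℕ)) *
        ∏ i ∈ Finset.range m, (Fintype.card F ^ (2 * i + 1) - 1) := by
    apply Nat.eq_of_mul_eq_mul_left hEpos
    calc (∏ i ∈ Finset.range m, (Fintype.card F ^ (2 * (i + 1)) - 1)) *
          ((Fintype.card F - 1) * Fintype.card F ^ m ^ 2 * t * (HS f).index)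
        = (Fintype.card F - 1) * (Fintype.card F ^ m ^ 2 *
            (∏ i ∈ Finset.range m, (Fintype.card F ^ (2 * (i + 1)) - 1)) * t *
              (HS f).index) := by ring
      _ = (∏ i : Fin (2 * m), Fintype.card F ^ (i : ℕ)) *
            ((∏ i ∈ Finset.range m, (Fintype.card F ^ (2 * i + 1) - 1)) *
              ∏ i ∈ Finset.range m, (Fintype.card F ^ (2 * (i + 1)) - 1)) := hS
      _ = _ := by ring
  have hdvd : r ∣ (∏ i : Fin (2 * m), Fintype.card F ^ (i : ℕ)) *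
        ∏ i ∈ Finset.range m, (Fintype.card F ^ (2 * i + 1) - 1) := by
    rw [← hcancel]
    exact Dvd.dvd.mul_left h _
  rcases (Nat.Prime.dvd_mul hr).1 hdvd with h1 | h1
  · left
    obtain ⟨i, -, hi⟩ := Prime.exists_mem_finset_dvd hr.prime h1
    have h2 : r ∣ Fintype.card F := hr.dvd_of_dvd_pow hi
    by_contra hrp
    exact card_not_dvd r hr hrp h2
  · right
    obtain ⟨i, hi, hi2⟩ := Prime.exists_mem_finset_dvd hr.prime h1
    exact ⟨i, Finset.mem_range.1 hi, hi2⟩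

end idx

end Cfsg.Agent.Lib.Helper5.AltDer
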