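import Cfsg.Agent.Lib.Helper19.AutPSLDefs
import Cfsg.Agent.Lib.Helper24.EOrdP6

/-! S2262 leaf PO-L (helper5): self-reciprocal polynomials of degree at least 4 (not `(4, 2)`, `(5, 2)`). -/

set_option autoImplicit false

namespace Cfsg.Agent.Lib.Helper5.AutPSLPOL

open Matrix Polynomial Cfsg.Agent.Lib.Helper18.PSLnAut Cfsg.Agent.Lib.Helper19.AutPSL

variable {F : Type*} [Field F] [Fintype F]

omit [Fintype F] in
theorem mirror_X_sub_one : ((X : F[X]) - 1).mirror = C (-1) * (X - 1) := by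
  have hd : ((X : F[X]) - 1).natDegree = 1 := by
    have := natDegree_X_sub_C (1 : F)
    rwa [C_1] at this
  have ht : ((X : F[X]) - 1).natTrailingDegree = 0 := by
    rw [natTrailingDegree_eq_zero]; right; simp
  ext n
  rw [coeff_mirror, hd, ht, coeff_C_mul]
  have h11 : (1 : F[X]).coeff 1 = 0 := by rw [coeff_one]; simp
  rcases n with _ | _ | n
  · simp [revAt, h11]
  · simp [revAt, h11]
  · have : revAt (1 + 0) (n + 1 + 1) = n + 1 + 1 := by
      rw [← revAtFun_eq, revAtFun, if_neg (by omega)]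
    rw [this]
    simp [coeff_X, coeff_one]

omit [Fintype F] in
theorem assoc_of_isRecip {P : F[X]} (h : IsRecip P) : Associated P.mirror P := by
  obtain ⟨u, hu, h⟩ := h
  rw [h]
  exact (associated_isUnit_mul_left_iff (isUnit_C.mpr hu.isUnit)).mpr (Associated.refl P)

/-- numeric core -/
theorem num_core (q N e r : ℕ) (hq : 2 ≤ q) (hr : 3 ≤ q ^ r) (hN : (q - 1) * N ≤ q ^ e) :
    2 * ((q - 1) * N) ≤ q ^ (e + r) - 1 := by
  have h1 : 1 ≤ q ^ e := Nat.one_le_pow _ _ (by omega)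
  have h2 : 3 * q ^ e ≤ q ^ (e + r) := by
    rw [pow_add, mul_comm]
    exact Nat.mul_le_mul_left _ hr
  omega

theorem pow_ge_three (q r : ℕ) (hq : 2 ≤ q) (hr : 1 ≤ r) (h : 2 ≤ r ∨ 3 ≤ q) : 3 ≤ q ^ r := by
  rcases h with h | h
  · calc 3 ≤ 2 ^ 2 := by norm_num
      _ ≤ q ^ 2 := Nat.pow_le_pow_left hq 2
      _ ≤ q ^ r := Nat.pow_le_pow_right (by omega) h
  · calc 3 ≤ q ^ 1 := by rw [pow_one]; exact h
      _ ≤ q ^ r := Nat.pow_le_pow_right (by omega) hr

/-- (PO-L) -/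
theorem recip_bound_large (P : F[X]) (hP : P.Monic) (d : ℕ) (hdeg : P.natDegree = d) (hd : 4 ≤ d)
    (h0 : P.coeff 0 ≠ 0) (hrec : IsRecip P)
    (hex : ¬ ((d = 4 ∨ d = 5) ∧ Fintype.card F = 2)) :
    ∃ (j : ℕ) (c : F), 1 ≤ j ∧ 2 * ((Fintype.card F - 1) * j) ≤ Fintype.card F ^ d - 1 ∧
      P ∣ X ^ j - C c := by
  have hq : 2 ≤ Fintype.card F := Fintype.one_lt_card
  have hq3 : (d = 4 ∨ d = 5) → 3 ≤ Fintype.card F := by
    intro h
    by_contra hlt
    exact hex ⟨h, by omega⟩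
  have hassoc := assoc_of_isRecip hrec
  have fin : ∀ (N : ℕ), 1 ≤ N → (P ∣ X ^ N - 1 ∨ P ∣ X ^ N + 1) →
      2 * ((Fintype.card F - 1) * N) ≤ Fintype.card F ^ d - 1 →
      ∃ (j : ℕ) (c : F), 1 ≤ j ∧ 2 * ((Fintype.card F - 1) * j) ≤ Fintype.card F ^ d - 1 ∧
        P ∣ X ^ j - C c := by
    intro N hN1 hdvd hb
    rcases hdvd with h | h
    · exact ⟨N, 1, hN1, hb, by rwa [C_1]⟩
    · refine ⟨N, -1, hN1, hb, ?_⟩
      rwa [C_neg, C_1, sub_neg_eq_add]
  rcases Nat.even_or_odd' d with ⟨m, hm | hm⟩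
  · -- `d = 2 m`
    have hm2 : 2 ≤ m := by omega
    obtain ⟨N, hN1, hNb, hdvd⟩ :=
      Cfsg.Agent.Lib.Helper24.EOrdP6.poly_order_even P m (by omega) (by rw [hdeg, hm]) h0 hassoc
    apply fin N hN1 hdvd
    have h3 : 3 ≤ Fintype.card F ^ (m - 1) :=
      pow_ge_three _ _ hq (by omega) (by
        by_cases h : 3 ≤ m
        · left; omega
        · right; exact hq3 (Or.inl (by omega)))
    have := num_core (Fintype.card F) N (m + 1) (m - 1) hq h3 hNb
    have e : m + 1 + (m - 1) = d := by omega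
    rwa [e] at this
  · -- `d = 2 m + 1`
    have hm2 : 2 ≤ m := by omega
    have hQ0 : (((X : F[X]) - 1) * P).coeff 0 ≠ 0 := by
      rw [mul_coeff_zero]
      simp [h0]
    have hQd : (((X : F[X]) - 1) * P).natDegree = 2 * (m + 1) := by
      have hne : (X : F[X]) - 1 ≠ 0 := by
        have := X_sub_C_ne_zero (1 : F)
        rwa [C_1] at this
      rw [natDegree_mul hne hP.ne_zero]
      have := natDegree_X_sub_C (1 : F)
      rw [C_1] at this
      rw [this, hdeg, hm]; ring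
    have hQm : Associated (((X : F[X]) - 1) * P).mirror (((X : F[X]) - 1) * P) := by
      rw [mirror_mul_of_domain, mirror_X_sub_one]
      have h1 : Associated (C (-1 : F) * ((X : F[X]) - 1)) (X - 1) :=
        (associated_isUnit_mul_left_iff (isUnit_C.mpr (by simp))).mpr (Associated.refl _)
      exact h1.mul_mul hassoc
    obtain ⟨N, hN1, hNb, hdvd⟩ :=
      Cfsg.Agent.Lib.Helper24.EOrdP6.poly_order_even _ (m + 1) (by omega) hQd hQ0 hQm
    have hdvd' : P ∣ X ^ N - 1 ∨ P ∣ X ^ N + 1 := by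
      rcases hdvd with h | h
      · exact Or.inl ((dvd_mul_left P _).trans h)
      · exact Or.inr ((dvd_mul_left P _).trans h)
    apply fin N hN1 hdvd'
    have h3 : 3 ≤ Fintype.card F ^ (m - 1) :=
      pow_ge_three _ _ hq (by omega) (by
        by_cases h : 3 ≤ m
        · left; omega
        · right; exact hq3 (Or.inr (by omega)))
    have := num_core (Fintype.card F) N (m + 1 + 1) (m - 1) hq h3 hNb
    have e : m + 1 + 1 + (m - 1) = d := by omega
    rwa [e] at this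

end Cfsg.Agent.Lib.Helper5.AutPSLPOL
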