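import Mathlib
import Cfsg.Agent.Lib.Helper5.BLFullB

/-!
helper5: orders excluded by the Brauer–Leonard degree equation with `|N_G(P) : C_G(P)| = 2`:
3696, 3960, 4400, 4760, 4928, 5200, 5600, 5940, 6160.
-/

set_option autoImplicit false

namespace Cfsg.Agent.Lib.Helper5.BLOrd

open Cfsg.Agent.Lib.Helper5.BLFull

theorem not_simple_3696 {G : Type*} [Group G] [Finite G] [IsSimpleGroup G] :
    Nat.card G ≠ 3696 := by
  intro h
  have hG : ¬ IsMulCommutative G :=
    Cfsg.Agent.Lib.Helper7.not_comm_of_card_not_prime (by rw [h]; norm_num)
  exact no_simple_two hG (p := 11) (M := 336) (by norm_num) (by norm_num) (by norm_num) h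
    (by norm_num) false (by decide +kernel) (by decide +kernel)

theorem not_simple_3960 {G : Type*} [Group G] [Finite G] [IsSimpleGroup G] :
    Nat.card G ≠ 3960 := by
  intro h
  have hG : ¬ IsMulCommutative G :=
    Cfsg.Agent.Lib.Helper7.not_comm_of_card_not_prime (by rw [h]; norm_num)
  exact no_simple_two hG (p := 11) (M := 360) (by norm_num) (by norm_num) (by norm_num) h
    (by norm_num) true (by decide +kernel) (by decide +kernel)

theorem not_simple_4400 {G : Type*} [Group G] [Finite G] [IsSimpleGroup G] :
    Nat.card G ≠ 4400 := by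
  intro h
  have hG : ¬ IsMulCommutative G :=
    Cfsg.Agent.Lib.Helper7.not_comm_of_card_not_prime (by rw [h]; norm_num)
  exact no_simple_two hG (p := 11) (M := 400) (by norm_num) (by norm_num) (by norm_num) h
    (by norm_num) false (by decide +kernel) (by decide +kernel)

theorem not_simple_4760 {G : Type*} [Group G] [Finite G] [IsSimpleGroup G] :
    Nat.card G ≠ 4760 := by
  intro h
  have hG : ¬ IsMulCommutative G :=
    Cfsg.Agent.Lib.Helper7.not_comm_of_card_not_prime (by rw [h]; norm_num)
  exact no_simple_two hG (p := 7) (M := 680) (by norm_num) (by norm_num) (by norm_num) h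
    (by norm_num) false (by decide +kernel) (by decide +kernel)

theorem not_simple_4928 {G : Type*} [Group G] [Finite G] [IsSimpleGroup G] :
    Nat.card G ≠ 4928 := by
  intro h
  have hG : ¬ IsMulCommutative G :=
    Cfsg.Agent.Lib.Helper7.not_comm_of_card_not_prime (by rw [h]; norm_num)
  exact no_simple_two hG (p := 11) (M := 448) (by norm_num) (by norm_num) (by norm_num) h
    (by norm_num) false (by decide +kernel) (by decide +kernel)

theorem not_simple_5200 {G : Type*} [Group G] [Finite G] [IsSimpleGroup G] :
    Nat.card G ≠ 5200 := by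
  intro h
  have hG : ¬ IsMulCommutative G :=
    Cfsg.Agent.Lib.Helper7.not_comm_of_card_not_prime (by rw [h]; norm_num)
  exact no_simple_two hG (p := 13) (M := 400) (by norm_num) (by norm_num) (by norm_num) h
    (by norm_num) false (by decide +kernel) (by decide +kernel)

theorem not_simple_5600 {G : Type*} [Group G] [Finite G] [IsSimpleGroup G] :
    Nat.card G ≠ 5600 := by
  intro h
  have hG : ¬ IsMulCommutative G :=
    Cfsg.Agent.Lib.Helper7.not_comm_of_card_not_prime (by rw [h]; norm_num)
  exact no_simple_two hG (p := 7) (M := 800) (by norm_num) (by norm_num) (by norm_num) h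
    (by norm_num) false (by decide +kernel) (by decide +kernel)

theorem not_simple_5940 {G : Type*} [Group G] [Finite G] [IsSimpleGroup G] :
    Nat.card G ≠ 5940 := by
  intro h
  have hG : ¬ IsMulCommutative G :=
    Cfsg.Agent.Lib.Helper7.not_comm_of_card_not_prime (by rw [h]; norm_num)
  exact no_simple_two hG (p := 11) (M := 540) (by norm_num) (by norm_num) (by norm_num) h
    (by norm_num) true (by decide +kernel) (by decide +kernel)

theorem not_simple_6160 {G : Type*} [Group G] [Finite G] [IsSimpleGroup G] :
    Nat.card G ≠ 6160 := by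
  intro h
  have hG : ¬ IsMulCommutative G :=
    Cfsg.Agent.Lib.Helper7.not_comm_of_card_not_prime (by rw [h]; norm_num)
  exact no_simple_two hG (p := 7) (M := 880) (by norm_num) (by norm_num) (by norm_num) h
    (by norm_num) false (by decide +kernel) (by decide +kernel)

end Cfsg.Agent.Lib.Helper5.BLOrd
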