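/-
S4482-LOC sub-leaf SHIFT (`card_type_add_two`): conjugation by `σ` maps the involutions of type `i + 2` onto those of
type `i`.  (helper5; statement frozen in `notes/S4482_LOC_leaves.lean`.)
-/
import Mathlib

set_option autoImplicit false

namespace Cfsg.Agent.Lib.Helper5.BOFLSHIFT

universe u

open DihedralGroup

/-- (LOC-SHIFT) conjugation by `σ` maps the involutions of type `i + 2` onto those of type `i`
(`r 1 * sr j * r (-1) = sr (j - 2)`). -/
theorem card_type_add_two {X : Type u} [Group X] (n : ℕ) (σ : X)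
    (κ : X →* DihedralGroup (2 ^ (n - 1))) (hκσ : κ σ = r 1) (i : ZMod (2 ^ (n - 1))) :
    Nat.card {x : X // orderOf x = 2 ∧ κ x = sr (i + 2)} =
      Nat.card {x : X // orderOf x = 2 ∧ κ x = sr i} := by
  refine Nat.card_congr ((MulAut.conj σ).toEquiv.subtypeEquiv (fun x => ?_))
  have h1 : orderOf ((MulAut.conj σ) x) = orderOf x := (MulAut.conj σ).orderOf_eq x
  have h2 : κ ((MulAut.conj σ) x) = r 1 * κ x * (r 1)⁻¹ := by
    rw [MulAut.conj_apply, map_mul, map_mul, map_inv, hκσ]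
  show (orderOf x = 2 ∧ κ x = sr (i + 2)) ↔ (orderOf ((MulAut.conj σ) x) = 2 ∧ κ ((MulAut.conj σ) x) = sr i)
  rw [h1, h2]
  constructor
  · rintro ⟨ho, hk⟩
    refine ⟨ho, ?_⟩
    rw [hk, r_mul_sr, inv_r, sr_mul_r]
    congr 1
    ring
  · rintro ⟨ho, hk⟩
    refine ⟨ho, ?_⟩
    have : κ x = (r 1)⁻¹ * sr i * r 1 := by rw [← hk]; group
    rw [this, inv_r, r_mul_sr, sr_mul_r]
    congr 1
    ring

end Cfsg.Agent.Lib.Helper5.BOFLSHIFT
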