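/-
S4482-LOC sub-leaf WSUM (`weight_sum`).  (helper5; statement frozen in `notes/S4482_LOC_leaves.lean`.)
-/
import Mathlib

set_option autoImplicit false

namespace Cfsg.Agent.Lib.Helper5.BOFLWSUM

universe u

open DihedralGroup

theorem sum_range_two_mul {M : Type*} [AddCommMonoid M] (g : ℕ → M) (k : ℕ) :
    ∑ t ∈ Finset.range (2 * k), g t = ∑ t ∈ Finset.range k, (g (2 * t) + g (2 * t + 1)) := by
  induction k with
  | zero => simp
  | succ k ih =>
    rw [show 2 * (k + 1) = 2 * k + 1 + 1 by ring, Finset.sum_range_succ, Finset.sum_range_succ, ih,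
      Finset.sum_range_succ, add_assoc]

theorem weight_sum_aux (m k : ℕ) [NeZero m] (hm : m = 2 * k) (hk : 2 ≤ k) (ζ : ℂ) (hζ : IsPrimitiveRoot ζ m)
    (c : ZMod m → ℂ) (hc : ∀ i, c (i + 2) = c i) :
    ∑ i : ZMod m, ∑ j : ZMod m, c i * c j * (2 - ζ ^ (j - i).val - (ζ ^ (j - i).val)⁻¹) =
      2 * ((k : ℂ) * (c 0 + c 1)) ^ 2 := by
  subst hm
  have hζm : ζ ^ (2 * k) = 1 := hζ.pow_eq_one
  have hζ0 : ζ ≠ 0 := hζ.ne_zero (by omega)
  let χ : ZMod (2 * k) → ℂ := fun j => ζ ^ j.val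
  have hχadd : ∀ a b, χ (a + b) = χ a * χ b := by
    intro a b
    show ζ ^ (a + b).val = ζ ^ a.val * ζ ^ b.val
    rw [ZMod.val_add, ← pow_add]
    conv_rhs => rw [← Nat.mod_add_div (a.val + b.val) (2 * k)]
    rw [pow_add, pow_mul, hζm, one_pow, mul_one]
  have hχne : ∀ a, χ a ≠ 0 := fun a => pow_ne_zero _ hζ0
  have hχsub : ∀ a b, χ (a - b) = χ a * (χ b)⁻¹ := by
    intro a b
    have := hχadd (a - b) b
    rw [sub_add_cancel] at this
    rw [this, mul_assoc, mul_inv_cancel₀ (hχne b), mul_one]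
  have hval2 : (2 : ZMod (2 * k)).val = 2 := by
    have := ZMod.val_natCast (2 * k) 2
    rw [Nat.mod_eq_of_lt (by omega)] at this
    simpa using this
  have hχ2 : χ 2 ≠ 1 := by
    show ζ ^ (2 : ZMod (2 * k)).val ≠ 1
    rw [hval2]
    intro h2
    have := Nat.le_of_dvd (by norm_num) (hζ.dvd_of_pow_eq_one 2 h2)
    omega
  have hF : ∑ j, c j * χ j = 0 := by
    have h1 : ∑ j, c j * χ j = χ 2 * ∑ j, c j * χ j := by
      conv_lhs => rw [← Equiv.sum_comp (Equiv.addRight (2 : ZMod (2 * k))) (fun j => c j * χ j)]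
      rw [Finset.mul_sum]
      apply Finset.sum_congr rfl
      intro j _
      simp only [Equiv.coe_addRight, hc, hχadd]
      ring
    have h2 : (1 - χ 2) * ∑ j, c j * χ j = 0 := by rw [sub_mul, one_mul, ← h1, sub_self]
    rcases mul_eq_zero.mp h2 with h | h
    · exact absurd (sub_eq_zero.mp h).symm hχ2
    · exact h
  have hconv : ∀ f : ZMod (2 * k) → ℂ, ∑ i, f i = ∑ t ∈ Finset.range (2 * k), f (t : ZMod (2 * k)) := by
    intro f
    symm
    apply Finset.sum_bij (t := (Finset.univ : Finset (ZMod (2 * k)))) (fun t _ => ((t : ℕ) : ZMod (2 * k)))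
    · intros; exact Finset.mem_univ _
    · intro a ha b hb hab
      rw [Finset.mem_range] at ha hb
      have := (ZMod.natCast_eq_natCast_iff' a b (2 * k)).mp hab
      rwa [Nat.mod_eq_of_lt ha, Nat.mod_eq_of_lt hb] at this
    · intro i _
      exact ⟨i.val, Finset.mem_range.mpr (ZMod.val_lt i), ZMod.natCast_zmod_val i⟩
    · intros; rfl
  have hpar : ∀ t : ℕ, c ((2 * t : ℕ) : ZMod (2 * k)) = c 0 ∧ c ((2 * t + 1 : ℕ) : ZMod (2 * k)) = c 1 := by
    intro t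
    induction t with
    | zero => simp
    | succ t ih =>
      constructor
      · have : ((2 * (t + 1) : ℕ) : ZMod (2 * k)) = ((2 * t : ℕ) : ZMod (2 * k)) + 2 := by
          push_cast; ring
        rw [this, hc, ih.1]
      · have : ((2 * (t + 1) + 1 : ℕ) : ZMod (2 * k)) = ((2 * t + 1 : ℕ) : ZMod (2 * k)) + 2 := by
          push_cast; ring
        rw [this, hc, ih.2]
  have hS : ∑ i, c i = (k : ℂ) * (c 0 + c 1) := by
    rw [hconv c, sum_range_two_mul]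
    rw [Finset.sum_congr rfl (fun t _ => by rw [(hpar t).1, (hpar t).2])]
    rw [Finset.sum_const, Finset.card_range, nsmul_eq_mul]
  have key : ∀ i j, c i * c j * (2 - ζ ^ (j - i).val - (ζ ^ (j - i).val)⁻¹) =
      2 * (c i * c j) - (c i * (χ i)⁻¹) * (c j * χ j) - (c i * χ i) * (c j * (χ j)⁻¹) := by
    intro i j
    have : ζ ^ (j - i).val = χ j * (χ i)⁻¹ := hχsub j i
    rw [this, mul_inv, inv_inv]
    ring
  calc ∑ i, ∑ j, c i * c j * (2 - ζ ^ (j - i).val - (ζ ^ (j - i).val)⁻¹)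
      = ∑ i, ∑ j, (2 * (c i * c j) - (c i * (χ i)⁻¹) * (c j * χ j) - (c i * χ i) * (c j * (χ j)⁻¹)) := by
        apply Finset.sum_congr rfl; intro i _; apply Finset.sum_congr rfl; intro j _; exact key i j
    _ = 2 * ((∑ i, c i) * (∑ j, c j)) - (∑ i, c i * (χ i)⁻¹) * (∑ j, c j * χ j) -
          (∑ i, c i * χ i) * (∑ j, c j * (χ j)⁻¹) := by
        rw [Finset.sum_mul_sum, Finset.sum_mul_sum, Finset.sum_mul_sum, Finset.mul_sum]
        simp only [Finset.sum_sub_distrib, Finset.mul_sum]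
    _ = _ := by rw [hF, hS]; ring

/-- (LOC-WSUM) `∑ c i c j ζ^(j-i) = (∑ c j ζ^j) (∑ c i ζ^(-i))` and `∑ c j ζ^j = (c 0 + c 1 ζ) ∑_{t < m/2} (ζ^2)^t = 0`
(`ζ^2` a primitive `2^(n-2)`-th root of unity, `2^(n-2) ≥ 2`); `∑ c i = 2^(n-2) (c 0 + c 1)`. -/
theorem weight_sum (n : ℕ) (hn : 3 ≤ n) (ζ : ℂ) (hζ : IsPrimitiveRoot ζ (2 ^ (n - 1)))
    (c : ZMod (2 ^ (n - 1)) → ℂ) (hc : ∀ i, c (i + 2) = c i) :
    ∑ i : ZMod (2 ^ (n - 1)), ∑ j : ZMod (2 ^ (n - 1)),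
      c i * c j * (2 - ζ ^ (j - i).val - (ζ ^ (j - i).val)⁻¹) =
      2 * ((2 : ℂ) ^ (n - 2) * (c 0 + c 1)) ^ 2 := by
  have hm : 2 ^ (n - 1) = 2 * 2 ^ (n - 2) := by
    rw [← pow_succ']
    congr 1
    omega
  have hk : 2 ≤ 2 ^ (n - 2) := by
    calc 2 = 2 ^ 1 := by norm_num
      _ ≤ 2 ^ (n - 2) := Nat.pow_le_pow_right (by norm_num) (by omega)
  have := weight_sum_aux (2 ^ (n - 1)) (2 ^ (n - 2)) hm hk ζ hζ c hc
  rw [this]
  push_cast
  rfl

end Cfsg.Agent.Lib.Helper5.BOFLWSUM
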