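import Mathlib
import Cfsg.Agent.Lib.Helper13.DkMax

set_option autoImplicit false

/-!
Helper5: BQ market (S4501), leaf ORD997 (`false_of_s0997`): the groups `PSL2(p)`, `p = 2^m ± 1`,
and `PSL2(2^m)`, `p = 2^m + 1`, do not have order `4 p 3^b` when `p ≥ 7`.
-/

namespace Cfsg.Agent.Lib.Helper5.BQORD997

open Cfsg

universe u

variable {G : Type u} [Group G] [Finite G]

/-- BQ-ORD997. -/
theorem false_of_s0997 (p b : ℕ) (hp : p.Prime) (hp7 : 7 ≤ p) (hG : Nat.card G = 4 * p * 3 ^ b)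
    (h : (∃ (m : ℕ) (F : Type) (_ : Field F) (_ : Fintype F), Fintype.card F = p ∧ (p = 2 ^ m + 1 ∨ p = 2 ^ m - 1) ∧
        Nonempty (G ≃* Matrix.ProjectiveSpecialLinearGroup (Fin 2) F)) ∨
      (∃ (m : ℕ) (F : Type) (_ : Field F) (_ : Fintype F), Fintype.card F = 2 ^ m ∧ p = 2 ^ m + 1 ∧ 3 < p ∧
        Nonempty (G ≃* Matrix.ProjectiveSpecialLinearGroup (Fin 2) F))) : False := by
  have h3odd : Odd (3 ^ b) := Odd.pow (by decide)
  obtain ⟨k, hk⟩ := h3odd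
  rcases h with ⟨m, F, _, _, hF, hpm, ⟨e⟩⟩ | ⟨m, F, _, _, hF, hpm, h3p, ⟨e⟩⟩
  · have hc := Cfsg.Agent.Lib.Helper13.Dk.card_PSL2_mul_gcd (K := F)
    rw [← Nat.card_congr e.toEquiv, hG, hF] at hc
    have hm : 3 ≤ m := by
      by_contra hm
      rw [not_le] at hm
      interval_cases m <;> omega
    obtain ⟨j, rfl⟩ : ∃ j, m = j + 3 := ⟨m - 3, by omega⟩
    have h2 : 2 ^ (j + 3) = 8 * 2 ^ j := by rw [pow_add]; ring
    have htpos : 1 ≤ 2 ^ j := Nat.one_le_two_pow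
    have hgcd : Nat.gcd 2 (p - 1) = 2 := by
      have : 2 ∣ p - 1 := by omega
      exact Nat.gcd_eq_left this
    rw [hgcd] at hc
    have hppos : 0 < p := hp.pos
    have hc2 : 8 * 3 ^ b = p ^ 2 - 1 := by
      have : p * (8 * 3 ^ b) = p * (p ^ 2 - 1) := by rw [← hc]; ring
      exact Nat.eq_of_mul_eq_mul_left hppos this
    rcases hpm with hpm | hpm
    · have : p ^ 2 = 64 * (2 ^ j * 2 ^ j) + 16 * 2 ^ j + 1 := by rw [hpm, h2]; ring
      omega
    · have hp1 : p + 1 = 8 * 2 ^ j := by omega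
      have e2 : p ^ 2 + 2 * p + 1 = 64 * (2 ^ j * 2 ^ j) := by
        calc p ^ 2 + 2 * p + 1 = (p + 1) * (p + 1) := by ring
          _ = (8 * 2 ^ j) * (8 * 2 ^ j) := by rw [hp1]
          _ = 64 * (2 ^ j * 2 ^ j) := by ring
      omega
  · have hc := Cfsg.Agent.Lib.Helper13.Dk.card_PSL2_mul_gcd (K := F)
    rw [← Nat.card_congr e.toEquiv, hG, hF] at hc
    have hm : 3 ≤ m := by
      by_contra hm
      rw [not_le] at hm
      interval_cases m <;> omega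
    obtain ⟨j, rfl⟩ : ∃ j, m = j + 3 := ⟨m - 3, by omega⟩
    have h2 : 2 ^ (j + 3) = 8 * 2 ^ j := by rw [pow_add]; ring
    have htpos : 1 ≤ 2 ^ j := Nat.one_le_two_pow
    have hgcd : Nat.gcd 2 (2 ^ (j + 3) - 1) = 1 :=
      (Nat.prime_two.coprime_iff_not_dvd).mpr (by omega)
    rw [hgcd, h2] at hc
    have h8 : 8 ∣ 4 * p * 3 ^ b * 1 := by
      rw [hc, mul_assoc]
      exact Dvd.intro _ rfl
    have h2d : 2 ∣ p * 3 ^ b := by
      obtain ⟨z, hz⟩ := h8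
      exact ⟨z, by
        have : 4 * (p * 3 ^ b) = 4 * (2 * z) := by rw [← mul_assoc, ← mul_assoc]; omega
        exact Nat.eq_of_mul_eq_mul_left (by norm_num) this⟩
    rcases (Nat.prime_two.dvd_mul).mp h2d with h2p | h2b
    · omega
    · omega

end Cfsg.Agent.Lib.Helper5.BQORD997
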