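/-
helper5: S4705 market "BS" (planner helper6, `notes/S4705_leaves.lean`), leaf BS-CSET `cset_of_twoBlock`:
all members of a `TwoBlock` have the same central character (`relY` at `z ∈ Z(G)` and at `1`, `|ω| = 1`,
equality in the triangle inequality, all sign patterns).
-/
import Mathlib
import Cfsg.Prelude.Def_BlockRank
import Cfsg.Agent.Lib.Helper6.BRHDefs
import Cfsg.Agent.Lib.Helper6.BSDefs
import Cfsg.Agent.Lib.Helper23.BRVIDefs
import Cfsg.Agent.Lib.Helper23.BRVIZC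
import Cfsg.Agent.Lib.Helper24.IrrFacts

set_option autoImplicit false

namespace Cfsg.Agent.Lib.Helper5.BSCSET

open Cfsg Cfsg.Agent.Lib.Helper8.DOM Cfsg.Agent.Lib.Helper27.DO Cfsg.Agent.CharLib
open Cfsg.Agent.Lib.Helper6.BRH Cfsg.Agent.Lib.Helper23.BRVI Cfsg.Agent.Lib.Helper6.BS
open Cfsg.Agent.Lib.Helper23.BRVIZC
open scoped ComplexConjugate

universe u

theorem eq_one_of_norm_of_re {w : ℂ} (hn : ‖w‖ = 1) (hre : w.re = 1) : w = 1 := by
  have h1 : Complex.normSq w = 1 := by rw [Complex.normSq_eq_norm_sq, hn]; norm_num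
  rw [Complex.normSq_apply, hre] at h1
  have him : w.im = 0 := by nlinarith
  apply Complex.ext
  · rw [hre]; rfl
  · rw [him]; rfl

/-- equality in the triangle inequality for unit complex numbers -/
theorem tri (u s t : ℂ) (hu : ‖u‖ = 1) (hs : ‖s‖ = 1) (ht : ‖t‖ = 1) (y z : ℕ) (hy : 0 < y)
    (hz : 0 < z) (h : u * ((y : ℂ) + (z : ℂ)) = s * (y : ℂ) + t * (z : ℂ)) : s = u ∧ t = u := by
  have huu : conj u * u = 1 := by
    rw [mul_comm, Complex.mul_conj, Complex.normSq_eq_norm_sq, hu]; norm_num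
  have huu' : u * conj u = 1 := by rw [mul_comm]; exact huu
  obtain ⟨s', hs'def⟩ : ∃ s' : ℂ, s' = conj u * s := ⟨_, rfl⟩
  obtain ⟨t', ht'def⟩ : ∃ t' : ℂ, t' = conj u * t := ⟨_, rfl⟩
  have h' : ((y : ℂ) + (z : ℂ)) = s' * (y : ℂ) + t' * (z : ℂ) := by
    have h2 : conj u * (u * ((y : ℂ) + (z : ℂ))) = conj u * (s * (y : ℂ) + t * (z : ℂ)) := by
      rw [h]
    rw [← mul_assoc, huu, one_mul] at h2
    rw [h2, hs'def, ht'def]; ring
  have hs' : ‖s'‖ = 1 := by rw [hs'def, norm_mul, RCLike.norm_conj, hu, hs]; norm_num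
  have ht' : ‖t'‖ = 1 := by rw [ht'def, norm_mul, RCLike.norm_conj, hu, ht]; norm_num
  have hsre : s'.re ≤ 1 := by
    have := Complex.re_le_norm s'; rwa [hs'] at this
  have htre : t'.re ≤ 1 := by
    have := Complex.re_le_norm t'; rwa [ht'] at this
  have hre := congrArg Complex.re h'
  simp only [Complex.add_re, Complex.mul_re, Complex.natCast_re, Complex.natCast_im, mul_zero,
    sub_zero] at hre
  have hy' : (0 : ℝ) < (y : ℝ) := by exact_mod_cast hy
  have hz' : (0 : ℝ) < (z : ℝ) := by exact_mod_cast hz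
  have A := mul_nonneg (sub_nonneg.mpr hsre) hy'.le
  have B := mul_nonneg (sub_nonneg.mpr htre) hz'.le
  have A0 : (1 - s'.re) * (y : ℝ) = 0 := by linarith
  have B0 : (1 - t'.re) * (z : ℝ) = 0 := by linarith
  have e1 : s'.re = 1 := by
    have := (mul_eq_zero.mp A0).resolve_right hy'.ne'; linarith
  have e2 : t'.re = 1 := by
    have := (mul_eq_zero.mp B0).resolve_right hz'.ne'; linarith
  have f1 := eq_one_of_norm_of_re hs' e1
  have f2 := eq_one_of_norm_of_re ht' e2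
  rw [hs'def] at f1
  rw [ht'def] at f2
  constructor
  · calc s = (u * conj u) * s := by rw [huu', one_mul]
      _ = u * (conj u * s) := by ring
      _ = u := by rw [f1, mul_one]
  · calc t = (u * conj u) * t := by rw [huu', one_mul]
      _ = u * (conj u * t) := by ring
      _ = u := by rw [f2, mul_one]

/-- three unit complex numbers with `ε c = v₁ a + v₂ b` and `ε u c = v₁ s a + v₂ t b` coincide -/
theorem unit_eq_of_rel (a b c : ℕ) (ha : 0 < a) (hb : 0 < b) (hc : 0 < c) (v₁ v₂ ε : ℤ)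
    (hv₁ : v₁ = 1 ∨ v₁ = -1) (hv₂ : v₂ = 1 ∨ v₂ = -1) (hε : ε = 1 ∨ ε = -1) (s t u : ℂ)
    (hs : ‖s‖ = 1) (ht : ‖t‖ = 1) (hu : ‖u‖ = 1)
    (h1 : (ε : ℂ) * (c : ℂ) = (v₁ : ℂ) * (a : ℂ) + (v₂ : ℂ) * (b : ℂ))
    (h2 : (ε : ℂ) * (u * (c : ℂ)) = (v₁ : ℂ) * (s * (a : ℂ)) + (v₂ : ℂ) * (t * (b : ℂ))) :
    s = u ∧ t = u := by
  have hz : ε * (c : ℤ) = v₁ * (a : ℤ) + v₂ * (b : ℤ) := by exact_mod_cast h1
  rcases hv₁ with rfl | rfl <;> rcases hv₂ with rfl | rfl <;> rcases hε with rfl | rfl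
  · -- c = a + b
    have hc' : (c : ℂ) = (a : ℂ) + (b : ℂ) := by
      have : (c : ℤ) = (a : ℤ) + (b : ℤ) := by linarith
      exact_mod_cast this
    apply tri u s t hu hs ht a b ha hb
    push_cast at h2
    rw [← hc']; linear_combination h2
  · exfalso; omega
  · -- a = c + b
    have ha' : (a : ℂ) = (c : ℂ) + (b : ℂ) := by
      have : (a : ℤ) = (c : ℤ) + (b : ℤ) := by linarith
      exact_mod_cast this
    have := tri s u t hs hu ht c b hc hb (by
      push_cast at h2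
      rw [← ha']; linear_combination (-1 : ℂ) * h2)
    exact ⟨this.1.symm, this.2.trans this.1.symm⟩
  · -- b = c + a
    have hb' : (b : ℂ) = (c : ℂ) + (a : ℂ) := by
      have : (b : ℤ) = (c : ℤ) + (a : ℤ) := by linarith
      exact_mod_cast this
    have := tri t u s ht hu hs c a hc ha (by
      push_cast at h2
      rw [← hb']; linear_combination h2)
    exact ⟨this.2.trans this.1.symm, this.1.symm⟩
  · -- b = c + a
    have hb' : (b : ℂ) = (c : ℂ) + (a : ℂ) := by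
      have : (b : ℤ) = (c : ℤ) + (a : ℤ) := by linarith
      exact_mod_cast this
    have := tri t u s ht hu hs c a hc ha (by
      push_cast at h2
      rw [← hb']; linear_combination (-1 : ℂ) * h2)
    exact ⟨this.2.trans this.1.symm, this.1.symm⟩
  · -- a = c + b
    have ha' : (a : ℂ) = (c : ℂ) + (b : ℂ) := by
      have : (a : ℤ) = (c : ℤ) + (b : ℤ) := by linarith
      exact_mod_cast this
    have := tri s u t hs hu ht c b hc hb (by
      push_cast at h2
      rw [← ha']; linear_combination h2)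
    exact ⟨this.1.symm, this.2.trans this.1.symm⟩
  · exfalso; omega
  · -- c = a + b
    have hc' : (c : ℂ) = (a : ℂ) + (b : ℂ) := by
      have : (c : ℤ) = (a : ℤ) + (b : ℤ) := by linarith
      exact_mod_cast this
    apply tri u s t hu hs ht a b ha hb
    push_cast at h2
    rw [← hc']; linear_combination (-1 : ℂ) * h2

variable {G : Type u} [Group G] [Finite G] {p : ℕ} [Fact p.Prime]

theorem cset_of_twoBlock (hZreg : ∀ z ∈ Subgroup.center G, ¬ p ∣ orderOf z) (P : Subgroup G)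
    (η₁ η₂ : IrrCharacter G) (v₁ v₂ : ℤ) (Y : Set (IrrCharacter G)) (ε : ℤ)
    (d : TwoBlock p P η₁ η₂ v₁ v₂ Y ε) (ψ0 : IrrCharacter G) (hψ0 : ψ0 ∈ Y) :
    η₁ ∈ cset ψ0 ∧ η₂ ∈ cset ψ0 ∧ Y ⊆ cset ψ0 := by
  have key : ∀ ψ ∈ Y, omegaHom η₁ = omegaHom ψ ∧ omegaHom η₂ = omegaHom ψ := by
    intro ψ hψ
    have hall : ∀ z : Subgroup.center G,
        omegaHom η₁ z = omegaHom ψ z ∧ omegaHom η₂ z = omegaHom ψ z := by
      intro z
      have hreg : ¬ p ∣ orderOf (z : G) := hZreg z z.2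
      have h1reg : ¬ p ∣ orderOf (1 : G) := by
        rw [orderOf_one]
        intro h
        exact (Nat.Prime.one_lt (Fact.out : p.Prime)).ne' (Nat.dvd_one.mp h)
      have r1 := d.relY ψ hψ 1 h1reg
      have rz := d.relY ψ hψ z hreg
      have hval : ∀ χ : IrrCharacter G,
          (χ : G → ℂ) (z : G) = omegaHom χ z * (χ : G → ℂ) 1 := by
        intro χ
        rw [omegaHom_apply, div_mul_cancel₀ _ (Cfsg.Agent.Lib.Helper24.irr_apply_one_ne_zero χ)]
      rw [hval ψ, hval η₁, hval η₂] at rz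
      rw [Cfsg.Agent.Lib.Helper24.irr_apply_one ψ, Cfsg.Agent.Lib.Helper24.irr_apply_one η₁,
        Cfsg.Agent.Lib.Helper24.irr_apply_one η₂] at r1 rz
      exact unit_eq_of_rel _ _ _ (Cfsg.Agent.Lib.Helper24.irr_charDegree_pos η₁)
        (Cfsg.Agent.Lib.Helper24.irr_charDegree_pos η₂) (Cfsg.Agent.Lib.Helper24.irr_charDegree_pos ψ)
        v₁ v₂ ε d.sgn1 d.sgn2 d.sgn _ _ _ (norm_omegaHom η₁ z) (norm_omegaHom η₂ z)
        (norm_omegaHom ψ z) r1 rz
    exact ⟨MonoidHom.ext fun z => (hall z).1, MonoidHom.ext fun z => (hall z).2⟩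
  obtain ⟨k1, k2⟩ := key ψ0 hψ0
  refine ⟨(mem_cset_iff ψ0 η₁).mpr k1, (mem_cset_iff ψ0 η₂).mpr k2, ?_⟩
  intro ψ hψ
  rw [mem_cset_iff, ← (key ψ hψ).1, k1]

end Cfsg.Agent.Lib.Helper5.BSCSET
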