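/-
S3282 batch 2 (characters; sub-planner helper1) leaf E3 `test_eq` (exact form);
statement frozen in `notes/S3282_leaves2.lean`. (helper5)
-/
import Mathlib
import Cfsg.Prelude.Def_Characters
import Cfsg.Agent.Lib.Helper24.BSWDefs
import Cfsg.Agent.Lib.Helper1.BSWCDefs
import Cfsg.Agent.Lib.Helper10.PowTwistChar
import Cfsg.Agent.Lib.Helper5.BSWCE3Of
import Cfsg.Agent.Lib.Helper14.BSWCE1
import Cfsg.Agent.Lib.Helper21.BSWCE2
import Cfsg.Agent.Lib.Helper2.BSWCT2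
import Cfsg.Agent.Lib.Helper2.BSWCT5

set_option autoImplicit false
open Cfsg Cfsg.Agent.Lib.Helper24.BSW Cfsg.Agent.CharLib Cfsg.Agent.Lib.Helper1.BSWC
open scoped ComplexConjugate

namespace Cfsg.Agent.Lib.Helper5.BSWCE3

universe u

variable {G : Type u} [Group G] [Fintype G]

/-- **E3** the test equation: `4 k³ = |G| ∑_χ m(χ,μ) χ(t)² / χ(1)` for `μ ≠ 1`. -/
theorem test_eq {t s : G} {K : Subgroup G} (h : Hyp t s K) [Fintype (IrrCharacter G)]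
    (μ : ↥K →* ℂˣ) (hμ : μ ≠ 1) :
    4 * (Nat.card K : ℂ) ^ 3 = (Nat.card G : ℂ) * ∑ χ : IrrCharacter G,
        mult K μ (χ : G → ℂ) * ((χ : G → ℂ) t) ^ 2 / (χ : G → ℂ) 1 :=
  Cfsg.Agent.Lib.Helper5.BSWCE3Of.test_eq_of μ
    (fun g hg => Cfsg.Agent.Lib.Helper14.BSWCE1.pairCount_of_mem_KK h g hg)
    (fun z => Cfsg.Agent.Lib.Helper21.BSWCE2.pairCount_formula h z)
    (fun y hy => Cfsg.Agent.Lib.Helper2.BSWCT2.theta_apply_RR K μ y hy)
    (Cfsg.Agent.Lib.Helper2.BSWCT2.theta_apply_one K μ)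
    (Cfsg.Agent.Lib.Helper2.BSWCT5.classInner_theta_one K μ hμ)

end Cfsg.Agent.Lib.Helper5.BSWCE3
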