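/-
S3282 (Brauer-Suzuki-Wall, abstract form; planner helper24), leaf T1 `small_case`, piece (a):
general counting of pairs of involutions. (helper5)
-/
import Mathlib
import Cfsg.Prelude.Def_Characters
import Cfsg.Agent.Lib.Helper24.BSWDefs

set_option autoImplicit false
open Cfsg Cfsg.Agent.Lib.Helper24.BSW

namespace Cfsg.Agent.Lib.Helper5.BSWT1a

variable {G : Type*} [Group G]

/-- the number of involutions -/
noncomputable def nInv (G : Type*) [Group G] : ℕ := Nat.card {u : G // orderOf u = 2}

theorem mul_self_of_order_two {u : G} (hu : orderOf u = 2) : u * u = 1 := by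
  have : u ^ 2 = 1 := by rw [← hu]; exact pow_orderOf_eq_one u
  rwa [pow_two] at this

theorem inv_of_order_two {u : G} (hu : orderOf u = 2) : u⁻¹ = u :=
  inv_eq_of_mul_eq_one_right (mul_self_of_order_two hu)

theorem order_two_of {u : G} (h1 : u * u = 1) (h2 : u ≠ 1) : orderOf u = 2 := by
  have : Fact (Nat.Prime 2) := ⟨Nat.prime_two⟩
  exact orderOf_eq_prime (by rw [pow_two]; exact h1) h2

/-- `pairCount 1` is the number of involutions. -/
theorem pairCount_one : pairCount (1 : G) = nInv G := by
  unfold pairCount nInv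
  apply Nat.card_congr
  refine ⟨fun p => ⟨p.1.1, p.2.1⟩, fun u => ⟨(u.1, u.1⁻¹), u.2, by rw [orderOf_inv]; exact u.2,
    mul_inv_cancel u.1⟩, ?_, ?_⟩
  · rintro ⟨⟨a, b⟩, h1, h2, h3⟩
    apply Subtype.ext
    have : b = a⁻¹ := eq_inv_of_mul_eq_one_right h3
    simp [this]
  · intro u
    rfl

/-- off the involutions, `pairCount = invCount`. -/
theorem pairCount_eq_invCount (y : G) (hy : orderOf y ≠ 2) : pairCount y = invCount y := by
  unfold pairCount invCount
  apply Nat.card_congr
  refine ⟨fun p => ⟨p.1.1, p.2.1, ?_⟩, fun u => ⟨(u.1, u.1⁻¹ * y), u.2.1, ?_, ?_⟩, ?_, ?_⟩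
  · obtain ⟨⟨a, b⟩, h1, h2, h3⟩ := p
    show a * y * a⁻¹ = y⁻¹
    have h3' : a * b = y := h3
    rw [← h3', mul_inv_rev, inv_of_order_two h1, inv_of_order_two h2]
    calc a * (a * b) * a = (a * a) * b * a := by simp only [mul_assoc]
      _ = b * a := by rw [mul_self_of_order_two h1, one_mul]
  · obtain ⟨u, hu2, huy⟩ := u
    show orderOf (u⁻¹ * y) = 2
    apply order_two_of
    · have e : y * u⁻¹ = u⁻¹ * y⁻¹ := by
        calc y * u⁻¹ = u⁻¹ * (u * y * u⁻¹) := by group
          _ = u⁻¹ * y⁻¹ := by rw [huy]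
      calc u⁻¹ * y * (u⁻¹ * y) = u⁻¹ * (y * u⁻¹) * y := by simp only [mul_assoc]
        _ = u⁻¹ * (u⁻¹ * y⁻¹) * y := by rw [e]
        _ = (u * u)⁻¹ := by group
        _ = 1 := by rw [mul_self_of_order_two hu2, inv_one]
    · intro h
      apply hy
      have : y = u := by
        have := eq_inv_of_mul_eq_one_right h
        rw [inv_inv] at this
        exact this
      rw [this]
      exact hu2
  · show u.1 * (u.1⁻¹ * y) = y
    rw [mul_inv_cancel_left]
  · rintro ⟨⟨a, b⟩, h1, h2, h3⟩
    apply Subtype.ext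
    have h3' : a * b = y := h3
    have : a⁻¹ * y = b := by rw [← h3', inv_mul_cancel_left]
    simp [this]
  · intro u
    rfl

/-- the total number of pairs of involutions. -/
theorem sum_pairCount [Finite G] : ∑ᶠ g : G, pairCount g = nInv G ^ 2 := by
  classical
  haveI : Fintype G := Fintype.ofFinite G
  rw [finsum_eq_sum_of_fintype]
  have h1 : ∀ g : G, pairCount g =
      ((Finset.univ : Finset (G × G)).filter (fun p => orderOf p.1 = 2 ∧ orderOf p.2 = 2 ∧
        p.1 * p.2 = g)).card := by
    intro g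
    unfold pairCount
    rw [Nat.card_eq_fintype_card, Fintype.card_subtype]
  have h2 : nInv G = ((Finset.univ : Finset G).filter (fun u => orderOf u = 2)).card := by
    unfold nInv
    rw [Nat.card_eq_fintype_card, Fintype.card_subtype]
  simp_rw [h1]
  have h3 : ((Finset.univ : Finset (G × G)).filter (fun p => orderOf p.1 = 2 ∧ orderOf p.2 = 2)).card
      = ∑ g : G, (((Finset.univ : Finset (G × G)).filter
          (fun p => orderOf p.1 = 2 ∧ orderOf p.2 = 2)).filter (fun p => p.1 * p.2 = g)).card :=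
    Finset.card_eq_sum_card_fiberwise (fun x _ => Finset.mem_univ _)
  have h4 : ∀ g : G, (((Finset.univ : Finset (G × G)).filter
      (fun p => orderOf p.1 = 2 ∧ orderOf p.2 = 2)).filter (fun p => p.1 * p.2 = g)) =
      ((Finset.univ : Finset (G × G)).filter (fun p => orderOf p.1 = 2 ∧ orderOf p.2 = 2 ∧
        p.1 * p.2 = g)) := by
    intro g
    rw [Finset.filter_filter]
    congr 1
    ext p
    exact and_assoc
  simp_rw [h4] at h3
  rw [← h3, h2, pow_two, ← Finset.card_product, ← Finset.filter_product, Finset.univ_product_univ]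

end Cfsg.Agent.Lib.Helper5.BSWT1a
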