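/-
S3282 batch 2 (characters; sub-planner helper1) leaf E4 `pairCount_eq_invCount`; statement frozen in
`notes/S3282_leaves2.lean`. (helper5)
-/
import Mathlib
import Cfsg.Prelude.Def_Characters
import Cfsg.Agent.Lib.Helper24.BSWDefs
import Cfsg.Agent.Lib.Helper1.BSWCDefs
import Cfsg.Agent.Lib.Helper10.PowTwistChar
import Cfsg.Agent.Lib.Helper5.BSWT1a

set_option autoImplicit false
open Cfsg Cfsg.Agent.Lib.Helper24.BSW Cfsg.Agent.CharLib Cfsg.Agent.Lib.Helper1.BSWC
open scoped ComplexConjugate

namespace Cfsg.Agent.Lib.Helper5.BSWCE4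

universe u

variable {G : Type u} [Group G] [Fintype G]

omit [Fintype G] in
/-- **E4** (pure) for `y` not an involution, `pairCount y = invCount y`. -/
theorem pairCount_eq_invCount [Finite G] (y : G) (hy : orderOf y ≠ 2) : pairCount y = invCount y :=
  Cfsg.Agent.Lib.Helper5.BSWT1a.pairCount_eq_invCount y hy

end Cfsg.Agent.Lib.Helper5.BSWCE4
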