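/-
S3282 leaf T1 sub-leaf TD `card_pairs` in `_of` form over TA, TB, TC (planner helper16; statement
frozen in `notes/S3282_T1_leaves.lean`). (helper5)
-/
import Mathlib
import Cfsg.Prelude.Def_Characters
import Cfsg.Agent.Lib.Helper24.BSWDefs
import Cfsg.Agent.Lib.Helper16.BSWT1Defs
import Cfsg.Agent.Lib.Helper5.BSWT1a

set_option autoImplicit false
open Cfsg Cfsg.Agent.Lib.Helper24.BSW Cfsg.Agent.Lib.Helper16.BSWT1

namespace Cfsg.Agent.Lib.Helper5.BSWT1TDOf

open Cfsg.Agent.Lib.Helper5.BSWT1a

variable {G : Type*} [Group G] [Finite G]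

/-- **TD** in `_of` form: `hTA` = TA, `hTB` = TB `mem_RR_iff`, `hTC` = TC. -/
theorem card_pairs_of {t : G} {K : Subgroup G}
    (hTA : Nat.card {u : G // orderOf u = 2} = (Subgroup.centralizer ({t} : Set G)).index)
    (hTB : ∀ g : G, g ∈ RR K ↔ g ≠ 1 ∧ orderOf g ≠ 2)
    (hTC : ∀ g : G, orderOf g = 2 → pairCount g = 2) :
    Nat.card {p : G × G // p.2 ∈ RR K ∧ orderOf p.1 = 2 ∧ p.1 * p.2 * p.1⁻¹ = p.2⁻¹} +
        3 * (Subgroup.centralizer ({t} : Set G)).index =
      (Subgroup.centralizer ({t} : Set G)).index * (Subgroup.centralizer ({t} : Set G)).index := by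
  classical
  haveI : Fintype G := Fintype.ofFinite G
  have hj : nInv G = (Subgroup.centralizer ({t} : Set G)).index := hTA
  rw [← hj]
  have hjc : nInv G = ((Finset.univ : Finset G).filter (fun u => orderOf u = 2)).card := by
    unfold nInv
    rw [Nat.card_eq_fintype_card, Fintype.card_subtype]
  -- the left side as a sum over `RR`
  have hL : Nat.card {p : G × G // p.2 ∈ RR K ∧ orderOf p.1 = 2 ∧ p.1 * p.2 * p.1⁻¹ = p.2⁻¹} =
      ∑ y ∈ (Finset.univ : Finset G).filter (fun y => y ∈ RR K), invCount y := by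
    rw [Nat.card_eq_fintype_card, Fintype.card_subtype]
    rw [Finset.card_eq_sum_card_fiberwise (f := fun p : G × G => p.2)
      (t := (Finset.univ : Finset G)) (fun x _ => Finset.mem_univ _)]
    rw [Finset.sum_filter]
    apply Finset.sum_congr rfl
    intro y _
    split_ifs with hy
    · unfold invCount
      rw [Nat.card_eq_fintype_card, Fintype.card_subtype]
      apply Finset.card_bij (fun p _ => p.1)
      · intro p hp
        rw [Finset.mem_filter, Finset.mem_filter] at hp
        rw [Finset.mem_filter]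
        obtain ⟨⟨-, -, h1, h2⟩, h3⟩ := hp
        have h3' : p.2 = y := h3
        rw [h3'] at h2
        exact ⟨Finset.mem_univ _, h1, h2⟩
      · intro p hp q hq hpq
        rw [Finset.mem_filter] at hp hq
        have h1 : p.2 = y := hp.2
        have h2 : q.2 = y := hq.2
        exact Prod.ext hpq (h1.trans h2.symm)
      · intro u hu
        rw [Finset.mem_filter] at hu
        refine ⟨(u, y), ?_, rfl⟩
        rw [Finset.mem_filter, Finset.mem_filter]
        exact ⟨⟨Finset.mem_univ _, hy, hu.2.1, hu.2.2⟩, rfl⟩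
    · rw [Finset.card_eq_zero, Finset.eq_empty_iff_forall_notMem]
      intro p hp
      rw [Finset.mem_filter, Finset.mem_filter] at hp
      obtain ⟨⟨-, h0, -, -⟩, h3⟩ := hp
      have h3' : p.2 = y := h3
      rw [h3'] at h0
      exact hy h0
  rw [hL]
  -- the total
  have hS := sum_pairCount (G := G)
  rw [finsum_eq_sum_of_fintype, pow_two] at hS
  rw [← hS, ← Finset.sum_filter_add_sum_filter_not (Finset.univ : Finset G) (fun y => y ∈ RR K)]
  have hR : ∑ y ∈ (Finset.univ : Finset G).filter (fun y => y ∈ RR K), pairCount y =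
      ∑ y ∈ (Finset.univ : Finset G).filter (fun y => y ∈ RR K), invCount y := by
    apply Finset.sum_congr rfl
    intro y hy
    rw [Finset.mem_filter] at hy
    exact pairCount_eq_invCount y ((hTB y).mp hy.2).2
  have hN : (Finset.univ : Finset G).filter (fun y => ¬ y ∈ RR K) =
      insert 1 ((Finset.univ : Finset G).filter (fun u => orderOf u = 2)) := by
    ext g
    rw [Finset.mem_filter, Finset.mem_insert, Finset.mem_filter, hTB]
    constructor
    · rintro ⟨-, hg⟩
      by_cases h1 : g = 1
      · exact Or.inl h1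
      · right
        refine ⟨Finset.mem_univ _, ?_⟩
        by_contra h2
        exact hg ⟨h1, h2⟩
    · rintro (h1 | ⟨-, h2⟩)
      · exact ⟨Finset.mem_univ _, fun hg => hg.1 h1⟩
      · exact ⟨Finset.mem_univ _, fun hg => hg.2 h2⟩
  have h1not : (1 : G) ∉ (Finset.univ : Finset G).filter (fun u => orderOf u = 2) := by
    rw [Finset.mem_filter]
    rintro ⟨-, h⟩
    rw [orderOf_one] at h
    norm_num at h
  have hI : ∑ u ∈ (Finset.univ : Finset G).filter (fun u => orderOf u = 2), pairCount u =
      2 * nInv G := by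
    rw [hjc, mul_comm]
    apply Finset.sum_const_nat
    intro u hu
    rw [Finset.mem_filter] at hu
    exact hTC u hu.2
  rw [hR, hN, Finset.sum_insert h1not, pairCount_one, hI]
  ring

end Cfsg.Agent.Lib.Helper5.BSWT1TDOf
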