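/-
S3282 leaf T1 sub-leaf TG `card_conj_union` (planner helper16; statement frozen in
`notes/S3282_T1_leaves.lean`). (helper5)
-/
import Mathlib
import Cfsg.Prelude.Def_Characters
import Cfsg.Agent.Lib.Helper24.BSWDefs
import Cfsg.Agent.Lib.Helper16.BSWT1Defs
import Cfsg.Agent.Lib.Helper5.BSWT1b

set_option autoImplicit false
open Cfsg Cfsg.Agent.Lib.Helper24.BSW Cfsg.Agent.Lib.Helper16.BSWT1

namespace Cfsg.Agent.Lib.Helper5.BSWT1TG

/-- **TG** (pure group theory) the union of the conjugates of a subgroup `M` with `C(z) = M` for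
all `1 ≠ z ∈ M`. -/
theorem card_conj_union {G : Type*} [Group G] [Finite G] (M : Subgroup G)
    (hM : ∀ z ∈ M, z ≠ 1 → Subgroup.centralizer ({z} : Set G) = M) :
    Nat.card {z : G // z ≠ 1 ∧ ∃ g : G, g * z * g⁻¹ ∈ M} *
        Nat.card (Subgroup.normalizer (M : Set G)) =
      Nat.card G * (Nat.card M - 1) := by
  apply Cfsg.Agent.Lib.Helper5.BSWT1b.card_conj_into_mul_card_normalizer
  rintro g ⟨z, hz, hz1, hgz⟩
  have h1 := hM z hz hz1
  have hgz1 : g * z * g⁻¹ ≠ 1 := by
    intro h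
    apply hz1
    have e : z = g⁻¹ * (g * z * g⁻¹) * g := by group
    rw [e, h]
    group
  have h2 := hM _ hgz hgz1
  have key : ∀ a b : G, a ∈ Subgroup.centralizer ({b} : Set G) ↔ b * a = a * b := by
    intro a b
    rw [Subgroup.mem_centralizer_iff]
    simp
  rw [Subgroup.mem_normalizer_iff]
  intro x
  constructor
  · intro hx
    rw [← h2, key]
    have hx' : z * x = x * z := (key x z).mp (by rw [h1]; exact hx)
    calc g * z * g⁻¹ * (g * x * g⁻¹) = g * (z * x) * g⁻¹ := by group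
      _ = g * (x * z) * g⁻¹ := by rw [hx']
      _ = g * x * g⁻¹ * (g * z * g⁻¹) := by group
  · intro hx
    rw [← h1, key]
    have hx' : g * z * g⁻¹ * (g * x * g⁻¹) = g * x * g⁻¹ * (g * z * g⁻¹) :=
      (key _ _).mp (by rw [h2]; exact hx)
    calc z * x = g⁻¹ * (g * z * g⁻¹ * (g * x * g⁻¹)) * g := by group
      _ = g⁻¹ * (g * x * g⁻¹ * (g * z * g⁻¹)) * g := by rw [hx']
      _ = x * z := by group

end Cfsg.Agent.Lib.Helper5.BSWT1TG
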