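/-
S3282 (Brauer-Suzuki-Wall, abstract form; planner helper24), leaf T1 `small_case`, piece (d):
the arithmetic of the case `k = 2`. (helper5; Mathlib only)
-/
import Mathlib

set_option autoImplicit false

namespace Cfsg.Agent.Lib.Helper5.BSWT1d

/-- two real classes: `m₁ = 3`, `m₂ = 5`, `j = 15`. -/
theorem two_term (j m₁ m₂ : ℕ) (h3 : 3 ≤ m₁) (hlt : m₁ < m₂) (hd₁ : m₁ ∣ j) (hd₂ : m₂ ∣ j)
    (hj : 2 * (m₁ - 1) + 2 * (m₂ - 1) + 3 = j) : m₁ = 3 ∧ m₂ = 5 ∧ j = 15 := by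
  have hj' : j = 2 * m₂ + (2 * m₁ - 1) := by omega
  have h1 : m₂ ∣ 2 * m₁ - 1 := by
    rw [hj'] at hd₂
    exact (Nat.dvd_add_right (dvd_mul_left m₂ 2)).mp hd₂
  obtain ⟨e, he⟩ := h1
  have he1 : e = 1 := by
    rcases Nat.lt_or_ge e 1 with h | h
    · have : e = 0 := by omega
      rw [this, mul_zero] at he
      omega
    · rcases Nat.lt_or_ge e 2 with h' | h'
      · omega
      · have : m₂ * 2 ≤ m₂ * e := Nat.mul_le_mul_left _ h'
        omega
  rw [he1, mul_one] at he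
  have hj3 : j + 3 = 6 * m₁ := by omega
  have h2 : m₁ ∣ 3 := by
    have : m₁ ∣ j + 3 := ⟨6, by omega⟩
    exact (Nat.dvd_add_right hd₁).mp this
  have h3' : m₁ ≤ 3 := Nat.le_of_dvd (by norm_num) h2
  omega

/-- **arithmetic of T1.** -/
theorem arith (j N : ℕ) (a c : ℕ → ℕ)
    (h1 : ∑ m ∈ Finset.range (N + 1), m * a m + 3 * j = j * j)
    (h2 : ∑ m ∈ Finset.range (N + 1), a m + 1 = 3 * j)
    (hN : ∀ m, N < m → a m = 0)
    (h3 : ∀ m, 1 ≤ m → a m ≠ 0 → 3 ≤ m ∧ m ∣ j ∧ m * a m = 2 * j * c m * (m - 1)) :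
    (j = 3 ∧ ∀ m, 1 ≤ m → a m = 0) ∨
    (j = 15 ∧ a 5 = 24 ∧ a 0 = 0 ∧ ∀ m, a m ≠ 0 → m = 3 ∨ m = 5) := by
  classical
  have hj : 0 < j := by omega
  obtain ⟨T, hT⟩ : ∃ T : Finset ℕ, T = (Finset.range (N + 1)).filter (fun m => 1 ≤ m ∧ a m ≠ 0) :=
    ⟨_, rfl⟩
  have hTmem : ∀ m, m ∈ T ↔ m ≤ N ∧ 1 ≤ m ∧ a m ≠ 0 := by
    intro m
    rw [hT, Finset.mem_filter, Finset.mem_range, Nat.lt_succ_iff]
  have hTsub : T ⊆ Finset.range (N + 1) := by
    rw [hT]
    exact Finset.filter_subset _ _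
  have hTprop : ∀ m ∈ T, 3 ≤ m ∧ m ∣ j ∧ m * a m = 2 * j * c m * (m - 1) :=
    fun m hm => h3 m ((hTmem m).mp hm).2.1 ((hTmem m).mp hm).2.2
  have hS1 : ∑ m ∈ Finset.range (N + 1), m * a m = ∑ m ∈ T, m * a m := by
    symm
    apply Finset.sum_subset hTsub
    intro m hm hmT
    rw [Finset.mem_range, Nat.lt_succ_iff] at hm
    by_cases h0 : m = 0
    · rw [h0, zero_mul]
    · have : a m = 0 := by
        by_contra ha
        exact hmT ((hTmem m).mpr ⟨hm, Nat.one_le_iff_ne_zero.mpr h0, ha⟩)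
      rw [this, mul_zero]
  have h0T : 0 ∉ T := fun h => by
    have := ((hTmem 0).mp h).2.1
    omega
  have hS2 : ∑ m ∈ Finset.range (N + 1), a m = a 0 + ∑ m ∈ T, a m := by
    rw [← Finset.sum_insert h0T]
    symm
    apply Finset.sum_subset
    · intro m hm
      rw [Finset.mem_insert] at hm
      rw [Finset.mem_range]
      rcases hm with rfl | hm
      · omega
      · have := ((hTmem m).mp hm).1
        omega
    · intro m hm hmT
      rw [Finset.mem_range, Nat.lt_succ_iff] at hm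
      rw [Finset.mem_insert, not_or] at hmT
      by_contra ha
      exact hmT.2 ((hTmem m).mpr ⟨hm, Nat.one_le_iff_ne_zero.mpr hmT.1, ha⟩)
  have hc1 : ∀ m ∈ T, 1 ≤ c m := by
    intro m hm
    obtain ⟨h3m, -, hma⟩ := hTprop m hm
    by_contra hc
    have hc0 : c m = 0 := by omega
    rw [hc0, mul_zero, zero_mul] at hma
    have ha := ((hTmem m).mp hm).2.2
    rcases Nat.mul_eq_zero.mp hma with h | h
    · omega
    · exact ha h
  have hbound : ∀ m ∈ T, 4 * j * c m ≤ 3 * a m := by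
    intro m hm
    obtain ⟨h3m, -, hma⟩ := hTprop m hm
    obtain ⟨n, rfl⟩ := Nat.exists_eq_add_of_le h3m
    have hm1 : 3 + n - 1 = n + 2 := by omega
    rw [hm1] at hma
    have hle : (3 + n) * (4 * j * c (3 + n)) ≤ (3 + n) * (3 * a (3 + n)) := by
      have e : (3 + n) * (3 * a (3 + n)) = 3 * ((3 + n) * a (3 + n)) := by ring
      rw [e, hma]
      nlinarith [Nat.zero_le (j * c (3 + n) * n)]
    exact Nat.le_of_mul_le_mul_left hle (by omega)
  have h2' : a 0 + ∑ m ∈ T, a m + 1 = 3 * j := by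
    rw [← hS2]
    exact h2
  have h1' : ∑ m ∈ T, m * a m + 3 * j = j * j := by
    rw [← hS1]
    exact h1
  have hsumc : ∑ m ∈ T, c m ≤ 2 := by
    by_contra hcon
    push Not at hcon
    have h4 : 4 * j * ∑ m ∈ T, c m ≤ 3 * ∑ m ∈ T, a m := by
      rw [Finset.mul_sum, Finset.mul_sum]
      exact Finset.sum_le_sum hbound
    have h6 : 4 * j * 3 ≤ 4 * j * ∑ m ∈ T, c m := Nat.mul_le_mul_left _ hcon
    generalize 4 * j * ∑ m ∈ T, c m = X at h4 h6
    omega
  have hcardT : T.card ≤ 2 := by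
    calc T.card = ∑ m ∈ T, 1 := by simp
      _ ≤ ∑ m ∈ T, c m := Finset.sum_le_sum hc1
      _ ≤ 2 := hsumc
  have hzero_of_notT : ∀ m, 1 ≤ m → m ∉ T → a m = 0 := by
    intro m hm hmT
    by_contra ha
    by_cases hmN : m ≤ N
    · exact hmT ((hTmem m).mpr ⟨hmN, hm, ha⟩)
    · exact ha (hN m (by omega))
  have hcases : T.card = 0 ∨ T.card = 1 ∨ T.card = 2 := by omega
  rcases hcases with h0 | h1c | h2c
  · -- no real class
    left
    have hTe : T = ∅ := Finset.card_eq_zero.mp h0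
    rw [hTe, Finset.sum_empty] at h1'
    have e : j * 3 = j * j := by linarith
    have hj3 : 3 = j := Nat.eq_of_mul_eq_mul_left hj e
    refine ⟨hj3.symm, fun m hm => hzero_of_notT m hm ?_⟩
    rw [hTe]
    exact Finset.notMem_empty m
  · -- one real class: impossible
    exfalso
    obtain ⟨m, hTm⟩ := Finset.card_eq_one.mp h1c
    have hmT : m ∈ T := by rw [hTm]; exact Finset.mem_singleton_self m
    obtain ⟨h3m, hmj, hma⟩ := hTprop m hmT
    have hcm1 := hc1 m hmT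
    rw [hTm, Finset.sum_singleton] at hsumc h1'
    rw [hma] at h1'
    have e : j * (2 * c m * (m - 1) + 3) = j * j := by
      rw [← h1']
      ring
    have hj' : 2 * c m * (m - 1) + 3 = j := Nat.eq_of_mul_eq_mul_left hj e
    obtain ⟨n, rfl⟩ := Nat.exists_eq_add_of_le h3m
    have hm1 : 3 + n - 1 = n + 2 := by omega
    rw [hm1] at hj'
    have hc12 : c (3 + n) = 1 ∨ c (3 + n) = 2 := by omega
    rcases hc12 with hc | hc
    · rw [hc] at hj'
      have hj2 : j = 2 * (3 + n) + 1 := by omega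
      rw [hj2] at hmj
      have : (3 + n) ∣ 1 := (Nat.dvd_add_right (dvd_mul_left (3 + n) 2)).mp hmj
      have := Nat.le_of_dvd one_pos this
      omega
    · rw [hc] at hj'
      have hj2 : (3 + n) ∣ j + 1 := ⟨4, by omega⟩
      have : (3 + n) ∣ 1 := (Nat.dvd_add_right hmj).mp hj2
      have := Nat.le_of_dvd one_pos this
      omega
  · -- two real classes
    right
    obtain ⟨x, y, hxy, hTxy⟩ := Finset.card_eq_two.mp h2c
    have hxT : x ∈ T := by rw [hTxy]; exact Finset.mem_insert_self x _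
    have hyT : y ∈ T := by rw [hTxy]; exact Finset.mem_insert_of_mem (Finset.mem_singleton_self y)
    obtain ⟨h3x, hxj, hxa⟩ := hTprop x hxT
    obtain ⟨h3y, hyj, hya⟩ := hTprop y hyT
    have hcx := hc1 x hxT
    have hcy := hc1 y hyT
    rw [hTxy, Finset.sum_pair hxy] at hsumc h1' h2'
    have hcx1 : c x = 1 := by omega
    have hcy1 : c y = 1 := by omega
    rw [hxa, hya, hcx1, hcy1] at h1'
    have e : j * (2 * (x - 1) + 2 * (y - 1) + 3) = j * j := by
      rw [← h1']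
      ring
    have hj' : 2 * (x - 1) + 2 * (y - 1) + 3 = j := Nat.eq_of_mul_eq_mul_left hj e
    have key : (x = 3 ∧ y = 5 ∧ j = 15) ∨ (y = 3 ∧ x = 5 ∧ j = 15) := by
      rcases Nat.lt_or_gt_of_ne hxy with hlt | hlt
      · exact Or.inl (two_term j x y h3x hlt hxj hyj hj')
      · exact Or.inr (two_term j y x h3y hlt hyj hxj (by omega))
    have hfin : j = 15 ∧ a 3 = 20 ∧ a 5 = 24 ∧ T = {3, 5} := by
      rcases key with ⟨rfl, rfl, rfl⟩ | ⟨rfl, rfl, rfl⟩
      · rw [hcx1] at hxa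
        rw [hcy1] at hya
        refine ⟨rfl, by omega, by omega, hTxy⟩
      · rw [hcx1] at hxa
        rw [hcy1] at hya
        refine ⟨rfl, by omega, by omega, ?_⟩
        rw [hTxy]
        exact Finset.pair_comm 5 3
    obtain ⟨hj15, ha3, ha5, hT35⟩ := hfin
    have ha0 : a 0 = 0 := by
      rcases key with ⟨rfl, rfl, rfl⟩ | ⟨rfl, rfl, rfl⟩ <;> omega
    refine ⟨hj15, ha5, ha0, ?_⟩
    intro m hm
    by_cases hm0 : m = 0
    · rw [hm0] at hm
      exact absurd ha0 hm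
    · have hmT : m ∈ T := by
        by_contra hmT
        exact hm (hzero_of_notT m (Nat.one_le_iff_ne_zero.mpr hm0) hmT)
      rw [hT35, Finset.mem_insert, Finset.mem_singleton] at hmT
      exact hmT

end Cfsg.Agent.Lib.Helper5.BSWT1d
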