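/-
S0998 (planner helper19, market BT8), leaf BT8-ARITHA (frozen statement in notes/S0998_leaves.lean).
-/
import Mathlib
import Cfsg.Agent.Lib.Helper26.Ord450

set_option autoImplicit false

namespace Cfsg.Agent.Lib.Helper5.BT8ARITHA

universe u

theorem four_pow_mod (j : ℕ) : 4 ^ j % 3 = 1 := by
  induction j with
  | zero => rfl
  | succ n ih => rw [pow_succ, Nat.mul_mod, ih]

theorem three_dvd_two_pow_add_one {k : ℕ} (hk : Odd k) : 3 ∣ 2 ^ k + 1 := by
  obtain ⟨j, rfl⟩ := hk
  have h1 : 2 ^ (2 * j + 1) = 4 ^ j * 2 := by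
    rw [pow_succ, pow_mul]
    norm_num
  have h2 := four_pow_mod j
  rw [h1]
  omega

theorem three_dvd_two_pow_sub_one {k : ℕ} (hk : Even k) : 3 ∣ 2 ^ k - 1 := by
  obtain ⟨j, rfl⟩ := hk
  have h1 : 2 ^ (j + j) = 4 ^ j := by
    rw [← two_mul, pow_mul]
    norm_num
  have h2 := four_pow_mod j
  rw [h1]
  omega

/-- splitting `r q^b = 2^m N`, `N` odd -/
theorem split (q r b m N : ℕ) (hq : q.Prime) (hr : r.Prime) (hqr : q ≠ r) (hm : 1 ≤ m) (hN : Odd N)
    (h : r * q ^ b = 2 ^ m * N) : (q = 2 ∧ r = N) ∨ (m = 1 ∧ r = 2 ∧ q ^ b = N) := by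
  by_cases hq2 : q = 2
  · left
    refine ⟨hq2, ?_⟩
    subst hq2
    have hr2 : r ≠ 2 := fun e => hqr e.symm
    have hrodd : Nat.Coprime r 2 := (Nat.coprime_primes hr Nat.prime_two).mpr hr2
    have h5 : r ∣ N := by
      have : r ∣ 2 ^ m * N := by rw [← h]; exact Dvd.intro _ rfl
      exact (Nat.Coprime.pow_right m hrodd).dvd_of_dvd_mul_left this
    have hodd : Nat.Coprime N 2 := Nat.coprime_two_right.mpr hN
    have h6 : N ∣ r := by
      have : N ∣ r * 2 ^ b := by rw [h]; exact Dvd.intro_left _ rfl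
      exact (Nat.Coprime.pow_right b hodd).dvd_of_dvd_mul_right this
    exact Nat.dvd_antisymm h5 h6
  · right
    have hcop : Nat.Coprime (2 ^ m) (q ^ b) := by
      apply Nat.Coprime.pow
      exact (Nat.coprime_primes Nat.prime_two hq).mpr (fun e => hq2 e.symm)
    have h1 : 2 ^ m ∣ r := by
      have : 2 ^ m ∣ r * q ^ b := by rw [h]; exact Dvd.intro _ rfl
      exact hcop.dvd_of_dvd_mul_right this
    have h2 : 2 ∣ r := (dvd_pow_self 2 (by omega : m ≠ 0)).trans h1
    have hr2 : 2 = r := (Nat.prime_dvd_prime_iff_eq Nat.prime_two hr).mp h2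
    subst hr2
    have hm1 : m = 1 := by
      have : 2 ^ m ≤ 2 ^ 1 := Nat.le_of_dvd (by norm_num) h1
      have := (Nat.pow_le_pow_iff_right (by norm_num : 1 < 2)).mp this
      omega
    subst hm1
    refine ⟨rfl, rfl, ?_⟩
    have : 2 * q ^ b = 2 * N := by simpa using h
    exact Nat.eq_of_mul_eq_mul_left (by norm_num) this

/-- BT8-ARITHA -/
theorem arith_A (p q r b m : ℕ) (hp : p.Prime) (hq : q.Prime) (hr : r.Prime) (hpq : p ≠ q) (hqr : q ≠ r) (hrp : r < p)
    (hm : p = 2 ^ m + 1 ∨ p = 2 ^ m - 1) (hcard : p * r * q ^ b * 2 = p * (p ^ 2 - 1)) : p = 5 ∨ p = 7 := by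
  have hppos := hp.pos
  have hp2 := hp.two_le
  have hX : r * q ^ b * 2 = p ^ 2 - 1 := by
    have : p * (r * q ^ b * 2) = p * (p ^ 2 - 1) := by rw [← hcard]; ring
    exact Nat.eq_of_mul_eq_mul_left hppos this
  rcases hm with hm | hm
  · -- `p = 2^m + 1`
    rcases Nat.eq_zero_or_pos m with h0 | hmpos
    · subst h0
      have hp2' : p = 2 := by simpa using hm
      subst hp2'
      norm_num at hX
      omega
    obtain ⟨k, rfl⟩ : ∃ k, m = k + 1 := ⟨m - 1, by omega⟩
    have hX' : r * q ^ b = 2 ^ (k + 1) * (2 ^ k + 1) := by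
      have e : p ^ 2 - 1 = 2 ^ (k + 1) * (2 ^ k + 1) * 2 := by
        rw [hm]
        have : (2 ^ (k + 1) + 1) ^ 2 = 2 ^ (k + 1) * (2 ^ k + 1) * 2 + 1 := by ring
        omega
      rw [e] at hX
      exact Nat.eq_of_mul_eq_mul_right (by norm_num) hX
    rcases Nat.eq_zero_or_pos k with hk0 | hkpos
    · subst hk0
      have hX4 : r * q ^ b = 4 := by simpa using hX'
      have hr4 : r ∣ 2 ^ 2 := by
        have : r ∣ 4 := Dvd.intro _ hX4
        simpa using this
      have hr2 : r = 2 := (Nat.prime_dvd_prime_iff_eq hr Nat.prime_two).mp (hr.dvd_of_dvd_pow hr4)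
      subst hr2
      have hqb : q ^ b = 2 := by omega
      have hb : b ≠ 0 := by
        rintro rfl
        simp at hqb
      have hq2 : q ∣ 2 := by
        rw [← hqb]
        exact dvd_pow_self q hb
      have := (Nat.prime_dvd_prime_iff_eq hq Nat.prime_two).mp hq2
      exact absurd this hqr
    · have hN : Odd (2 ^ k + 1) := Even.add_one ((Nat.even_pow).mpr ⟨even_two, by omega⟩)
      rcases split q r b (k + 1) (2 ^ k + 1) hq hr hqr (by omega) hN hX' with ⟨_, hrN⟩ | ⟨hm1, _, _⟩
      · rcases Nat.even_or_odd k with hke | hko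
        · have h3 : 3 ∣ p := by
            rw [hm]
            exact three_dvd_two_pow_add_one (Even.add_one hke)
          have hp3 : 3 = p := (Nat.prime_dvd_prime_iff_eq Nat.prime_three hp).mp h3
          have : 2 ^ 2 ≤ 2 ^ (k + 1) := Nat.pow_le_pow_right (by norm_num) (by omega)
          omega
        · have h3 : 3 ∣ r := by
            rw [hrN]
            exact three_dvd_two_pow_add_one hko
          have hr3 : 3 = r := (Nat.prime_dvd_prime_iff_eq Nat.prime_three hr).mp h3
          have h2k : 2 ^ k = 2 ^ 1 := by omega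
          have hk1 : k = 1 := Nat.pow_right_injective (le_refl 2) h2k
          subst hk1
          left
          rw [hm]
          norm_num
      · omega
  · -- `p = 2^m - 1`
    have hm2 : 2 ≤ m := by
      by_contra hlt
      have : m = 0 ∨ m = 1 := by omega
      rcases this with h | h <;> subst h <;> simp at hm <;> omega
    obtain ⟨k, rfl⟩ : ∃ k, m = k + 1 := ⟨m - 1, by omega⟩
    have hkpos : 1 ≤ k := by omega
    have h2k : 2 ≤ 2 ^ k := by
      calc 2 = 2 ^ 1 := by norm_num
        _ ≤ 2 ^ k := Nat.pow_le_pow_right (by norm_num) hkpos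
    obtain ⟨j, hj⟩ : ∃ j, 2 ^ k = j + 1 := ⟨2 ^ k - 1, by omega⟩
    have hpj : p = 2 * j + 1 := by
      rw [hm, pow_succ, hj]
      omega
    have hX' : r * q ^ b = 2 ^ (k + 1) * (2 ^ k - 1) := by
      have e : p ^ 2 - 1 = 2 ^ (k + 1) * (2 ^ k - 1) * 2 := by
        have h2k1 : 2 ^ (k + 1) = 2 * (j + 1) := by
          rw [pow_succ, hj]
          ring
        rw [hpj, h2k1, hj]
        simp only [Nat.add_sub_cancel]
        have : (2 * j + 1) ^ 2 = 2 * (j + 1) * j * 2 + 1 := by ring
        omega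
      rw [e] at hX
      exact Nat.eq_of_mul_eq_mul_right (by norm_num) hX
    have hN : Odd (2 ^ k - 1) := by
      have : Even (2 ^ k) := (Nat.even_pow).mpr ⟨even_two, by omega⟩
      exact Nat.Even.sub_odd (by omega) this odd_one
    rcases split q r b (k + 1) (2 ^ k - 1) hq hr hqr (by omega) hN hX' with ⟨_, hrN⟩ | ⟨hm1, _, _⟩
    · rcases Nat.even_or_odd k with hke | hko
      · have h3 : 3 ∣ r := by
          rw [hrN]
          exact three_dvd_two_pow_sub_one hke
        have hr3 : 3 = r := (Nat.prime_dvd_prime_iff_eq Nat.prime_three hr).mp h3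
        have h2k' : 2 ^ k = 2 ^ 2 := by omega
        have hk2 : k = 2 := Nat.pow_right_injective (le_refl 2) h2k'
        subst hk2
        right
        rw [hm]
        norm_num
      · have h3 : 3 ∣ p := by
          rw [hm]
          exact three_dvd_two_pow_sub_one (Odd.add_one hko)
        have hp3 : 3 = p := (Nat.prime_dvd_prime_iff_eq Nat.prime_three hp).mp h3
        -- `2^(k+1) = 4`, `k = 1`, `r = 1`
        have h4 : 2 ^ (k + 1) = 2 ^ 2 := by
          have : 1 ≤ 2 ^ (k + 1) := Nat.one_le_two_pow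
          omega
        have hk1 : k + 1 = 2 := Nat.pow_right_injective (le_refl 2) h4
        have hk1' : k = 1 := by omega
        subst hk1'
        have : r = 1 := by simpa using hrN
        exact absurd this hr.one_lt.ne'
    · omega

end Cfsg.Agent.Lib.Helper5.BT8ARITHA
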