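/-
S0997 (planner helper19, market BT), twins of the leaves BT-CARD (`card_eq`) and BT-ZCENT (`exists_two_central`)
(frozen statements in notes/S0997_leaves.lean).
-/
import Mathlib
import Cfsg.Agent.Lib.Helper24.BRCDefs

set_option autoImplicit false

namespace Cfsg.Agent.Lib.Helper5.BTCARD

open Cfsg Cfsg.Agent.Lib.Helper8.DOM Cfsg.Agent.Lib.Helper27.DO Cfsg.Agent.CharLib
open Cfsg.Agent.Lib.Helper6.BRH Cfsg.Agent.Lib.Helper24.BRC
open scoped ComplexConjugate

universe u

variable {G : Type u} [Group G] [Finite G] {p : ℕ} [Fact p.Prime]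

/-- BT-CARD -/
theorem card_eq (P : Subgroup G) (hP : Nat.card P = p) (n : ℕ) (hidx : (Nz P).index = 1 + n * p) :
    ∃ c : ℕ, Nat.card (Cz P) = p * c ∧ Nat.card G = p * c * fI P * (1 + n * p) := by
  have hcyc : IsCyclic P := isCyclic_of_prime_card hP
  have hcomm : IsMulCommutative P := inferInstance
  have hle : P ≤ Cz P := Subgroup.le_centralizer_iff_isMulCommutative.mpr hcomm
  obtain ⟨c, hc⟩ : Nat.card P ∣ Nat.card (Cz P) := Subgroup.card_dvd_of_le hle
  rw [hP] at hc
  refine ⟨c, hc, ?_⟩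
  have hCN : Cz P ≤ Nz P := Subgroup.centralizer_le_normalizer _
  have h1 := Subgroup.card_mul_index (Cz P)
  have h2 := Subgroup.relIndex_mul_index hCN
  rw [← h1, ← h2, hidx, hc]
  ring

/-- BT-ZCENT -/
theorem exists_two_central (h2 : 2 ∣ Nat.card G) :
    ∃ z : G, orderOf z = 2 ∧ ¬ 2 ∣ (Subgroup.centralizer ({z} : Set G)).index := by
  have : Fact (Nat.Prime 2) := ⟨Nat.prime_two⟩
  obtain ⟨S⟩ : Nonempty (Sylow 2 G) := inferInstance
  have hS1 : (S : Subgroup G) ≠ ⊥ := S.ne_bot_of_dvd_card h2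
  have : Nontrivial (S : Subgroup G) := (Subgroup.nontrivial_iff_ne_bot _).mpr hS1
  have hpg : IsPGroup 2 (S : Subgroup G) := S.isPGroup'
  have : Nontrivial (Subgroup.center (S : Subgroup G)) := hpg.center_nontrivial
  have hpgZ : IsPGroup 2 (Subgroup.center (S : Subgroup G)) := hpg.to_subgroup _
  have hdvd : 2 ∣ Nat.card (Subgroup.center (S : Subgroup G)) := by
    obtain ⟨k, hk⟩ := IsPGroup.iff_card.mp hpgZ
    have hk1 : k ≠ 0 := by
      intro h0
      rw [h0, pow_zero] at hk
      have := Finite.one_lt_card (α := Subgroup.center (S : Subgroup G))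
      omega
    rw [hk]
    exact dvd_pow_self 2 hk1
  obtain ⟨z, hz⟩ := exists_prime_orderOf_dvd_card' 2 hdvd
  refine ⟨((z : (S : Subgroup G)) : G), ?_, ?_⟩
  · rw [Subgroup.orderOf_coe, Subgroup.orderOf_coe]
    exact hz
  · have hSle : (S : Subgroup G) ≤ Subgroup.centralizer ({((z : (S : Subgroup G)) : G)} : Set G) := by
      intro s hs
      rw [Subgroup.mem_centralizer_iff]
      intro h hh
      rw [Set.mem_singleton_iff] at hh
      subst hh
      have h0 : (⟨s, hs⟩ : (S : Subgroup G)) * (z : (S : Subgroup G)) = (z : (S : Subgroup G)) * ⟨s, hs⟩ :=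
        Subgroup.mem_center_iff.mp z.2 ⟨s, hs⟩
      have h3 : s * ((z : (S : Subgroup G)) : G) = ((z : (S : Subgroup G)) : G) * s := by
        have := congrArg (fun w : (S : Subgroup G) => (w : G)) h0
        simpa using this
      exact h3.symm
    intro hd
    have h4 : (Subgroup.centralizer ({((z : (S : Subgroup G)) : G)} : Set G)).index ∣ (S : Subgroup G).index :=
      Subgroup.index_dvd_of_le hSle
    exact S.not_dvd_index (hd.trans h4)

end Cfsg.Agent.Lib.Helper5.BTCARD
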