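/-
S0997 (planner helper19, market BT), twin of the leaf BT-ORBIT (`card_centralizer_le_mul`)
(frozen statement in notes/S0997_leaves.lean).
-/
import Mathlib
import Cfsg.Agent.Lib.Helper24.BRCDefs

set_option autoImplicit false

namespace Cfsg.Agent.Lib.Helper5.BTORBIT

open Cfsg Cfsg.Agent.Lib.Helper8.DOM Cfsg.Agent.Lib.Helper27.DO Cfsg.Agent.CharLib
open Cfsg.Agent.Lib.Helper6.BRH Cfsg.Agent.Lib.Helper24.BRC
open scoped ComplexConjugate

universe u

variable {G : Type u} [Group G] [Finite G] {p : ℕ} [Fact p.Prime]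

/-- `P = ⟨x⟩` for `x ∈ P#` -/
theorem eq_zpowers (P : Subgroup G) (hP : Nat.card P = p) {x : G} (hx : x ∈ P) (hx1 : x ≠ 1) :
    Subgroup.zpowers x = P := by
  have hp : p.Prime := Fact.out
  have hle : Subgroup.zpowers x ≤ P := (Subgroup.zpowers_le).mpr hx
  apply Subgroup.eq_of_le_of_card_ge hle
  rw [Nat.card_zpowers, hP]
  have hdvd : orderOf x ∣ p := by
    have h1 : orderOf (⟨x, hx⟩ : P) ∣ Nat.card P := orderOf_dvd_natCard _
    rw [hP] at h1
    have h2 : orderOf (⟨x, hx⟩ : P) = orderOf x := by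
      rw [← Subgroup.orderOf_coe]
    rwa [h2] at h1
  rcases (Nat.dvd_prime hp).mp hdvd with h | h
  · exact absurd (orderOf_eq_one_iff.mp h) hx1
  · rw [h]

/-- an element inverting `x ∈ P#` inverts all of `P` -/
theorem inverts_all (P : Subgroup G) (hP : Nat.card P = p) {y x : G} (hx : x ∈ P) (hx1 : x ≠ 1)
    (hyx : y * x * y⁻¹ = x⁻¹) : ∀ u ∈ P, y * u * y⁻¹ = u⁻¹ := by
  intro u hu
  rw [← eq_zpowers P hP hx hx1] at hu
  obtain ⟨k, rfl⟩ := Subgroup.mem_zpowers_iff.mp hu
  rw [← conj_zpow, hyx, inv_zpow]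

/-- such an element normalizes `P` -/
theorem mem_Nz_of_inverts (P : Subgroup G) {y : G} (hinv : ∀ u ∈ P, y * u * y⁻¹ = u⁻¹) : y ∈ Nz P := by
  rw [Subgroup.mem_normalizer_iff]
  intro h
  constructor
  · intro hh
    show y * h * y⁻¹ ∈ P
    rw [hinv h hh]
    exact inv_mem hh
  · intro hh
    have hh' : y * h * y⁻¹ ∈ P := hh
    have h1 := hinv _ (inv_mem hh')
    rw [inv_inv] at h1
    have h2 : h = (y * h * y⁻¹)⁻¹ := by
      have : y⁻¹ * (y * (y * h * y⁻¹)⁻¹ * y⁻¹) * y = y⁻¹ * (y * h * y⁻¹) * y := by rw [h1]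
      have e1 : y⁻¹ * (y * (y * h * y⁻¹)⁻¹ * y⁻¹) * y = (y * h * y⁻¹)⁻¹ := by group
      have e2 : y⁻¹ * (y * h * y⁻¹) * y = h := by group
      rw [e1, e2] at this
      exact this.symm
    show h ∈ P
    rw [h2]
    exact inv_mem hh'

/-- BT-ORBIT -/
theorem card_centralizer_le_mul (hp2 : p ≠ 2) (P : Subgroup G) (hP : Nat.card P = p) (hSyl : ¬ p ∣ P.index) (hC : Cz P = P)
    (y x : G) (hy : orderOf y = 2) (hx : x ∈ P) (hx1 : x ≠ 1) (hyx : y * x * y⁻¹ = x⁻¹) :
    Nat.card (Subgroup.centralizer ({y} : Set G)) ≤ fI P * Nat.card (MulAction.fixedBy (G ⧸ Nz P) y) := by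
  classical
  have hp : p.Prime := Fact.out
  have hinv := inverts_all P hP hx hx1 hyx
  have hyN : y ∈ Nz P := mem_Nz_of_inverts P hinv
  set Cy : Subgroup G := Subgroup.centralizer ({y} : Set G) with hCy
  set pt : G ⧸ Nz P := ((1 : G) : G ⧸ Nz P) with hpt
  -- the orbit of the base point under `C_G(y)` lies in `Fix(y)`
  have hcomm : ∀ c ∈ Cy, y * c = c * y := by
    intro c hc
    exact (Subgroup.mem_centralizer_iff.mp hc y (Set.mem_singleton y))
  have hfixpt : y • pt = pt := by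
    rw [hpt]
    show ((y * 1 : G) : G ⧸ Nz P) = ((1 : G) : G ⧸ Nz P)
    rw [QuotientGroup.eq]
    simpa using inv_mem hyN
  have horb : MulAction.orbit Cy pt ⊆ MulAction.fixedBy (G ⧸ Nz P) y := by
    rintro _ ⟨c, rfl⟩
    rw [MulAction.mem_fixedBy]
    show y • ((c : G) • pt) = (c : G) • pt
    rw [smul_smul, hcomm c c.2, mul_smul, hfixpt]
  have hfin : (MulAction.fixedBy (G ⧸ Nz P) y).Finite := Set.toFinite _
  have h1 : (MulAction.orbit Cy pt).ncard ≤ Nat.card (MulAction.fixedBy (G ⧸ Nz P) y) := by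
    rw [Nat.card_coe_set_eq]
    exact Set.ncard_le_ncard horb hfin
  -- the stabilizer of the base point embeds in `N / C`
  have hstab : ∀ c : Cy, c ∈ MulAction.stabilizer Cy pt → (c : G) ∈ Nz P := by
    intro c hc
    rw [MulAction.mem_stabilizer_iff] at hc
    have hc' : (c : G) • pt = pt := hc
    rw [hpt] at hc'
    have : (((c : G) * 1 : G) : G ⧸ Nz P) = ((1 : G) : G ⧸ Nz P) := hc'
    rw [QuotientGroup.eq] at this
    have h2 : ((c : G))⁻¹ ∈ Nz P := by simpa using this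
    simpa using inv_mem h2
  have h2 : Nat.card (MulAction.stabilizer Cy pt) ≤ fI P := by
    show _ ≤ (Cz P).relIndex (Nz P)
    unfold Subgroup.relIndex Subgroup.index
    let φ : MulAction.stabilizer Cy pt → (Nz P) ⧸ (Cz P).subgroupOf (Nz P) :=
      fun c => QuotientGroup.mk ⟨((c : Cy) : G), hstab c c.2⟩
    apply Nat.card_le_card_of_injective φ
    intro c c' hcc
    simp only [φ] at hcc
    rw [QuotientGroup.eq, Subgroup.mem_subgroupOf] at hcc
    have hu : (((c : Cy) : G))⁻¹ * ((c' : Cy) : G) ∈ Cz P := by simpa using hcc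
    rw [hC] at hu
    set u : G := (((c : Cy) : G))⁻¹ * ((c' : Cy) : G) with hu_def
    have huCy : u ∈ Cy := mul_mem (inv_mem (c : Cy).2) (c' : Cy).2
    have h3 : y * u = u * y := hcomm u huCy
    have h4 : y * u * y⁻¹ = u⁻¹ := hinv u hu
    have h5 : u = u⁻¹ := by
      rw [← h4, h3]
      group
    have h6 : u ^ 2 = 1 := by
      rw [sq]
      nth_rewrite 1 [h5]
      exact inv_mul_cancel u
    have h7 : orderOf u ∣ 2 := orderOf_dvd_of_pow_eq_one h6
    have h8 : orderOf u ∣ p := by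
      have h9 : orderOf (⟨u, hu⟩ : P) ∣ Nat.card P := orderOf_dvd_natCard _
      rw [hP] at h9
      have h10 : orderOf (⟨u, hu⟩ : P) = orderOf u := by rw [← Subgroup.orderOf_coe]
      rwa [h10] at h9
    have h11 : orderOf u = 1 := by
      have hcop : Nat.Coprime 2 p := by
        rw [Nat.coprime_primes Nat.prime_two hp]
        exact fun h => hp2 h.symm
      exact Nat.eq_one_of_dvd_coprimes hcop h7 h8
    have h12 : u = 1 := orderOf_eq_one_iff.mp h11
    have h13 : ((c : Cy) : G) = ((c' : Cy) : G) := by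
      have : ((c : Cy) : G) * u = ((c' : Cy) : G) := by rw [hu_def]; group
      rw [h12, mul_one] at this
      exact this
    exact Subtype.ext (Subtype.ext h13)
  -- orbit-stabilizer
  have h3 : Nat.card Cy = Nat.card (MulAction.stabilizer Cy pt) * (MulAction.orbit Cy pt).ncard := by
    rw [← MulAction.index_stabilizer, Subgroup.card_mul_index]
  rw [h3]
  exact Nat.mul_le_mul h2 h1

end Cfsg.Agent.Lib.Helper5.BTORBIT
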