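import Mathlib
import Cfsg.Prelude.Def_ClassicalGeometry

/-!
Block triangular matrices in `GL`: stabilisers of coordinate subspaces, reindexing, counting.
-/

set_option autoImplicit false

namespace Cfsg.Agent.Lib.Helper5

open Matrix

section Stab

variable {ι : Type} [Fintype ι] [DecidableEq ι] {F : Type*} [Field F]

/-- membership in the stabiliser of a coordinate subspace, finite field case -/
theorem mem_stabilizing_coord_iff [Finite F] (p : ι → Prop) (g : Matrix.GeneralLinearGroup ι F) :
    g ∈ Cfsg.stabilizing (Cfsg.glToMat ι F) {v : ι → F | ∀ i, p i → v i = 0} ↔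
      ∀ i j, p i → ¬ p j → (g : Matrix ι ι F) i j = 0 := by
  constructor
  · intro hg i j hi hj
    have h1 := (hg (Pi.single j 1)).1 (by
      intro i' hi'
      have : i' ≠ j := by
        rintro rfl
        exact hj hi'
      simp [this])
    have h2 := h1 i hi
    change ((g : Matrix ι ι F) *ᵥ Pi.single j 1) i = 0 at h2
    rwa [Matrix.mulVec_single_one] at h2
  · intro hg
    have hfwd : ∀ v : ι → F, (∀ i, p i → v i = 0) →
        ∀ i, p i → ((g : Matrix ι ι F) *ᵥ v) i = 0 := by
      intro v hv i hi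
      rw [Matrix.mulVec, dotProduct]
      apply Finset.sum_eq_zero
      intro j _
      by_cases hj : p j
      · rw [hv j hj, mul_zero]
      · rw [hg i j hi hj, zero_mul]
    intro v
    change (∀ i, p i → v i = 0) ↔ ∀ i, p i → ((g : Matrix ι ι F) *ᵥ v) i = 0
    refine ⟨hfwd v, ?_⟩
    intro hgv
    -- use finiteness: `g` permutes the finite set `S`
    let S : Set (ι → F) := {v : ι → F | ∀ i, p i → v i = 0}
    let f : S → S := fun s => ⟨(g : Matrix ι ι F) *ᵥ s.1, hfwd s.1 s.2⟩
    have hinjg : Function.Injective (fun v : ι → F => (g : Matrix ι ι F) *ᵥ v) := by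
      intro a b hab
      have := congrArg (fun z => ((g⁻¹ : Matrix.GeneralLinearGroup ι F) : Matrix ι ι F) *ᵥ z) hab
      simp only [Matrix.mulVec_mulVec] at this
      rwa [← Units.val_mul, inv_mul_cancel, Units.val_one, Matrix.one_mulVec,
        Matrix.one_mulVec] at this
    have hf : Function.Injective f := by
      intro a b hab
      apply Subtype.ext
      exact hinjg (congrArg Subtype.val hab)
    have hsurj : Function.Surjective f := Finite.injective_iff_surjective.1 hf
    obtain ⟨s, hs⟩ := hsurj ⟨(g : Matrix ι ι F) *ᵥ v, hgv⟩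
    have : s.1 = v := hinjg (congrArg Subtype.val hs)
    rw [← this]
    exact s.2

end Stab

section StabGeneral

variable {ι : Type} [Fintype ι] [DecidableEq ι] {F : Type*} [Field F] {H : Type*} [Group H]

/-- membership in the stabiliser of a coordinate subspace, for a general matrix representation
`toMat`, finite field case -/
theorem mem_stabilizing_coord_iff' [Finite F] (toMat : H →* Matrix ι ι F) (p : ι → Prop) (g : H) :
    g ∈ Cfsg.stabilizing toMat {v : ι → F | ∀ i, p i → v i = 0} ↔
      ∀ i j, p i → ¬ p j → toMat g i j = 0 := by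
  constructor
  · intro hg i j hi hj
    have h1 := (hg (Pi.single j 1)).1 (by
      intro i' hi'
      have : i' ≠ j := by
        rintro rfl
        exact hj hi'
      simp [this])
    have h2 := h1 i hi
    change (toMat g *ᵥ Pi.single j 1) i = 0 at h2
    rwa [Matrix.mulVec_single_one] at h2
  · intro hg
    have hfwd : ∀ v : ι → F, (∀ i, p i → v i = 0) →
        ∀ i, p i → (toMat g *ᵥ v) i = 0 := by
      intro v hv i hi
      rw [Matrix.mulVec, dotProduct]
      apply Finset.sum_eq_zero
      intro j _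
      by_cases hj : p j
      · rw [hv j hj, mul_zero]
      · rw [hg i j hi hj, zero_mul]
    intro v
    change (∀ i, p i → v i = 0) ↔ ∀ i, p i → (toMat g *ᵥ v) i = 0
    refine ⟨hfwd v, ?_⟩
    intro hgv
    let S : Set (ι → F) := {v : ι → F | ∀ i, p i → v i = 0}
    let f : S → S := fun s => ⟨toMat g *ᵥ s.1, hfwd s.1 s.2⟩
    have hinjg : Function.Injective (fun v : ι → F => toMat g *ᵥ v) := by
      intro a b hab
      have := congrArg (fun z => toMat g⁻¹ *ᵥ z) hab
      simp only [Matrix.mulVec_mulVec] at this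
      rwa [← map_mul, inv_mul_cancel, map_one, Matrix.one_mulVec, Matrix.one_mulVec] at this
    have hf : Function.Injective f := by
      intro a b hab
      apply Subtype.ext
      exact hinjg (congrArg Subtype.val hab)
    have hsurj : Function.Surjective f := Finite.injective_iff_surjective.1 hf
    obtain ⟨s, hs⟩ := hsurj ⟨toMat g *ᵥ v, hgv⟩
    have : s.1 = v := hinjg (congrArg Subtype.val hs)
    rw [← this]
    exact s.2

end StabGeneral

section Reindex

variable {m n : Type*} [Fintype m] [DecidableEq m] [Fintype n] [DecidableEq n]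
  {F : Type*} [Field F]

/-- reindexing `GL` -/
noncomputable def reindexGL (e : m ≃ n) :
    Matrix.GeneralLinearGroup m F ≃* Matrix.GeneralLinearGroup n F :=
  Units.mapEquiv (Matrix.reindexAlgEquiv F F e).toMulEquiv

theorem reindexGL_val (e : m ≃ n) (g : Matrix.GeneralLinearGroup m F) (i j : n) :
    ((reindexGL e g : Matrix.GeneralLinearGroup n F) : Matrix n n F) i j
      = (g : Matrix m m F) (e.symm i) (e.symm j) := rfl

end Reindex

section Blocks

variable {m₁ m₂ : Type*} [Fintype m₁] [DecidableEq m₁] [Fintype m₂] [DecidableEq m₂]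
  {F : Type*} [Field F]

theorem det_eq_of_toBlocks₂₁_eq_zero (M : Matrix (m₁ ⊕ m₂) (m₁ ⊕ m₂) F)
    (h : M.toBlocks₂₁ = 0) : M.det = M.toBlocks₁₁.det * M.toBlocks₂₂.det := by
  conv_lhs => rw [← Matrix.fromBlocks_toBlocks M, h]
  rw [Matrix.det_fromBlocks_zero₂₁]

/-- block upper triangular invertible matrices as triples -/
noncomputable def blockTriEquiv :
    {g : Matrix.GeneralLinearGroup (m₁ ⊕ m₂) F //
      (g : Matrix (m₁ ⊕ m₂) (m₁ ⊕ m₂) F).toBlocks₂₁ = 0} ≃
    Matrix.GeneralLinearGroup m₁ F × Matrix m₁ m₂ F × Matrix.GeneralLinearGroup m₂ F where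
  toFun g :=
    have hdet : (g.1 : Matrix (m₁ ⊕ m₂) (m₁ ⊕ m₂) F).toBlocks₁₁.det *
        (g.1 : Matrix (m₁ ⊕ m₂) (m₁ ⊕ m₂) F).toBlocks₂₂.det ≠ 0 := by
      rw [← det_eq_of_toBlocks₂₁_eq_zero _ g.2]
      exact (Matrix.isUnits_det_units g.1).ne_zero
    (Matrix.GeneralLinearGroup.mkOfDetNeZero _ (left_ne_zero_of_mul hdet),
      (g.1 : Matrix (m₁ ⊕ m₂) (m₁ ⊕ m₂) F).toBlocks₁₂,
      Matrix.GeneralLinearGroup.mkOfDetNeZero _ (right_ne_zero_of_mul hdet))
  invFun t :=
    ⟨Matrix.GeneralLinearGroup.mkOfDetNeZero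
      (Matrix.fromBlocks (t.1 : Matrix m₁ m₁ F) t.2.1 0 (t.2.2 : Matrix m₂ m₂ F)) (by
        rw [Matrix.det_fromBlocks_zero₂₁]
        exact mul_ne_zero (Matrix.isUnits_det_units t.1).ne_zero
          (Matrix.isUnits_det_units t.2.2).ne_zero),
      Matrix.toBlocks_fromBlocks₂₁ _ _ _ _⟩
  left_inv g := by
    apply Subtype.ext
    apply Units.ext
    change Matrix.fromBlocks _ _ 0 _ = (g.1 : Matrix (m₁ ⊕ m₂) (m₁ ⊕ m₂) F)
    conv_rhs => rw [← Matrix.fromBlocks_toBlocks (g.1 : Matrix (m₁ ⊕ m₂) (m₁ ⊕ m₂) F), g.2]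
    rfl
  right_inv t := by
    obtain ⟨A, B, D⟩ := t
    refine Prod.ext ?_ (Prod.ext ?_ ?_)
    · apply Units.ext
      exact Matrix.toBlocks_fromBlocks₁₁ _ _ _ _
    · exact Matrix.toBlocks_fromBlocks₁₂ _ _ _ _
    · apply Units.ext
      exact Matrix.toBlocks_fromBlocks₂₂ _ _ _ _

end Blocks

section Split

/-- splitting `Fin n` into the first `k` and the remaining `n - k` indices -/
def splitEquiv (n k : ℕ) (hk : k ≤ n) : Fin n ≃ Fin k ⊕ Fin (n - k) :=
  (finCongr (by omega : n = k + (n - k))).trans finSumFinEquiv.symm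

theorem splitEquiv_symm_inl_val (n k : ℕ) (hk : k ≤ n) (b : Fin k) :
    (((splitEquiv n k hk).symm (Sum.inl b) : Fin n) : ℕ) = (b : ℕ) := by
  simp [splitEquiv]

theorem splitEquiv_symm_inr_val (n k : ℕ) (hk : k ≤ n) (a : Fin (n - k)) :
    (((splitEquiv n k hk).symm (Sum.inr a) : Fin n) : ℕ) = k + (a : ℕ) := by
  simp [splitEquiv]

end Split

end Cfsg.Agent.Lib.Helper5
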