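import Cfsg.Agent.Lib.Helper17.CTIA1
import Cfsg.Agent.Lib.Helper4.Schmidt4

/-!
# Package B of helper23's S4064 project (CTI-groups)

`eq_top_of_normal_PSLlike`: in a finite CTI-group a normal subgroup of abstract `PSL₂(2ⁿ)` type
is the whole group.

Proof (all inside `G`, `P` the Sylow 2-subgroup of `S`, `t ∈ P#`).  By the Frattini argument and
the fusion of `P#` in `N_S(P)`, `G = S * C_G(t)`.  `C_G(t)` is nilpotent.
* An element `z` of odd prime order `r` of `C_G(t)` centralizes `P` and `C_S(z) = P`; counting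
  fixed points of `z` on `S` and on `N_S(P)` gives `|S| ≡ |N_S(P)| ≡ q (mod r)`, and
  `|S| = (q + 1) |N_S(P)|` forces `r ∣ q ^ 2`.  So every `C_G(t)` is a 2-group.
* `C_G(t)` normalizes `C_G(t')` (CTI), so their join is a 2-group meeting `S` in `P`, whence
  `C_G(t) = C_G(t')` for `t, t' ∈ P#`: there is `x ∉ S` centralizing `P`.
* an element `d` of odd prime order of `N_S(P)` stabilizes the coset `x P`, which has `q`
  elements, so it centralizes some `w ∈ x P`; `C_G(w)` is nilpotent and contains `d` and `P`,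
  so `d` centralizes `P`, `d ∈ C_S(t) = P`, a contradiction.
-/

set_option autoImplicit false

namespace Cfsg.Agent.Lib.Helper5.CTIB

open Cfsg Cfsg.Agent.Lib.Helper23.CTI Cfsg.Agent.Lib.Helper17.CTIA

variable {G : Type*} [Group G]

/-- fixed points of a conjugation of prime-power order on an invariant set -/
theorem ncard_modEq_fixed [Finite G] {r : ℕ} [Fact r.Prime] {z : G} (hz : z ^ r = 1)
    (X : Set G) (hX : ∀ x ∈ X, z * x * z⁻¹ ∈ X) :
    X.ncard ≡ {x | x ∈ X ∧ z * x * z⁻¹ = x}.ncard [MOD r] := by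
  classical
  haveI : Fintype G := Fintype.ofFinite G
  let f : Function.End X := fun x => ⟨z * x.1 * z⁻¹, hX x.1 x.2⟩
  have hpow : ∀ (k : ℕ) (x : X), ((f ^ k) x : G) = z ^ k * x.1 * (z ^ k)⁻¹ := by
    intro k
    induction k with
    | zero => intro x; rw [pow_zero, pow_zero, inv_one, one_mul, mul_one]; rfl
    | succ k ih =>
      intro x
      rw [pow_succ']
      show z * ((f ^ k) x : G) * z⁻¹ = _
      rw [ih, pow_succ']
      group
  have hf : f ^ r ^ 1 = 1 := by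
    rw [pow_one]
    funext x
    apply Subtype.ext
    rw [hpow, hz, inv_one, one_mul, mul_one]
    rfl
  have key := Equiv.Perm.card_fixedPoints_modEq (f := f) (p := r) (n := 1) hf
  have e1 : Fintype.card X = X.ncard := by
    rw [← Nat.card_eq_fintype_card, Nat.card_coe_set_eq]
  have e2 : Fintype.card (Function.fixedPoints f) = {x | x ∈ X ∧ z * x * z⁻¹ = x}.ncard := by
    rw [← Nat.card_eq_fintype_card, Nat.card_coe_set_eq,
      ← Set.ncard_image_of_injective _ Subtype.val_injective]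
    congr 1
    ext x
    constructor
    · rintro ⟨y, hy, rfl⟩
      exact ⟨y.2, congrArg Subtype.val hy⟩
    · rintro ⟨hx, hfx⟩
      exact ⟨⟨x, hx⟩, Subtype.ext hfx, rfl⟩
  rw [e1, e2] at key
  exact key

theorem exists_fixed_of_not_dvd [Finite G] {r : ℕ} [Fact r.Prime] {z : G} (hz : z ^ r = 1)
    (X : Set G) (hX : ∀ x ∈ X, z * x * z⁻¹ ∈ X) (hnd : ¬ r ∣ X.ncard) :
    ∃ x ∈ X, z * x * z⁻¹ = x := by
  by_contra hne
  have h := ncard_modEq_fixed hz X hX
  have he : {x | x ∈ X ∧ z * x * z⁻¹ = x} = ∅ := by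
    ext x
    simp only [Set.mem_setOf_eq, Set.mem_empty_iff_false, iff_false, not_and]
    intro hx hfx
    exact hne ⟨x, hx, hfx⟩
  rw [he, Set.ncard_empty] at h
  exact hnd ((Nat.modEq_zero_iff_dvd).mp h)

/-- a subgroup without elements of odd prime order is a 2-group -/
theorem isPGroup_two_of_no_odd [Finite G] (Q : Subgroup G)
    (hQ : ∀ y ∈ Q, ∀ l : ℕ, l.Prime → l ≠ 2 → orderOf y ≠ l) : IsPGroup 2 Q := by
  have hcard : ∀ {l : ℕ}, l.Prime → l ∣ Nat.card Q → l = 2 := by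
    intro l hl hdvd
    by_contra hne
    haveI : Fact l.Prime := ⟨hl⟩
    obtain ⟨y, hy⟩ := exists_prime_orderOf_dvd_card' l hdvd
    exact hQ y.1 y.2 l hl hne (by rw [← hy, Subgroup.orderOf_coe])
  exact IsPGroup.of_card (Nat.eq_prime_pow_of_unique_prime_dvd Nat.card_pos.ne' hcard)

theorem isPGroup_zpowers {p k : ℕ} {a : G} (h : a ^ p ^ k = 1) :
    IsPGroup p (Subgroup.zpowers a) := by
  rintro ⟨y, hy⟩
  obtain ⟨j, rfl⟩ := Subgroup.mem_zpowers_iff.mp hy
  refine ⟨k, Subtype.ext ?_⟩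
  show (a ^ j) ^ p ^ k = 1
  rw [← zpow_natCast, ← zpow_mul, mul_comm, zpow_mul, zpow_natCast, h, one_zpow]

/-- in a CTI-group, a 2-element and an element of odd prime order which both centralize a
non-identity element commute -/
theorem commute_of_cn [Finite G] (h : IsCTI G) {w a b : G} (hw : w ≠ 1) (ha : a * w = w * a)
    (hb : b * w = w * b) {k : ℕ} (hak : a ^ 2 ^ k = 1) {l : ℕ} (hl : l.Prime) (hl2 : l ≠ 2)
    (hbl : b ^ l = 1) : a * b = b * a := by
  haveI : Fact l.Prime := ⟨hl⟩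
  haveI : Fact (2 : ℕ).Prime := ⟨Nat.prime_two⟩
  have hnil := isCTI_cn h w hw
  have hA : IsPGroup 2 (Subgroup.zpowers a) := isPGroup_zpowers hak
  have hB : IsPGroup l (Subgroup.zpowers b) := isPGroup_zpowers (k := 1) (by rwa [pow_one])
  have hAL : Subgroup.zpowers a ≤ Subgroup.centralizer ({w} : Set G) := by
    rw [Subgroup.zpowers_le]; exact mem_cent_singleton.2 ha.symm
  have hBL : Subgroup.zpowers b ≤ Subgroup.centralizer ({w} : Set G) := by
    rw [Subgroup.zpowers_le]; exact mem_cent_singleton.2 hb.symm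
  exact Cfsg.Agent.Lib.Helper4.commute_of_nilpotent_le _ hnil (fun e => hl2 e.symm)
    (Subgroup.zpowers a) (Subgroup.zpowers b) hAL hBL hA hB a (Subgroup.mem_zpowers a) b
    (Subgroup.mem_zpowers b)

theorem two_of_prime_dvd_two_pow {l j : ℕ} (hl : l.Prime) (h : l ∣ 2 ^ j) : l = 2 :=
  (Nat.prime_dvd_prime_iff_eq hl Nat.prime_two).mp (hl.dvd_of_dvd_pow h)

/-- the core of package B, with all hypotheses stated inside `G` -/
theorem core [Finite G] (h : IsCTI G) (S P : Subgroup G) [hSn : S.Normal]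
    (hPS : P ≤ S) (hP2 : IsPGroup 2 P)
    (hmax : ∀ Q : Subgroup G, IsPGroup 2 Q → P ≤ Q → Q ≤ S → Q ≤ P)
    (hfrat : ∀ g : G, ∃ s ∈ S, ∀ p, p ∈ P ↔ (s * g) * p * (s * g)⁻¹ ∈ P)
    (hcent : ∀ t ∈ P, t ≠ 1 → ∀ s ∈ S, s * t = t * s → s ∈ P)
    (hab : ∀ a ∈ P, ∀ b ∈ P, a * b = b * a)
    (hfus : ∀ s ∈ P, s ≠ 1 → ∀ t ∈ P, t ≠ 1 →
      ∃ n ∈ S, (∀ p, p ∈ P ↔ n * p * n⁻¹ ∈ P) ∧ n * s * n⁻¹ = t)
    (hidx : Nat.card S =
      (Nat.card P + 1) * {x : G | x ∈ S ∧ ∀ p, p ∈ P ↔ x * p * x⁻¹ ∈ P}.ncard)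
    (h4 : 4 ≤ Nat.card P) : S = ⊤ := by
  classical
  haveI : Fact (2 : ℕ).Prime := ⟨Nat.prime_two⟩
  -- two distinct non-identity elements of `P`
  obtain ⟨s₀, hs₀, hs₀1, t₀, ht₀, ht₀1, hst⟩ :
      ∃ s₀ ∈ P, s₀ ≠ 1 ∧ ∃ t₀ ∈ P, t₀ ≠ 1 ∧ s₀ ≠ t₀ := by
    haveI : Fintype P := Fintype.ofFinite P
    have h3 : 2 < Fintype.card P := by rw [← Nat.card_eq_fintype_card]; omega
    obtain ⟨a, b, c, hab', hac, hbc⟩ := Fintype.two_lt_card_iff.mp h3
    have hv : ∀ {u v : P}, u ≠ v → (u : G) ≠ (v : G) := fun huv e => huv (Subtype.ext e)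
    by_cases ha : (a : G) = 1
    · have hb : (b : G) ≠ 1 := fun e => hv hab' (ha.trans e.symm)
      have hc : (c : G) ≠ 1 := fun e => hv hac (ha.trans e.symm)
      exact ⟨b, b.2, hb, c, c.2, hc, hv hbc⟩
    · by_cases hb : (b : G) = 1
      · have hc : (c : G) ≠ 1 := fun e => hv hbc (hb.trans e.symm)
        exact ⟨a, a.2, ha, c, c.2, hc, hv hac⟩
      · exact ⟨a, a.2, ha, b, b.2, hb, hv hab'⟩
  -- `G = S * C_G(t)`
  have hB : ∀ t ∈ P, t ≠ 1 → ∀ g : G, ∃ s ∈ S, ∃ c : G, c * t = t * c ∧ g = s * c := by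
    intro t ht ht1 g
    obtain ⟨s₁, hs₁, hn⟩ := hfrat g
    have ht' : (s₁ * g) * t * (s₁ * g)⁻¹ ∈ P := (hn t).mp ht
    have ht'1 : (s₁ * g) * t * (s₁ * g)⁻¹ ≠ 1 := fun e => ht1 (conj_eq_one_iff.mp e)
    obtain ⟨m, hmS, -, hmt⟩ := hfus _ ht' ht'1 t ht ht1
    refine ⟨s₁⁻¹ * m⁻¹, S.mul_mem (S.inv_mem hs₁) (S.inv_mem hmS), m * (s₁ * g), ?_, ?_⟩
    · calc m * (s₁ * g) * t
          = (m * ((s₁ * g) * t * (s₁ * g)⁻¹) * m⁻¹) * (m * (s₁ * g)) := by group
        _ = t * (m * (s₁ * g)) := by rw [hmt]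
    · group
  -- the odd case
  have hodd : ∀ t ∈ P, t ≠ 1 → ∀ z : G, z * t = t * z →
      ∀ r : ℕ, r.Prime → r ≠ 2 → orderOf z ≠ r := by
    intro t ht ht1 z hzt r hr hr2 hzr
    haveI : Fact r.Prime := ⟨hr⟩
    have hz1 : z ≠ 1 := by
      rintro rfl
      rw [orderOf_one] at hzr
      exact hr.ne_one hzr.symm
    have hzr' : z ^ r = 1 := by rw [← hzr]; exact pow_orderOf_eq_one z
    have hD1 : ∀ p ∈ P, p * z = z * p := by
      intro p hp
      obtain ⟨k, hk⟩ := hP2 ⟨p, hp⟩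
      have hk' : p ^ 2 ^ k = 1 := congrArg Subtype.val hk
      exact commute_of_cn h ht1 (hab p hp t ht) hzt hk' hr hr2 hzr'
    have hD2 : ∀ s ∈ S, s * z = z * s → s ∈ P := by
      intro s hs hsz
      have hQ2 : IsPGroup 2 (S ⊓ Subgroup.centralizer ({z} : Set G) : Subgroup G) := by
        apply isPGroup_two_of_no_odd
        intro y hy l hl hl2 hyl
        have hyS : y ∈ S := hy.1
        have hyz : z * y = y * z := mem_cent_singleton.1 hy.2
        have hyl' : y ^ l = 1 := by rw [← hyl]; exact pow_orderOf_eq_one y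
        obtain ⟨k, hk⟩ := hP2 ⟨t, ht⟩
        have hk' : t ^ 2 ^ k = 1 := congrArg Subtype.val hk
        have hty : t * y = y * t := commute_of_cn h hz1 (hD1 t ht) hyz.symm hk' hl hl2 hyl'
        have hyP : y ∈ P := hcent t ht ht1 y hyS hty.symm
        obtain ⟨j, hj⟩ := hP2 ⟨y, hyP⟩
        have hj' : y ^ 2 ^ j = 1 := congrArg Subtype.val hj
        have hdvd : l ∣ 2 ^ j := by rw [← hyl]; exact orderOf_dvd_of_pow_eq_one hj'
        exact hl2 (two_of_prime_dvd_two_pow hl hdvd)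
      have hPQ : P ≤ S ⊓ Subgroup.centralizer ({z} : Set G) :=
        fun p hp => ⟨hPS hp, mem_cent_singleton.2 (hD1 p hp).symm⟩
      exact hmax _ hQ2 hPQ inf_le_left ⟨hs, mem_cent_singleton.2 hsz.symm⟩
    have hzP : ∀ p', p' ∈ P ↔ z * p' * z⁻¹ ∈ P := by
      intro p'
      constructor
      · intro hp'; rw [← hD1 p' hp', mul_inv_cancel_right]; exact hp'
      · intro hp'
        have h1 : z * p' * z⁻¹ * z = z * (z * p' * z⁻¹) := hD1 _ hp'
        rw [inv_mul_cancel_right] at h1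
        have e2 : p' = z * p' * z⁻¹ := mul_left_cancel h1
        rw [e2]; exact hp'
    have hzP' : ∀ p', p' ∈ P ↔ z⁻¹ * p' * z ∈ P := by
      intro p'
      rw [hzP (z⁻¹ * p' * z)]
      have e : z * (z⁻¹ * p' * z) * z⁻¹ = p' := by group
      rw [e]
    -- fixed points on `S`
    have hfixS : {x | x ∈ (S : Set G) ∧ z * x * z⁻¹ = x} = (P : Set G) := by
      ext x
      constructor
      · rintro ⟨hxS, hx⟩
        exact hD2 x hxS (mul_inv_eq_iff_eq_mul.mp hx).symm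
      · intro hxP
        exact ⟨hPS hxP, by rw [← hD1 x hxP, mul_inv_cancel_right]⟩
    have hinvS : ∀ x ∈ (S : Set G), z * x * z⁻¹ ∈ (S : Set G) :=
      fun x hx => hSn.conj_mem x hx z
    have hmodS := ncard_modEq_fixed hzr' (S : Set G) hinvS
    rw [hfixS] at hmodS
    -- fixed points on `N_S(P)`
    have hinvN : ∀ x ∈ {x : G | x ∈ S ∧ ∀ p, p ∈ P ↔ x * p * x⁻¹ ∈ P},
        z * x * z⁻¹ ∈ {x : G | x ∈ S ∧ ∀ p, p ∈ P ↔ x * p * x⁻¹ ∈ P} := by
      rintro x ⟨hxS, hxN⟩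
      refine ⟨hSn.conj_mem x hxS z, fun p => ?_⟩
      have e : z * x * z⁻¹ * p * (z * x * z⁻¹)⁻¹ = z * (x * (z⁻¹ * p * z) * x⁻¹) * z⁻¹ := by
        group
      rw [e, ← hzP, ← hxN, ← hzP']
    have hfixN : {x | x ∈ {x : G | x ∈ S ∧ ∀ p, p ∈ P ↔ x * p * x⁻¹ ∈ P} ∧ z * x * z⁻¹ = x}
        = (P : Set G) := by
      ext x
      constructor
      · rintro ⟨⟨hxS, _⟩, hx⟩
        exact hD2 x hxS (mul_inv_eq_iff_eq_mul.mp hx).symm
      · intro hxP
        refine ⟨⟨hPS hxP, fun p => ?_⟩, by rw [← hD1 x hxP, mul_inv_cancel_right]⟩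
        constructor
        · intro hp; rw [hab x hxP p hp, mul_inv_cancel_right]; exact hp
        · intro hp
          have e : p = x⁻¹ * (x * p * x⁻¹) * x := by group
          rw [e]; exact P.mul_mem (P.mul_mem (P.inv_mem hxP) hp) hxP
    have hmodN := ncard_modEq_fixed hzr' _ hinvN
    rw [hfixN] at hmodN
    have hq : (P : Set G).ncard = Nat.card P := (Nat.card_coe_set_eq _).symm
    have hS' : (S : Set G).ncard = Nat.card S := (Nat.card_coe_set_eq _).symm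
    rw [hq] at hmodS hmodN
    rw [hS', hidx] at hmodS
    have h1 : (Nat.card P + 1) * Nat.card P ≡ Nat.card P [MOD r] :=
      (Nat.ModEq.mul_left _ hmodN).symm.trans hmodS
    have h2 : r ∣ (Nat.card P + 1) * Nat.card P - Nat.card P := h1.symm.dvd'
    have e : (Nat.card P + 1) * Nat.card P - Nat.card P = Nat.card P * Nat.card P := by
      rw [add_mul, one_mul, Nat.add_sub_cancel]
    rw [e] at h2
    have h3 : r ∣ Nat.card P := (hr.dvd_mul.mp h2).elim id id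
    obtain ⟨k, hk⟩ := IsPGroup.iff_card.mp hP2
    rw [hk] at h3
    exact hr2 (two_of_prime_dvd_two_pow hr h3)
  -- every `C_G(t)` is a 2-group
  have hC2 : ∀ t ∈ P, t ≠ 1 → IsPGroup 2 (Subgroup.centralizer ({t} : Set G)) := by
    intro t ht ht1
    apply isPGroup_two_of_no_odd
    intro y hy l hl hl2
    exact hodd t ht ht1 y (mem_cent_singleton.1 hy).symm l hl hl2
  -- `C_G(t)` normalizes `P`
  have hCN : ∀ t ∈ P, t ≠ 1 → ∀ x : G, x * t = t * x → ∀ p ∈ P, x * p * x⁻¹ ∈ P := by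
    intro t ht ht1 x hxt p hp
    apply hcent t ht ht1 _ (hSn.conj_mem p (hPS hp) x)
    have e1 : x⁻¹ * t * x = t := by rw [mul_assoc, ← hxt, inv_mul_cancel_left]
    calc x * p * x⁻¹ * t = x * (p * (x⁻¹ * t * x)) * x⁻¹ := by group
      _ = x * ((x⁻¹ * t * x) * p) * x⁻¹ := by rw [e1, hab p hp t ht]
      _ = t * (x * p * x⁻¹) := by group
  -- `C_G(t') ≤ C_G(t)`
  have hE1 : ∀ t ∈ P, t ≠ 1 → ∀ t' ∈ P, t' ≠ 1 → ∀ y : G, y * t' = t' * y → y * t = t * y := by
    intro t ht ht1 t' ht' ht'1 y hyt'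
    obtain ⟨s, hsS, c, hct, hyc⟩ := hB t ht ht1 y
    have hnorm : Subgroup.centralizer ({t} : Set G) ≤
        Subgroup.normalizer ((Subgroup.centralizer ({t'} : Set G) : Subgroup G) : Set G) := by
      intro x hx
      have hxt : x * t = t * x := (mem_cent_singleton.1 hx).symm
      have h1 : t' ∈ Subgroup.centralizer ({t'} : Set G) := mem_cent_singleton.2 rfl
      have h2 : x * t' * x⁻¹ ∈ Subgroup.centralizer ({t'} : Set G) := by
        rw [mem_cent_singleton]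
        exact hab t' ht' _ (hCN t ht ht1 x hxt t' ht')
      exact cti_mem_normalizer h h1 ht'1 h2
    have hU2 : IsPGroup 2 (Subgroup.centralizer ({t} : Set G) ⊔
        Subgroup.centralizer ({t'} : Set G) : Subgroup G) :=
      IsPGroup.to_sup_of_normal_right' (hC2 t ht ht1) (hC2 t' ht' ht'1) hnorm
    have hQ2 : IsPGroup 2 ((Subgroup.centralizer ({t} : Set G) ⊔
        Subgroup.centralizer ({t'} : Set G)) ⊓ S : Subgroup G) := hU2.to_le inf_le_left
    have hPQ : P ≤ (Subgroup.centralizer ({t} : Set G) ⊔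
        Subgroup.centralizer ({t'} : Set G)) ⊓ S :=
      fun p hp => ⟨Subgroup.mem_sup_left (mem_cent_singleton.2 (hab t ht p hp)), hPS hp⟩
    have hsP : s ∈ P := by
      apply hmax _ hQ2 hPQ inf_le_right
      refine ⟨?_, hsS⟩
      have e : s = y * c⁻¹ := by rw [hyc]; group
      rw [e]
      exact Subgroup.mul_mem _ (Subgroup.mem_sup_right (mem_cent_singleton.2 hyt'.symm))
        (Subgroup.inv_mem _ (Subgroup.mem_sup_left (mem_cent_singleton.2 hct.symm)))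
    rw [hyc]
    calc s * c * t = s * (c * t) := mul_assoc _ _ _
      _ = s * (t * c) := by rw [hct]
      _ = (s * t) * c := (mul_assoc _ _ _).symm
      _ = (t * s) * c := by rw [hab s hsP t ht]
      _ = t * (s * c) := mul_assoc _ _ _
  -- now assume `S ≠ ⊤`
  by_contra hne
  obtain ⟨g, hg⟩ : ∃ g, g ∉ S := by
    by_contra hall
    exact hne (eq_top_iff.mpr fun x _ => by_contra fun hx => hall ⟨x, hx⟩)
  obtain ⟨s, hsS, x, hxt, hgx⟩ := hB t₀ ht₀ ht₀1 g
  have hxS : x ∉ S := fun hx => hg (hgx ▸ S.mul_mem hsS hx)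
  have hxP : ∀ p ∈ P, x * p = p * x := by
    intro p hp
    by_cases hp1 : p = 1
    · rw [hp1, mul_one, one_mul]
    · exact hE1 p hp hp1 t₀ ht₀ ht₀1 x hxt
  -- an element of odd prime order of `N_S(P)`
  have hd : ∃ d ∈ S, (∀ p, p ∈ P ↔ d * p * d⁻¹ ∈ P) ∧
      ∃ l : ℕ, l.Prime ∧ l ≠ 2 ∧ orderOf d = l := by
    by_contra hno
    have hN2 : IsPGroup 2 (S ⊓ Subgroup.normalizer ((P : Subgroup G) : Set G) : Subgroup G) := by
      apply isPGroup_two_of_no_odd
      intro y hy l hl hl2 hyl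
      exact hno ⟨y, hy.1, Subgroup.mem_set_normalizer_iff.mp hy.2, l, hl, hl2, hyl⟩
    have hPN : P ≤ S ⊓ Subgroup.normalizer ((P : Subgroup G) : Set G) :=
      fun p hp => ⟨hPS hp, Subgroup.le_normalizer hp⟩
    have hNP := hmax _ hN2 hPN inf_le_left
    obtain ⟨n, hnS, hnN, hns⟩ := hfus s₀ hs₀ hs₀1 t₀ ht₀ ht₀1
    have hnP : n ∈ P := hNP ⟨hnS, Subgroup.mem_set_normalizer_iff.mpr hnN⟩
    apply hst
    rw [← hns, hab n hnP s₀ hs₀, mul_inv_cancel_right]
  obtain ⟨d, hdS, hdN, l, hl, hl2, hdl⟩ := hd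
  haveI : Fact l.Prime := ⟨hl⟩
  have hdl' : d ^ l = 1 := by rw [← hdl]; exact pow_orderOf_eq_one d
  -- the coset `x P` is stable under `d`
  have hdP : ∀ p' ∈ P, d⁻¹ * p' * d ∈ P := by
    intro p' hp'
    rw [hdN]
    have e : d * (d⁻¹ * p' * d) * d⁻¹ = p' := by group
    rw [e]; exact hp'
  have he : x⁻¹ * (d * x * d⁻¹) ∈ P := by
    apply hcent t₀ ht₀ ht₀1
    · have e : x⁻¹ * (d * x * d⁻¹) = (x⁻¹ * d * x⁻¹⁻¹) * d⁻¹ := by group
      rw [e]
      exact S.mul_mem (hSn.conj_mem d hdS x⁻¹) (S.inv_mem hdS)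
    · have h1 := hxP _ (hdP t₀ ht₀)
      have h2 : d * x * d⁻¹ * t₀ = t₀ * (d * x * d⁻¹) := by
        calc d * x * d⁻¹ * t₀ = d * (x * (d⁻¹ * t₀ * d)) * d⁻¹ := by group
          _ = d * ((d⁻¹ * t₀ * d) * x) * d⁻¹ := by rw [h1]
          _ = t₀ * (d * x * d⁻¹) := by group
      have h3 := hxP t₀ ht₀
      have e3 : x⁻¹ * t₀ * x = t₀ := by rw [mul_assoc, ← h3, inv_mul_cancel_left]
      calc x⁻¹ * (d * x * d⁻¹) * t₀ = x⁻¹ * (d * x * d⁻¹ * t₀) := by group
        _ = x⁻¹ * (t₀ * (d * x * d⁻¹)) := by rw [h2]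
        _ = (x⁻¹ * t₀ * x) * (x⁻¹ * (d * x * d⁻¹)) := by group
        _ = t₀ * (x⁻¹ * (d * x * d⁻¹)) := by rw [e3]
  have hXinv : ∀ w ∈ (fun p => x * p) '' (P : Set G),
      d * w * d⁻¹ ∈ (fun p => x * p) '' (P : Set G) := by
    rintro _ ⟨p, hp, rfl⟩
    refine ⟨(x⁻¹ * (d * x * d⁻¹)) * (d * p * d⁻¹), P.mul_mem he ((hdN p).mp hp), ?_⟩
    show x * ((x⁻¹ * (d * x * d⁻¹)) * (d * p * d⁻¹)) = d * (x * p) * d⁻¹
    group
  have hXcard : ((fun p => x * p) '' (P : Set G)).ncard = Nat.card P := by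
    rw [Set.ncard_image_of_injective _ (mul_right_injective x)]
    exact (Nat.card_coe_set_eq _).symm
  have hnd : ¬ l ∣ ((fun p => x * p) '' (P : Set G)).ncard := by
    rw [hXcard]
    obtain ⟨k, hk⟩ := IsPGroup.iff_card.mp hP2
    rw [hk]
    intro hdvd
    exact hl2 (two_of_prime_dvd_two_pow hl hdvd)
  obtain ⟨w, hwX, hdw⟩ := exists_fixed_of_not_dvd hdl' _ hXinv hnd
  obtain ⟨p, hp, rfl⟩ := hwX
  have hwS : x * p ∉ S := fun hw => hxS (by
    have := S.mul_mem hw (S.inv_mem (hPS hp))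
    rwa [mul_inv_cancel_right] at this)
  have hw1 : x * p ≠ 1 := fun e => hwS (e ▸ S.one_mem)
  have hwt : t₀ * (x * p) = (x * p) * t₀ := by
    calc t₀ * (x * p) = (t₀ * x) * p := (mul_assoc _ _ _).symm
      _ = (x * t₀) * p := by rw [hxP t₀ ht₀]
      _ = x * (t₀ * p) := mul_assoc _ _ _
      _ = x * (p * t₀) := by rw [hab t₀ ht₀ p hp]
      _ = (x * p) * t₀ := (mul_assoc _ _ _).symm
  have hdw' : d * (x * p) = (x * p) * d := mul_inv_eq_iff_eq_mul.mp hdw
  obtain ⟨k, hk⟩ := hP2 ⟨t₀, ht₀⟩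
  have hk' : t₀ ^ 2 ^ k = 1 := congrArg Subtype.val hk
  have hcomm : t₀ * d = d * t₀ := commute_of_cn h hw1 hwt hdw' hk' hl hl2 hdl'
  have hdP' : d ∈ P := hcent t₀ ht₀ ht₀1 d hdS hcomm.symm
  obtain ⟨j, hj⟩ := hP2 ⟨d, hdP'⟩
  have hj' : d ^ 2 ^ j = 1 := congrArg Subtype.val hj
  have hdvd : l ∣ 2 ^ j := by rw [← hdl]; exact orderOf_dvd_of_pow_eq_one hj'
  exact hl2 (two_of_prime_dvd_two_pow hl hdvd)

theorem mem_map_subtype_iff (S : Subgroup G) (K : Subgroup S) (x : G) :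
    x ∈ K.map S.subtype ↔ ∃ hx : x ∈ S, (⟨x, hx⟩ : S) ∈ K := by
  rw [Subgroup.mem_map]
  constructor
  · rintro ⟨y, hy, rfl⟩; exact ⟨y.2, hy⟩
  · rintro ⟨hx, hy⟩; exact ⟨⟨x, hx⟩, hy, rfl⟩

/-- normalizing a subgroup of `S` inside `S`, expressed in `G` -/
theorem normalizer_transfer (S : Subgroup G) (K : Subgroup S) (n : S) :
    n ∈ Subgroup.normalizer ((K : Subgroup S) : Set S) ↔
      ∀ p : G, p ∈ K.map S.subtype ↔ (n : G) * p * (n : G)⁻¹ ∈ K.map S.subtype := by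
  rw [Subgroup.mem_set_normalizer_iff]
  constructor
  · intro hn p
    rw [mem_map_subtype_iff, mem_map_subtype_iff]
    constructor
    · rintro ⟨hpS, hpK⟩
      refine ⟨S.mul_mem (S.mul_mem n.2 hpS) (S.inv_mem n.2), ?_⟩
      exact (hn ⟨p, hpS⟩).mp hpK
    · rintro ⟨hpS', hpK⟩
      have hpS : p ∈ S := by
        have e : p = (n : G)⁻¹ * ((n : G) * p * (n : G)⁻¹) * (n : G) := by group
        rw [e]; exact S.mul_mem (S.mul_mem (S.inv_mem n.2) hpS') n.2
      refine ⟨hpS, (hn ⟨p, hpS⟩).mpr ?_⟩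
      exact hpK
  · intro hn y
    have h1 := hn (y : G)
    rw [mem_map_subtype_iff, mem_map_subtype_iff] at h1
    constructor
    · intro hy
      obtain ⟨_, h2⟩ := h1.mp ⟨y.2, hy⟩
      exact h2
    · intro hy
      obtain ⟨_, h2⟩ := h1.mpr ⟨S.mul_mem (S.mul_mem n.2 y.2) (S.inv_mem n.2), hy⟩
      exact h2

/-- **Package B**: in a finite CTI-group, a normal subgroup of abstract `PSL₂(2ⁿ)` type is the
whole group. -/
theorem eq_top_of_normal_PSLlike [Finite G] (h : IsCTI G) (S : Subgroup G) [S.Normal]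
    (hS : PSLlike S) : S = ⊤ := by
  classical
  obtain ⟨P₀, h4, hcent₀, hfus₀, hidx₀⟩ := hS.exists_syl
  haveI : Fact (2 : ℕ).Prime := ⟨Nat.prime_two⟩
  have hmem := mem_map_subtype_iff S (P₀ : Subgroup S)
  have hPS : (P₀ : Subgroup S).map S.subtype ≤ S := fun x hx => ((hmem x).mp hx).1
  have hcardP : Nat.card ((P₀ : Subgroup S).map S.subtype) = Nat.card (P₀ : Subgroup S) :=
    Subgroup.card_map_of_injective S.subtype_injective
  apply core h S ((P₀ : Subgroup S).map S.subtype) hPS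
  · exact P₀.2.map S.subtype
  · -- maximality
    intro Q hQ2 hPQ hQS
    have h1 : IsPGroup 2 (Q.subgroupOf S) := hQ2.comap_subtype
    have h2 : (P₀ : Subgroup S) ≤ Q.subgroupOf S := by
      intro y hy
      rw [Subgroup.mem_subgroupOf]
      exact hPQ ((hmem y.1).mpr ⟨y.2, hy⟩)
    have h3 := P₀.is_maximal' h1 h2
    intro x hx
    rw [hmem]
    refine ⟨hQS hx, ?_⟩
    have : (⟨x, hQS hx⟩ : S) ∈ Q.subgroupOf S := by rw [Subgroup.mem_subgroupOf]; exact hx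
    rw [h3] at this
    exact this
  · -- Frattini
    intro g
    have hsup := Sylow.normalizer_sup_eq_top P₀
    have hg : g⁻¹ ∈ (Subgroup.normalizer (((P₀ : Subgroup S).map S.subtype : Subgroup G) : Set G) ⊔
        S : Subgroup G) := by rw [hsup]; exact Subgroup.mem_top _
    rw [← SetLike.mem_coe, Subgroup.mul_normal, Set.mem_mul] at hg
    obtain ⟨n, hn, s, hs, hns⟩ := hg
    refine ⟨s, hs, ?_⟩
    have e : s * g = n⁻¹ := by
      have e1 : g = (n * s)⁻¹ := by rw [hns, inv_inv]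
      rw [e1]; group
    rw [e]
    exact Subgroup.mem_set_normalizer_iff.mp (Subgroup.inv_mem _ hn)
  · -- centralizers
    intro t ht ht1 s hs hst
    obtain ⟨htS, htP₀⟩ := (hmem t).mp ht
    have ht1' : (⟨t, htS⟩ : S) ≠ 1 := fun e => ht1 (congrArg Subtype.val e)
    have hc := hcent₀ ⟨t, htS⟩ htP₀ ht1'
    rw [hmem]
    refine ⟨hs, ?_⟩
    rw [← hc, mem_cent_singleton]
    exact Subtype.ext hst.symm
  · -- `P` abelian
    intro a ha b hb
    by_cases ha1 : a = 1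
    · rw [ha1, one_mul, mul_one]
    obtain ⟨haS, haP₀⟩ := (hmem a).mp ha
    obtain ⟨hbS, hbP₀⟩ := (hmem b).mp hb
    have ha1' : (⟨a, haS⟩ : S) ≠ 1 := fun e => ha1 (congrArg Subtype.val e)
    have hc := hcent₀ ⟨a, haS⟩ haP₀ ha1'
    have hbc : (⟨b, hbS⟩ : S) ∈ Subgroup.centralizer ({(⟨a, haS⟩ : S)} : Set S) := by
      rw [hc]; exact hbP₀
    exact congrArg Subtype.val (mem_cent_singleton.1 hbc)
  · -- fusion
    intro s hs hs1 t ht ht1
    obtain ⟨hsS, hsP₀⟩ := (hmem s).mp hs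
    obtain ⟨htS, htP₀⟩ := (hmem t).mp ht
    obtain ⟨n, hn, hnst⟩ := hfus₀ ⟨s, hsS⟩ hsP₀ (fun e => hs1 (congrArg Subtype.val e))
      ⟨t, htS⟩ htP₀ (fun e => ht1 (congrArg Subtype.val e))
    exact ⟨n.1, n.2, (normalizer_transfer S (P₀ : Subgroup S) n).mp hn,
      congrArg Subtype.val hnst⟩
  · -- index
    have h1 : Nat.card S = (Subgroup.normalizer ((P₀ : Subgroup S) : Set S)).index *
        Nat.card (Subgroup.normalizer ((P₀ : Subgroup S) : Set S)) :=
      (Subgroup.index_mul_card _).symm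
    rw [hidx₀] at h1
    have hset : {x : G | x ∈ S ∧ ∀ p, p ∈ (P₀ : Subgroup S).map S.subtype ↔
        x * p * x⁻¹ ∈ (P₀ : Subgroup S).map S.subtype} =
        Subtype.val '' ((Subgroup.normalizer ((P₀ : Subgroup S) : Set S) : Subgroup S) : Set S) := by
      ext x
      constructor
      · rintro ⟨hxS, hxN⟩
        exact ⟨⟨x, hxS⟩, (normalizer_transfer S (P₀ : Subgroup S) ⟨x, hxS⟩).mpr hxN, rfl⟩
      · rintro ⟨y, hy, rfl⟩
        exact ⟨y.2, (normalizer_transfer S (P₀ : Subgroup S) y).mp hy⟩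
    rw [hset, Set.ncard_image_of_injective _ Subtype.val_injective, hcardP, h1]
    rfl
  · rw [hcardP]; exact h4

end Cfsg.Agent.Lib.Helper5.CTIB
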