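/-
helper5 (S2441): the key lemma for the defect dichotomy of the finite Chevalley groups
`D.group F` (adjoint type): a `p`-regular element centralizing a nontrivial radical `p`-subgroup is
trivial.  Borel-Tits (`S2154`, helper25) + the centralizer of `U_J` lies in `U` (helper11
`ChevParCent`) + helper27's `eq_of_radical`; then helper27's `SLDich.defect_zero_or_full`.
-/
import Mathlib
import Cfsg.Agent.S2154
import Cfsg.Agent.Lib.Helper11.ChevParCent
import Cfsg.Agent.Lib.Helper27.SLDich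
import Cfsg.Agent.Lib.Helper27.SLFlagB
import Cfsg.Agent.Lib.Helper7.ChevSylow
import Cfsg.Agent.Lib.Helper6.ChevStA

set_option autoImplicit false

namespace Cfsg.Agent.Lib.Helper5.ChevBlk

open Cfsg Cfsg.Lie Cfsg.Agent.Lib.Helper7 Cfsg.Agent.Lib.Helper11.ChevParCent

variable {F : Type*} [Field F] [Fintype F] (p : ℕ) [Fact p.Prime] [CharP F p]
variable (D : ChevalleyDatum) (hD : D ∈ [chevG2, chevB2, chevD4, chevF4, chevE6, chevE7, chevE8])

include hD in
/-- `U` is a `p`-group -/
theorem isPGroup_posUnipotent : IsPGroup p ↥(D.posUnipotent F) := by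
  obtain ⟨n, hp, hq⟩ := FiniteField.card F p
  apply IsPGroup.of_card (n := n * (D.nroots / 2))
  rw [card_posUnipotent D hD F, hq, pow_mul]

include hD in
/-- a `p`-regular element of `G` centralizing `U_J` (`J` proper) is trivial -/
theorem eq_one_of_centralizes_uJ (J : Set ℕ) (i0 : ℕ) (hi0 : i0 < D.rank) (hi0J : i0 ∉ J)
    (y : GL D.Idx F) (hyG : y ∈ D.group F)
    (hyC : y ∈ Subgroup.centralizer (D.unipotentRadical F J : Set (GL D.Idx F)))
    (hyp : ¬ p ∣ orderOf y) : y = 1 := by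
  obtain ⟨w, hw⟩ := exists_parCentFacts D hD
  have hyU : y ∈ D.posUnipotent F :=
    centralizer_uJ_inf_group_le_posUnipotent D hD F w hw J i0 hi0 hi0J
      (Subgroup.mem_inf.mpr ⟨hyC, hyG⟩)
  obtain ⟨k, hk⟩ := isPGroup_posUnipotent p D hD ⟨y, hyU⟩
  have h2 : orderOf (⟨y, hyU⟩ : D.posUnipotent F) ∣ p ^ k := orderOf_dvd_of_pow_eq_one hk
  rw [Subgroup.orderOf_mk] at h2
  obtain ⟨j, -, hoj⟩ := (Nat.dvd_prime_pow (Fact.out : p.Prime)).mp h2
  rcases Nat.eq_zero_or_pos j with rfl | hjpos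
  · rwa [pow_zero, orderOf_eq_one_iff] at hoj
  · exfalso
    apply hyp
    rw [hoj]
    exact dvd_pow_self p hjpos.ne'

include hD in
/-- **the key lemma**: a `p`-regular element centralizing a nontrivial radical `p`-subgroup of a
finite Chevalley group (adjoint type) is central (in fact trivial). -/
theorem chev_key (Dg : Subgroup ↥(D.group F)) (hDp : IsPGroup p Dg) (hne : Dg ≠ ⊥)
    (hrad : (Cfsg.pCore p (Subgroup.normalizer (Dg : Set ↥(D.group F)))).map
      (Subgroup.normalizer (Dg : Set ↥(D.group F))).subtype = Dg)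
    (x : ↥(D.group F)) (hx : x ∈ Subgroup.centralizer (Dg : Set ↥(D.group F)))
    (hxp : ¬ p ∣ orderOf x) : x ∈ Subgroup.center ↥(D.group F) := by
  classical
  have : Finite ↥(D.group F) := Cfsg.Agent.Lib.Helper6.ChevSt.finite_group D F
  set U0 : Subgroup (GL D.Idx F) := Dg.map (D.group F).subtype with hU0
  have hU0G : U0 ≤ D.group F := by
    rintro _ ⟨y, -, rfl⟩
    exact y.2
  have hU0p : IsPGroup p U0 := hDp.map _
  have hU0ne : U0 ≠ ⊥ := by
    intro h
    apply hne
    rw [eq_bot_iff]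
    intro y hy
    have h1 : (y : GL D.Idx F) ∈ U0 := ⟨y, hy, rfl⟩
    rw [h, Subgroup.mem_bot] at h1
    rw [Subgroup.mem_bot]
    exact Subtype.ext h1
  obtain ⟨g, hgG, J, ⟨i0, hi0, hi0J⟩, hN, hUle⟩ :=
    Cfsg.Agent.S2154.result p D hD U0 hU0G hU0p hU0ne
  obtain ⟨W, hW⟩ := exists_coefW D hD
  have hUJU : D.unipotentRadical F J ≤ D.posUnipotent F := by
    unfold ChevalleyDatum.unipotentRadical ChevalleyDatum.posUnipotent
    apply Subgroup.closure_mono
    rintro z ⟨r, t, hr, -, hz⟩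
    exact ⟨r, t, hr, hz⟩
  have hUG : D.posUnipotent F ≤ D.group F :=
    le_trans (posUnipotent_le_borel D hD F) (borel_le_group D hD F)
  set Q : Subgroup (GL D.Idx F) :=
    (D.unipotentRadical F J).map (MulAut.conj g).toMonoidHom with hQ
  have hQp : IsPGroup p Q := ((isPGroup_posUnipotent p D hD).to_le hUJU).map _
  set R : Subgroup ↥(D.group F) := Q.subgroupOf (D.group F) with hR
  have hRp : IsPGroup p R := hQp.comap_subtype
  have hDR : Dg ≤ R := by
    intro y hy
    rw [hR, Subgroup.mem_subgroupOf]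
    exact hUle ⟨y, hy, rfl⟩
  have hnorm : ∀ h ∈ Subgroup.normalizer (Dg : Set ↥(D.group F)), ∀ y ∈ R, h * y * h⁻¹ ∈ R := by
    intro h hh y hy
    rw [hR, Subgroup.mem_subgroupOf] at hy ⊢
    have h1 : (h : GL D.Idx F) ∈ Subgroup.normalizer (U0 : Set (GL D.Idx F)) ⊓ D.group F :=
      Subgroup.mem_inf.mpr ⟨Subgroup.le_normalizer_map (D.group F).subtype ⟨h, hh, rfl⟩, h.2⟩
    obtain ⟨b, hbP, hb⟩ := hN h1
    obtain ⟨u, huU, hu⟩ := hy
    have hbu : b * u * b⁻¹ ∈ D.unipotentRadical F J := by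
      have h2 := parabolic_le_normalizer_uJ D hD F W hW J hbP
      rw [Subgroup.mem_set_normalizer_iff] at h2
      exact (h2 u).mp huU
    refine ⟨b * u * b⁻¹, hbu, ?_⟩
    rw [map_mul, map_mul, map_inv, hb, hu]
    rfl
  have hRD := Cfsg.Agent.Lib.Helper27.SLFlagB.eq_of_radical p Dg R hDR hRp hnorm hrad
  -- `g⁻¹ x g` centralizes `U_J`
  have hx1 : (x : GL D.Idx F) = 1 := by
    have hy0 : g⁻¹ * (x : GL D.Idx F) * g = 1 := by
      apply eq_one_of_centralizes_uJ p D hD J i0 hi0 hi0J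
      · exact (D.group F).mul_mem ((D.group F).mul_mem ((D.group F).inv_mem hgG) x.2) hgG
      · rw [Subgroup.mem_centralizer_iff]
        intro u hu
        have huG : g * u * g⁻¹ ∈ D.group F :=
          (D.group F).mul_mem ((D.group F).mul_mem hgG (hUG (hUJU hu))) ((D.group F).inv_mem hgG)
        have huR : (⟨g * u * g⁻¹, huG⟩ : ↥(D.group F)) ∈ R := by
          rw [hR, Subgroup.mem_subgroupOf]
          exact ⟨u, hu, rfl⟩
        rw [hRD] at huR
        have h3 := Subgroup.mem_centralizer_iff.mp hx _ huR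
        have h4 : g * u * g⁻¹ * (x : GL D.Idx F) = (x : GL D.Idx F) * (g * u * g⁻¹) :=
          congrArg Subtype.val h3
        calc u * (g⁻¹ * (x : GL D.Idx F) * g)
            = g⁻¹ * (g * u * g⁻¹ * (x : GL D.Idx F)) * g := by group
          _ = g⁻¹ * ((x : GL D.Idx F) * (g * u * g⁻¹)) * g := by rw [h4]
          _ = g⁻¹ * (x : GL D.Idx F) * g * u := by group
      · have h6 : orderOf ((MulAut.conj g⁻¹).toMonoidHom (x : GL D.Idx F)) =
            orderOf (x : GL D.Idx F) :=
          orderOf_injective _ (MulAut.conj g⁻¹).injective _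
        have h7 : (MulAut.conj g⁻¹).toMonoidHom (x : GL D.Idx F) = g⁻¹ * (x : GL D.Idx F) * g := by
          show (MulAut.conj g⁻¹) (x : GL D.Idx F) = _
          rw [MulAut.conj_apply, inv_inv]
        rw [h7] at h6
        rw [h6, Subgroup.orderOf_coe]
        exact hxp
    calc (x : GL D.Idx F) = g * (g⁻¹ * (x : GL D.Idx F) * g) * g⁻¹ := by group
      _ = 1 := by rw [hy0]; group
  have : x = 1 := Subtype.ext hx1
  rw [this]
  exact Subgroup.one_mem _

include hD in
/-- **the defect dichotomy** for the finite Chevalley groups of adjoint type -/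
theorem chev_defect_zero_or_full (M : Ideal Cfsg.AlgInt) (hM : Cfsg.IsPModular p M)
    (B : Set (Cfsg.IrrCharacter ↥(D.group F))) (hB : Cfsg.IsPBlock M B) :
    Cfsg.blockDefect p B = 0 ∨
      Cfsg.blockDefect p B = (Nat.card ↥(D.group F)).factorization p := by
  have : Finite ↥(D.group F) := Cfsg.Agent.Lib.Helper6.ChevSt.finite_group D F
  exact Cfsg.Agent.Lib.Helper27.SLDich.defect_zero_or_full p
    (fun Dg hDp hne hrad x hx hxp => chev_key p D hD Dg hDp hne hrad x hx hxp) M hM B hB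

end Cfsg.Agent.Lib.Helper5.ChevBlk
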