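import Mathlib
import Cfsg.Agent.Lib.Helper5.CycMax

set_option autoImplicit false

namespace Cfsg.Agent.Lib.Helper5.CycMax


/-- common set-up for non-abelian `p`-groups with a cyclic subgroup of index `p` -/
theorem cyclic_max_setup {G : Type*} [Group G] [Finite G] {p : ℕ} [hpf : Fact p.Prime] (e : ℕ)
    (he : 1 ≤ e)
    (hG : Nat.card G = p ^ (e + 1)) (C : Subgroup G) (hC : IsCyclic C) (hCi : C.index = p)
    (hna : ∃ x y : G, x * y ≠ y * x) :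
    ∃ c g : G, ∃ r t : ℕ, orderOf c = p ^ e ∧ Subgroup.zpowers c = C ∧ g ∉ C ∧
      g * c * g⁻¹ = c ^ r ∧ g ^ p = c ^ t ∧ c ^ r ≠ c ∧ r ^ p ≡ 1 [MOD p ^ e] := by
  have hpp := hpf.out
  have hp0 : 0 < p := hpp.pos
  set M := p ^ e with hM
  have hCcard : Nat.card C = M := by
    have h := C.card_mul_index
    rw [hG, hCi, pow_succ] at h
    exact Nat.eq_of_mul_eq_mul_right hp0 h
  obtain ⟨c', hc'⟩ := hC.exists_generator
  set c : G := (c' : G) with hcdef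
  have hoc : orderOf c = M := by
    rw [hcdef, Subgroup.orderOf_coe, orderOf_eq_card_of_forall_mem_zpowers hc', hCcard]
  have hcC : c ∈ C := c'.2
  have hzc : ∀ y : G, y ∈ C → ∃ a : ℕ, y = c ^ a := by
    intro y hy
    have h1 := hc' ⟨y, hy⟩
    have hfin : IsOfFinOrder c' := isOfFinOrder_of_finite c'
    rw [← hfin.mem_powers_iff_mem_zpowers, Submonoid.mem_powers_iff] at h1
    obtain ⟨a, ha⟩ := h1
    refine ⟨a, ?_⟩
    have := congrArg Subtype.val ha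
    simpa using this.symm
  have hzcC : Subgroup.zpowers c = C := by
    apply le_antisymm
    · rw [Subgroup.zpowers_le]; exact hcC
    · intro y hy
      obtain ⟨a, rfl⟩ := hzc y hy
      exact Subgroup.pow_mem _ (Subgroup.mem_zpowers c) a
  have hCn : C.Normal := by
    apply Subgroup.normal_of_index_eq_minFac_card
    rw [hCi, hG, hpp.pow_minFac (by omega)]
  obtain ⟨g, hg⟩ : ∃ g, g ∉ C := by
    by_contra hcon
    push Not at hcon
    have : C = ⊤ := eq_top_iff.mpr fun y _ => hcon y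
    rw [this, Subgroup.index_top] at hCi
    have := hpp.one_lt
    omega
  obtain ⟨r, hr⟩ : ∃ r : ℕ, g * c * g⁻¹ = c ^ r := hzc _ (hCn.conj_mem c hcC g)
  have hqcard : Nat.card (G ⧸ C) = p := by rw [← Subgroup.index_eq_card, hCi]
  have hgpC : g ^ p ∈ C := by
    rw [← QuotientGroup.eq_one_iff, QuotientGroup.mk_pow, ← hqcard]
    exact pow_card_eq_one'
  obtain ⟨t, ht⟩ := hzc _ hgpC
  have hdecomp : ∀ y : G, ∃ (i : ℤ) (a : ℕ), y = g ^ i * c ^ a := by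
    intro y
    have hg1 : (QuotientGroup.mk g : G ⧸ C) ≠ 1 := by
      rw [Ne, QuotientGroup.eq_one_iff]; exact hg
    have := mem_zpowers_of_prime_card hqcard hg1 (g' := (QuotientGroup.mk y : G ⧸ C))
    obtain ⟨i, hi⟩ := Subgroup.mem_zpowers_iff.mp this
    rw [← QuotientGroup.mk_zpow, QuotientGroup.eq] at hi
    obtain ⟨a, ha⟩ := hzc _ hi
    exact ⟨i, a, by rw [← ha]; group⟩
  have hr1 : c ^ r ≠ c := by
    intro h
    rw [h] at hr
    have hcomm : Commute g c := by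
      have : g * c = c * g := by
        calc g * c = g * c * g⁻¹ * g := by group
          _ = c * g := by rw [hr]
      exact this
    obtain ⟨y₁, y₂, hy⟩ := hna
    apply hy
    obtain ⟨i₁, a₁, rfl⟩ := hdecomp y₁
    obtain ⟨i₂, a₂, rfl⟩ := hdecomp y₂
    have h1 : Commute (g ^ i₁) (c ^ a₂) := (hcomm.zpow_left i₁).pow_right a₂
    have h2 : Commute (g ^ i₂) (c ^ a₁) := (hcomm.zpow_left i₂).pow_right a₁
    have h3 : Commute (g ^ i₁) (g ^ i₂) := (Commute.refl g).zpow_zpow i₁ i₂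
    have h4 : Commute (c ^ a₁) (c ^ a₂) := (Commute.refl c).pow_pow a₁ a₂
    calc g ^ i₁ * c ^ a₁ * (g ^ i₂ * c ^ a₂) = g ^ i₁ * (c ^ a₁ * g ^ i₂) * c ^ a₂ := by group
      _ = g ^ i₁ * (g ^ i₂ * c ^ a₁) * c ^ a₂ := by rw [h2.eq]
      _ = (g ^ i₁ * g ^ i₂) * (c ^ a₁ * c ^ a₂) := by group
      _ = (g ^ i₂ * g ^ i₁) * (c ^ a₂ * c ^ a₁) := by rw [h3.eq, h4.eq]
      _ = g ^ i₂ * (g ^ i₁ * c ^ a₂) * c ^ a₁ := by group
      _ = g ^ i₂ * (c ^ a₂ * g ^ i₁) * c ^ a₁ := by rw [h1.eq]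
      _ = g ^ i₂ * c ^ a₂ * (g ^ i₁ * c ^ a₁) := by group
  have hrp : r ^ p ≡ 1 [MOD M] := by
    have h1 := pow_conj_exp hr p
    have h2 : g ^ p * c * (g ^ p)⁻¹ = c := by
      rw [ht]
      have : Commute (c ^ t) c := (Commute.refl c).pow_left t
      calc c ^ t * c * (c ^ t)⁻¹ = c * c ^ t * (c ^ t)⁻¹ := by rw [this.eq]
        _ = c := by group
    rw [h2] at h1
    have h3 : c ^ (r ^ p) = c ^ 1 := by rw [← h1, pow_one]
    rw [pow_eq_pow_iff_modEq, hoc] at h3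
    exact h3
  exact ⟨c, g, r, t, hoc, hzcC, hg, hr, ht, hr1, hrp⟩

/-- square roots of one modulo `2^(k+1)` -/
theorem sq_modEq_one_two_pow (k r : ℕ) (h : r ^ 2 ≡ 1 [MOD 2 ^ (k + 1)]) :
    2 ^ k ∣ r + 1 ∨ (1 ≤ r ∧ 2 ^ k ∣ r - 1) := by
  rcases Nat.eq_zero_or_pos k with rfl | hk
  · left; simp
  -- r is odd
  have hodd : r % 2 = 1 := by
    by_contra hr
    have hr0 : r % 2 = 0 := by omega
    have h2 : (r ^ 2) % 2 = 1 % 2 := (h.of_dvd (dvd_pow_self 2 (Nat.succ_ne_zero k)))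
    rw [Nat.pow_mod, hr0] at h2
    norm_num at h2
  obtain ⟨s, rfl⟩ : ∃ s, r = 2 * s + 1 := ⟨r / 2, by omega⟩
  have hdvd : 2 ^ (k + 1) ∣ (2 * s + 1) ^ 2 - 1 :=
    (Nat.modEq_iff_dvd' (Nat.one_le_pow _ _ (by omega))).mp h.symm
  have he : (2 * s + 1) ^ 2 - 1 = 4 * (s * (s + 1)) := by
    have : (2 * s + 1) ^ 2 = 4 * (s * (s + 1)) + 1 := by ring
    omega
  rw [he] at hdvd
  obtain ⟨k', rfl⟩ : ∃ k', k = k' + 1 := ⟨k - 1, by omega⟩
  have h4 : (2 : ℕ) ^ (k' + 1 + 1) = 4 * 2 ^ k' := by ring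
  rw [h4] at hdvd
  have hd2 : 2 ^ k' ∣ s * (s + 1) := Nat.dvd_of_mul_dvd_mul_left (by norm_num) hdvd
  by_cases hs : 2 ∣ s
  · -- 2 ∤ s + 1
    have hns : ¬ 2 ∣ s + 1 := by omega
    have := (Nat.prime_two.prime).pow_dvd_of_dvd_mul_right k' hns hd2
    right
    refine ⟨by omega, ?_⟩
    have h5 : 2 * s + 1 - 1 = 2 * s := by omega
    rw [h5, pow_succ']
    exact Nat.mul_dvd_mul_left 2 this
  · have := (Nat.prime_two.prime).pow_dvd_of_dvd_mul_left k' hs hd2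
    left
    have h5 : 2 * s + 1 + 1 = 2 * (s + 1) := by ring
    rw [h5, pow_succ']
    exact Nat.mul_dvd_mul_left 2 this



section Twist
variable {G : Type*} [Group G] {c g : G} {r t : ℕ}

theorem twist_conj (hr : g * c * g⁻¹ = c ^ r) (u : ℕ) :
    (c ^ u * g) * c * (c ^ u * g)⁻¹ = c ^ r := by
  have : (c ^ u * g) * c * (c ^ u * g)⁻¹ = c ^ u * (g * c * g⁻¹) * (c ^ u)⁻¹ := by group
  rw [this, hr, ← pow_add, add_comm, pow_add, mul_inv_cancel_right]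

theorem twist_sq (hr : g * c * g⁻¹ = c ^ r) (ht : g ^ 2 = c ^ t) (u : ℕ) :
    (c ^ u * g) ^ 2 = c ^ (u * (1 + r) + t) := by
  rw [mul_pow_formula hr, ht, ← pow_add]
  congr 2
  simp [Finset.sum_range_succ]

theorem twist_constraint (hr : g * c * g⁻¹ = c ^ r) (ht : g ^ 2 = c ^ t) :
    c ^ (r * t) = c ^ t := by
  rw [← conj_pow_exp hr t, ← ht]; group

theorem twist_not_mem {C : Subgroup G} (hzc : Subgroup.zpowers c = C) (hg : g ∉ C) (u : ℕ) :
    c ^ u * g ∉ Subgroup.zpowers c := by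
  rw [hzc]
  intro h
  apply hg
  have hc : c ^ u ∈ C := by rw [← hzc]; exact Subgroup.pow_mem _ (Subgroup.mem_zpowers c) u
  have := C.mul_mem (C.inv_mem hc) h
  simpa using this

end Twist

theorem semidihedral_dvd (k t : ℕ) (h : 2 * t ≡ 2 ^ (k + 2) * t [MOD 2 ^ (k + 3)]) : 2 ^ (k + 2) ∣ t := by
  obtain ⟨w, hw⟩ : ∃ w, 2 ^ (k + 1) = w + 1 := ⟨2 ^ (k + 1) - 1, by
    have : 1 ≤ 2 ^ (k + 1) := Nat.one_le_two_pow
    omega⟩
  have hx : 2 ^ (k + 2) = 2 * (w + 1) := by rw [pow_succ, hw]; ring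
  have hMM : 2 ^ (k + 3) = 2 * 2 ^ (k + 2) := by ring
  have hle : 2 * t ≤ 2 ^ (k + 2) * t := Nat.mul_le_mul_right t (by omega)
  have hd := (Nat.modEq_iff_dvd' hle).mp h
  have h1 : 2 ^ (k + 2) * t - 2 * t = 2 * (w * t) := by
    rw [hx, ← Nat.sub_mul]
    have : 2 * (w + 1) - 2 = 2 * w := by omega
    rw [this, mul_assoc]
  rw [h1, hMM] at hd
  have hd2 : 2 ^ (k + 2) ∣ w * t := Nat.dvd_of_mul_dvd_mul_left (by norm_num) hd
  have hodd : Odd w := by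
    have : Even (w + 1) := by rw [← hw]; exact (Nat.even_pow.mpr ⟨even_two, by omega⟩)
    have h2 := Nat.even_add_one.mp this
    exact Nat.not_even_iff_odd.mp h2
  have hcop : Nat.Coprime (2 ^ (k + 2)) w :=
    Nat.Coprime.pow_left _ (Nat.coprime_two_left.mpr hodd)
  exact hcop.dvd_of_dvd_mul_left hd2

theorem modular_dvd (k s : ℕ) : 2 ^ (k + 3) ∣ (2 + 2 ^ (k + 2)) * (s * (2 ^ (k + 1) - 1)) + 2 * s := by
  obtain ⟨w, hw⟩ : ∃ w, 2 ^ (k + 1) = w + 1 := ⟨2 ^ (k + 1) - 1, by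
    have : 1 ≤ 2 ^ (k + 1) := Nat.one_le_two_pow
    omega⟩
  have hx : 2 ^ (k + 2) = 2 * (w + 1) := by rw [pow_succ, hw]; ring
  have hMM : 2 ^ (k + 3) = 4 * (w + 1) := by rw [pow_succ, hx]; ring
  have hz : 2 ^ (k + 1) = 2 * 2 ^ k := by ring
  rw [hMM, hx, hw, Nat.add_sub_cancel]
  refine ⟨s * 2 ^ k, ?_⟩
  have : w + 1 = 2 * 2 ^ k := by rw [← hw, hz]
  have e : (2 + 2 * (w + 1)) * (s * w) + 2 * s = 2 * s * ((w + 1) * (w + 1)) := by ring
  rw [e, this]; ring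


end Cfsg.Agent.Lib.Helper5.CycMax
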