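import Mathlib
import Cfsg.Agent.S4539
import Cfsg.Agent.Lib.Helper23.RankQuotApp
import Cfsg.Agent.Lib.Helper27.BlkGlueC4

/-! S4645 leaf R1 (helper5): a block with a cyclic defect group and inertial index one has `l = 1`, `k = |D|`. -/

set_option autoImplicit false

namespace Cfsg.Agent.Lib.Helper5.CycR1

open Cfsg Cfsg.Agent.CharLib Cfsg.Agent.Lib.Helper24 Cfsg.Agent.Lib.Helper6
open scoped ComplexConjugate

universe u

/-- (R1) a block with a cyclic defect group and inertial index one has `l = 1`, `k = |D|`.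
`hSC` = helper24's `card_block_eq_sum_orbits` (S4637 leaf SC) for this block. -/
theorem blockRank_eq_one_of_cyclic_inertial_one {H : Type u} [Group H] [Fintype H] [DecidableEq H]
    {M : Ideal AlgInt} {p : ℕ} [hpp : Fact p.Prime] (hM : IsPModular p M)
    (f : Set (IrrCharacter H)) (hf : IsPBlock M f) (D : Subgroup H)
    (hD : IsDefectGroup p M f D) (hcyc : IsCyclic D)
    (c : Set (IrrCharacter (Subgroup.centralizer (D : Set H))))
    (hc : IsInducedBlock M (Subgroup.centralizer (D : Set H)) c f) (TH : Subgroup H)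
    (hTH : ∀ g : H, g ∈ TH ↔ (g ∈ Subgroup.normalizer (D : Set H) ∧
      StabilizesBlock (Subgroup.centralizer (D : Set H)) c g))
    (hcent : ∀ t ∈ TH, ∀ u ∈ D, t * u * t⁻¹ = u)
    (hSC : ∀ R : Finset H, (∀ u ∈ R, u ∈ D) →
      (∀ v ∈ D, ∃! u, u ∈ R ∧ ∃ t ∈ TH, t * u * t⁻¹ = v) →
      ∃ fu : ∀ u : H, Set (IrrCharacter (Subgroup.centralizer ({u} : Set H))),
        (∀ u ∈ R, IsInducedBlock M (Subgroup.centralizer ({u} : Set H)) (fu u) f ∧
          IsDefectGroup p M (fu u) (D.subgroupOf (Subgroup.centralizer ({u} : Set H)))) ∧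
        Nat.card f = blockRank p f + ∑ u ∈ R.erase 1, blockRank p (fu u)) :
    blockRank p f = 1 ∧ Nat.card f = Nat.card D := by
  classical
  haveI : M.IsPrime := isPrime_of_isPModular hM
  have hne : ∀ {X : Type u} [Group X] (b : Set (IrrCharacter X)), IsPBlock M b → b.Nonempty := by
    intro X _ b hb
    obtain ⟨χ₀, rfl⟩ := hb
    exact ⟨χ₀, mem_blockOf_self χ₀⟩
  -- the set of representatives: all of `D`
  set R : Finset H := Finset.univ.filter (fun u => u ∈ D) with hRdef
  have hRD : ∀ u ∈ R, u ∈ D := fun u hu => (Finset.mem_filter.mp hu).2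
  have hDR : ∀ u ∈ D, u ∈ R := fun u hu => Finset.mem_filter.mpr ⟨Finset.mem_univ _, hu⟩
  have hR : ∀ v ∈ D, ∃! u, u ∈ R ∧ ∃ t ∈ TH, t * u * t⁻¹ = v := by
    intro v hv
    refine ⟨v, ⟨hDR v hv, 1, TH.one_mem, by simp⟩, ?_⟩
    rintro u ⟨huR, t, ht, rfl⟩
    exact (hcent t ht u (hRD u huR)).symm
  obtain ⟨fu, hfu, hcard⟩ := hSC R hRD hR
  -- a generator
  obtain ⟨g, hg⟩ := hcyc.exists_generator
  have hzD : (g : H) ∈ D := g.2
  have hzpow : ∀ d ∈ D, ∃ k : ℤ, (g : H) ^ k = d := by
    intro d hd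
    obtain ⟨k, hk⟩ := Subgroup.mem_zpowers_iff.mp (hg ⟨d, hd⟩)
    refine ⟨k, ?_⟩
    have := congrArg Subtype.val hk
    simpa using this
  have hzc : ∀ d ∈ D, d * (g : H) = (g : H) * d := by
    intro d hd
    obtain ⟨k, rfl⟩ := hzpow d hd
    exact ((Commute.refl (g : H)).zpow_left k).eq
  obtain ⟨hind, hdef⟩ := hfu (g : H) (hDR _ hzD)
  have hcentral : D.subgroupOf (Subgroup.centralizer ({(g : H)} : Set H)) ≤
      Subgroup.center (Subgroup.centralizer ({(g : H)} : Set H)) := by
    intro x hx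
    rw [Subgroup.mem_center_iff]
    intro y
    apply Subtype.ext
    obtain ⟨k, hk⟩ := hzpow (x : H) (Subgroup.mem_subgroupOf.mp hx)
    have hy : (y : H) * (g : H) = (g : H) * (y : H) := by
      have := Subgroup.mem_centralizer_iff.mp y.2 (g : H) (Set.mem_singleton _)
      exact this.symm
    have hcomm : Commute (y : H) ((g : H) ^ k) := (show Commute (y : H) (g : H) from hy).zpow_right k
    rw [Subgroup.coe_mul, Subgroup.coe_mul, ← hk]
    exact hcomm.eq
  have hl1 : blockRank p (fu (g : H)) = 1 :=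
    Cfsg.Agent.Lib.Helper23.blockRank_eq_one_of_central p hM (fu (g : H)) hind.1 _ hdef hcentral
  have hk : Nat.card f ≤ p ^ blockDefect p f :=
    Cfsg.Agent.S4539.result p M hM f hf D hD (g : H) hzD hzc (fu (g : H)) hind hdef (by omega)
  have hcardD : Nat.card D = p ^ blockDefect p f := card_defectGroup_eq hM f hf D hD
  -- the lower bound
  have hlf : 0 < blockRank p f := Cfsg.Agent.Lib.Helper27.BlkGlueC4.blockRank_pos p f (hne f hf)
  have hsum : (R.erase 1).card ≤ ∑ u ∈ R.erase 1, blockRank p (fu u) := by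
    rw [Finset.card_eq_sum_ones]
    apply Finset.sum_le_sum
    intro u hu
    have huR : u ∈ R := Finset.mem_of_mem_erase hu
    exact Cfsg.Agent.Lib.Helper27.BlkGlueC4.blockRank_pos p (fu u) (hne (fu u) (hfu u huR).1.1)
  have hRcard : R.card = Nat.card D := by
    rw [Nat.card_eq_fintype_card, Fintype.card_subtype]
  have h1R : (1 : H) ∈ R := hDR 1 D.one_mem
  have herase : (R.erase 1).card = R.card - 1 := Finset.card_erase_of_mem h1R
  have hRpos : 0 < R.card := Finset.card_pos.mpr ⟨1, h1R⟩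
  constructor <;> omega

end Cfsg.Agent.Lib.Helper5.CycR1
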