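import Mathlib

set_option autoImplicit false

namespace Cfsg.Agent.Lib.Helper5

/-- A finite cyclic group of order `M` maps onto `ZMod (gcd n M)` with kernel the `n`-th powers. -/
theorem exists_cyclic_hom_gcd (C : Type*) [Group C] [IsCyclic C] [Finite C] (n M : ℕ)
    (hM : Nat.card C = M) :
    ∃ ψ : C →* Multiplicative (ZMod (Nat.gcd n M)), Function.Surjective ψ ∧
      ∀ x, ψ x = 1 ↔ ∃ y, x = y ^ n := by
  have hMpos : 0 < M := hM ▸ Nat.card_pos
  set d := Nat.gcd n M with hd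
  have hdpos : 0 < d := Nat.gcd_pos_of_pos_right _ hMpos
  have : NeZero d := ⟨hdpos.ne'⟩
  obtain ⟨ω, hω⟩ := IsCyclic.exists_generator (α := C)
  have hoω : orderOf ω = M := by rw [orderOf_eq_card_of_forall_mem_zpowers hω, hM]
  set g' : Multiplicative (ZMod d) := Multiplicative.ofAdd (1 : ZMod d) with hg'
  have hog' : orderOf g' = d := by
    rw [hg', orderOf_ofAdd_eq_addOrderOf, ZMod.addOrderOf_one]
  have hdvd : orderOf g' ∣ orderOf ω := by
    rw [hog', hoω]; exact Nat.gcd_dvd_right n M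
  set ψ : C →* Multiplicative (ZMod d) := monoidHomOfForallMemZpowers hω hdvd with hψ
  have hψω : ψ ω = g' := monoidHomOfForallMemZpowers_apply_gen hω hdvd
  have hpow_n : ∀ z : Multiplicative (ZMod d), z ^ n = 1 := by
    intro z
    have h1 : z ^ d = 1 := by
      have : Nat.card (Multiplicative (ZMod d)) = d := by
        rw [Nat.card_eq_fintype_card, Fintype.card_multiplicative, ZMod.card]
      have h2 : z ^ Nat.card (Multiplicative (ZMod d)) = 1 := pow_card_eq_one'
      rwa [this] at h2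
    obtain ⟨k, hk⟩ := Nat.gcd_dvd_left n M
    rw [hk, pow_mul, h1, one_pow]
  refine ⟨ψ, ?_, ?_⟩
  · intro y
    refine ⟨ω ^ (Multiplicative.toAdd y).val, ?_⟩
    rw [map_pow, hψω, hg', ← ofAdd_nsmul, nsmul_eq_mul, mul_one, ZMod.natCast_zmod_val]
    rfl
  · intro x
    constructor
    · intro hx
      obtain ⟨k, rfl⟩ := Subgroup.mem_zpowers_iff.mp (hω x)
      rw [map_zpow, hψω] at hx
      have hk : (orderOf g' : ℤ) ∣ k := orderOf_dvd_iff_zpow_eq_one.mpr hx
      rw [hog'] at hk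
      obtain ⟨k', rfl⟩ := hk
      have hbez : (d : ℤ) = n * Nat.gcdA n M + M * Nat.gcdB n M := Nat.gcd_eq_gcd_ab n M
      have hωM : ω ^ (M : ℤ) = 1 := by
        rw [zpow_natCast, ← hoω, pow_orderOf_eq_one]
      refine ⟨ω ^ (Nat.gcdA n M * k'), ?_⟩
      rw [← zpow_natCast, ← zpow_mul, hbez, add_mul, zpow_add, mul_assoc (M : ℤ), zpow_mul ω (M : ℤ),
        hωM, one_zpow, mul_one]
      congr 1
      ring
    · rintro ⟨y, rfl⟩
      rw [map_pow, hpow_n]

end Cfsg.Agent.Lib.Helper5
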