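/-
S4481 leaf EIG (`exists_mult_pow`): the restriction of a character to a cyclic subgroup, multiplicities of the
linear characters.  (helper5; statement frozen in `notes/S4481_leaves.lean`.)
-/
import Mathlib
import Cfsg.Prelude.Def_Blocks
import Cfsg.Agent.Lib.Helper6.DihBlkDefs
import Cfsg.Agent.Lib.Lead.BrLeo12
import Cfsg.Agent.S0514

set_option autoImplicit false

namespace Cfsg.Agent.Lib.Helper5.DIHEIG

open Cfsg Cfsg.Agent.CharLib
open scoped ComplexConjugate

variable {G : Type*} [Group G] [Finite G]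

/-- **EIG** the restriction of a character to a cyclic subgroup: multiplicities of the linear characters. -/
theorem exists_mult_pow {χ : G → ℂ} (hχ : IsCharacter G χ) (σ : G) (N : ℕ) (hN : 0 < N)
    (hσN : σ ^ N = 1) (ζ : ℂ) (hζ : IsPrimitiveRoot ζ N) :
    ∃ mu : ℕ → ℕ, ∀ k : ℕ, χ (σ ^ k) = ∑ i ∈ Finset.range N, (mu i : ℂ) * ζ ^ (i * k) := by
  classical
  obtain ⟨n, ρ, rfl⟩ := hχ
  have hf : (ρ σ) ^ N = 1 := by rw [← map_pow, hσN, map_one]
  obtain ⟨ι, hι, b, μ, h1, h2⟩ := exists_eigenbasis_of_pow_eq_one (ρ σ) N hN hf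
  have : NeZero N := ⟨hN.ne'⟩
  have hex : ∀ j : ι, ∃ i, i < N ∧ ζ ^ i = μ j := fun j => hζ.eq_pow_of_pow_eq_one (h1 j)
  choose e he1 he2 using hex
  refine ⟨fun i => (Finset.univ.filter (fun j : ι => e j = i)).card, ?_⟩
  intro k
  have hk : ∀ j, (ρ (σ ^ k)) (b j) = (μ j) ^ k • b j := by
    intro j
    rw [map_pow]
    induction k with
    | zero => simp
    | succ k ih => rw [pow_succ, Module.End.mul_apply, h2 j, map_smul, ih, smul_smul, pow_succ, mul_comm]
  unfold Representation.character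
  rw [trace_eq_sum_of_eigenbasis b (ρ (σ ^ k)) _ hk]
  have hmaps : ∀ j ∈ (Finset.univ : Finset ι), e j ∈ Finset.range N := fun j _ => Finset.mem_range.mpr (he1 j)
  rw [← Finset.sum_fiberwise_of_maps_to hmaps]
  apply Finset.sum_congr rfl
  intro i _
  rw [← nsmul_eq_mul, ← Finset.sum_const]
  apply Finset.sum_congr rfl
  intro j hj
  rw [Finset.mem_filter] at hj
  rw [← he2 j, hj.2, pow_mul]

end Cfsg.Agent.Lib.Helper5.DIHEIG
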