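import Cfsg.Agent.Lib.Helper25.Siegel2
import Cfsg.Agent.Lib.Helper9.FrameF3

set_option autoImplicit false
set_option linter.unusedSectionVars false
set_option linter.unusedVariables false

/-!
# Orthogonal decompositions whose stabiliser in `Ω` is not maximal

Generic tools (Siegel elements in `Ω`, vectors lying in no member of a decomposition, the
stabiliser of a finite set of vectors) and the case of decompositions into hyperbolic planes over
the fields with `2`, `3`, `4` and `5` elements.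
-/

namespace Cfsg.Agent.Lib.Helper5.DecompNM

open Module QuadraticMap Matrix Cfsg.Agent.Lib.Helper25.CD Cfsg.Agent.Lib.Helper25.Spin
open Cfsg.Agent.Lib.Helper25.Siegel Cfsg.Agent.Lib.Helper9.PlusPlane
open Cfsg.Agent.Lib.Helper9.FrameF3

section generic
variable {ι : Type} [Fintype ι] [DecidableEq ι] {F : Type*} [Field F] [Fintype F]
  (Q : QuadraticForm F (ι → F))

theorem sieg_mem_omegaGL (hQ : (polarBilin Q).Nondegenerate) (hn : 7 ≤ Fintype.card ι)
    (u v : ι → F) (c : F) (hu : Q u = 0) (hv : Q v = 0) (huv : polar Q u v = 0) :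
    ((siegG Q u v c hu hv huv : ↥(Cfsg.isometryGroup F ⇑Q)) : GL ι F) ∈ Cfsg.Geo.omegaGL ⇑Q :=
  ⟨siegG Q u v c hu hv huv, siegG_mem_omega Q hQ hn u v c hu hv huv, rfl⟩

theorem sieg_mulVec (u v : ι → F) (c : F) (hu : Q u = 0) (hv : Q v = 0) (huv : polar Q u v = 0)
    (x : ι → F) :
    (((siegG Q u v c hu hv huv : ↥(Cfsg.isometryGroup F ⇑Q)) : GL ι F) : Matrix ι ι F) *ᵥ x =
      x + c • (polar Q u x • v - polar Q v x • u) := by
  rw [siegG_coe, siegelMatrix_mulVec]
  rfl

theorem not_mem_member {t : ℕ} {D : Fin t → Submodule F (ι → F)}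
    (horthD : ∀ i j, i ≠ j → Cfsg.Geo.AreOrthogonalFor (polar ⇑Q) (D i) (D j))
    {w a b : ι → F} {l m : Fin t} (hlm : l ≠ m) (ha : a ∈ D l) (hb : b ∈ D m)
    (hwa : polar Q w a ≠ 0) (hwb : polar Q w b ≠ 0) (j : Fin t) : w ∉ D j := by
  intro hw
  by_cases hjl : j = l
  · rw [hjl] at hw
    exact hwb (horthD l m hlm w hw b hb)
  · exact hwa (horthD j l hjl w hw a ha)

theorem not_mem_decompStab {t : ℕ} {D : Fin t → Submodule F (ι → F)} {g : GL ι F} {v : ι → F}
    {i : Fin t} (hv : v ∈ D i) (hg : ∀ j, (g : Matrix ι ι F) *ᵥ v ∉ D j) :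
    g ∉ Cfsg.Geo.decompositionStabilizer D := by
  rintro ⟨σ, hσ⟩
  apply hg (σ i)
  rw [← hσ i]
  exact ⟨v, hv, by rw [Matrix.toLin'_apply]⟩

theorem mem_stabilizing_of_mapsTo {g : GL ι F} {S : Set (ι → F)}
    (h1 : ∀ v ∈ S, (g : Matrix ι ι F) *ᵥ v ∈ S) :
    g ∈ Cfsg.stabilizing (Cfsg.glToMat ι F) S := by
  have hinj : Function.Injective fun v : ι → F => (g : Matrix ι ι F) *ᵥ v :=
    Matrix.mulVec_injective_of_isUnit (Units.isUnit g)
  have hφ : Function.Injective
      (fun x : S => (⟨(g : Matrix ι ι F) *ᵥ (x : ι → F), h1 x x.2⟩ : S)) := by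
    intro x y hxy
    apply Subtype.ext
    apply hinj
    exact congrArg Subtype.val hxy
  have hsurj := Finite.surjective_of_injective hφ
  intro v
  show v ∈ S ↔ (g : Matrix ι ι F) *ᵥ v ∈ S
  refine ⟨h1 v, fun hv => ?_⟩
  obtain ⟨x, hx⟩ := hsurj ⟨_, hv⟩
  have h2 : (g : Matrix ι ι F) *ᵥ (x : ι → F) = (g : Matrix ι ι F) *ᵥ v :=
    congrArg Subtype.val hx
  have h3 : (x : ι → F) = v := hinj h2
  rw [← h3]
  exact x.2

/-- The basic scheme: a set `T` of vectors preserved by the stabiliser of the decomposition, an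
element of `Ω` preserving `T` but not the decomposition, and an element of `Ω` not preserving
`T`. -/
theorem exists_between {t : ℕ} (D : Fin t → Submodule F (ι → F)) (T : Set (ι → F))
    (hsub : ∀ g ∈ Cfsg.Geo.decompositionStabilizer D ⊓ Cfsg.Geo.omegaGL ⇑Q,
      ∀ v ∈ T, ((g : GL ι F) : Matrix ι ι F) *ᵥ v ∈ T)
    (g₁ g₂ : GL ι F)
    (h1K : g₁ ∈ Cfsg.stabilizing (Cfsg.glToMat ι F) T) (h1O : g₁ ∈ Cfsg.Geo.omegaGL ⇑Q)
    (h1D : g₁ ∉ Cfsg.Geo.decompositionStabilizer D)
    (h2O : g₂ ∈ Cfsg.Geo.omegaGL ⇑Q) {v₂ : ι → F} (hv₂ : v₂ ∈ T)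
    (h2K : (g₂ : Matrix ι ι F) *ᵥ v₂ ∉ T) :
    ∃ K : Subgroup (GL ι F), Cfsg.Geo.decompositionStabilizer D ⊓ Cfsg.Geo.omegaGL ⇑Q < K ∧
      K < Cfsg.Geo.omegaGL ⇑Q := by
  refine ⟨Cfsg.stabilizing (Cfsg.glToMat ι F) T ⊓ Cfsg.Geo.omegaGL ⇑Q, ?_, ?_⟩
  · apply lt_of_le_of_ne
    · intro g hg
      exact ⟨mem_stabilizing_of_mapsTo (hsub g hg), hg.2⟩
    · intro heq
      have hmem : g₁ ∈ Cfsg.stabilizing (Cfsg.glToMat ι F) T ⊓ Cfsg.Geo.omegaGL ⇑Q :=
        ⟨h1K, h1O⟩
      rw [← heq] at hmem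
      exact h1D hmem.1
  · apply lt_of_le_of_ne inf_le_right
    intro heq
    have hmem : g₂ ∈ Cfsg.stabilizing (Cfsg.glToMat ι F) T ⊓ Cfsg.Geo.omegaGL ⇑Q := by
      rw [heq]; exact h2O
    exact h2K ((mem_stabilizing_iff.1 hmem.1 v₂).1 hv₂)

/-- the vectors of norm one in the members of a decomposition -/
def normSet {t : ℕ} (D : Fin t → Submodule F (ι → F)) : Set (ι → F) :=
  {v | ∃ i, v ∈ D i ∧ Q v = 1}

theorem decompStab_maps_normSet {t : ℕ} {D : Fin t → Submodule F (ι → F)} {g : GL ι F}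
    (hg : g ∈ Cfsg.Geo.decompositionStabilizer D ⊓ Cfsg.Geo.omegaGL ⇑Q) {v : ι → F}
    (hv : v ∈ normSet Q D) : (g : Matrix ι ι F) *ᵥ v ∈ normSet Q D := by
  obtain ⟨⟨σ, hσ⟩, hgO⟩ := hg
  obtain ⟨i, hvi, hq⟩ := hv
  refine ⟨σ i, ?_, ?_⟩
  · rw [← hσ i]
    exact ⟨v, hvi, by rw [Matrix.toLin'_apply]⟩
  · rw [q_of_mem_omegaGL Q hgO, hq]

theorem maps_closure {g : GL ι F} {S : Set (ι → F)}
    (h : ∀ v ∈ S, (g : Matrix ι ι F) *ᵥ v ∈ AddSubgroup.closure S) :
    ∀ v ∈ AddSubgroup.closure S, (g : Matrix ι ι F) *ᵥ v ∈ AddSubgroup.closure S := by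
  intro v hv
  induction hv using AddSubgroup.closure_induction with
  | mem x hx => exact h x hx
  | zero => rw [Matrix.mulVec_zero]; exact zero_mem _
  | add x y _ _ hx hy => rw [Matrix.mulVec_add]; exact add_mem hx hy
  | neg x _ hx => rw [Matrix.mulVec_neg]; exact neg_mem hx

end generic

section hyp
variable {ι : Type} [Fintype ι] [DecidableEq ι] {F : Type*} [Field F] [Fintype F]
  {Q : QuadraticForm F (ι → F)} {t : ℕ} {D : Fin t → Submodule F (ι → F)}
  {e f : Fin t → ι → F}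

/-- hyperbolic coordinates on a decomposition into pairwise orthogonal hyperbolic planes -/
structure HypCoords (Q : QuadraticForm F (ι → F)) (D : Fin t → Submodule F (ι → F))
    (e f : Fin t → ι → F) : Prop where
  e_mem : ∀ i, e i ∈ D i
  f_mem : ∀ i, f i ∈ D i
  hp : ∀ i, HP Q (e i) (f i)
  span : ∀ i, ∀ v ∈ D i, ∃ x y : F, v = x • e i + y • f i
  orth : ∀ i j, i ≠ j → Cfsg.Geo.AreOrthogonalFor (polar ⇑Q) (D i) (D j)

/-- the norm-one vector `e i + f i` -/
def sv (e f : Fin t → ι → F) (i : Fin t) : ι → F := e i + f i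

theorem HypCoords.sv_mem (h : HypCoords Q D e f) (i : Fin t) : sv e f i ∈ D i :=
  (D i).add_mem (h.e_mem i) (h.f_mem i)

theorem HypCoords.q_sv (h : HypCoords Q D e f) (i : Fin t) : Q (sv e f i) = 1 := by
  unfold sv
  rw [QuadraticMap.map_add (⇑Q), (h.hp i).qe, (h.hp i).qf, (h.hp i).ef]
  ring

theorem HypCoords.sv_mem_normSet (h : HypCoords Q D e f) (i : Fin t) :
    sv e f i ∈ normSet Q D :=
  ⟨i, h.sv_mem i, h.q_sv i⟩

theorem HypCoords.polar_sv_comb (h : HypCoords Q D e f) (i : Fin t) (a b : F) :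
    polar Q (sv e f i) (a • e i + b • f i) = a + b := by
  unfold sv
  rw [polar_add_left, polar_add_right, polar_add_right, polar_smul_right, polar_smul_right,
    polar_smul_right, polar_smul_right, (h.hp i).ee, (h.hp i).ef, (h.hp i).fe, (h.hp i).ff]
  simp only [smul_eq_mul]
  ring

theorem HypCoords.polar_sv_e (h : HypCoords Q D e f) (i : Fin t) :
    polar Q (sv e f i) (e i) = 1 := by
  unfold sv
  rw [polar_add_left, (h.hp i).ee, (h.hp i).fe, zero_add]

theorem HypCoords.polar_sv_f (h : HypCoords Q D e f) (i : Fin t) :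
    polar Q (sv e f i) (f i) = 1 := by
  unfold sv
  rw [polar_add_left, (h.hp i).ef, (h.hp i).ff, add_zero]

theorem HypCoords.polar_sv_other (h : HypCoords Q D e f) {i j : Fin t} (hij : i ≠ j)
    {x : ι → F} (hx : x ∈ D j) : polar Q (sv e f i) x = 0 :=
  h.orth i j hij _ (h.sv_mem i) _ hx

theorem HypCoords.polar_sv_three (h : HypCoords Q D e f) {i j₁ j₂ j₃ : Fin t} (h1 : i ≠ j₁)
    (h2 : i ≠ j₂) (h3 : i ≠ j₃) (ε : F) :
    polar Q (sv e f i) (sv e f j₁ + sv e f j₂ + ε • sv e f j₃) = 0 := by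
  rw [polar_add_right, polar_add_right, polar_smul_right, h.polar_sv_other h1 (h.sv_mem _),
    h.polar_sv_other h2 (h.sv_mem _), h.polar_sv_other h3 (h.sv_mem _), smul_zero, add_zero,
    add_zero]

/-- membership in the prime field (for the fields with at most four elements) -/
def IsP (c : F) : Prop := c = 0 ∨ c = 1 ∨ c = -1

theorem IsP.smul_mem {c : F} (hc : IsP c) {A : AddSubgroup (ι → F)} {v : ι → F} (hv : v ∈ A) :
    c • v ∈ A := by
  rcases hc with rfl | rfl | rfl
  · rw [zero_smul]; exact zero_mem _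
  · rw [one_smul]; exact hv
  · rw [neg_smul, one_smul]; exact neg_mem hv

theorem IsP.mul_of_01 {ε c : F} (hε : ε = 0 ∨ ε = 1) (hc : IsP c) : IsP (ε * c) := by
  rcases hε with rfl | rfl
  · rw [zero_mul]; exact Or.inl rfl
  · rw [one_mul]; exact hc

theorem isP_add_of_mul (hZ2 : ∀ z : F, z ≠ 0 → z ≠ -1 → z * z + z + 1 = 0)
    (h23 : (2 : F) = 0 ∨ (3 : F) = 0) {a b : F} (hab : a * b = 1) : IsP (a + b) := by
  have ha : a ≠ 0 := left_ne_zero_of_mul_eq_one hab
  by_cases h1 : a = -1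
  · have hb : b = -1 := by
      rw [h1] at hab
      linear_combination -hab
    rw [h1, hb]
    rcases h23 with h | h
    · left; linear_combination -h
    · right; left; linear_combination -h
  · right; right
    have hz := hZ2 a ha h1
    linear_combination b * hz - (a + 1) * hab

theorem HypCoords.isP_polar_sv (h : HypCoords Q D e f)
    (hZ2 : ∀ z : F, z ≠ 0 → z ≠ -1 → z * z + z + 1 = 0) (h23 : (2 : F) = 0 ∨ (3 : F) = 0)
    (i : Fin t) {x : ι → F} (hx : x ∈ normSet Q D) : IsP (polar Q (sv e f i) x) := by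
  obtain ⟨j, hxj, hq⟩ := hx
  by_cases hij : i = j
  · subst hij
    obtain ⟨a, b, rfl⟩ := h.span i x hxj
    rw [(h.hp i).q_comb] at hq
    rw [h.polar_sv_comb]
    exact isP_add_of_mul hZ2 h23 hq
  · rw [h.polar_sv_other hij hxj]
    exact Or.inl rfl

/-- vectors whose component in every plane is zero or of norm one -/
def compat (Q : QuadraticForm F (ι → F)) (e f : Fin t → ι → F) : Set (ι → F) :=
  {x | ∀ i, polar Q x (e i) * polar Q x (f i) = 1 ∨ (polar Q x (e i) = 0 ∧ polar Q x (f i) = 0)}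

theorem mem_compat {x : ι → F} : x ∈ compat Q e f ↔
    ∀ i, polar Q x (e i) * polar Q x (f i) = 1 ∨ (polar Q x (e i) = 0 ∧ polar Q x (f i) = 0) :=
  Iff.rfl

theorem compat_add_aux (hZ2 : ∀ z : F, z ≠ 0 → z ≠ -1 → z * z + z + 1 = 0) {p q p' q' : F}
    (h1 : p * q = 1) (h2 : p' * q' = 1) :
    (p + p') * (q + q') = 1 ∨ (p + p' = 0 ∧ q + q' = 0) := by
  have hp : p ≠ 0 := left_ne_zero_of_mul_eq_one h1
  have hq : q ≠ 0 := right_ne_zero_of_mul_eq_one h1
  have hp' : p' ≠ 0 := left_ne_zero_of_mul_eq_one h2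
  by_cases hs : p + p' = 0
  · right
    refine ⟨hs, ?_⟩
    have hp'' : p' = -p := by linear_combination hs
    rw [hp''] at h2
    have h0 : p * (q + q') = 0 := by linear_combination h1 - h2
    exact (mul_eq_zero.1 h0).resolve_left hp
  · left
    have hz0 : p' * q ≠ 0 := mul_ne_zero hp' hq
    have hz1 : p' * q ≠ -1 := by
      intro hz
      apply hs
      have h0 : (p + p') * q = 0 := by linear_combination h1 + hz
      exact (mul_eq_zero.1 h0).resolve_right hq
    have hz := hZ2 (p' * q) hz0 hz1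
    linear_combination (p * q') * hz -
      ((p' * q' - 1) * (p' * q) + p' * q + (p' * q' - 1)) * h1 - (p' * q) * h2

theorem HypCoords.compat_of_mem_closure (h : HypCoords Q D e f)
    (hZ2 : ∀ z : F, z ≠ 0 → z ≠ -1 → z * z + z + 1 = 0) {x : ι → F}
    (hx : x ∈ AddSubgroup.closure (normSet Q D)) : x ∈ compat Q e f := by
  induction hx using AddSubgroup.closure_induction with
  | mem x hx =>
    obtain ⟨j, hxj, hq⟩ := hx
    obtain ⟨a, b, rfl⟩ := h.span j x hxj
    rw [(h.hp j).q_comb] at hq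
    refine mem_compat.2 fun i => ?_
    by_cases hij : j = i
    · subst hij
      left
      rw [(h.hp j).polar_comb_e, (h.hp j).polar_comb_f, mul_comm]
      exact hq
    · right
      exact ⟨h.orth j i hij _ hxj _ (h.e_mem i), h.orth j i hij _ hxj _ (h.f_mem i)⟩
  | zero =>
    refine mem_compat.2 fun i => ?_
    right
    exact ⟨polar_zero_left _ _, polar_zero_left _ _⟩
  | add x y _ _ hx hy =>
    refine mem_compat.2 fun i => ?_
    rw [polar_add_left, polar_add_left]
    rcases mem_compat.1 hx i with h1 | ⟨h1, h1'⟩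
    · rcases mem_compat.1 hy i with h2 | ⟨h2, h2'⟩
      · exact compat_add_aux hZ2 h1 h2
      · rw [h2, h2', add_zero, add_zero]
        exact Or.inl h1
    · rw [h1, h1', zero_add, zero_add]
      exact mem_compat.1 hy i
  | neg x _ hx =>
    refine mem_compat.2 fun i => ?_
    rw [polar_neg_left, polar_neg_left]
    rcases mem_compat.1 hx i with h1 | ⟨h1, h1'⟩
    · left
      rw [neg_mul_neg]
      exact h1
    · right
      rw [h1, h1']
      exact ⟨neg_zero, neg_zero⟩

/-- Decompositions into hyperbolic planes over the fields with two, three or four elements. -/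
theorem HypCoords.mainA (h : HypCoords Q D e f) (hQ : (polarBilin Q).Nondegenerate)
    (hn : 7 ≤ Fintype.card ι)
    (hZ2 : ∀ z : F, z ≠ 0 → z ≠ -1 → z * z + z + 1 = 0) (h23 : (2 : F) = 0 ∨ (3 : F) = 0)
    (k : Fin 6 → Fin t) (hk : Function.Injective k) :
    ∃ K : Subgroup (GL ι F), Cfsg.Geo.decompositionStabilizer D ⊓ Cfsg.Geo.omegaGL ⇑Q < K ∧
      K < Cfsg.Geo.omegaGL ⇑Q := by
  obtain ⟨ε, hε, hε2⟩ : ∃ ε : F, (ε = 0 ∨ ε = 1) ∧ (2 : F) + ε * ε = 0 := by
    rcases h23 with h2 | h3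
    · exact ⟨0, Or.inl rfl, by rw [h2]; ring⟩
    · exact ⟨1, Or.inr rfl, by linear_combination h3⟩
  have hne : ∀ a b : Fin 6, a ≠ b → k a ≠ k b := fun a b hab => hk.ne hab
  obtain ⟨u, hu⟩ : ∃ u, u = sv e f (k 0) + sv e f (k 1) + ε • sv e f (k 2) := ⟨_, rfl⟩
  obtain ⟨v, hv⟩ : ∃ v, v = sv e f (k 3) + sv e f (k 4) + ε • sv e f (k 5) := ⟨_, rfl⟩
  have pu : ∀ x, polar Q u x = polar Q (sv e f (k 0)) x + polar Q (sv e f (k 1)) x +
      ε * polar Q (sv e f (k 2)) x := by
    intro x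
    rw [hu, polar_add_left, polar_add_left, polar_smul_left, smul_eq_mul]
  have pv : ∀ x, polar Q v x = polar Q (sv e f (k 3)) x + polar Q (sv e f (k 4)) x +
      ε * polar Q (sv e f (k 5)) x := by
    intro x
    rw [hv, polar_add_left, polar_add_left, polar_smul_left, smul_eq_mul]
  have hqu : Q u = 0 := by
    rw [hu, QuadraticMap.map_add (⇑Q), QuadraticMap.map_add (⇑Q), QuadraticMap.map_smul,
      h.q_sv, h.q_sv, h.q_sv, polar_add_left, polar_smul_right, polar_smul_right,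
      h.polar_sv_other (hne 0 1 (by decide)) (h.sv_mem _),
      h.polar_sv_other (hne 0 2 (by decide)) (h.sv_mem _),
      h.polar_sv_other (hne 1 2 (by decide)) (h.sv_mem _)]
    simp only [smul_eq_mul]
    linear_combination hε2
  have hqv : Q v = 0 := by
    rw [hv, QuadraticMap.map_add (⇑Q), QuadraticMap.map_add (⇑Q), QuadraticMap.map_smul,
      h.q_sv, h.q_sv, h.q_sv, polar_add_left, polar_smul_right, polar_smul_right,
      h.polar_sv_other (hne 3 4 (by decide)) (h.sv_mem _),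
      h.polar_sv_other (hne 3 5 (by decide)) (h.sv_mem _),
      h.polar_sv_other (hne 4 5 (by decide)) (h.sv_mem _)]
    simp only [smul_eq_mul]
    linear_combination hε2
  have huv : polar Q u v = 0 := by
    rw [pu, hv,
      h.polar_sv_three (hne 0 3 (by decide)) (hne 0 4 (by decide)) (hne 0 5 (by decide)),
      h.polar_sv_three (hne 1 3 (by decide)) (hne 1 4 (by decide)) (hne 1 5 (by decide)),
      h.polar_sv_three (hne 2 3 (by decide)) (hne 2 4 (by decide)) (hne 2 5 (by decide))]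
    ring
  have hsvcl : ∀ i, sv e f i ∈ AddSubgroup.closure (normSet Q D) :=
    fun i => AddSubgroup.subset_closure (h.sv_mem_normSet i)
  have hεP : IsP ε := by
    rcases hε with rfl | rfl
    · exact Or.inl rfl
    · exact Or.inr (Or.inl rfl)
  have hucl : u ∈ AddSubgroup.closure (normSet Q D) := by
    rw [hu]
    exact add_mem (add_mem (hsvcl _) (hsvcl _)) (hεP.smul_mem (hsvcl _))
  have hvcl : v ∈ AddSubgroup.closure (normSet Q D) := by
    rw [hv]
    exact add_mem (add_mem (hsvcl _) (hsvcl _)) (hεP.smul_mem (hsvcl _))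
  have he01 : polar Q (e (k 0)) (e (k 1)) = 0 :=
    h.orth _ _ (hne 0 1 (by decide)) _ (h.e_mem _) _ (h.e_mem _)
  refine exists_between Q D ((AddSubgroup.closure (normSet Q D) : AddSubgroup (ι → F)) :
      Set (ι → F))
    (fun g hg => maps_closure fun x hx =>
      AddSubgroup.subset_closure (decompStab_maps_normSet Q hg hx))
    ((siegG Q u v 1 hqu hqv huv : ↥(Cfsg.isometryGroup F ⇑Q)) : GL ι F)
    ((siegG Q (e (k 0)) (e (k 1)) 1 (h.hp _).qe (h.hp _).qe he01 :
      ↥(Cfsg.isometryGroup F ⇑Q)) : GL ι F)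
    ?_ (sieg_mem_omegaGL Q hQ hn u v 1 hqu hqv huv) ?_
    (sieg_mem_omegaGL Q hQ hn _ _ 1 _ _ he01) (v₂ := sv e f (k 0)) (hsvcl _) ?_
  · -- the first element preserves the additive span of the norm-one vectors
    apply mem_stabilizing_of_mapsTo
    apply maps_closure
    intro x hx
    rw [sieg_mulVec, one_smul, pu, pv, add_smul, add_smul, add_smul, add_smul]
    have hP : ∀ i, IsP (polar Q (sv e f i) x) := fun i => h.isP_polar_sv hZ2 h23 i hx
    refine add_mem (AddSubgroup.subset_closure hx)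
      (sub_mem (add_mem (add_mem ?_ ?_) ?_) (add_mem (add_mem ?_ ?_) ?_))
    · exact (hP _).smul_mem hvcl
    · exact (hP _).smul_mem hvcl
    · exact (IsP.mul_of_01 hε (hP _)).smul_mem hvcl
    · exact (hP _).smul_mem hucl
    · exact (hP _).smul_mem hucl
    · exact (IsP.mul_of_01 hε (hP _)).smul_mem hucl
  · -- the first element does not preserve the decomposition
    apply not_mem_decompStab (h.e_mem (k 0))
    have hval : (((siegG Q u v 1 hqu hqv huv : ↥(Cfsg.isometryGroup F ⇑Q)) : GL ι F) :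
        Matrix ι ι F) *ᵥ e (k 0) = e (k 0) + v := by
      rw [sieg_mulVec, one_smul, pu, pv, h.polar_sv_e,
        h.polar_sv_other (hne 1 0 (by decide)) (h.e_mem _),
        h.polar_sv_other (hne 2 0 (by decide)) (h.e_mem _),
        h.polar_sv_other (hne 3 0 (by decide)) (h.e_mem _),
        h.polar_sv_other (hne 4 0 (by decide)) (h.e_mem _),
        h.polar_sv_other (hne 5 0 (by decide)) (h.e_mem _)]
      simp
    intro j
    rw [hval]
    refine not_mem_member Q h.orth (hne 0 3 (by decide)) (h.f_mem (k 0)) (h.e_mem (k 3)) ?_ ?_ j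
    · rw [polar_add_left, (h.hp _).ef, pv,
        h.polar_sv_other (hne 3 0 (by decide)) (h.f_mem _),
        h.polar_sv_other (hne 4 0 (by decide)) (h.f_mem _),
        h.polar_sv_other (hne 5 0 (by decide)) (h.f_mem _)]
      simp
    · rw [polar_add_left, h.orth _ _ (hne 0 3 (by decide)) _ (h.e_mem _) _ (h.e_mem _), pv,
        h.polar_sv_e, h.polar_sv_other (hne 4 3 (by decide)) (h.e_mem _),
        h.polar_sv_other (hne 5 3 (by decide)) (h.e_mem _)]
      simp
  · -- the second element moves a norm-one vector out of the additive span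
    have hval : (((siegG Q (e (k 0)) (e (k 1)) 1 (h.hp _).qe (h.hp _).qe he01 :
        ↥(Cfsg.isometryGroup F ⇑Q)) : GL ι F) : Matrix ι ι F) *ᵥ sv e f (k 0) =
        sv e f (k 0) + e (k 1) := by
      rw [sieg_mulVec, one_smul, polar_comm Q (e (k 0)), h.polar_sv_e, polar_comm Q (e (k 1)),
        h.polar_sv_other (hne 0 1 (by decide)) (h.e_mem _)]
      simp
    rw [hval]
    intro hmem
    have hc := mem_compat.1 (h.compat_of_mem_closure hZ2 hmem) (k 1)
    have p1 : polar Q (sv e f (k 0) + e (k 1)) (e (k 1)) = 0 := by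
      rw [polar_add_left, h.polar_sv_other (hne 0 1 (by decide)) (h.e_mem _), (h.hp _).ee,
        add_zero]
    have p2 : polar Q (sv e f (k 0) + e (k 1)) (f (k 1)) = 1 := by
      rw [polar_add_left, h.polar_sv_other (hne 0 1 (by decide)) (h.f_mem _), (h.hp _).ef,
        zero_add]
    rw [p1, p2] at hc
    rcases hc with hc | ⟨_, hc⟩
    · rw [zero_mul] at hc
      exact zero_ne_one hc
    · exact one_ne_zero hc

/-- the second norm-one vector `2 e i + 3 f i` (over the field with five elements) -/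
def tv (e f : Fin t → ι → F) (i : Fin t) : ι → F := (2 : F) • e i + (3 : F) • f i

/-- the frame of norm-one vectors (over the field with five elements) -/
def fr5 (e f : Fin t → ι → F) : Fin t ⊕ Fin t → ι → F := Sum.elim (sv e f) (tv e f)

/-- the member containing a frame vector -/
def mem5 : Fin t ⊕ Fin t → Fin t := Sum.elim id id

theorem HypCoords.fr5_mem (h : HypCoords Q D e f) (j : Fin t ⊕ Fin t) :
    fr5 e f j ∈ D (mem5 j) := by
  rcases j with i | i
  · exact h.sv_mem i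
  · exact (D i).add_mem ((D i).smul_mem _ (h.e_mem i)) ((D i).smul_mem _ (h.f_mem i))

theorem HypCoords.q_fr5 (h : HypCoords Q D e f) (h5 : (5 : F) = 0) (j : Fin t ⊕ Fin t) :
    Q (fr5 e f j) = 1 := by
  rcases j with i | i
  · exact h.q_sv i
  · show Q ((2 : F) • e i + (3 : F) • f i) = 1
    rw [(h.hp i).q_comb]
    linear_combination h5

theorem HypCoords.orth_fr5 (h : HypCoords Q D e f) (h5 : (5 : F) = 0) (j j' : Fin t ⊕ Fin t)
    (hjj' : j ≠ j') : polar Q (fr5 e f j) (fr5 e f j') = 0 := by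
  have key : ∀ i, polar Q (sv e f i) (tv e f i) = 0 := by
    intro i
    unfold tv
    rw [h.polar_sv_comb]
    linear_combination h5
  by_cases hm : mem5 j = mem5 j'
  · rcases j with i | i <;> rcases j' with i' | i'
    · exact absurd (by rw [show i = i' from hm]) hjj'
    · have hii' : i = i' := hm
      subst hii'
      exact key i
    · have hii' : i = i' := hm
      subst hii'
      show polar Q (tv e f i) (sv e f i) = 0
      rw [polar_comm]
      exact key i
    · exact absurd (by rw [show i = i' from hm]) hjj'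
  · exact h.orth _ _ hm _ (h.fr5_mem j) _ (h.fr5_mem j')

theorem HypCoords.enum_fr5 (h : HypCoords Q D e f) (h5 : (5 : F) = 0)
    (h4 : ∀ x : F, x ≠ 0 → x ^ 4 = 1) (i : Fin t) (v : ι → F) (hv : v ∈ D i) (hq : Q v = 1) :
    ∃ j, mem5 j = i ∧ (v = fr5 e f j ∨ v = -fr5 e f j) := by
  obtain ⟨x, y, rfl⟩ := h.span i v hv
  rw [(h.hp i).q_comb] at hq
  have hx0 : x ≠ 0 := left_ne_zero_of_mul_eq_one hq
  have h4x := h4 x hx0
  have hprod : (x - 1) * ((x + 1) * ((x - 2) * (x + 2))) = 0 := by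
    linear_combination h4x + (1 - x ^ 2) * h5
  rcases mul_eq_zero.1 hprod with h1 | h1
  · have hx : x = 1 := sub_eq_zero.1 h1
    have hy : y = 1 := by rw [hx, one_mul] at hq; exact hq
    refine ⟨Sum.inl i, rfl, Or.inl ?_⟩
    rw [hx, hy, one_smul, one_smul]
    rfl
  · rcases mul_eq_zero.1 h1 with h1 | h1
    · have hx : x = -1 := eq_neg_of_add_eq_zero_left h1
      have hy : y = -1 := by rw [hx] at hq; linear_combination -hq
      refine ⟨Sum.inl i, rfl, Or.inr ?_⟩
      rw [hx, hy]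
      show (-1 : F) • e i + (-1 : F) • f i = -(e i + f i)
      module
    · rcases mul_eq_zero.1 h1 with h1 | h1
      · have hx : x = 2 := sub_eq_zero.1 h1
        have hy : y = 3 := by rw [hx] at hq; linear_combination 3 * hq - y * h5
        refine ⟨Sum.inr i, rfl, Or.inl ?_⟩
        rw [hx, hy]
        rfl
      · have hx : x = -2 := eq_neg_of_add_eq_zero_left h1
        have hy : y = -3 := by rw [hx] at hq; linear_combination (-3) * hq - y * h5
        refine ⟨Sum.inr i, rfl, Or.inr ?_⟩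
        rw [hx, hy]
        show (-2 : F) • e i + (-3 : F) • f i = -((2 : F) • e i + (3 : F) • f i)
        module

/-- Decompositions into hyperbolic planes over the field with five elements. -/
theorem HypCoords.mainB (h : HypCoords Q D e f) (hQ : (polarBilin Q).Nondegenerate)
    (hn : 7 ≤ Fintype.card ι) (h5 : (5 : F) = 0) (h4 : ∀ x : F, x ≠ 0 → x ^ 4 = 1)
    (k : Fin 4 → Fin t) (hk : Function.Injective k) :
    ∃ K : Subgroup (GL ι F), Cfsg.Geo.decompositionStabilizer D ⊓ Cfsg.Geo.omegaGL ⇑Q < K ∧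
      K < Cfsg.Geo.omegaGL ⇑Q := by
  have hne : ∀ a b : Fin 4, a ≠ b → k a ≠ k b := fun a b hab => hk.ne hab
  have h2 : (2 : F) ≠ 0 := by
    intro h2
    have : (1 : F) = 0 := by linear_combination h5 - 2 * h2
    exact one_ne_zero this
  have hc : (2 : F) * 1 ≠ 0 := by rw [mul_one]; exact h2
  have hq := h.q_fr5 h5
  have horth := h.orth_fr5 h5
  have hmem := h.fr5_mem
  have hinl : ∀ a b : Fin 4, a ≠ b → (Sum.inl (k a) : Fin t ⊕ Fin t) ≠ Sum.inl (k b) :=
    fun a b hab hh => hne a b hab (Sum.inl.inj hh)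
  have hlr : ∀ i i' : Fin t, (Sum.inl i : Fin t ⊕ Fin t) ≠ Sum.inr i' := fun i i' hh => by
    cases hh
  have hfs : ∀ v ∈ frameSet (fr5 e f), ∃ i, v ∈ D i := by
    rintro v ⟨j, rfl | rfl⟩
    · exact ⟨_, hmem j⟩
    · exact ⟨_, (D _).neg_mem (hmem j)⟩
  have he01 : polar Q (e (k 0)) (e (k 1)) = 0 :=
    h.orth _ _ (hne 0 1 (by decide)) _ (h.e_mem _) _ (h.e_mem _)
  have hq1 : ∀ a b : Fin 4, a ≠ b →
      Q (fr5 e f (Sum.inl (k a)) - fr5 e f (Sum.inl (k b))) = 2 := by
    intro a b hab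
    rw [q_sub_of_perp Q (horth _ _ (hinl a b hab)), hq, hq]
    norm_num
  refine exists_between Q D (frameSet (fr5 e f)) ?_
    ((wordG Q [fr5 e f (Sum.inl (k 0)) - fr5 e f (Sum.inl (k 1)),
      fr5 e f (Sum.inl (k 2)) - fr5 e f (Sum.inl (k 3))] : ↥(Cfsg.isometryGroup F ⇑Q)) : GL ι F)
    ((siegG Q (e (k 0)) (e (k 1)) 1 (h.hp _).qe (h.hp _).qe he01 :
      ↥(Cfsg.isometryGroup F ⇑Q)) : GL ι F)
    ?_ ?_ ?_ (sieg_mem_omegaGL Q hQ hn _ _ 1 _ _ he01) (v₂ := fr5 e f (Sum.inl (k 0)))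
    ⟨Sum.inl (k 0), Or.inl rfl⟩ ?_
  · -- the stabiliser of the decomposition preserves the frame
    rintro g ⟨⟨σ, hσ⟩, hgO⟩ v ⟨j, hvj⟩
    have hvD : v ∈ D (mem5 j) := by
      rcases hvj with rfl | rfl
      · exact hmem j
      · exact (D (mem5 j)).neg_mem (hmem j)
    have hvq : Q v = 1 := by
      rcases hvj with rfl | rfl
      · exact hq j
      · rw [QuadraticMap.map_neg, hq j]
    have hgv : (g : Matrix ι ι F) *ᵥ v ∈ D (σ (mem5 j)) := by
      rw [← hσ (mem5 j)]
      exact ⟨v, hvD, by rw [Matrix.toLin'_apply]⟩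
    obtain ⟨j', -, hj'⟩ := h.enum_fr5 h5 h4 _ _ hgv (by rw [q_of_mem_omegaGL Q hgO, hvq])
    exact ⟨j', hj'⟩
  · rw [wordG_cons, wordG_singleton, Subgroup.coe_mul]
    exact mul_mem (refl_mem_stab Q hq horth hc (hinl 0 1 (by decide)))
      (refl_mem_stab Q hq horth hc (hinl 2 3 (by decide)))
  · apply word2_mem_omegaGL Q hQ (by omega)
    · rw [hq1 0 1 (by decide)]; exact h2
    · rw [hq1 2 3 (by decide)]; exact h2
    · rw [hq1 0 1 (by decide), hq1 2 3 (by decide)]; exact ⟨2, rfl⟩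
  · -- the first element does not preserve the decomposition
    apply not_mem_decompStab (v := fr5 e f (Sum.inl (k 0)) + fr5 e f (Sum.inr (k 0)))
      (i := k 0) ((D _).add_mem (hmem (Sum.inl (k 0))) (hmem (Sum.inr (k 0))))
    have hval : (((wordG Q [fr5 e f (Sum.inl (k 0)) - fr5 e f (Sum.inl (k 1)),
        fr5 e f (Sum.inl (k 2)) - fr5 e f (Sum.inl (k 3))] : ↥(Cfsg.isometryGroup F ⇑Q)) :
        GL ι F) : Matrix ι ι F) *ᵥ (fr5 e f (Sum.inl (k 0)) + fr5 e f (Sum.inr (k 0))) =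
        fr5 e f (Sum.inl (k 1)) + fr5 e f (Sum.inr (k 0)) := by
      rw [word2_mulVec, map_add, map_add,
        refl_fix Q (horth _ _ (hinl 2 0 (by decide))) (horth _ _ (hinl 3 0 (by decide))),
        refl_fix Q (horth _ _ (hlr _ _)) (horth _ _ (hlr _ _)),
        refl_swap_left Q (hq _) (hq _) (horth _ _ (hinl 0 1 (by decide))) hc,
        refl_fix Q (horth _ _ (hlr _ _)) (horth _ _ (hlr _ _))]
    intro j
    rw [hval]
    refine not_mem_member Q h.orth (hne 1 0 (by decide)) (hmem (Sum.inl (k 1)))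
      (hmem (Sum.inr (k 0))) ?_ ?_ j
    · rw [polar_add_left, polar_self, hq, horth _ _ (hlr _ _).symm, add_zero]
      simpa using h2
    · rw [polar_add_left, polar_self, hq, horth _ _ (hlr _ _), zero_add]
      simpa using h2
  · -- the second element moves a frame vector out of all members
    have hval : (((siegG Q (e (k 0)) (e (k 1)) 1 (h.hp _).qe (h.hp _).qe he01 :
        ↥(Cfsg.isometryGroup F ⇑Q)) : GL ι F) : Matrix ι ι F) *ᵥ fr5 e f (Sum.inl (k 0)) =
        sv e f (k 0) + e (k 1) := by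
      show _ *ᵥ sv e f (k 0) = _
      rw [sieg_mulVec, one_smul, polar_comm Q (e (k 0)), h.polar_sv_e, polar_comm Q (e (k 1)),
        h.polar_sv_other (hne 0 1 (by decide)) (h.e_mem _)]
      simp
    rw [hval]
    intro hmemS
    obtain ⟨j, hj⟩ := hfs _ hmemS
    refine not_mem_member Q h.orth (hne 0 1 (by decide)) (h.e_mem (k 0)) (h.f_mem (k 1)) ?_ ?_ j hj
    · rw [polar_add_left, h.polar_sv_e,
        h.orth _ _ (hne 1 0 (by decide)) _ (h.e_mem _) _ (h.e_mem _), add_zero]
      exact one_ne_zero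
    · rw [polar_add_left, h.polar_sv_other (hne 0 1 (by decide)) (h.f_mem _), (h.hp _).ef,
        zero_add]
      exact one_ne_zero

end hyp

end Cfsg.Agent.Lib.Helper5.DecompNM
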