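import Mathlib

set_option autoImplicit false

/-!
# Counting elements of even order through the centralizer of an involution

`G` finite with one class of involutions, `C(a) ≃* Z₂ × L` with `Z(L) = 1`:
`#{g | Even (orderOf g)} * (2 * |L|) = |G| * #{x : L | Odd (orderOf x)}`.
-/

namespace Cfsg.Agent.Lib.Helper5.EvenCount

variable {G : Type*} [Group G]

/-- the power `g ^ (o(g)/2)`: the involution of `⟨g⟩` when `o(g)` is even -/
noncomputable def inv2 (g : G) : G := g ^ (orderOf g / 2)

theorem inv2_ne_one [Finite G] {g : G} (hg : Even (orderOf g)) : inv2 g ≠ 1 := by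
  intro h
  have hpos : 0 < orderOf g := orderOf_pos g
  have hdvd : orderOf g ∣ orderOf g / 2 := orderOf_dvd_of_pow_eq_one h
  obtain ⟨k, hk⟩ := hg
  have := Nat.le_of_dvd (by omega) hdvd
  omega

theorem inv2_mul_self {g : G} (hg : Even (orderOf g)) : inv2 g * inv2 g = 1 := by
  unfold inv2
  rw [← pow_add]
  obtain ⟨k, hk⟩ := hg
  have : orderOf g / 2 + orderOf g / 2 = orderOf g := by omega
  rw [this, pow_orderOf_eq_one]

theorem orderOf_conj_eq (h g : G) : orderOf (h * g * h⁻¹) = orderOf g := by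
  have := MulEquiv.orderOf_eq (MulAut.conj h) g
  rwa [MulAut.conj_apply] at this

theorem inv2_conj (h g : G) : inv2 (h * g * h⁻¹) = h * inv2 g * h⁻¹ := by
  unfold inv2
  rw [orderOf_conj_eq, conj_pow]

theorem card_fib_conj (h t : G) :
    Nat.card {g : G // Even (orderOf g) ∧ inv2 g = h * t * h⁻¹} =
      Nat.card {g : G // Even (orderOf g) ∧ inv2 g = t} := by
  symm
  apply Nat.card_congr
  refine Equiv.subtypeEquiv (MulAut.conj h).toEquiv (fun g => ?_)
  show _ ↔ Even (orderOf (MulAut.conj h g)) ∧ inv2 (MulAut.conj h g) = h * t * h⁻¹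
  rw [MulAut.conj_apply, orderOf_conj_eq, inv2_conj, mul_left_inj, mul_right_inj]

/-- the even-order elements are fibred over the involutions, with fibres of constant size -/
theorem card_even_eq_mul [Finite G] (a : G)
    (hconj : ∀ t : G, t ≠ 1 → t * t = 1 → ∃ g : G, t = g * a * g⁻¹) :
    Nat.card {g : G // Even (orderOf g)} =
      Nat.card {t : G // t ≠ 1 ∧ t * t = 1} *
        Nat.card {g : G // Even (orderOf g) ∧ inv2 g = a} := by
  classical
  letI : Fintype {t : G // t ≠ 1 ∧ t * t = 1} := Fintype.ofFinite _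
  let F : {g : G // Even (orderOf g)} → {t : G // t ≠ 1 ∧ t * t = 1} :=
    fun g => ⟨inv2 g.1, inv2_ne_one g.2, inv2_mul_self g.2⟩
  rw [Nat.card_congr (Equiv.sigmaFiberEquiv F).symm, Nat.card_sigma]
  have hfib : ∀ t : {t : G // t ≠ 1 ∧ t * t = 1},
      Nat.card {g : {g : G // Even (orderOf g)} // F g = t} =
        Nat.card {g : G // Even (orderOf g) ∧ inv2 g = a} := by
    intro t
    obtain ⟨h, hh⟩ := hconj t.1 t.2.1 t.2.2
    rw [← card_fib_conj h a, ← hh]
    apply Nat.card_congr
    refine (Equiv.subtypeEquivRight (fun g => ?_)).trans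
      (Equiv.subtypeSubtypeEquivSubtypeInter (fun g : G => Even (orderOf g))
        (fun g : G => inv2 g = t.1))
    exact Subtype.ext_iff
  rw [Finset.sum_congr rfl (fun t _ => hfib t), Finset.sum_const, Finset.card_univ, smul_eq_mul,
    ← Nat.card_eq_fintype_card]

/-- orbit-stabilizer for the class of involutions, done by hand -/
theorem card_invol_mul_card_centralizer [Finite G] (a : G) (ha1 : a ≠ 1) (ha2 : a * a = 1)
    (hconj : ∀ t : G, t ≠ 1 → t * t = 1 → ∃ g : G, t = g * a * g⁻¹) :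
    Nat.card {t : G // t ≠ 1 ∧ t * t = 1} * Nat.card ↥(Subgroup.centralizer ({a} : Set G)) =
      Nat.card G := by
  classical
  letI : Fintype {t : G // t ≠ 1 ∧ t * t = 1} := Fintype.ofFinite _
  have hc : ∀ g : G, g * a * g⁻¹ ≠ 1 ∧ (g * a * g⁻¹) * (g * a * g⁻¹) = 1 := by
    intro g
    constructor
    · intro h
      apply ha1
      have : a = g⁻¹ * (g * a * g⁻¹) * g := by group
      rw [this, h]; group
    · have : (g * a * g⁻¹) * (g * a * g⁻¹) = g * (a * a) * g⁻¹ := by group
      rw [this, ha2]; group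
  let F : G → {t : G // t ≠ 1 ∧ t * t = 1} := fun g => ⟨g * a * g⁻¹, hc g⟩
  have h1 : Nat.card G = ∑ t : {t : G // t ≠ 1 ∧ t * t = 1}, Nat.card {g : G // F g = t} := by
    rw [Nat.card_congr (Equiv.sigmaFiberEquiv F).symm, Nat.card_sigma]
  have hfib : ∀ t : {t : G // t ≠ 1 ∧ t * t = 1},
      Nat.card {g : G // F g = t} = Nat.card ↥(Subgroup.centralizer ({a} : Set G)) := by
    intro t
    obtain ⟨h, hh⟩ := hconj t.1 t.2.1 t.2.2
    apply Nat.card_congr
    refine Equiv.subtypeEquiv (Equiv.mulLeft h⁻¹) (fun g => ?_)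
    show F g = t ↔ h⁻¹ * g ∈ Subgroup.centralizer ({a} : Set G)
    rw [Subgroup.mem_centralizer_iff]
    constructor
    · intro hg x hx
      rw [Set.mem_singleton_iff] at hx
      subst hx
      have hg' : g * x * g⁻¹ = h * x * h⁻¹ := by
        rw [← hh]; exact congrArg Subtype.val hg
      calc x * (h⁻¹ * g) = h⁻¹ * (h * x * h⁻¹) * g := by group
        _ = h⁻¹ * (g * x * g⁻¹) * g := by rw [hg']
        _ = h⁻¹ * g * x := by group
    · intro hg
      have hg' := hg a (Set.mem_singleton a)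
      apply Subtype.ext
      show g * a * g⁻¹ = t.1
      rw [hh]
      calc g * a * g⁻¹ = h * ((h⁻¹ * g) * a) * g⁻¹ := by group
        _ = h * (a * (h⁻¹ * g)) * g⁻¹ := by rw [hg']
        _ = h * a * h⁻¹ := by group
  rw [h1, Finset.sum_congr rfl (fun t _ => hfib t), Finset.sum_const, Finset.card_univ, smul_eq_mul,
    ← Nat.card_eq_fintype_card]

theorem mult_zmod2_cases (ε : Multiplicative (ZMod 2)) :
    ε = 1 ∨ ε = Multiplicative.ofAdd 1 := by
  have h : ∀ x : ZMod 2, x = 0 ∨ x = 1 := by decide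
  rcases h (Multiplicative.toAdd ε) with h | h
  · left; exact Multiplicative.toAdd.injective (by rw [h]; rfl)
  · right; exact Multiplicative.toAdd.injective (by rw [h]; rfl)

/-- in `Z₂ × L`: the involution of `⟨y⟩` is `(z, 1)` iff `y = (z, l)` with `l` of odd order -/
theorem prod_iff {L : Type*} [Group L] [Finite L] (y : Multiplicative (ZMod 2) × L) :
    (Even (orderOf y) ∧ y ^ (orderOf y / 2) = (Multiplicative.ofAdd 1, 1)) ↔
      (y.1 = Multiplicative.ofAdd 1 ∧ Odd (orderOf y.2)) := by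
  obtain ⟨z, hz⟩ : ∃ z : Multiplicative (ZMod 2), z = Multiplicative.ofAdd 1 := ⟨_, rfl⟩
  rw [← hz]
  have hz2 : orderOf z = 2 := by
    rw [hz, orderOf_ofAdd_eq_addOrderOf, ZMod.addOrderOf_one]
  have hz1 : z ≠ 1 := by
    intro h; rw [h, orderOf_one] at hz2; omega
  have hzsq : z ^ 2 = 1 := by
    have := pow_orderOf_eq_one z
    rwa [hz2] at this
  have hcases : ∀ ε : Multiplicative (ZMod 2), ε = 1 ∨ ε = z := by
    intro ε; rw [hz]; exact mult_zmod2_cases ε
  constructor
  · rintro ⟨-, hy⟩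
    have h1 : y.1 ^ (orderOf y / 2) = z := by
      have := congrArg Prod.fst hy
      rw [Prod.pow_fst] at this
      exact this
    have h2 : y.2 ^ (orderOf y / 2) = 1 := by
      have := congrArg Prod.snd hy
      rw [Prod.pow_snd] at this
      exact this
    have hy1 : y.1 = z := by
      rcases hcases y.1 with h | h
      · rw [h, one_pow] at h1; exact absurd h1.symm hz1
      · exact h
    refine ⟨hy1, ?_⟩
    rw [hy1] at h1
    have hodd : Odd (orderOf y / 2) := by
      by_contra hne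
      rw [Nat.not_odd_iff_even] at hne
      obtain ⟨r, hr⟩ := hne
      rw [hr, ← two_mul, pow_mul, hzsq, one_pow] at h1
      exact hz1 h1.symm
    have hdvd : orderOf y.2 ∣ orderOf y / 2 := orderOf_dvd_of_pow_eq_one h2
    exact Odd.of_dvd_nat hodd hdvd
  · rintro ⟨hy1, hodd⟩
    have hord : orderOf y = 2 * orderOf y.2 := by
      rw [Prod.orderOf y, hy1, hz2]
      exact Nat.Coprime.lcm_eq_mul (Nat.coprime_two_left.mpr hodd)
    refine ⟨⟨orderOf y.2, by rw [hord, two_mul]⟩, ?_⟩
    have hhalf : orderOf y / 2 = orderOf y.2 := by rw [hord]; omega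
    rw [hhalf]
    apply Prod.ext
    · show (y ^ orderOf y.2).1 = z
      rw [Prod.pow_fst, hy1]
      obtain ⟨r, hr⟩ := hodd
      rw [hr, pow_succ, pow_mul, hzsq, one_pow, one_mul]
    · show (y ^ orderOf y.2).2 = 1
      rw [Prod.pow_snd, pow_orderOf_eq_one]

/-- the image of the involution under `C(a) ≃* Z₂ × L` is `(z, 1)` when `Z(L) = 1` -/
theorem e_invol {L : Type*} [Group L] (a : G) (ha1 : a ≠ 1)
    (e : ↥(Subgroup.centralizer ({a} : Set G)) ≃* Multiplicative (ZMod 2) × L)
    (hL : ∀ z : L, (∀ x : L, x * z = z * x) → z = 1)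
    (a' : ↥(Subgroup.centralizer ({a} : Set G))) (ha' : a'.1 = a) :
    e a' = (Multiplicative.ofAdd 1, 1) := by
  have hcen : ∀ c : ↥(Subgroup.centralizer ({a} : Set G)), c * a' = a' * c := by
    intro c
    apply Subtype.ext
    rw [Subgroup.coe_mul, Subgroup.coe_mul, ha']
    have := c.2
    rw [Subgroup.mem_centralizer_iff] at this
    exact (this a (Set.mem_singleton a)).symm
  have h2 : (e a').2 = 1 := by
    apply hL
    intro x
    have h := hcen (e.symm (1, x))
    have h' := congrArg e h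
    rw [map_mul, map_mul, e.apply_symm_apply] at h'
    have h'' := congrArg Prod.snd h'
    rw [Prod.snd_mul, Prod.snd_mul] at h''
    exact h''
  have h1 : (e a').1 ≠ 1 := by
    intro h1
    have h3 : e a' = 1 := Prod.ext h1 h2
    have h4 : a' = 1 := (MulEquiv.map_eq_one_iff e).mp h3
    apply ha1
    rw [← ha', h4]
    rfl
  rcases mult_zmod2_cases (e a').1 with h | h
  · exact absurd h h1
  · exact Prod.ext h h2

theorem card_fib_eq {L : Type*} [Group L] [Finite G] [Finite L] (a : G) (ha1 : a ≠ 1)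
    (e : ↥(Subgroup.centralizer ({a} : Set G)) ≃* Multiplicative (ZMod 2) × L)
    (hL : ∀ z : L, (∀ x : L, x * z = z * x) → z = 1) :
    Nat.card {g : G // Even (orderOf g) ∧ inv2 g = a} = Nat.card {x : L // Odd (orderOf x)} := by
  obtain ⟨a', ha'⟩ : ∃ a' : ↥(Subgroup.centralizer ({a} : Set G)), a'.1 = a :=
    ⟨⟨a, by rw [Subgroup.mem_centralizer_iff]; intro x hx; rw [Set.mem_singleton_iff] at hx; rw [hx]⟩,
      rfl⟩
  have hea := e_invol a ha1 e hL a' ha'
  have hmem : ∀ g : G, (Even (orderOf g) ∧ inv2 g = a) →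
      g ∈ Subgroup.centralizer ({a} : Set G) := by
    intro g hg
    rw [Subgroup.mem_centralizer_iff]
    intro x hx
    rw [Set.mem_singleton_iff] at hx
    rw [hx, ← hg.2]
    unfold inv2
    exact pow_mul_comm' g _
  have hiff : ∀ c : ↥(Subgroup.centralizer ({a} : Set G)),
      (Even (orderOf c.1) ∧ inv2 c.1 = a) ↔
        ((e c).1 = Multiplicative.ofAdd 1 ∧ Odd (orderOf (e c).2)) := by
    intro c
    rw [← prod_iff (e c)]
    have ho : orderOf (e c) = orderOf c.1 := by rw [MulEquiv.orderOf_eq, Subgroup.orderOf_coe]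
    rw [ho, ← hea, ← map_pow, e.injective.eq_iff, Subtype.ext_iff, Subgroup.coe_pow, ha']
    exact Iff.rfl
  calc Nat.card {g : G // Even (orderOf g) ∧ inv2 g = a}
      = Nat.card {c : ↥(Subgroup.centralizer ({a} : Set G)) //
          Even (orderOf c.1) ∧ inv2 c.1 = a} :=
        (Nat.card_congr (Equiv.subtypeSubtypeEquivSubtype (fun {g} hg => hmem g hg))).symm
    _ = Nat.card {y : Multiplicative (ZMod 2) × L //
          y.1 = Multiplicative.ofAdd 1 ∧ Odd (orderOf y.2)} :=
        Nat.card_congr (Equiv.subtypeEquiv e.toEquiv hiff)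
    _ = Nat.card {x : L // Odd (orderOf x)} :=
        Nat.card_congr ⟨fun y => ⟨y.1.2, y.2.2⟩,
          fun x => ⟨(Multiplicative.ofAdd 1, x.1), rfl, x.2⟩,
          fun y => Subtype.ext (Prod.ext y.2.1.symm rfl), fun x => rfl⟩

/-- **Counting even-order elements.** `G` finite with a single class of involutions, represented
by `a`, with `C_G(a) ≃* Z₂ × L` and `Z(L) = 1`. -/
theorem card_even_mul {L : Type*} [Group L] [Finite G] [Finite L] (a : G) (ha1 : a ≠ 1)
    (ha2 : a * a = 1)
    (hconj : ∀ t : G, t ≠ 1 → t * t = 1 → ∃ g : G, t = g * a * g⁻¹)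
    (e : ↥(Subgroup.centralizer ({a} : Set G)) ≃* Multiplicative (ZMod 2) × L)
    (hL : ∀ z : L, (∀ x : L, x * z = z * x) → z = 1) :
    Nat.card {g : G // Even (orderOf g)} * (2 * Nat.card L) =
      Nat.card G * Nat.card {x : L // Odd (orderOf x)} := by
  have h1 := card_even_eq_mul a hconj
  have h2 := card_invol_mul_card_centralizer a ha1 ha2 hconj
  have h3 := card_fib_eq a ha1 e hL
  have h5 : Nat.card (Multiplicative (ZMod 2)) = 2 := by
    rw [Nat.card_congr Multiplicative.toAdd, Nat.card_zmod]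
  have h4 : Nat.card ↥(Subgroup.centralizer ({a} : Set G)) = 2 * Nat.card L := by
    rw [Nat.card_congr e.toEquiv, Nat.card_prod, h5]
  rw [h1, h3, ← h4, ← h2]
  ring

end Cfsg.Agent.Lib.Helper5.EvenCount
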