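/-
helper5: S4642 leaf GINV (`glauberman_invariant`): the Glauberman correspondent of a `G`-invariant
character is invariant in `C_G(R)`.
-/
import Mathlib
import Cfsg.Prelude.Def_BrauerPairs
import Cfsg.Agent.Lib.Helper2.FongPTDefs
import Cfsg.Agent.Lib.Helper6.Clifford

set_option autoImplicit false

namespace Cfsg.Agent.Lib.Helper5.FPTGINV

open Cfsg Cfsg.Agent.CharLib Cfsg.Agent.Lib.Helper6 Cfsg.Agent.Lib.Helper2.FongPT
open scoped ComplexConjugate

universe u

variable {G : Type u} [Group G] [Fintype G] {p : ℕ} [hpp : Fact p.Prime] {M : Ideal AlgInt}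

/-- (GINV) The Glauberman correspondent is invariant in `C_G(R)`. -/
theorem glauberman_invariant (K : Subgroup G) [hKn : K.Normal] [Fintype K] (θ : IrrCharacter K)
    (hθ : ∀ g : G, IsConjCharOf K g (θ : K → ℂ) (θ : K → ℂ))
    (R : Subgroup G) [Fintype ↥(K.subgroupOf (Subgroup.centralizer (R : Set G)))]
    (θs : IrrCharacter ↥(K.subgroupOf (Subgroup.centralizer (R : Set G))))
    (h1 : ∃ m : ℕ, classInner (resSub K (Subgroup.centralizer (R : Set G)) (θ : K → ℂ))
          (θs : ↥(K.subgroupOf (Subgroup.centralizer (R : Set G))) → ℂ) = (m : ℂ) ∧ ¬ p ∣ m)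
    (h2 : ∀ η : IrrCharacter ↥(K.subgroupOf (Subgroup.centralizer (R : Set G))), η ≠ θs →
        ∃ m : ℕ, classInner (resSub K (Subgroup.centralizer (R : Set G)) (θ : K → ℂ))
          (η : ↥(K.subgroupOf (Subgroup.centralizer (R : Set G))) → ℂ) = (m : ℂ) ∧ p ∣ m) :
    ∀ h : ↥(Subgroup.centralizer (R : Set G)),
      IsConjCharOf (K.subgroupOf (Subgroup.centralizer (R : Set G))) h
        (θs : ↥(K.subgroupOf (Subgroup.centralizer (R : Set G))) → ℂ)
        (θs : ↥(K.subgroupOf (Subgroup.centralizer (R : Set G))) → ℂ) := by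
  intro h
  have hirr : IsIrrCharacter ↥(K.subgroupOf (Subgroup.centralizer (R : Set G)))
      (conjFun (K.subgroupOf (Subgroup.centralizer (R : Set G))) h
        (θs : ↥(K.subgroupOf (Subgroup.centralizer (R : Set G))) → ℂ)) :=
    isIrrCharacter_conjFun _ θs.2 h
  have hres : conjFun (K.subgroupOf (Subgroup.centralizer (R : Set G))) h⁻¹
      (resSub K (Subgroup.centralizer (R : Set G)) (θ : K → ℂ)) =
      resSub K (Subgroup.centralizer (R : Set G)) (θ : K → ℂ) := by
    funext x
    rw [conjFun_apply, resSub_apply, resSub_apply]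
    exact hθ ((h⁻¹ : ↥(Subgroup.centralizer (R : Set G))) : G) _ _ (by simp)
  have hinner : classInner (resSub K (Subgroup.centralizer (R : Set G)) (θ : K → ℂ))
      (conjFun (K.subgroupOf (Subgroup.centralizer (R : Set G))) h
        (θs : ↥(K.subgroupOf (Subgroup.centralizer (R : Set G))) → ℂ)) =
      classInner (resSub K (Subgroup.centralizer (R : Set G)) (θ : K → ℂ))
        (θs : ↥(K.subgroupOf (Subgroup.centralizer (R : Set G))) → ℂ) := by
    rw [classInner_conjFun_right, hres]
  have heq : (⟨_, hirr⟩ : IrrCharacter ↥(K.subgroupOf (Subgroup.centralizer (R : Set G)))) = θs := by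
    by_contra hne
    obtain ⟨m', hm', hpm'⟩ := h2 ⟨_, hirr⟩ hne
    obtain ⟨m, hm, hpm⟩ := h1
    rw [hinner, hm] at hm'
    have : m = m' := by exact_mod_cast hm'
    exact hpm (this ▸ hpm')
  have hfun : conjFun (K.subgroupOf (Subgroup.centralizer (R : Set G))) h
        (θs : ↥(K.subgroupOf (Subgroup.centralizer (R : Set G))) → ℂ) =
      (θs : ↥(K.subgroupOf (Subgroup.centralizer (R : Set G))) → ℂ) :=
    congrArg Subtype.val heq
  intro k k' hk
  have := congrFun hfun k
  rw [conjFun_apply] at this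
  rw [← this]
  have hkk : k' = ⟨h * (k : ↥(Subgroup.centralizer (R : Set G))) * h⁻¹,
      (inferInstance : (K.subgroupOf (Subgroup.centralizer (R : Set G))).Normal).conj_mem k k.2 h⟩ :=
    Subtype.ext hk
  rw [hkk]

end Cfsg.Agent.Lib.Helper5.FPTGINV
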