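import Mathlib
import Cfsg.Agent.Lib.Helper26.HTDefs

/-! Helper5: HT market (S3371), leaf HT-DCOUNT (`dihedral_count`): `D_{2n}`, `n ≥ 3`, has exactly
`n` non-central involutions (the reflections). -/

set_option autoImplicit false

namespace Cfsg.Agent.Lib.Helper5.HTDCOUNT

open Subgroup
open Cfsg.Agent.Lib.Helper26.HT

/-- a reflection is not central for `n ≥ 3`. -/
theorem sr_not_mem_center (n : ℕ) (hn : 3 ≤ n) (i : ZMod n) :
    DihedralGroup.sr i ∉ center (DihedralGroup n) := by
  intro hc
  rw [Subgroup.mem_center_iff] at hc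
  have h1 := hc (DihedralGroup.r 1)
  rw [DihedralGroup.r_mul_sr, DihedralGroup.sr_mul_r] at h1
  have h2 : i - 1 = i + 1 := DihedralGroup.sr.inj h1
  have h3 : (2 : ZMod n) = 0 := by
    have : (i + 1) - (i - 1) = 0 := by rw [h2]; ring
    have e : (i + 1) - (i - 1) = 2 := by ring
    rw [e] at this
    exact this
  have h4 : ((2 : ℕ) : ZMod n) = 0 := by exact_mod_cast h3
  have h5 : n ∣ 2 := (ZMod.natCast_eq_zero_iff 2 n).mp h4
  have := Nat.le_of_dvd (by norm_num) h5
  omega

/-- a rotation of order two is central. -/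
theorem r_mem_center_of_orderOf (n : ℕ) (i : ZMod n)
    (h : orderOf (DihedralGroup.r i) = 2) : DihedralGroup.r i ∈ center (DihedralGroup n) := by
  have h1 : DihedralGroup.r i ^ 2 = 1 := by rw [← h]; exact pow_orderOf_eq_one _
  rw [pow_two, DihedralGroup.r_mul_r, DihedralGroup.one_def] at h1
  have h2 : i + i = 0 := DihedralGroup.r.inj h1
  have h3 : -i = i := neg_eq_of_add_eq_zero_left h2
  rw [Subgroup.mem_center_iff]
  intro g
  cases g with
  | r j => rw [DihedralGroup.r_mul_r, DihedralGroup.r_mul_r, add_comm]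
  | sr j =>
    rw [DihedralGroup.sr_mul_r, DihedralGroup.r_mul_sr, sub_eq_add_neg, h3]

/-- **HT-DCOUNT** `D_{2n}`, `n ≥ 3`, has exactly `n` non-central involutions. -/
theorem dihedral_count (n : ℕ) (hn : 3 ≤ n) :
    Nat.card {g : DihedralGroup n // orderOf g = 2 ∧ g ∉ center (DihedralGroup n)} = n := by
  have e : ZMod n ≃ {g : DihedralGroup n // orderOf g = 2 ∧ g ∉ center (DihedralGroup n)} :=
    Equiv.ofBijective
      (fun i => ⟨DihedralGroup.sr i, DihedralGroup.orderOf_sr i, sr_not_mem_center n hn i⟩)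
      ⟨fun i j hij => DihedralGroup.sr.inj (congrArg Subtype.val hij), by
        rintro ⟨g, hg2, hgc⟩
        cases g with
        | r j => exact absurd (r_mem_center_of_orderOf n j hg2) hgc
        | sr j => exact ⟨j, rfl⟩⟩
  rw [← Nat.card_congr e, Nat.card_zmod]

end Cfsg.Agent.Lib.Helper5.HTDCOUNT
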