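import Mathlib
import Cfsg.Agent.Lib.Helper26.HTDefs
import Cfsg.Agent.Lib.Helper24.LinPGroup

/-! Helper5: HT market (S3371), leaf HT-IRR (`irreducible_of_not_semireg`): Maschke. -/

set_option autoImplicit false

namespace Cfsg.Agent.Lib.Helper5.HTIRR

open Subgroup
open Cfsg.Agent.Lib.Helper26.HT

variable {q : ℕ} [Fact q.Prime] {V : Type*} [AddCommGroup V] [Module (ZMod q) V]
  {G : Type*} [Group G]

/-- the representation underlying `ρ`. -/
noncomputable def toRep (ρ : G →* (V ≃ₗ[ZMod q] V)) : Representation (ZMod q) G V where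
  toFun g := (ρ g : V →ₗ[ZMod q] V)
  map_one' := by rw [map_one]; rfl
  map_mul' g h := by rw [map_mul]; rfl

theorem toRep_apply (ρ : G →* (V ≃ₗ[ZMod q] V)) (g : G) (v : V) : toRep ρ g v = ρ g v := rfl

/-- stabilizer of a sum of vectors from two complementary invariant subspaces. -/
theorem stab_add_le (ρ : G →* (V ≃ₗ[ZMod q] V)) {W W' : Submodule (ZMod q) V}
    (hW : ∀ g : G, ∀ w ∈ W, ρ g w ∈ W) (hW' : ∀ g : G, ∀ w ∈ W', ρ g w ∈ W')
    (hd : Disjoint W W') {w w' : V} (hw : w ∈ W) (hw' : w' ∈ W') :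
    stab ρ (w + w') ≤ stab ρ w ⊓ stab ρ w' := by
  intro g hg
  have hg' : ρ g w + ρ g w' = w + w' := by
    have : ρ g (w + w') = w + w' := hg
    rwa [map_add] at this
  have he : ρ g w - w = w' - ρ g w' := by
    have : ρ g w - w - (w' - ρ g w') = (ρ g w + ρ g w') - (w + w') := by abel
    rw [hg', sub_self] at this
    exact sub_eq_zero.mp this
  have h1 : ρ g w - w ∈ W := W.sub_mem (hW g w hw) hw
  have h2 : ρ g w - w ∈ W' := by rw [he]; exact W'.sub_mem hw' (hW' g w' hw')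
  have h0 : ρ g w - w = 0 := (Submodule.disjoint_def.mp hd) _ h1 h2
  refine ⟨sub_eq_zero.mp h0, ?_⟩
  rw [h0] at he
  exact (sub_eq_zero.mp he.symm).symm

/-- **HT-IRR** Maschke: a half-transitive, not semiregular `p`-group (`p ≠ q`) is irreducible. -/
theorem irreducible_of_not_semireg [Finite V] [Finite G] (p : ℕ) [Fact p.Prime] (hpq : p ≠ q)
    (hG : IsPGroup p G) (ρ : G →* (V ≃ₗ[ZMod q] V)) (hρ : Function.Injective ρ)
    (hT : HalfT ρ) (hns : ¬ Semireg ρ) :
    ∀ W : Submodule (ZMod q) V, (∀ g : G, ∀ w ∈ W, ρ g w ∈ W) → W = ⊥ ∨ W = ⊤ := by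
  intro W hW
  by_contra hcon
  push Not at hcon
  obtain ⟨hWb, hWt⟩ := hcon
  have hcard : (Nat.card G : ZMod q) ≠ 0 := by
    obtain ⟨k, hk⟩ := IsPGroup.iff_card.mp hG
    rw [hk]
    intro h0
    have hd : q ∣ p ^ k := by
      have := (ZMod.natCast_eq_zero_iff (p ^ k) q).mp (by exact_mod_cast h0)
      exact this
    have hqp : q ∣ p := (Fact.out : q.Prime).dvd_of_dvd_pow hd
    exact hpq ((Nat.prime_dvd_prime_iff_eq (Fact.out : q.Prime) (Fact.out : p.Prime)).mp hqp).symm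
  obtain ⟨W', hW', hcompl⟩ :=
    Cfsg.Agent.Lib.Helper24.LinPGroup.exists_inv_compl hcard (toRep ρ) W hW
  have hW'' : ∀ g : G, ∀ w ∈ W', ρ g w ∈ W' := hW'
  have hd : Disjoint W W' := hcompl.disjoint
  obtain ⟨w0, hw0W, hw00⟩ := Submodule.exists_mem_ne_zero_of_ne_bot hWb
  have hW'b : W' ≠ ⊥ := by
    intro h0
    rw [h0] at hcompl
    exact hWt (eq_top_of_isCompl_bot hcompl)
  obtain ⟨w0', hw0W', hw0'0⟩ := Submodule.exists_mem_ne_zero_of_ne_bot hW'b
  -- all stabilizers coincide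
  have key : ∀ w ∈ W, ∀ w' ∈ W', w ≠ 0 → w' ≠ 0 → stab ρ w = stab ρ w' := by
    intro w hw w' hw' hw0 hw'0
    have hle := stab_add_le ρ hW hW'' hd hw hw'
    have hne : w + w' ≠ 0 := by
      intro h0
      have h1 : w = -w' := eq_neg_of_add_eq_zero_left h0
      have h2 : w ∈ W' := by rw [h1]; exact W'.neg_mem hw'
      exact hw0 ((Submodule.disjoint_def.mp hd) _ hw h2)
    have e1 : stab ρ (w + w') = stab ρ w :=
      Subgroup.eq_of_le_of_card_ge (hle.trans inf_le_left) (hT _ _ hne hw0).symm.le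
    have e2 : stab ρ (w + w') = stab ρ w' :=
      Subgroup.eq_of_le_of_card_ge (hle.trans inf_le_right) (hT _ _ hne hw'0).symm.le
    rw [← e1, e2]
  -- the common stabilizer is trivial
  have hK : stab ρ w0 = ⊥ := by
    rw [eq_bot_iff]
    intro k hk
    rw [Subgroup.mem_bot]
    apply hρ
    rw [map_one]
    apply LinearEquiv.ext
    intro v
    have hfixW : ∀ w ∈ W, ρ k w = w := by
      intro w hw
      by_cases hw0 : w = 0
      · rw [hw0, map_zero]
      · have : stab ρ w = stab ρ w0 := by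
          rw [key w hw w0' hw0W' hw0 hw0'0, key w0 hw0W w0' hw0W' hw00 hw0'0]
        have hk' : k ∈ stab ρ w := by rw [this]; exact hk
        exact hk'
    have hfixW' : ∀ w' ∈ W', ρ k w' = w' := by
      intro w' hw'
      by_cases hw0 : w' = 0
      · rw [hw0, map_zero]
      · have hk' : k ∈ stab ρ w' := by rw [← key w0 hw0W w' hw' hw00 hw0]; exact hk
        exact hk'
    have hv : v ∈ W ⊔ W' := by rw [hcompl.sup_eq_top]; exact Submodule.mem_top
    obtain ⟨w, hw, w', hw', rfl⟩ := Submodule.mem_sup.mp hv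
    rw [map_add, hfixW w hw, hfixW' w' hw']
    rfl
  apply hns
  intro v hv g hg
  have hc : Nat.card (stab ρ v) = 1 := by
    rw [hT v w0 hv hw00, hK, Subgroup.card_bot]
  have hb : stab ρ v = ⊥ := Subgroup.card_eq_one.mp hc
  have hgm : g ∈ stab ρ v := hg
  rw [hb, Subgroup.mem_bot] at hgm
  exact hgm

end Cfsg.Agent.Lib.Helper5.HTIRR
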