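import Mathlib
import Cfsg.Agent.Lib.Helper22.FFAbF
import Cfsg.Agent.Lib.Helper27.Thompson
import Cfsg.Agent.Lib.Helper17.BGFitA
import Cfsg.Agent.S2941
import Cfsg.Agent.Lib.Helper17.WStable3
import Cfsg.Prelude.Def_JComponents
import Cfsg.Agent.Lib.Helper18.JSubDefs

set_option autoImplicit false
set_option linter.unusedSectionVars false
set_option linter.style.haveILetI false

namespace Cfsg.Agent.Lib.Helper5.JSubLeaf

open Subgroup
open scoped commutatorElement
open Cfsg.Agent.Lib.Helper8.Bridge Cfsg.Agent.Lib.Helper8.FFOff Cfsg.Agent.Lib.Helper22.FFAb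
open Cfsg.Agent.Lib.Helper18.JSub

section X
universe u
variable {X : Type u} [Group X] [Finite X] [Group.IsSolvable X]
  (hF : Cfsg.fittingSubgroup X = Cfsg.pCore 2 X) (T : Sylow 2 X)

/-- LEAF E -/
theorem isSubnormal_subgroupOf_P1
    (hD2 : ∀ c ∈ centralizer ((Wm hF T : Subgroup X) : Set X),
      ∀ x ∈ normalClosure (((T : Subgroup X) : Subgroup X) : Set X), ⁅c, x⁆ ∈ Cfsg.pCore 2 X)
    (R : Subgroup (Gam (Wm hF T))) (hR3 : IsPGroup 3 R)
    (H : Subgroup X) (hQH : Cfsg.pCore 2 X ≤ H)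
    (hHP : H ≤ R.comap (pi (Wm hF T)) ⊓ normalClosure (((T : Subgroup X) : Subgroup X) : Set X)) :
    (H.subgroupOf (R.comap (pi (Wm hF T)) ⊓
      normalClosure (((T : Subgroup X) : Subgroup X) : Set X))).IsSubnormal := by
  haveI : Fact (Nat.Prime 3) := ⟨Nat.prime_three⟩
  have hQn : (Cfsg.pCore 2 X).Normal := Cfsg.Agent.Lib.Helper1.pCore_normal 2 X
  set P1 : Subgroup X := R.comap (pi (Wm hF T)) ⊓
      normalClosure (((T : Subgroup X) : Subgroup X) : Set X) with hP1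
  have hQC : Cfsg.pCore 2 X ≤ centralizer ((Wm hF T : Subgroup X) : Set X) := by
    have h1 := Vn_le hF T
    intro q hq
    rw [mem_centralizer_iff]
    intro w hw
    have hw' := h1 (omega2_le _ _ hw)
    exact (mem_centralizer_iff.mp (mem_inf.mp hw').2 q hq).symm
  set Q1 : Subgroup ↥P1 := (Cfsg.pCore 2 X).subgroupOf P1 with hQ1
  haveI hQ1n : Q1.Normal := Subgroup.Normal.subgroupOf hQn P1
  -- the restriction of `pi` to `P1`, with values in `R`
  let φ : ↥P1 →* ↥R :=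
    ((pi (Wm hF T)).comp P1.subtype).codRestrict R (fun x => x.2.1)
  have hφ : ∀ x : ↥P1, ((φ x : ↥R) : Gam (Wm hF T)) = pi (Wm hF T) (x : X) := fun x => rfl
  have hφQ : ∀ x ∈ Q1, φ x = 1 := by
    intro x hx
    apply Subtype.ext
    rw [hφ]
    have : (x : X) ∈ (pi (Wm hF T)).ker := by
      rw [ker_pi]; exact hQC (Subgroup.mem_subgroupOf.1 hx)
    exact this
  let ψ : ↥P1 ⧸ Q1 →* ↥R := QuotientGroup.lift Q1 φ hφQ
  have hker : ψ.ker ≤ center (↥P1 ⧸ Q1) := by
    intro xb hxb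
    induction xb using QuotientGroup.induction_on with
    | H x =>
      rw [MonoidHom.mem_ker] at hxb
      have hx1 : φ x = 1 := hxb
      have hxC : (x : X) ∈ centralizer ((Wm hF T : Subgroup X) : Set X) := by
        rw [← ker_pi, MonoidHom.mem_ker, ← hφ, hx1]; rfl
      rw [Subgroup.mem_center_iff]
      intro yb
      induction yb using QuotientGroup.induction_on with
      | H y =>
        have hcomm : ⁅(x : X), (y : X)⁆ ∈ Cfsg.pCore 2 X := hD2 _ hxC _ y.2.2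
        have h1 : ⁅x, y⁆ ∈ Q1 := by
          rw [hQ1, Subgroup.mem_subgroupOf]
          simpa [commutatorElement_def] using hcomm
        have h2 : ((⁅x, y⁆ : ↥P1) : ↥P1 ⧸ Q1) = 1 := (QuotientGroup.eq_one_iff _).2 h1
        rw [commutatorElement_def] at h2
        have h3 : ((x : ↥P1) : ↥P1 ⧸ Q1) * (y : ↥P1 ⧸ Q1) * (x : ↥P1 ⧸ Q1)⁻¹ * (y : ↥P1 ⧸ Q1)⁻¹ = 1 := by
          simpa using h2
        have h4 : ((x : ↥P1) : ↥P1 ⧸ Q1) * (y : ↥P1 ⧸ Q1) = (y : ↥P1 ⧸ Q1) * (x : ↥P1 ⧸ Q1) := by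
          have := congrArg (fun z => z * ((y : ↥P1 ⧸ Q1) * (x : ↥P1 ⧸ Q1))) h3
          simpa [mul_assoc] using this
        exact h4.symm
  haveI hRnil : Group.IsNilpotent ↥R := hR3.isNilpotent
  haveI hnil : Group.IsNilpotent (↥P1 ⧸ Q1) := _root_.isNilpotent_of_ker_le_center ψ hker
  have hsub : ((H.subgroupOf P1).map (QuotientGroup.mk' Q1)).IsSubnormal :=
    Cfsg.Agent.Lib.Helper17.BGU.isSubnormal_of_isNilpotent _ _ rfl
  have h5 := hsub.comap (QuotientGroup.mk' Q1)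
  rw [QuotientGroup.comap_map_mk'] at h5
  have h6 : Q1 ⊔ H.subgroupOf P1 = H.subgroupOf P1 := by
    apply sup_eq_right.2
    intro x hx
    rw [hQ1, Subgroup.mem_subgroupOf] at hx
    rw [Subgroup.mem_subgroupOf]
    exact hQH hx
  rw [h6] at h5
  exact h5

end X

end Cfsg.Agent.Lib.Helper5.JSubLeaf
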