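import Mathlib
import Cfsg.Agent.Lib.Helper22.FFAbF
import Cfsg.Agent.Lib.Helper27.Thompson
import Cfsg.Agent.Lib.Helper17.BGFitA
import Cfsg.Agent.S2941
import Cfsg.Agent.Lib.Helper17.WStable3
import Cfsg.Prelude.Def_JComponents
import Cfsg.Agent.Lib.Helper18.JSubDefs

set_option autoImplicit false
set_option linter.unusedSectionVars false
set_option linter.style.haveILetI false

namespace Cfsg.Agent.Lib.Helper5.JSubLeaf

open Subgroup
open scoped commutatorElement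
open Cfsg.Agent.Lib.Helper8.Bridge Cfsg.Agent.Lib.Helper8.FFOff Cfsg.Agent.Lib.Helper22.FFAb
open Cfsg.Agent.Lib.Helper18.JSub

section G
variable {G : Type*} [Group G] [Finite G]

/-- LEAF G1 -/
theorem isSolvable_of_mem_jOvergroups
    (hN : ∀ N : Subgroup G, Cfsg.IsTwoLocal N → Group.IsSolvable ↥N)
    {T L : Subgroup G} (hT1 : T ≠ ⊥) (hLT : L ∈ Cfsg.jOvergroups T) : Group.IsSolvable ↥L := by
  obtain ⟨hS, hJ, hC⟩ := hLT
  haveI : Fact (Nat.Prime 2) := ⟨Nat.prime_two⟩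
  have hOne : Cfsg.pCoreOf 2 L ≠ ⊥ := by
    intro h
    rw [h] at hC
    apply hT1
    rw [eq_bot_iff]
    refine le_trans ?_ hC
    intro g _
    rw [Subgroup.mem_centralizer_iff]
    intro x hx
    have hx1 : x = 1 := by simpa using hx
    rw [hx1, one_mul, mul_one]
  have hO2 : IsPGroup 2 (Cfsg.pCoreOf 2 L) :=
    Cfsg.Agent.Lib.Helper17.PrimeAct.pCoreOf_isPGroup 2 L
  have hloc : Cfsg.IsTwoLocal (normalizer ((Cfsg.pCoreOf 2 L : Subgroup G) : Set G)) :=
    ⟨Cfsg.pCoreOf 2 L, hO2, hOne, rfl⟩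
  haveI := hN _ hloc
  have hLN : L ≤ normalizer ((Cfsg.pCoreOf 2 L : Subgroup G) : Set G) :=
    Cfsg.Agent.Lib.Helper17.BGU.le_normalizer_pCoreOf 2 L
  exact solvable_of_solvable_injective (Subgroup.inclusion_injective hLN)

end G

end Cfsg.Agent.Lib.Helper5.JSubLeaf
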