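import Mathlib
import Cfsg.Agent.Lib.Helper22.FFAbF
import Cfsg.Agent.Lib.Helper27.Thompson
import Cfsg.Agent.Lib.Helper17.BGFitA
import Cfsg.Agent.S2941
import Cfsg.Agent.Lib.Helper17.WStable3
import Cfsg.Prelude.Def_JComponents
import Cfsg.Agent.Lib.Helper18.JSubDefs

set_option autoImplicit false
set_option linter.unusedSectionVars false
set_option linter.style.haveILetI false

namespace Cfsg.Agent.Lib.Helper5.JSubLeaf

open Subgroup
open scoped commutatorElement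
open Cfsg.Agent.Lib.Helper8.Bridge Cfsg.Agent.Lib.Helper8.FFOff Cfsg.Agent.Lib.Helper22.FFAb
open Cfsg.Agent.Lib.Helper18.JSub

section G
variable {G : Type*} [Group G] [Finite G]

/-- LEAF G2 -/
theorem fitting_eq_pCore_of_mem_jOvergroups {T L : Subgroup G} (hLT : L ∈ Cfsg.jOvergroups T) :
    Cfsg.fittingSubgroup ↥L = Cfsg.pCore 2 ↥L := by
  obtain ⟨hS, hJ, hC⟩ := hLT
  haveI : Fact (Nat.Prime 2) := ⟨Nat.prime_two⟩
  rw [Cfsg.Agent.Lib.Helper1.fittingSubgroup_eq_iSup_pCore]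
  apply le_antisymm
  · apply iSup_le
    intro q
    haveI hq : Fact (Nat.Prime (q : ℕ)) := ⟨q.2⟩
    by_cases hq2 : (q : ℕ) = 2
    · rw [hq2]
    · have hQ2 := Cfsg.Agent.Lib.Helper1.pCore_isPGroup 2 ↥L
      have hQq := Cfsg.Agent.Lib.Helper1.pCore_isPGroup (q : ℕ) ↥L
      have hdis : Disjoint (Cfsg.pCore (q : ℕ) ↥L) (Cfsg.pCore 2 ↥L) :=
        IsPGroup.disjoint_of_ne (q : ℕ) 2 hq2 _ _ hQq hQ2
      intro x hx
      -- `x` centralizes `O₂(L)`
      have hcomm : ∀ y ∈ Cfsg.pCore 2 ↥L, Commute x y := fun y hy =>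
        Subgroup.commute_of_normal_of_disjoint _ _
          (Cfsg.Agent.Lib.Helper1.pCore_normal (q : ℕ) ↥L)
          (Cfsg.Agent.Lib.Helper1.pCore_normal 2 ↥L) hdis x y hx hy
      have hxc : (x : G) ∈ centralizer ((Cfsg.pCoreOf 2 L : Subgroup G) : Set G) := by
        rw [Subgroup.mem_centralizer_iff]
        rintro _ ⟨y, hy, rfl⟩
        have := (hcomm y hy).eq
        have h2 := congrArg (fun z : ↥L => (z : G)) this
        simpa using h2.symm
      obtain ⟨y, hy, hyx⟩ := hC hxc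
      have hxy : y = x := Subtype.ext hyx
      rw [hxy] at hy
      have : x ∈ Cfsg.pCore (q : ℕ) ↥L ⊓ Cfsg.pCore 2 ↥L := ⟨hx, hy⟩
      rw [hdis.eq_bot] at this
      rw [Subgroup.mem_bot.1 this]
      exact one_mem _
  · exact le_iSup (fun q : Nat.Primes => Cfsg.pCore (q : ℕ) ↥L) ⟨2, Nat.prime_two⟩

end G

end Cfsg.Agent.Lib.Helper5.JSubLeaf
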