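import Mathlib
import Cfsg.Agent.Lib.Helper22.FFAbF
import Cfsg.Agent.Lib.Helper27.Thompson
import Cfsg.Agent.Lib.Helper17.BGFitA
import Cfsg.Agent.S2941
import Cfsg.Agent.Lib.Helper17.WStable3
import Cfsg.Prelude.Def_JComponents
import Cfsg.Agent.Lib.Helper18.JSubDefs

set_option autoImplicit false
set_option linter.unusedSectionVars false
set_option linter.style.haveILetI false

namespace Cfsg.Agent.Lib.Helper5.JSubLeaf

open Subgroup
open scoped commutatorElement
open Cfsg.Agent.Lib.Helper8.Bridge Cfsg.Agent.Lib.Helper8.FFOff Cfsg.Agent.Lib.Helper22.FFAb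
open Cfsg.Agent.Lib.Helper18.JSub

section G
variable {G : Type*} [Group G] [Finite G]

/-- LEAF G4 -/
theorem centralizer_ZT_le_normalizer
    (hZ : ∀ S : Sylow 2 G, centralizer (Cfsg.omegaCenterOf (S : Subgroup G) : Set G) ≤
      normalizer ((S : Subgroup G) : Set G))
    {T L : Subgroup G} (hLT : L ∈ Cfsg.jOvergroups T) (T' : Sylow 2 ↥L)
    (hT' : (T' : Subgroup ↥L) = T.subgroupOf L) :
    centralizer ((ZT T' : Subgroup ↥L) : Set ↥L) ≤ normalizer ((T' : Subgroup ↥L) : Set ↥L) := by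
  obtain ⟨⟨hTL, hT2, hodd⟩, hJ, hC⟩ := hLT
  haveI : Fact (Nat.Prime 2) := ⟨Nat.prime_two⟩
  obtain ⟨S, hTS⟩ := hT2.exists_le_sylow
  -- `O₂(L) ≤ T`
  have hOT : Cfsg.pCoreOf 2 L ≤ T := by
    rintro _ ⟨y, hy, rfl⟩
    have h1 : y ∈ (T' : Subgroup ↥L) := Cfsg.Agent.Lib.Helper1.pCore_le_sylow T' hy
    rw [hT', Subgroup.mem_subgroupOf] at h1
    exact h1
  -- `Ω₁Z(S) ≤ Z(S)`
  have hZS : Cfsg.omegaCenterOf (S : Subgroup G) ≤
      (S : Subgroup G) ⊓ centralizer ((S : Subgroup G) : Set G) := by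
    unfold Cfsg.omegaCenterOf Cfsg.omegaOne
    rw [Subgroup.closure_le]
    intro x hx
    exact hx.1
  have hZcS : Cfsg.omegaCenterOf (S : Subgroup G) ≤ centralizer ((S : Subgroup G) : Set G) :=
    hZS.trans inf_le_right
  have hZT : Cfsg.omegaCenterOf (S : Subgroup G) ≤ T := by
    refine le_trans ?_ (hC.trans hOT)
    exact hZcS.trans (Subgroup.centralizer_le (hOT.trans hTS))
  have hZcT : Cfsg.omegaCenterOf (S : Subgroup G) ≤ centralizer ((T : Subgroup G) : Set G) :=
    hZcS.trans (Subgroup.centralizer_le hTS)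
  -- `T' = (S ⊓ L).subgroupOf L`
  have hTS' : ∀ t : ↥L, t ∈ (T' : Subgroup ↥L) ↔ (t : G) ∈ (S : Subgroup G) := by
    have hp : IsPGroup 2 ↥((S : Subgroup G).subgroupOf L) := S.isPGroup'.comap_subtype
    have hle : (T' : Subgroup ↥L) ≤ (S : Subgroup G).subgroupOf L := by
      rw [hT']
      intro t ht
      rw [Subgroup.mem_subgroupOf] at ht ⊢
      exact hTS ht
    have heq := T'.is_maximal' hp hle
    intro t
    rw [← heq, Subgroup.mem_subgroupOf]
  intro c hc
  -- `c` centralizes `Ω₁Z(S)`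
  have hcZ : (c : G) ∈ centralizer (Cfsg.omegaCenterOf (S : Subgroup G) : Set G) := by
    rw [Subgroup.mem_centralizer_iff]
    intro z hz
    have hzT : z ∈ T := hZT hz
    have hzmem : (⟨z, hTL hzT⟩ : ↥L) ∈ ZT T' := by
      refine ⟨?_, ?_⟩
      · show (⟨z, hTL hzT⟩ : ↥L) ∈ (T' : Subgroup ↥L)
        rw [hT', Subgroup.mem_subgroupOf]; exact hzT
      · show (⟨z, hTL hzT⟩ : ↥L) ∈ centralizer ((T' : Subgroup ↥L) : Set ↥L)
        rw [Subgroup.mem_centralizer_iff]
        intro t ht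
        have ht' : (t : G) ∈ T := by
          have : t ∈ (T' : Subgroup ↥L) := ht
          rw [hT', Subgroup.mem_subgroupOf] at this
          exact this
        have := (Subgroup.mem_centralizer_iff.1 (hZcT hz)) (t : G) ht'
        exact Subtype.ext this
    have := (Subgroup.mem_centralizer_iff.1 hc) _ hzmem
    exact congrArg (fun w : ↥L => (w : G)) this
  have hcN := hZ S hcZ
  rw [Subgroup.mem_normalizer_iff] at hcN ⊢
  intro t
  rw [hTS', hTS']
  exact hcN (t : G)

end G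

end Cfsg.Agent.Lib.Helper5.JSubLeaf
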