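import Mathlib

/-!
# Jordan's theorem on primitive groups containing a cycle of prime length

A primitive subgroup `G` of `Equiv.Perm α` which contains a cycle of prime length `p`
with `p + 3 ≤ card α` contains the alternating group (Wielandt, 13.9).

Proof.  Let `S` be the support of the cycle `g`.  By Jordan's multiple primitivity criterion
(`MulAction.IsPreprimitive.isMultiplyPreprimitive`), `G` is `(n - p + 1)`-fold transitive,
so every permutation of the complement of `S` is induced by some element of `G`.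
The subgroup `K` of `G` fixing the complement of `S` pointwise embeds in `Perm S`,
so `p ^ 2` does not divide its order and `⟨g⟩` is a Sylow `p`-subgroup of `K`.
Hence (Frattini) every involution `σ` of the complement of `S` is induced by some
`x ∈ G` normalising `⟨g⟩`.  For two such elements `x₁`, `x₂` the commutator
`z = x₁⁻¹ x₂⁻¹ x₁ x₂` centralises `g`, so it acts on `S` as a power `g ^ i`, and
`(g ^ i)⁻¹ * z` is a `3`-cycle lying in `G`.
-/

namespace Cfsg.Agent.Lib.Helper5.JordanCycle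

open Equiv Equiv.Perm MulAction

open scoped Pointwise

/-- In a finite group whose order is not divisible by `p ^ 2`, two elements of order `p`
generate conjugate subgroups. -/
theorem exists_conj_eq_zpow {K : Type*} [Group K] [Finite K] {p : ℕ} (hp : p.Prime)
    (hK : ¬ p ^ 2 ∣ Nat.card K) {x y : K} (hx : orderOf x = p) (hy : orderOf y = p) :
    ∃ u : K, ∃ j : ℤ, u * y * u⁻¹ = x ^ j := by
  haveI : Fact p.Prime := ⟨hp⟩
  have hK0 : Nat.card K ≠ 0 := Nat.card_pos.ne'
  have hfac : (Nat.card K).factorization p = 1 := by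
    have h1 : p ∣ Nat.card K := hx ▸ orderOf_dvd_natCard x
    have h2 : 0 < (Nat.card K).factorization p := hp.factorization_pos_of_dvd hK0 h1
    have h3 : ¬ 2 ≤ (Nat.card K).factorization p := fun h =>
      hK ((hp.pow_dvd_iff_le_factorization hK0).mpr h)
    omega
  have hcx : Nat.card (Subgroup.zpowers x) = p ^ (Nat.card K).factorization p := by
    rw [hfac, pow_one, Nat.card_zpowers, hx]
  have hcy : Nat.card (Subgroup.zpowers y) = p ^ (Nat.card K).factorization p := by
    rw [hfac, pow_one, Nat.card_zpowers, hy]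
  obtain ⟨u, hu⟩ := MulAction.exists_smul_eq K (Sylow.ofCard (Subgroup.zpowers y) hcy)
    (Sylow.ofCard (Subgroup.zpowers x) hcx)
  refine ⟨u, ?_⟩
  have hyQ : y ∈ ((Sylow.ofCard (Subgroup.zpowers y) hcy : Sylow p K) : Subgroup K) :=
    Subgroup.mem_zpowers y
  have h1 : MulAut.conj u • y ∈
      MulAut.conj u • ((Sylow.ofCard (Subgroup.zpowers y) hcy : Sylow p K) : Subgroup K) :=
    Subgroup.smul_mem_pointwise_smul _ _ _ hyQ
  rw [← Sylow.coe_subgroup_smul, hu] at h1
  have h2 : u * y * u⁻¹ ∈ Subgroup.zpowers x := h1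
  obtain ⟨j, hj⟩ := Subgroup.mem_zpowers_iff.mp h2
  exact ⟨j, hj.symm⟩

/-- `p ^ 2` does not divide `p !`. -/
theorem not_sq_dvd_factorial {p : ℕ} (hp : p.Prime) : ¬ p ^ 2 ∣ p.factorial := by
  intro h
  obtain ⟨q, rfl⟩ : ∃ q, p = q + 1 := ⟨p - 1, by have := hp.pos; omega⟩
  rw [Nat.factorial_succ, pow_two] at h
  have h' : (q + 1) ∣ q.factorial := Nat.dvd_of_mul_dvd_mul_left (Nat.succ_pos q) h
  have := (hp.dvd_factorial).mp h'
  omega

/-- The permutations fixing every point outside the finset `S`. -/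
def fixOut {α : Type*} (S : Finset α) : Subgroup (Perm α) where
  carrier := {f | ∀ a, a ∉ S → f a = a}
  mul_mem' := by
    intro f₁ f₂ h₁ h₂ a ha
    simp only [Set.mem_setOf_eq] at h₁ h₂
    rw [Perm.mul_apply, h₂ a ha, h₁ a ha]
  one_mem' := fun a _ => rfl
  inv_mem' := by
    intro f h a ha
    simp only [Set.mem_setOf_eq] at h
    rw [Perm.inv_eq_iff_eq]
    exact (h a ha).symm

theorem mem_fixOut {α : Type*} {S : Finset α} {f : Perm α} :
    f ∈ fixOut S ↔ ∀ a, a ∉ S → f a = a := Iff.rfl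

theorem card_fixOut_dvd {α : Type*} [Fintype α] [DecidableEq α] (S : Finset α) :
    Nat.card (fixOut S) ∣ S.card.factorial := by
  have hle : fixOut S ≤ (Perm.ofSubtype : Perm {x // x ∈ S} →* Perm α).range := by
    intro f hf
    rw [mem_fixOut] at hf
    have h₂ : ∀ x, f x ≠ x → x ∈ S := fun x hx => by
      by_contra h; exact hx (hf x h)
    have h₁ : ∀ x, f x ∈ S ↔ x ∈ S := by
      intro x
      constructor
      · intro hfx
        by_contra h
        rw [hf x h] at hfx
        exact h hfx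
      · intro hx
        by_contra h
        have h' : f x = x := f.injective (hf (f x) h)
        rw [h'] at h
        exact h hx
    exact ⟨Perm.subtypePerm f h₁, Perm.ofSubtype_subtypePerm h₁ h₂⟩
  have h1 : Nat.card (fixOut S) ∣
      Nat.card (Perm.ofSubtype : Perm {x // x ∈ S} →* Perm α).range :=
    Subgroup.card_dvd_of_le hle
  have h2 : Nat.card (Perm.ofSubtype : Perm {x // x ∈ S} →* Perm α).range ∣
      Nat.card (Perm {x // x ∈ S}) :=
    Subgroup.card_range_dvd _
  have h3 : Nat.card (Perm {x // x ∈ S}) = S.card.factorial := by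
    rw [Nat.card_perm, Nat.card_eq_fintype_card, Fintype.card_coe]
  exact h3 ▸ h1.trans h2

variable {α : Type*} [Fintype α] [DecidableEq α] {G : Subgroup (Perm α)}

/-- Every permutation of the complement of the support of `g` is induced by an element of `G`. -/
theorem exists_mem_eq_on_compl (hG : IsPreprimitive G α) {p : ℕ} (hp : p.Prime)
    (hp' : p + 3 ≤ Nat.card α) {g : Perm α} (hgc : g.IsCycle) (hgp : g.support.card = p)
    (hg : g ∈ G) (σ : Perm α) : ∃ h ∈ G, ∀ a, a ∉ g.support → h a = σ a := by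
  classical
  have hp2 := hp.two_le
  obtain ⟨m, hm⟩ : ∃ m, Nat.card α = p + (m + 3) := ⟨Nat.card α - p - 3, by omega⟩
  have hsc : Set.ncard ((g.support : Set α)ᶜ) = (m + 2) + 1 := by
    apply Nat.add_left_cancel (n := (g.support : Set α).ncard)
    rw [Set.ncard_add_ncard_compl, Set.ncard_coe_finset, hgp, hm]
  have hprim : IsPreprimitive (fixingSubgroup G ((g.support : Set α)ᶜ))
      (SubMulAction.ofFixingSubgroup G ((g.support : Set α)ᶜ)) := by
    have := isPretransitive_of_isCycle_mem hgc hg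
    apply IsPreprimitive.of_prime_card
    convert hp
    rw [Nat.card_eq_fintype_card, Fintype.card_subtype, ← hgp]
    apply congr_arg
    ext x
    simp [SubMulAction.mem_ofFixingSubgroup_iff]
  have hmp : IsMultiplyPreprimitive G α (m + 2 + 2) :=
    hG.isMultiplyPreprimitive hsc (by omega) hprim
  have hmt : IsMultiplyPretransitive G α (m + 2 + 2) :=
    IsMultiplyPreprimitive.isMultiplyPretransitive G α (m + 2 + 2)
  have hmt' : IsMultiplyPretransitive G α (m + 3) :=
    isMultiplyPretransitive_of_le (n := m + 2 + 2) (by omega) (by omega)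
  have hcard : Fintype.card {a // a ∉ g.support} = m + 3 := by
    rw [Fintype.card_subtype_compl, Fintype.card_coe, hgp, ← Nat.card_eq_fintype_card, hm]
    omega
  let e : {a // a ∉ g.support} ≃ Fin (m + 3) := Fintype.equivFinOfCardEq hcard
  let x : Fin (m + 3) ↪ α := e.symm.toEmbedding.trans (Function.Embedding.subtype _)
  let y : Fin (m + 3) ↪ α := x.trans σ.toEmbedding
  obtain ⟨h, hh⟩ := (isMultiplyPretransitive_iff.mp hmt') x y
  refine ⟨h.1, h.2, fun a ha => ?_⟩
  have := DFunLike.congr_fun hh (e ⟨a, ha⟩)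
  simpa [x, y, Function.Embedding.smul_apply, Subgroup.smul_def] using this

/-- Every involution of the complement of the support of `g` is induced by an element of `G`
normalising `⟨g⟩`. -/
theorem exists_normalizing (hG : IsPreprimitive G α) {p : ℕ} (hp : p.Prime)
    (hp' : p + 3 ≤ Nat.card α) {g : Perm α} (hgc : g.IsCycle) (hgp : g.support.card = p)
    (hg : g ∈ G) (σ : Perm α) (hσ2 : ∀ a, σ (σ a) = a)
    (hσs : ∀ a, a ∉ g.support → σ a ∉ g.support) :
    ∃ x ∈ G, ∃ j : ℤ, x * g * x⁻¹ = g ^ j ∧ (∀ a, a ∉ g.support → x a = σ a) ∧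
      (∀ a, a ∉ g.support → x⁻¹ a = σ a) := by
  haveI : Fact p.Prime := ⟨hp⟩
  obtain ⟨h, hhG, hh⟩ := exists_mem_eq_on_compl hG hp hp' hgc hgp hg σ
  have hhinv : ∀ a, a ∉ g.support → h⁻¹ a = σ a := by
    intro a ha
    rw [Perm.inv_eq_iff_eq, hh _ (hσs a ha), hσ2]
  have hgK : g ∈ G ⊓ fixOut g.support := ⟨hg, fun a ha => Perm.notMem_support.mp ha⟩
  have hcK : h * g * h⁻¹ ∈ G ⊓ fixOut g.support := by
    refine ⟨G.mul_mem (G.mul_mem hhG hg) (G.inv_mem hhG), fun a ha => ?_⟩
    rw [Perm.mul_apply, Perm.mul_apply, hhinv a ha, Perm.notMem_support.mp (hσs a ha),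
      hh _ (hσs a ha), hσ2]
  have hKcard : ¬ p ^ 2 ∣ Nat.card ↥(G ⊓ fixOut g.support) := by
    intro hdvd
    have h1 : Nat.card ↥(G ⊓ fixOut g.support) ∣ Nat.card (fixOut g.support) :=
      Subgroup.card_dvd_of_le inf_le_right
    have h2 := card_fixOut_dvd g.support
    rw [hgp] at h2
    exact not_sq_dvd_factorial hp (hdvd.trans (h1.trans h2))
  have hgo : orderOf g = p := by rw [hgc.orderOf, hgp]
  have hx : orderOf (⟨g, hgK⟩ : ↥(G ⊓ fixOut g.support)) = p := by
    rw [Subgroup.orderOf_mk]; exact hgo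
  have hco : orderOf (h * g * h⁻¹) = p := by
    apply orderOf_eq_prime
    · rw [conj_pow, ← hgo, pow_orderOf_eq_one, mul_one, mul_inv_cancel]
    · rw [Ne, conj_eq_one_iff]; exact hgc.ne_one
  have hy : orderOf (⟨h * g * h⁻¹, hcK⟩ : ↥(G ⊓ fixOut g.support)) = p := by
    rw [Subgroup.orderOf_mk]; exact hco
  obtain ⟨u, j, huj⟩ := exists_conj_eq_zpow hp hKcard hx hy
  have huj' : (u : Perm α) * (h * g * h⁻¹) * (u : Perm α)⁻¹ = g ^ j := by
    have := congrArg (Subtype.val) huj
    simpa using this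
  have huG : (u : Perm α) ∈ G := u.2.1
  have huF : ∀ a, a ∉ g.support → (u : Perm α) a = a := u.2.2
  have huFinv : ∀ a, a ∉ g.support → (u : Perm α)⁻¹ a = a := fun a ha => by
    rw [Perm.inv_eq_iff_eq, huF a ha]
  refine ⟨u * h, G.mul_mem huG hhG, j, ?_, ?_, ?_⟩
  · rw [← huj']; group
  · intro a ha
    rw [Perm.mul_apply, hh a ha, huF _ (hσs a ha)]
  · intro a ha
    rw [mul_inv_rev, Perm.mul_apply, huFinv a ha, hhinv a ha]

/-- **Jordan's theorem**: a primitive subgroup of `Equiv.Perm α` that contains a cycle of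
prime length `p` with `p + 3 ≤ card α` contains the alternating group (Wielandt, 13.9).
This is the statement `Equiv.Perm.alternatingGroup_le_of_isPreprimitive_of_isCycle_mem`
asked for in Mathlib's `GroupTheory/GroupAction/Jordan.lean`. -/
theorem jordan_prime_cycle (hG : IsPreprimitive G α) {p : ℕ} (hp : p.Prime)
    (hp' : p + 3 ≤ Nat.card α) {g : Perm α} (hgc : g.IsCycle) (hgp : g.support.card = p)
    (hg : g ∈ G) : alternatingGroup α ≤ G := by
  classical
  have hcompl : 2 < (g.supportᶜ).card := by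
    rw [Finset.card_compl, hgp, ← Nat.card_eq_fintype_card]; omega
  obtain ⟨a, b, c, ha, hb, hc, hab, hac, hbc⟩ := Finset.two_lt_card_iff.mp hcompl
  rw [Finset.mem_compl] at ha hb hc
  have hsw : ∀ u v : α, u ∉ g.support → v ∉ g.support →
      ∀ t, t ∉ g.support → swap u v t ∉ g.support := by
    intro u v hu hv t ht
    by_cases h1 : t = u
    · subst h1; rw [swap_apply_left]; exact hv
    by_cases h2 : t = v
    · subst h2; rw [swap_apply_right]; exact hu
    rw [swap_apply_of_ne_of_ne h1 h2]; exact ht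
  obtain ⟨x₁, hx₁G, j₁, hx₁g, hx₁, hx₁i⟩ := exists_normalizing hG hp hp' hgc hgp hg (swap a b)
    (fun t => swap_apply_self a b t) (hsw a b ha hb)
  obtain ⟨x₂, hx₂G, j₂, hx₂g, hx₂, hx₂i⟩ := exists_normalizing hG hp hp' hgc hgp hg (swap a c)
    (fun t => swap_apply_self a c t) (hsw a c ha hc)
  have hA : (x₁ * x₂) * g * (x₁ * x₂)⁻¹ = g ^ (j₁ * j₂) := by
    have : (x₁ * x₂) * g * (x₁ * x₂)⁻¹ = x₁ * (x₂ * g * x₂⁻¹) * x₁⁻¹ := by group
    rw [this, hx₂g, ← conj_zpow, hx₁g, ← zpow_mul]
  have hB : (x₂ * x₁) * g * (x₂ * x₁)⁻¹ = g ^ (j₁ * j₂) := by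
    have : (x₂ * x₁) * g * (x₂ * x₁)⁻¹ = x₂ * (x₁ * g * x₁⁻¹) * x₂⁻¹ := by group
    rw [this, hx₁g, ← conj_zpow, hx₂g, ← zpow_mul, mul_comm j₂ j₁]
  obtain ⟨z, hz⟩ : ∃ z, z = x₁⁻¹ * x₂⁻¹ * x₁ * x₂ := ⟨_, rfl⟩
  have hzG : z ∈ G := by
    rw [hz]
    exact G.mul_mem (G.mul_mem (G.mul_mem (G.inv_mem hx₁G) (G.inv_mem hx₂G)) hx₁G) hx₂G
  have hzg : z * g = g * z := by
    have h1 : z = (x₂ * x₁)⁻¹ * (x₁ * x₂) := by rw [hz]; group
    have h2 : (x₁ * x₂) * g = g ^ (j₁ * j₂) * (x₁ * x₂) := by rw [← hA]; group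
    have h3 : g * (x₂ * x₁)⁻¹ = (x₂ * x₁)⁻¹ * g ^ (j₁ * j₂) := by rw [← hB]; group
    calc z * g = (x₂ * x₁)⁻¹ * ((x₁ * x₂) * g) := by rw [h1]; group
      _ = (x₂ * x₁)⁻¹ * g ^ (j₁ * j₂) * (x₁ * x₂) := by rw [h2, mul_assoc]
      _ = g * (x₂ * x₁)⁻¹ * (x₁ * x₂) := by rw [h3]
      _ = g * z := by rw [h1, mul_assoc]
  have hz_out : ∀ t, t ∉ g.support →
      z t = ((swap a b * swap a c) * (swap a b * swap a c)) t ∧ z t ∉ g.support := by
    intro t ht
    have h1 := hsw a c ha hc t ht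
    have h2 := hsw a b ha hb _ h1
    have h3 := hsw a c ha hc _ h2
    have h4 := hsw a b ha hb _ h3
    have : z t = ((swap a b * swap a c) * (swap a b * swap a c)) t := by
      simp only [hz, Perm.mul_apply]
      rw [hx₂ t ht, hx₁ _ h1, hx₂i _ h2, hx₁i _ h3]
    refine ⟨this, ?_⟩
    rw [this]
    simpa only [Perm.mul_apply] using h4
  have hττ_in : ∀ t, t ∈ g.support →
      ((swap a b * swap a c) * (swap a b * swap a c)) t = t := by
    intro t ht
    have hta : t ≠ a := fun h => ha (h ▸ ht)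
    have htb : t ≠ b := fun h => hb (h ▸ ht)
    have htc : t ≠ c := fun h => hc (h ▸ ht)
    simp only [Perm.mul_apply, swap_apply_of_ne_of_ne hta htb, swap_apply_of_ne_of_ne hta htc]
  obtain ⟨a₀, ha₀⟩ : g.support.Nonempty := by
    rw [← Finset.card_pos, hgp]; exact hp.pos
  have hga₀ : g a₀ ≠ a₀ := Perm.mem_support.mp ha₀
  have hgza₀ : g (z a₀) ≠ z a₀ := by
    intro h
    apply hga₀
    have h1 : z (g a₀) = z a₀ := by
      have := congrArg (fun f : Perm α => f a₀) hzg
      simp only [Perm.mul_apply] at this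
      rw [this, h]
    exact z.injective h1
  obtain ⟨i, hi⟩ := hgc.sameCycle hga₀ hgza₀
  have hcomm : ∀ m : ℤ, z * g ^ m = g ^ m * z := fun m =>
    (Commute.zpow_right (show Commute z g from hzg) m).eq
  have key : (swap a b * swap a c) * (swap a b * swap a c) = (g ^ i)⁻¹ * z := by
    ext t
    by_cases ht : t ∈ g.support
    · rw [hττ_in t ht]
      obtain ⟨m, hm⟩ := hgc.sameCycle hga₀ (Perm.mem_support.mp ht)
      rw [← hm]
      have e1 : z ((g ^ m) a₀) = (g ^ m) (z a₀) := by
        have := congrArg (fun f : Perm α => f a₀) (hcomm m)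
        simpa only [Perm.mul_apply] using this
      have e2 : (g ^ i)⁻¹ * g ^ m * g ^ i = g ^ m := by
        rw [← zpow_neg, ← zpow_add, ← zpow_add]
        congr 1; ring
      symm
      calc ((g ^ i)⁻¹ * z) ((g ^ m) a₀) = (g ^ i)⁻¹ ((g ^ m) ((g ^ i) a₀)) := by
            rw [Perm.mul_apply, e1, hi]
        _ = ((g ^ i)⁻¹ * g ^ m * g ^ i) a₀ := by simp only [Perm.mul_apply]
        _ = (g ^ m) a₀ := by rw [e2]
    · obtain ⟨h1, h2⟩ := hz_out t ht
      rw [← h1, Perm.mul_apply, eq_comm, Perm.inv_eq_iff_eq]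
      exact (Perm.zpow_apply_eq_self_of_apply_eq_self (Perm.notMem_support.mp h2) i).symm
  have hτ3 : ((swap a b * swap a c) * (swap a b * swap a c)).IsThreeCycle :=
    (Perm.isThreeCycle_swap_mul_swap_same hab hac hbc).isThreeCycle_sq
  have hττG : (swap a b * swap a c) * (swap a b * swap a c) ∈ G := by
    rw [key]
    exact G.mul_mem (G.inv_mem (G.zpow_mem hg i)) hzG
  exact alternatingGroup_le_of_isPreprimitive_of_isThreeCycle_mem hG hτ3 hττG

end Cfsg.Agent.Lib.Helper5.JordanCycle
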