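/-
helper5: S4651-C2 (Knorr-Robinson, leaf C2 of helper24's plan `notes/S4651_leaves.lean`; twin of
helper7's primary): the cone over `U = ⟨u⟩`.  Over the chains `s` of nontrivial `p`-subgroups with
`u ∈ N(s)`, the alternating sum of any function of `C_G(u) ⊓ N(s)` collapses to the term `s = {U}`.

Involution on the chains `≠ {U}`: `Y := (⨆ Q ∈ s with ¬ U ≤ Q, Q) ⊔ U`, toggle the membership of `Y`.
-/
import Mathlib
import Cfsg.Agent.Lib.Helper24.KRDefs
import Cfsg.Agent.Lib.Helper5.KRC1

set_option autoImplicit false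

namespace Cfsg.Agent.Lib.Helper5.KRC2

open Cfsg Cfsg.Agent.Lib.Helper24.KR Cfsg.Agent.Lib.Helper5.KRC1

open Classical

universe u

section general

variable {G : Type u} [Group G]

theorem mem_normalizer_sup {H K : Subgroup G} {g : G}
    (hH : g ∈ Subgroup.normalizer ((H : Subgroup G) : Set G))
    (hK : g ∈ Subgroup.normalizer ((K : Subgroup G) : Set G)) :
    g ∈ Subgroup.normalizer (((H ⊔ K : Subgroup G) : Subgroup G) : Set G) := by
  rw [Subgroup.mem_normalizer_iff_map_conj_eq] at hH hK ⊢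
  rw [Subgroup.map_sup, hH, hK]

theorem mem_normalizer_bot (g : G) :
    g ∈ Subgroup.normalizer (((⊥ : Subgroup G) : Subgroup G) : Set G) := by
  rw [Subgroup.mem_normalizer_iff]
  intro n
  rw [Subgroup.mem_bot, Subgroup.mem_bot]
  exact conj_eq_one_iff.symm

theorem mem_normalizer_finset_sup {t : Finset (Subgroup G)} {g : G}
    (h : ∀ Q ∈ t, g ∈ Subgroup.normalizer ((Q : Subgroup G) : Set G)) :
    g ∈ Subgroup.normalizer (((t.sup id : Subgroup G) : Subgroup G) : Set G) := by
  apply Finset.sup_induction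
    (p := fun X : Subgroup G => g ∈ Subgroup.normalizer ((X : Subgroup G) : Set G))
  · exact mem_normalizer_bot g
  · intro a ha b hb; exact mem_normalizer_sup ha hb
  · intro Q hQ; exact h Q hQ

/-- The members not containing `U`. -/
noncomputable def low (U : Subgroup G) (s : Finset (Subgroup G)) : Finset (Subgroup G) :=
  s.filter (fun Q => ¬ U ≤ Q)

/-- The join of `U` with the members not containing it. -/
noncomputable def yU (U : Subgroup G) (s : Finset (Subgroup G)) : Subgroup G :=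
  (low U s).sup id ⊔ U

/-- Toggle the membership of `yU U s`. -/
noncomputable def togU (U : Subgroup G) (s : Finset (Subgroup G)) : Finset (Subgroup G) :=
  if yU U s ∈ s then s.erase (yU U s) else insert (yU U s) s

/-- `s'` agrees with `s` away from `yU U s`. -/
def TwU (U : Subgroup G) (s s' : Finset (Subgroup G)) : Prop :=
  ∀ Q, Q ≠ yU U s → (Q ∈ s' ↔ Q ∈ s)

variable {U : Subgroup G} {s s' : Finset (Subgroup G)}

theorem mem_low {Q : Subgroup G} : Q ∈ low U s ↔ Q ∈ s ∧ ¬ U ≤ Q := by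
  unfold low; rw [Finset.mem_filter]

theorem le_yU (U : Subgroup G) (s : Finset (Subgroup G)) : U ≤ yU U s := le_sup_right

theorem low_le_yU {Q : Subgroup G} (hQ : Q ∈ low U s) : Q ≤ yU U s :=
  (Finset.le_sup (f := id) hQ).trans le_sup_left

theorem twU_low (ht : TwU U s s') : low U s' = low U s := by
  ext Q
  rw [mem_low, mem_low]
  by_cases eQ : Q = yU U s
  · rw [eQ]
    constructor
    · intro hh; exact absurd (le_yU U s) hh.2
    · intro hh; exact absurd (le_yU U s) hh.2
  · rw [ht Q eQ]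

theorem twU_yU (ht : TwU U s s') : yU U s' = yU U s := by
  unfold yU; rw [twU_low ht]

theorem twU_symm (ht : TwU U s s') : TwU U s' s := by
  intro Q hQ
  rw [twU_yU ht] at hQ
  exact (ht Q hQ).symm

theorem yU_comparable {p : ℕ} (h : IsPChain p s) {Q : Subgroup G} (hQ : Q ∈ s) :
    Q ≤ yU U s ∨ yU U s ≤ Q := by
  by_cases hUQ : U ≤ Q
  · right
    apply sup_le _ hUQ
    apply Finset.sup_le
    intro R hR
    rw [mem_low] at hR
    rcases h.2.1 R hR.1 Q hQ with h1 | h1
    · exact h1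
    · exact absurd (hUQ.trans h1) hR.2
  · left; exact low_le_yU (mem_low.mpr ⟨hQ, hUQ⟩)

theorem low_sup_isPGroup {p : ℕ} (h : IsPChain p s) :
    IsPGroup p ((low U s).sup id : Subgroup G) := by
  rcases (low U s).eq_empty_or_nonempty with he | hne
  · rw [he, Finset.sup_empty]; exact IsPGroup.of_bot
  · have hm := sup_mem_of_chain hne
      (fun Q hQ R hR => h.2.1 Q (mem_low.mp hQ).1 R (mem_low.mp hR).1)
    exact (h.2.2 _ (mem_low.mp hm).1).2

theorem U_le_normalizer_low_sup (hUN : U ≤ chainNorm s) :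
    U ≤ Subgroup.normalizer ((((low U s).sup id : Subgroup G) : Subgroup G) : Set G) := by
  intro g hg
  apply mem_normalizer_finset_sup
  intro Q hQ
  exact (mem_chainNorm_iff s g).mp (hUN hg) Q (mem_low.mp hQ).1

theorem yU_isPGroup {p : ℕ} (h : IsPChain p s) (hUN : U ≤ chainNorm s) (hUp : IsPGroup p U) :
    IsPGroup p (yU U s) :=
  IsPGroup.to_sup_of_normal_left' (low_sup_isPGroup h) hUp (U_le_normalizer_low_sup hUN)

theorem yU_ne_bot (hU1 : U ≠ ⊥) : yU U s ≠ ⊥ := by
  intro e
  have h0 := le_yU U s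
  rw [e, le_bot_iff] at h0
  exact hU1 h0

theorem U_le_normalizer_yU (hUN : U ≤ chainNorm s) :
    U ≤ Subgroup.normalizer ((yU U s : Subgroup G) : Set G) := by
  intro g hg
  exact mem_normalizer_sup (U_le_normalizer_low_sup hUN hg) (Subgroup.le_normalizer hg)

theorem twU_isPChain {p : ℕ} (h : IsPChain p s) (hUN : U ≤ chainNorm s) (hUp : IsPGroup p U)
    (hU1 : U ≠ ⊥) (ht : TwU U s s') (hne : s'.Nonempty) : IsPChain p s' := by
  refine ⟨hne, ?_, ?_⟩
  · intro Q hQ R hR
    by_cases eQ : Q = yU U s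
    · by_cases eR : R = yU U s
      · left; rw [eQ, eR]
      · rw [eQ]; exact (yU_comparable h ((ht R eR).mp hR)).symm
    · by_cases eR : R = yU U s
      · rw [eR]; exact yU_comparable h ((ht Q eQ).mp hQ)
      · exact h.2.1 Q ((ht Q eQ).mp hQ) R ((ht R eR).mp hR)
  · intro Q hQ
    by_cases eQ : Q = yU U s
    · rw [eQ]; exact ⟨yU_ne_bot hU1, yU_isPGroup h hUN hUp⟩
    · exact h.2.2 Q ((ht Q eQ).mp hQ)

theorem twU_le_chainNorm (hUN : U ≤ chainNorm s) (ht : TwU U s s') : U ≤ chainNorm s' := by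
  intro g hg
  rw [mem_chainNorm_iff]
  intro Q hQ
  by_cases eQ : Q = yU U s
  · rw [eQ]; exact U_le_normalizer_yU hUN hg
  · exact (mem_chainNorm_iff s g).mp (hUN hg) Q ((ht Q eQ).mp hQ)

theorem twU_inf_chainNorm_le {C : Subgroup G}
    (hC : C ≤ Subgroup.normalizer ((U : Subgroup G) : Set G)) (ht : TwU U s s') :
    C ⊓ chainNorm s' ≤ C ⊓ chainNorm s := by
  intro g hg
  rw [Subgroup.mem_inf] at hg ⊢
  refine ⟨hg.1, ?_⟩
  rw [mem_chainNorm_iff]
  intro Q hQ
  have hg2 := (mem_chainNorm_iff s' g).mp hg.2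
  by_cases eQ : Q = yU U s
  · rw [eQ]
    apply mem_normalizer_sup _ (hC hg.1)
    apply mem_normalizer_finset_sup
    intro R hR
    rw [← twU_low ht] at hR
    exact hg2 R (mem_low.mp hR).1
  · exact hg2 Q ((ht Q eQ).mpr hQ)

theorem twU_inf_chainNorm {C : Subgroup G}
    (hC : C ≤ Subgroup.normalizer ((U : Subgroup G) : Set G)) (ht : TwU U s s') :
    C ⊓ chainNorm s' = C ⊓ chainNorm s :=
  le_antisymm (twU_inf_chainNorm_le hC ht) (twU_inf_chainNorm_le hC (twU_symm ht))

theorem twU_togU (U : Subgroup G) (s : Finset (Subgroup G)) : TwU U s (togU U s) := by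
  intro Q hQ
  unfold togU
  split_ifs with hY
  · rw [Finset.mem_erase]; exact ⟨fun h => h.2, fun h => ⟨hQ, h⟩⟩
  · rw [Finset.mem_insert]; exact ⟨fun h => h.resolve_left hQ, fun h => Or.inr h⟩

theorem yU_mem_togU_iff (U : Subgroup G) (s : Finset (Subgroup G)) :
    yU U s ∈ togU U s ↔ yU U s ∉ s := by
  unfold togU
  split_ifs with hY
  · simp [hY]
  · simp [hY]

theorem togU_ne (U : Subgroup G) (s : Finset (Subgroup G)) : togU U s ≠ s := by
  intro e
  have h0 := yU_mem_togU_iff U s
  rw [e] at h0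
  exact iff_not_self h0

theorem togU_togU (U : Subgroup G) (s : Finset (Subgroup G)) : togU U (togU U s) = s := by
  have hy : yU U (togU U s) = yU U s := twU_yU (twU_togU U s)
  ext Q
  by_cases eQ : Q = yU U s
  · rw [eQ]
    have h1 := yU_mem_togU_iff U (togU U s)
    rw [hy] at h1
    rw [h1, yU_mem_togU_iff U s, not_not]
  · have h1 := twU_togU U (togU U s) Q (by rw [hy]; exact eQ)
    rw [h1, twU_togU U s Q eQ]

theorem card_togU (U : Subgroup G) (s : Finset (Subgroup G)) :
    s.card = (togU U s).card + 1 ∨ (togU U s).card = s.card + 1 := by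
  unfold togU
  split_ifs with hY
  · left
    rw [Finset.card_erase_of_mem hY]
    have h0 := Finset.card_pos.mpr ⟨_, hY⟩
    omega
  · right; rw [Finset.card_insert_of_notMem hY]

theorem yU_eq_of_low_empty (h2 : low U s = ∅) : yU U s = U := by
  unfold yU; rw [h2, Finset.sup_empty, bot_sup_eq]

theorem togU_nonempty (_hne : s.Nonempty) (hs : s ≠ {U}) : (togU U s).Nonempty := by
  by_contra hc
  rw [Finset.not_nonempty_iff_eq_empty] at hc
  by_cases hY : yU U s ∈ s
  · have h1 : ∀ Q ∈ s, Q = yU U s := by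
      intro Q hQ
      by_contra hne'
      have h0 : Q ∈ togU U s := (twU_togU U s Q hne').mpr hQ
      rw [hc] at h0
      exact Finset.notMem_empty _ h0
    have h2 : low U s = ∅ := by
      rw [Finset.eq_empty_iff_forall_notMem]
      intro Q hQ
      rw [mem_low] at hQ
      apply hQ.2
      rw [h1 Q hQ.1]
      exact le_yU U s
    have h3 : yU U s = U := yU_eq_of_low_empty h2
    apply hs
    rw [Finset.eq_singleton_iff_unique_mem]
    exact ⟨h3 ▸ hY, fun Q hQ => (h1 Q hQ).trans h3⟩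
  · have h0 : yU U s ∈ togU U s := (yU_mem_togU_iff U s).mpr hY
    rw [hc] at h0
    exact Finset.notMem_empty _ h0

theorem togU_ne_singleton (hne : s.Nonempty) : togU U s ≠ {U} := by
  intro e
  have h2 : low U s = ∅ := by
    rw [← twU_low (twU_togU U s), e, Finset.eq_empty_iff_forall_notMem]
    intro Q hQ
    rw [mem_low, Finset.mem_singleton] at hQ
    apply hQ.2
    rw [hQ.1]
  have h3 : yU U s = U := yU_eq_of_low_empty h2
  have h4 : U ∉ s := by
    have h0 := (yU_mem_togU_iff U s).mp (by rw [h3, e]; exact Finset.mem_singleton_self U)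
    rwa [h3] at h0
  obtain ⟨Q, hQ⟩ := hne
  have hQU : Q ≠ yU U s := by
    rw [h3]; intro e'; exact h4 (e' ▸ hQ)
  have h5 : Q ∈ togU U s := (twU_togU U s Q hQU).mpr hQ
  rw [e, Finset.mem_singleton] at h5
  exact hQU (h5.trans h3.symm)

end general

variable {G : Type u} [Group G] [Finite G] {p : ℕ} [hpp : Fact p.Prime] {M : Ideal AlgInt}

/-- (C2) the cone over `⟨u⟩`. -/
theorem finsum_chains_cone (u : G) (hu1 : u ≠ 1) (hu : ∃ k : ℕ, orderOf u = p ^ k)
    (Φ : Subgroup G → ℤ) :
    ∑ᶠ s ∈ {s : Finset (Subgroup G) | IsPChain p s ∧ u ∈ chainNorm s},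
      (-1 : ℤ) ^ (s.card - 1) * Φ (Cz u ⊓ chainNorm s) = Φ (Cz u) := by
  obtain ⟨U, hU⟩ : ∃ U : Subgroup G, U = Subgroup.zpowers u := ⟨_, rfl⟩
  have hUp : IsPGroup p U := by
    obtain ⟨k, hk⟩ := hu
    apply IsPGroup.of_card (n := k)
    rw [hU, Nat.card_zpowers, hk]
  have hU1 : U ≠ ⊥ := by rw [hU]; exact Subgroup.zpowers_ne_bot.mpr hu1
  have hCU : Cz u ≤ Subgroup.normalizer ((U : Subgroup G) : Set G) := by
    rw [hU, Subgroup.zpowers_eq_closure]
    exact (Subgroup.centralizer_le_normalizer _).trans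
      (Subgroup.normalizer_le_normalizer_closure _)
  have hmemU : ∀ s : Finset (Subgroup G), u ∈ chainNorm s ↔ U ≤ chainNorm s := fun s => by
    rw [hU, Subgroup.zpowers_le]
  have hfin : {s : Finset (Subgroup G) | IsPChain p s ∧ u ∈ chainNorm s}.Finite :=
    Set.toFinite _
  rw [finsum_mem_eq_finite_toFinset_sum _ hfin]
  have hsing : ({U} : Finset (Subgroup G)) ∈ hfin.toFinset := by
    rw [Set.Finite.mem_toFinset]
    refine ⟨⟨Finset.singleton_nonempty _, ?_, ?_⟩, ?_⟩
    · intro Q hQ R hR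
      rw [Finset.mem_singleton] at hQ hR
      left; rw [hQ, hR]
    · intro Q hQ
      rw [Finset.mem_singleton] at hQ
      rw [hQ]; exact ⟨hU1, hUp⟩
    · rw [mem_chainNorm_iff]
      intro Q hQ
      rw [Finset.mem_singleton] at hQ
      rw [hQ]
      apply Subgroup.le_normalizer
      rw [hU]; exact Subgroup.mem_zpowers u
  rw [← Finset.add_sum_erase _ _ hsing]
  have hzero : ∑ s ∈ hfin.toFinset.erase {U},
      (-1 : ℤ) ^ (s.card - 1) * Φ (Cz u ⊓ chainNorm s) = 0 := by
    apply Finset.sum_involution (fun s _ => togU U s)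
    · intro s hs
      rw [Finset.mem_erase, Set.Finite.mem_toFinset] at hs
      obtain ⟨hsU, h, hn⟩ := hs
      rw [twU_inf_chainNorm hCU (twU_togU U s), ← add_mul]
      have h1 : 1 ≤ s.card := Finset.card_pos.mpr h.1
      have h2 : 1 ≤ (togU U s).card := Finset.card_pos.mpr (togU_nonempty h.1 hsU)
      rw [parity_aux _ _ h1 h2 (card_togU U s), zero_mul]
    · intro s _ _; exact togU_ne U s
    · intro s hs
      rw [Finset.mem_erase, Set.Finite.mem_toFinset] at hs ⊢
      obtain ⟨hsU, h, hn⟩ := hs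
      have hne := togU_nonempty h.1 hsU
      refine ⟨togU_ne_singleton h.1,
        twU_isPChain h ((hmemU s).mp hn) hUp hU1 (twU_togU U s) hne, ?_⟩
      rw [hmemU]; exact twU_le_chainNorm ((hmemU s).mp hn) (twU_togU U s)
    · intro s _; exact togU_togU U s
  rw [hzero, add_zero, Finset.card_singleton]
  simp only [Nat.sub_self, pow_zero, one_mul]
  congr 1
  apply le_antisymm inf_le_left
  apply le_inf le_rfl
  intro g hg
  rw [mem_chainNorm_iff]
  intro Q hQ
  rw [Finset.mem_singleton] at hQ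
  rw [hQ]; exact hCU hg

end Cfsg.Agent.Lib.Helper5.KRC2
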