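import Mathlib
import Cfsg.Agent.S0256
import Cfsg.Agent.Lib.Helper15.UnitaryQuad
import Cfsg.Agent.Lib.Helper15.HermAct
import Cfsg.Agent.Lib.Helper15.OmegaIso

/-!
Helper5 library: the Klein correspondence restricted to `SU_4(q)`.  `SU_4(q)` acts on the exterior square
`K^6` (via `S0256.KK`) commuting with the semilinear involution `w ↦ swap (σ w)`; the fixed space is a
six-dimensional `F`-space `X '' K^3` on which the Klein quadric restricts to `Σ v_i σ(v_i)`, a minus-type form.
Main results: `KK_unitary` (Jacobi complementary-minor identity for unitary matrices), `rho` (the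
representation on `J → F`), `rho_quad`, `rho_ker`, `exists_minus_basis`.
-/

set_option autoImplicit false
set_option linter.unusedSectionVars false
set_option linter.unusedVariables false

namespace Cfsg.Agent.Lib.Helper5.KleinU

open Matrix Module Cfsg.Agent.S0256 Cfsg.Agent.Lib.Helper15

abbrev I6 := Fin 3 ⊕ Fin 3

section klein
variable {R : Type*} [CommRing R]

/-- the Klein quadric -/
def Qf (p : I6 → R) : R := ∑ i : Fin 3, p (Sum.inl i) * p (Sum.inr i)

/-- its polar form -/
def Bf (u v : I6 → R) : R :=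
  ∑ i : Fin 3, (u (Sum.inl i) * v (Sum.inr i) + u (Sum.inr i) * v (Sum.inl i))

lemma Qf_add (u v : I6 → R) : Qf (u + v) = Qf u + Qf v + Bf u v := by
  simp only [Qf, Bf, Pi.add_apply, Fin.sum_univ_three]
  ring

lemma KK_Qf (A : Matrix (Fin 4) (Fin 4) R) (p : I6 → R) : Qf (KK A *ᵥ p) = A.det * Qf p :=
  KK_quad A p

lemma KK_Bf (A : Matrix (Fin 4) (Fin 4) R) (u v : I6 → R) :
    Bf (KK A *ᵥ u) (KK A *ᵥ v) = A.det * Bf u v := by
  have h1 := KK_Qf A (u + v)
  rw [Matrix.mulVec_add, Qf_add, Qf_add, KK_Qf, KK_Qf] at h1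
  linear_combination h1

lemma Bf_eq (u v : I6 → R) : Bf u v = ∑ I : I6, u I * v (Sum.swap I) := by
  simp only [Bf, Fintype.sum_sum_type, Sum.swap_inl, Sum.swap_inr, Finset.sum_add_distrib]

lemma KK_transpose (A : Matrix (Fin 4) (Fin 4) R) : KK Aᵀ = (KK A)ᵀ := by
  ext I J
  simp only [KK, Matrix.of_apply, Matrix.transpose_apply, mn]
  ring

lemma KK_map {S : Type*} [CommRing S] (f : R →+* S) (A : Matrix (Fin 4) (Fin 4) R) :
    KK (A.map f) = (KK A).map f := by
  ext I J
  simp only [KK, Matrix.of_apply, Matrix.map_apply, mn, map_sub, map_mul]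

lemma mulVec_single' {m : Type*} [Fintype m] [DecidableEq m] (M : Matrix m m R) (J I : m) (c : R) :
    (M *ᵥ Pi.single J c) I = M I J * c := by
  simp [Matrix.mulVec, dotProduct, Pi.single_apply]

lemma mulVec_single_one' {m : Type*} [Fintype m] [DecidableEq m] (M : Matrix m m R) (J I : m) :
    (M *ᵥ Pi.single J 1) I = M I J := by
  rw [mulVec_single', mul_one]

/-- the swap matrix -/
def Sw : Matrix I6 I6 R := Matrix.of fun I J => if J = Sum.swap I then 1 else 0

lemma Sw_apply (I J : I6) : (Sw : Matrix I6 I6 R) I J = if J = Sum.swap I then 1 else 0 := rfl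

lemma Sw_mul (M : Matrix I6 I6 R) (I J : I6) :
    ((Sw : Matrix I6 I6 R) * M) I J = M (Sum.swap I) J := by
  rw [Matrix.mul_apply, Finset.sum_eq_single (Sum.swap I)]
  · rw [Sw_apply, if_pos rfl, one_mul]
  · intro L _ hL
    rw [Sw_apply, if_neg hL, zero_mul]
  · intro h; exact absurd (Finset.mem_univ _) h

lemma mul_Sw (M : Matrix I6 I6 R) (I J : I6) :
    (M * (Sw : Matrix I6 I6 R)) I J = M I (Sum.swap J) := by
  rw [Matrix.mul_apply, Finset.sum_eq_single (Sum.swap J)]
  · rw [Sw_apply, if_pos (Sum.swap_swap J).symm, mul_one]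
  · intro L _ hL
    have : J ≠ Sum.swap L := by
      intro h; apply hL; rw [h, Sum.swap_swap]
    rw [Sw_apply, if_neg this, mul_zero]
  · intro h; exact absurd (Finset.mem_univ _) h

lemma KK_Sw (A : Matrix (Fin 4) (Fin 4) R) :
    (KK A)ᵀ * (Sw * KK A) = A.det • (Sw : Matrix I6 I6 R) := by
  ext J J'
  have h := KK_Bf A (Pi.single J 1) (Pi.single J' 1)
  rw [Bf_eq, Bf_eq] at h
  simp only [mulVec_single_one'] at h
  rw [Matrix.mul_apply]
  simp only [Matrix.transpose_apply, Sw_mul]
  rw [h, Matrix.smul_apply, smul_eq_mul]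
  congr 1
  rw [Finset.sum_eq_single J]
  · rw [Pi.single_eq_same, one_mul, Pi.single_apply, Sw_apply]
    by_cases hJ : J' = Sum.swap J
    · rw [if_pos hJ, if_pos hJ.symm]
    · rw [if_neg hJ, if_neg (fun h => hJ h.symm)]
  · intro L _ hL
    rw [Pi.single_eq_of_ne hL, zero_mul]
  · intro h; exact absurd (Finset.mem_univ _) h

end klein

section jacobi
variable {K : Type*} [Field K]

/-- Jacobi's complementary minor identity for a unitary matrix of determinant one. -/
lemma KK_unitary (σ : K →+* K) (g : Matrix (Fin 4) (Fin 4) K) (hdet : g.det = 1)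
    (hu : gᵀ * g.map σ = 1) (I J : I6) :
    KK g (Sum.swap I) (Sum.swap J) = σ (KK g I J) := by
  have h1 : (KK g)ᵀ * (KK g).map σ = 1 := by
    rw [← KK_transpose, ← KK_map, ← KK_mul, hu, KK_one]
  have h1' : (KK g).map σ * (KK g)ᵀ = 1 := _root_.mul_eq_one_comm.mp h1
  have h2 := KK_Sw g
  rw [hdet, one_smul] at h2
  have h3 : Sw * KK g = (KK g).map σ * Sw := by
    calc Sw * KK g = ((KK g).map σ * (KK g)ᵀ) * (Sw * KK g) := by rw [h1', Matrix.one_mul]
      _ = (KK g).map σ * ((KK g)ᵀ * (Sw * KK g)) := by rw [Matrix.mul_assoc]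
      _ = (KK g).map σ * Sw := by rw [h2]
  have h4 := congrFun (congrFun h3 I) (Sum.swap J)
  rw [Sw_mul, mul_Sw, Sum.swap_swap, Matrix.map_apply] at h4
  exact h4

end jacobi

section model
variable {F K : Type*} [Field F] [Fintype F] [Field K] [Fintype K] [Algebra F K]

/-- the Frobenius as a ring hom -/
noncomputable def sg (F K : Type*) [Field F] [Fintype F] [Field K] [Fintype K] [Algebra F K] :
    K →+* K := (frobK F K : K →+* K)

lemma sg_apply (z : K) : sg F K z = z ^ Fintype.card F := rfl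

lemma sg_eq (z : K) : sg F K z = frobK F K z := rfl

lemma sg_sg (hK : Fintype.card K = Fintype.card F ^ 2) (z : K) : sg F K (sg F K z) = z :=
  frobK_frobK hK z

lemma sg_algebraMap (c : F) : sg F K (algebraMap F K c) = algebraMap F K c :=
  frobK_algebraMap c

variable (F) in
/-- the embedding of `K³` onto the fixed space of the semilinear involution -/
noncomputable def X (v : Fin 3 → K) : I6 → K := Sum.elim v (fun i => sg F K (v i))

lemma X_inl (v : Fin 3 → K) (i : Fin 3) : X F v (Sum.inl i) = v i := rfl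

lemma X_inr (v : Fin 3 → K) (i : Fin 3) : X F v (Sum.inr i) = sg F K (v i) := rfl

variable (F) in
/-- membership in the fixed space -/
def InW (w : I6 → K) : Prop := ∀ i : Fin 3, w (Sum.inr i) = sg F K (w (Sum.inl i))

lemma X_inW (v : Fin 3 → K) : InW F (X F v) := fun _ => rfl

lemma X_proj {w : I6 → K} (hw : InW F w) : X F (fun i => w (Sum.inl i)) = w := by
  funext I
  rcases I with i | i
  · rfl
  · rw [X_inr, hw i]

lemma X_add (v w : Fin 3 → K) : X F (v + w) = X F v + X F w := by
  funext I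
  rcases I with j | j
  · rfl
  · show sg F K (v j + w j) = sg F K (v j) + sg F K (w j)
    exact map_add _ _ _

lemma X_smul (c : F) (v : Fin 3 → K) : X F (c • v) = algebraMap F K c • X F v := by
  funext I
  rcases I with j | j
  · show c • v j = algebraMap F K c • v j
    rw [Algebra.smul_def, smul_eq_mul]
  · show sg F K (c • v j) = algebraMap F K c • sg F K (v j)
    rw [Algebra.smul_def, map_mul, sg_algebraMap, smul_eq_mul]

lemma X_single (i : Fin 3) (c : K) :
    X F (Pi.single i c) = Pi.single (Sum.inl i) c + Pi.single (Sum.inr i) (sg F K c) := by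
  funext I
  rcases I with j | j
  · by_cases h : j = i
    · subst h; simp [X, Pi.single_apply]
    · simp [X, Pi.single_apply, h]
  · by_cases h : j = i
    · subst h; simp [X, Pi.single_apply]
    · simp [X, Pi.single_apply, h]

lemma Qf_X (v : Fin 3 → K) : Qf (X F v) = ∑ i, v i * frobK F K (v i) := by
  unfold Qf
  exact Finset.sum_congr rfl (fun i _ => rfl)

/-- the fixed space is invariant under unitary matrices of determinant one -/
lemma KK_inW (hK : Fintype.card K = Fintype.card F ^ 2) (g : Matrix (Fin 4) (Fin 4) K)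
    (hdet : g.det = 1) (hu : gᵀ * g.map (sg F K) = 1) {w : I6 → K} (hw : InW F w) :
    InW F (KK g *ᵥ w) := by
  intro i
  have hsw : ∀ J : I6, sg F K (w J) = w (Sum.swap J) := by
    rintro (j | j)
    · exact (hw j).symm
    · show sg F K (w (Sum.inr j)) = w (Sum.inl j)
      rw [hw j, sg_sg hK]
  simp only [Matrix.mulVec, dotProduct]
  rw [map_sum]
  apply Fintype.sum_equiv (Equiv.sumComm (Fin 3) (Fin 3))
  intro J
  show KK g (Sum.inr i) J * w J = sg F K (KK g (Sum.inl i) (Sum.swap J) * w (Sum.swap J))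
  rw [map_mul, hsw, Sum.swap_swap, ← KK_unitary (sg F K) g hdet hu, Sum.swap_swap]
  rfl

end model

section rep
variable {F K : Type*} [Field F] [Fintype F] [Field K] [Fintype K] [Algebra F K]

abbrev SU4 (F K : Type*) [Field F] [Fintype F] [Field K] [Fintype K] : Type _ :=
  ↥(Cfsg.SU 4 K (Fintype.card F))

lemma su_det (g : SU4 F K) : (g.1.1 : Matrix (Fin 4) (Fin 4) K).det = 1 := g.1.2

lemma su_unitary (g : SU4 F K) :
    (g.1.1 : Matrix (Fin 4) (Fin 4) K)ᵀ * (g.1.1 : Matrix (Fin 4) (Fin 4) K).map (sg F K) = 1 := by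
  ext a b
  have h : Cfsg.hermForm 4 K (Fintype.card F)
      ((g.1.1 : Matrix (Fin 4) (Fin 4) K) *ᵥ Pi.single a 1)
      ((g.1.1 : Matrix (Fin 4) (Fin 4) K) *ᵥ Pi.single b 1)
      = Cfsg.hermForm 4 K (Fintype.card F) (Pi.single a 1) (Pi.single b 1) := g.2 _ _
  unfold Cfsg.hermForm at h
  simp only [mulVec_single_one'] at h
  rw [Matrix.mul_apply]
  simp only [Matrix.transpose_apply, Matrix.map_apply, sg_apply]
  rw [h, Matrix.one_apply, Finset.sum_eq_single a]
  · rw [Pi.single_eq_same, one_mul, Pi.single_apply]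
    by_cases hab : a = b
    · simp [hab]
    · simp [hab]
  · intro i _ hi
    rw [Pi.single_eq_of_ne hi, zero_mul]
  · intro h; exact absurd (Finset.mem_univ _) h

/-- the matrix of `g` on the exterior square -/
noncomputable def M6 (g : SU4 F K) : Matrix I6 I6 K := KK (g.1.1 : Matrix (Fin 4) (Fin 4) K)

lemma M6_one : M6 (1 : SU4 F K) = 1 := by
  show KK (1 : Matrix (Fin 4) (Fin 4) K) = 1
  exact KK_one

lemma M6_mul (g h : SU4 F K) : M6 (g * h) = M6 g * M6 h := by
  show KK ((g.1.1 : Matrix (Fin 4) (Fin 4) K) * h.1.1) = _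
  exact KK_mul _ _

/-- the action on `K³` -/
noncomputable def rho' (g : SU4 F K) : (Fin 3 → K) →ₗ[F] (Fin 3 → K) where
  toFun v := fun i => (M6 g *ᵥ X F v) (Sum.inl i)
  map_add' v w := by
    funext i
    simp only [X_add, Matrix.mulVec_add, Pi.add_apply]
  map_smul' c v := by
    funext i
    simp only [X_smul, Matrix.mulVec_smul, Pi.smul_apply, RingHom.id_apply]
    rw [smul_eq_mul]
    exact (Algebra.smul_def c _).symm

lemma rho'_apply (g : SU4 F K) (v : Fin 3 → K) (i : Fin 3) :
    rho' g v i = (M6 g *ᵥ X F v) (Sum.inl i) := rfl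

lemma rho'_X (hK : Fintype.card K = Fintype.card F ^ 2) (g : SU4 F K) (v : Fin 3 → K) :
    X F (rho' g v) = M6 g *ᵥ X F v :=
  X_proj (KK_inW hK _ (su_det g) (su_unitary g) (X_inW v))

lemma rho'_one (v : Fin 3 → K) : rho' (1 : SU4 F K) v = v := by
  funext i
  rw [rho'_apply, M6_one, Matrix.one_mulVec]
  rfl

lemma rho'_mul (hK : Fintype.card K = Fintype.card F ^ 2) (g h : SU4 F K) (v : Fin 3 → K) :
    rho' (g * h) v = rho' g (rho' h v) := by
  funext i
  rw [rho'_apply, rho'_apply, rho'_X hK h v, M6_mul, Matrix.mulVec_mulVec]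

lemma rho'_norm (hK : Fintype.card K = Fintype.card F ^ 2) (g : SU4 F K) (v : Fin 3 → K) :
    ∑ i, rho' g v i * frobK F K (rho' g v i) = ∑ i, v i * frobK F K (v i) := by
  rw [← Qf_X (F := F) (rho' g v), ← Qf_X (F := F) v, rho'_X hK, M6, KK_Qf, su_det, one_mul]

abbrev J6 := (Fin 2 ⊕ Fin 2) ⊕ Fin 2

/-- the representation of `SU_4(q)` on the six-dimensional `F`-space -/
noncomputable def rho (hK : Fintype.card K = Fintype.card F ^ 2) (B : Basis J6 F (Fin 3 → K)) :
    SU4 F K →* Module.End F (J6 → F) where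
  toFun g := B.equivFun.toLinearMap ∘ₗ rho' g ∘ₗ B.equivFun.symm.toLinearMap
  map_one' := by
    refine LinearMap.ext fun u => ?_
    show B.equivFun (rho' 1 (B.equivFun.symm u)) = u
    rw [rho'_one, LinearEquiv.apply_symm_apply]
  map_mul' g h := by
    refine LinearMap.ext fun u => ?_
    show B.equivFun (rho' (g * h) (B.equivFun.symm u)) =
      B.equivFun (rho' g (B.equivFun.symm (B.equivFun (rho' h (B.equivFun.symm u)))))
    rw [LinearEquiv.symm_apply_apply, rho'_mul hK]

lemma rho_apply (hK : Fintype.card K = Fintype.card F ^ 2) (B : Basis J6 F (Fin 3 → K))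
    (g : SU4 F K) (u : J6 → F) :
    rho hK B g u = B.equivFun (rho' g (B.equivFun.symm u)) := rfl

lemma rho_quad (hK : Fintype.card K = Fintype.card F ^ 2) (a b : F) (ℓ : K →ₗ[F] F)
    (B : Basis J6 F (Fin 3 → K))
    (hB : ∀ x, Cfsg.quadFormMinus 2 F a b (B.equivFun x) = ℓ (∑ i, x i * frobK F K (x i)))
    (g : SU4 F K) (u : J6 → F) :
    Cfsg.quadFormMinus 2 F a b (rho hK B g u) = Cfsg.quadFormMinus 2 F a b u := by
  obtain ⟨x, rfl⟩ := B.equivFun.surjective u
  rw [rho_apply, LinearEquiv.symm_apply_apply, hB, hB, rho'_norm hK]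

/-- kernel elements are scalar -/
lemma rho_ker (hK : Fintype.card K = Fintype.card F ^ 2) (B : Basis J6 F (Fin 3 → K)) (ω : K)
    (hω : sg F K ω ≠ ω) (g : SU4 F K) (hg : rho hK B g = 1) :
    ∃ p : K, p * p = 1 ∧
      (g.1.1 : Matrix (Fin 4) (Fin 4) K) = p • (1 : Matrix (Fin 4) (Fin 4) K) := by
  have h1 : ∀ v, rho' g v = v := by
    intro v
    have h2 : rho hK B g (B.equivFun v) = B.equivFun v := by rw [hg]; rfl
    rw [rho_apply, LinearEquiv.symm_apply_apply] at h2
    exact B.equivFun.injective h2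
  have h3 : ∀ v, M6 g *ᵥ X F v = X F v := by
    intro v
    rw [← rho'_X hK g v, h1]
  have hcol : ∀ (L : I6) (i : Fin 3),
      M6 g L (Sum.inl i) = (if L = Sum.inl i then 1 else 0) ∧
      M6 g L (Sum.inr i) = (if L = Sum.inr i then 1 else 0) := by
    intro L i
    have e : ∀ c : K, M6 g L (Sum.inl i) * c + M6 g L (Sum.inr i) * sg F K c
        = (if L = Sum.inl i then 1 else 0) * c + (if L = Sum.inr i then 1 else 0) * sg F K c := by
      intro c
      have := congrFun (h3 (Pi.single i c)) L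
      rw [X_single, Matrix.mulVec_add, Pi.add_apply, mulVec_single', mulVec_single',
        Pi.add_apply, Pi.single_apply, Pi.single_apply] at this
      simp only [ite_mul, one_mul, zero_mul]
      exact this
    have e1 := e 1
    have e2 := e ω
    rw [map_one, mul_one, mul_one, mul_one, mul_one] at e1
    have hne : ω - sg F K ω ≠ 0 := fun h => hω (sub_eq_zero.mp h).symm
    have hm : (M6 g L (Sum.inl i) - (if L = Sum.inl i then 1 else 0)) * (ω - sg F K ω) = 0 := by
      linear_combination e2 - sg F K ω * e1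
    have hm' : M6 g L (Sum.inl i) = (if L = Sum.inl i then 1 else 0) :=
      sub_eq_zero.mp ((mul_eq_zero.mp hm).resolve_right hne)
    refine ⟨hm', ?_⟩
    linear_combination e1 - hm'
  have hKK : KK (g.1.1 : Matrix (Fin 4) (Fin 4) K) = 1 := by
    ext I J
    rw [Matrix.one_apply]
    rcases J with j | j
    · exact (hcol I j).1
    · exact (hcol I j).2
  have hd : ∀ i : Fin 4, (g.1.1 : Matrix (Fin 4) (Fin 4) K) i i = (g.1.1 : Matrix (Fin 4) (Fin 4) K) 0 0 := by
    intro i
    obtain ⟨j, hji, hj0⟩ := third i 0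
    have h1 := diag_mul _ hKK i j hji.symm
    have h2 := diag_mul _ hKK 0 j hj0.symm
    have hne : (g.1.1 : Matrix (Fin 4) (Fin 4) K) j j ≠ 0 := by
      intro h0
      rw [h0, mul_zero] at h1
      exact zero_ne_one h1
    exact mul_right_cancel₀ hne (h1.trans h2.symm)
  refine ⟨(g.1.1 : Matrix (Fin 4) (Fin 4) K) 0 0, ?_, ?_⟩
  · have := diag_mul _ hKK 0 1 (by decide)
    rw [hd 1] at this
    exact this
  · ext i k
    by_cases hik : i = k
    · subst hik
      rw [hd i]
      simp
    · rw [offdiag_zero _ hKK i k hik]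
      simp [hik]

end rep

section coords
variable {F K : Type*} [Field F] [Fintype F] [Field K] [Fintype K] [Algebra F K]

/-- coordinates in which `Σ x_i σ(x_i)` on `K^(2r+1)` becomes the standard minus-type form (extracted from the
proof of `Helper15.gu_embeds_minus`) -/
theorem exists_minus_basis (hK : Fintype.card K = Fintype.card F ^ 2) (r : ℕ) (a b : F)
    (hab : ∀ z : F, z ^ 2 + a * z + b ≠ 0) (α : K)
    (hα : α ^ 2 + algebraMap F K a * α + algebraMap F K b = 0) :
    ∃ (ℓ : K →ₗ[F] F) (B : Basis ((Fin (r + r) ⊕ Fin (r + r)) ⊕ Fin 2) F (Fin (r + r + 1) → K)),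
      ∀ x, Cfsg.quadFormMinus (r + r) F a b (B.equivFun x) = ℓ (∑ i, x i * frobK F K (x i)) := by
  obtain ⟨ℓ, hℓ⟩ := exists_retraction (F := F) (K := K)
  obtain ⟨e, f, H⟩ := exists_hypFam_even hK r ℓ hℓ
  obtain ⟨h1, h2, h3⟩ := conj_root a b hab α hα
  obtain ⟨β, hβ⟩ : ∃ β : K, β = -α := ⟨_, rfl⟩
  rw [← hβ] at h1 h2 h3
  obtain ⟨x, hx⟩ : ∃ x : Fin (r + r + 1) → K, x = Pi.single (Fin.last (r + r)) 1 := ⟨_, rfl⟩
  obtain ⟨y, hy⟩ : ∃ y : Fin (r + r + 1) → K, y = Pi.single (Fin.last (r + r)) β := ⟨_, rfl⟩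
  have H' : HypFam (hermQF (r + r + 1) ℓ) ⊤ (fun i => snocMap (F := F) (r + r) (e i))
      (fun i => snocMap (F := F) (r + r) (f i)) := by
    obtain ⟨-, H2, H3, H4⟩ := H
    refine ⟨fun i => ⟨Submodule.mem_top, Submodule.mem_top⟩, fun i => ?_, fun i j => ?_, fun i j => ?_⟩
    · rw [hermQF_snocMap, hermQF_snocMap]; exact H2 i
    · rw [polar_snocMap]; exact H3 i j
    · rw [polar_snocMap, polar_snocMap]; exact H4 i j
  have hQsingle : ∀ c : K, hermQF (r + r + 1) ℓ (Pi.single (Fin.last (r + r)) c) = ℓ (c * frobK F K c) := by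
    intro c
    rw [hermQF_apply, Finset.sum_eq_single (Fin.last (r + r))]
    · rw [Pi.single_eq_same]
    · intro j _ hj
      rw [Pi.single_eq_of_ne hj, zero_mul]
    · intro h; exact absurd (Finset.mem_univ _) h
  have hQx : hermQF (r + r + 1) ℓ x = 1 := by
    rw [hx, hQsingle, map_one, mul_one, ← map_one (algebraMap F K), hℓ]
  have hQy : hermQF (r + r + 1) ℓ y = b := by
    rw [hy, hQsingle, h2, hℓ]
  have hxy : QuadraticMap.polar (hermQF (r + r + 1) ℓ) x y = a := by
    rw [hy, hermQF_polar_single hK _ ℓ hℓ, hx, Pi.single_eq_same, one_mul]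
    apply (algebraMap F K).injective
    rw [trace_eq hK, frobK_frobK hK, add_comm, h1]
  have hli : LinearIndependent F ![x, y] := by
    rw [LinearIndependent.pair_iff]
    intro s t hst
    have h0 := congrFun hst (Fin.last (r + r))
    rw [hx, hy] at h0
    simp only [Pi.add_apply, Pi.smul_apply, Pi.single_eq_same, Pi.zero_apply] at h0
    rw [Algebra.smul_def, Algebra.smul_def, mul_one] at h0
    have ht : t = 0 := by
      by_contra ht
      apply h3 (-(s / t))
      have ht' : algebraMap F K t ≠ 0 := fun h => ht ((map_eq_zero _).mp h)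
      rw [map_neg, map_div₀]
      field_simp
      linear_combination -h0
    rw [ht, map_zero, zero_mul, add_zero] at h0
    exact ⟨(map_eq_zero _).mp h0, ht⟩
  obtain ⟨B, hB⟩ := minus_coords (hermQF (r + r + 1) ℓ) _ _ x y a b H' hli
    (fun i => by rw [hx]; exact polar_snocMap_single hK _ ℓ hℓ _ _)
    (fun i => by rw [hx]; exact polar_snocMap_single hK _ ℓ hℓ _ _)
    (fun i => by rw [hy]; exact polar_snocMap_single hK _ ℓ hℓ _ _)
    (fun i => by rw [hy]; exact polar_snocMap_single hK _ ℓ hℓ _ _)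
    hQx hxy hQy (by rw [finrank_fun hK]; ring)
  exact ⟨ℓ, B, fun x => by rw [hB, hermQF_apply]⟩

end coords

end Cfsg.Agent.Lib.Helper5.KleinU
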