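import Mathlib
import Cfsg.Agent.Lib.Helper5.L33G
import Cfsg.Agent.Lib.Helper2.L33DesignD
import Cfsg.Agent.Lib.Helper10.StPlane13
import Cfsg.Agent.Lib.Helper10.StAut
import Cfsg.Agent.Lib.Helper1.L33RecC

/-!
# Simple groups of order 5616, part I: the endgame (helper5)

A simple group `G` of order `5616` with a pure subgroup `E` of order `9` whose normalizer has order
`432` acts faithfully on the `13` cosets of `N(E)` preserving a Steiner system `S(2,4,13)`
(helper2 `steiner_of_data`), which is the cyclic plane (helper10 `plane13_unique'`); as the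
automorphism group of the cyclic plane has at most `5616` elements, `G` is isomorphic to it.  The
same holds for `PSL₃(3)`, whence `G ≃* PSL₃(3)`.
-/

set_option autoImplicit false
set_option linter.unusedSectionVars false
set_option linter.style.haveILetI false

namespace Cfsg.Agent.Lib.Helper5.L33

open Cfsg Cfsg.Agent.Lib.Helper10.StCert Cfsg.Agent.Lib.Helper10.StCertK
  Cfsg.Agent.Lib.Helper28.SteinerDerived

universe u v

/-- the conclusion of the 3-local analysis -/
def PureData (G : Type u) [Group G] : Prop :=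
  ∃ E : Subgroup G, Nat.card E = 9 ∧
    (∀ z ∈ E, z ≠ 1 → orderOf z = 3 ∧ Nat.card (Subgroup.centralizer ({z} : Set G)) = 54) ∧
    Nat.card (Subgroup.normalizer (E : Set G)) = 432

/-- a simple group of order `5616` with the 3-local data is the automorphism group of the cyclic
plane of order `3` -/
theorem iso_aut_of_data {G : Type u} [Group G] [Finite G] [IsSimpleGroup G]
    (hG : Nat.card G = 5616) (hD : PureData G)
    (hA : Nat.card (setSystemAut cyclicPlane13) ≤ 5616) :
    Nonempty (G ≃* setSystemAut cyclicPlane13) := by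
  classical
  obtain ⟨χ, ha, hb, hc, -⟩ := char_data hG
  obtain ⟨E, hE, hE3, hN⟩ := hD
  obtain ⟨H, hidx, hH⟩ :=
    Cfsg.Agent.Lib.Helper2.L33Design.steiner_of_data hG χ ha hb hc E hE hE3 hN
  haveI : Fintype (G ⧸ H) := Fintype.ofFinite _
  obtain ⟨-, B, hB, hinv⟩ := hH
  have hcard : Fintype.card (G ⧸ H) = 13 := by
    rw [← Nat.card_eq_fintype_card, ← Subgroup.index_eq_card, hidx]
  obtain ⟨e, he⟩ := plane13_unique' hcard hB
  let ρ : G →* setSystemAut B :=
    (MulAction.toPermHom G (G ⧸ H)).codRestrict (setSystemAut B) (fun g =>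
      mem_aut_of_forall (fun b hb => hinv g b hb) (fun b hb => hinv g⁻¹ b hb))
  have hρ : ∀ (g : G) (ω : G ⧸ H), ((ρ g : Equiv.Perm (G ⧸ H))) ω = g • ω := fun g ω => rfl
  have hinj : Function.Injective ρ := by
    rw [← MonoidHom.ker_eq_bot_iff]
    rcases IsSimpleGroup.eq_bot_or_eq_top_of_normal ρ.ker inferInstance with h | h
    · exact h
    · exfalso
      have hHtop : H = ⊤ := by
        rw [eq_top_iff]
        intro g _
        have hg : g ∈ ρ.ker := by rw [h]; trivial
        rw [MonoidHom.mem_ker] at hg
        have h1 := hρ g ((1 : G) : G ⧸ H)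
        rw [hg] at h1
        have h2 : ((g * 1 : G) : G ⧸ H) = ((1 : G) : G ⧸ H) := h1.symm
        rw [mul_one, QuotientGroup.eq] at h2
        simpa using H.inv_mem h2
      rw [hHtop, Subgroup.index_top] at hidx
      omega
  have hAB : Nat.card (setSystemAut B) ≤ 5616 := by
    rw [Nat.card_congr (autCongr e B).toEquiv, show imgSys e B = cyclicPlane13 from he]
    exact hA
  have hbij : Function.Bijective ρ := hinj.bijective_of_nat_card_le (by rw [hG]; exact hAB)
  exact ⟨((MulEquiv.ofBijective ρ hbij).trans (autCongr e B)).trans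
    (MulEquiv.subgroupCongr (congrArg (fun X => setSystemAut X) he))⟩

/-- **the recognition theorem from the data**: a simple group of order `5616` is `PSL₃(3)`,
given the 3-local data for it and for `PSL₃(3)`, and the bound on the automorphism group of the
plane -/
theorem iso_L33_of_data {G : Type u} [Group G] [Finite G] [IsSimpleGroup G]
    (hG : Nat.card G = 5616) (hD : PureData G)
    (hDL : PureData (Matrix.ProjectiveSpecialLinearGroup (Fin 3) (ZMod 3)))
    (hA : Nat.card (setSystemAut cyclicPlane13) ≤ 5616) :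
    Nonempty (G ≃* Matrix.ProjectiveSpecialLinearGroup (Fin 3) (ZMod 3)) := by
  haveI := Cfsg.Agent.Lib.Helper1.L33Rec.isSimpleGroup_L33
  haveI : Finite (Matrix.ProjectiveSpecialLinearGroup (Fin 3) (ZMod 3)) :=
    Nat.finite_of_card_ne_zero (by rw [Cfsg.Agent.Lib.Helper1.L33Rec.card_L33]; norm_num)
  obtain ⟨f⟩ := iso_aut_of_data hG hD hA
  obtain ⟨f'⟩ := iso_aut_of_data Cfsg.Agent.Lib.Helper1.L33Rec.card_L33 hDL hA
  exact ⟨f.trans f'.symm⟩

end Cfsg.Agent.Lib.Helper5.L33
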