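import Mathlib
import Cfsg.Agent.Lib.Helper10.StPlane13
import Cfsg.Agent.Lib.Helper10.StAut

/-!
# The automorphism group of the cyclic plane of order 3 has at most 5616 elements (helper5)

An automorphism of the plane `{i, i + 1, i + 3, i + 9}` on `Fin 13` fixing the quadrangle
`0, 1, 2, 5` is the identity (the fixed points are closed under joining and meeting), and the
images of the quadrangle are among the `5616` ordered quadrangles.
-/

set_option autoImplicit false
set_option linter.unusedSectionVars false
set_option linter.style.haveILetI false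

namespace Cfsg.Agent.Lib.Helper5.L33

open Cfsg Cfsg.Agent.Lib.Helper10.StCert Cfsg.Agent.Lib.Helper10.StCertK

/-- the point `a` lies on the line number `i` (natural numbers below `13`) -/
def onN (i a : ℕ) : Bool :=
  let d := (a + 13 - i) % 13
  d == 0 || d == 1 || d == 3 || d == 9

/-- three points on a common line (natural numbers below `13`) -/
def colN (a b c : ℕ) : Bool := (List.range 13).any fun i => onN i a && onN i b && onN i c

/-- the list of the ordered quadrangles -/
def quadList : List (ℕ × ℕ × ℕ × ℕ) :=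
  (List.range 13).flatMap fun a => (List.range 13).flatMap fun b =>
    ((List.range 13).filter fun c => !colN a b c).flatMap fun c =>
      ((List.range 13).filter fun d => !colN a b d && !colN a c d && !colN b c d).map
        fun d => (a, b, c, d)

set_option maxRecDepth 100000 in
theorem quadList_length : quadList.length = 5616 := by decide +kernel

/-- the point `a` lies on the line number `i` -/
def onL (i a : Fin 13) : Bool := onN i.val a.val

theorem mem_line_iff : ∀ (i a : Fin 13),
    a ∈ ({i, i + 1, i + 3, i + 9} : Finset (Fin 13)) ↔ onL i a = true := by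
  decide +kernel

/-- three points on a common line -/
def col (a b c : Fin 13) : Bool := colN a.val b.val c.val

theorem col_iff_exists : ∀ (a b c : Fin 13),
    col a b c = true ↔ ∃ i, onL i a = true ∧ onL i b = true ∧ onL i c = true := by
  decide +kernel

section
variable {σ : Equiv.Perm (Fin 13)}

theorem image_line (hσ : σ ∈ setSystemAut cyclicPlane13) (i : Fin 13) :
    ∃ j : Fin 13, ∀ x, onL i x = true → onL j (σ x) = true := by
  have h : ({i, i + 1, i + 3, i + 9} : Finset (Fin 13)).image σ ∈ cyclicPlane13 :=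
    smul_mem_of_aut hσ ⟨i, rfl⟩
  obtain ⟨j, hj⟩ := h
  refine ⟨j, fun x hx => ?_⟩
  rw [← mem_line_iff, ← hj]
  exact Finset.mem_image_of_mem _ ((mem_line_iff i x).mpr hx)

theorem col_map (hσ : σ ∈ setSystemAut cyclicPlane13) {a b c : Fin 13}
    (h : col a b c = true) : col (σ a) (σ b) (σ c) = true := by
  rw [col_iff_exists] at h ⊢
  obtain ⟨i, ha, hb, hc⟩ := h
  obtain ⟨j, hj⟩ := image_line hσ i
  exact ⟨j, hj a ha, hj b hb, hj c hc⟩

theorem col_map_iff (hσ : σ ∈ setSystemAut cyclicPlane13) {a b c : Fin 13} :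
    col (σ a) (σ b) (σ c) = true ↔ col a b c = true := by
  refine ⟨fun h => ?_, col_map hσ⟩
  have := col_map ((setSystemAut cyclicPlane13).inv_mem hσ) h
  simpa using this

theorem fix_step (hσ : σ ∈ setSystemAut cyclicPlane13) {a b c d p : Fin 13}
    (ha : σ a = a) (hb : σ b = b) (hc : σ c = c) (hd : σ d = d)
    (h1 : col a b p = true) (h2 : col c d p = true)
    (hu : ∀ q, col a b q = true → col c d q = true → q = p) : σ p = p := by
  apply hu
  · have := col_map hσ h1
    rwa [ha, hb] at this
  · have := col_map hσ h2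
    rwa [hc, hd] at this

theorem fix_all (hσ : σ ∈ setSystemAut cyclicPlane13) (h0 : σ 0 = 0) (h1 : σ 1 = 1)
    (h2 : σ 2 = 2) (h5 : σ 5 = 5) : σ = 1 := by
  have h3 : σ 3 = 3 := fix_step hσ h0 h1 h2 h5 (by decide) (by decide) (by decide)
  have h8 : σ 8 = 8 := fix_step hσ h0 h2 h1 h5 (by decide) (by decide) (by decide)
  have h4 : σ 4 = 4 := fix_step hσ h0 h5 h1 h2 (by decide) (by decide) (by decide)
  have h7 : σ 7 = 7 := fix_step hσ h0 h5 h3 h8 (by decide) (by decide) (by decide)
  have h9 : σ 9 = 9 := fix_step hσ h0 h3 h2 h7 (by decide) (by decide) (by decide)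
  have h12 : σ 12 = 12 := fix_step hσ h0 h8 h1 h7 (by decide) (by decide) (by decide)
  have h10 : σ 10 = 10 := fix_step hσ h1 h2 h5 h9 (by decide) (by decide) (by decide)
  have h6 : σ 6 = 6 := fix_step hσ h1 h5 h0 h10 (by decide) (by decide) (by decide)
  have h11 : σ 11 = 11 := fix_step hσ h1 h7 h0 h10 (by decide) (by decide) (by decide)
  refine Equiv.ext fun x => ?_
  rw [Equiv.Perm.one_apply]
  fin_cases x
  · exact h0
  · exact h1
  · exact h2
  · exact h3
  · exact h4
  · exact h5
  · exact h6
  · exact h7
  · exact h8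
  · exact h9
  · exact h10
  · exact h11
  · exact h12

theorem quad_mem (hσ : σ ∈ setSystemAut cyclicPlane13) :
    ((σ 0).val, (σ 1).val, (σ 2).val, (σ 5).val) ∈ quadList := by
  have key : ∀ a b c : Fin 13, col a b c = false →
      colN (σ a).val (σ b).val (σ c).val = false := by
    intro a b c h
    have h' : col (σ a) (σ b) (σ c) = false := by
      rw [← Bool.not_eq_true] at h ⊢
      rwa [col_map_iff hσ]
    exact h'
  rw [quadList]
  simp only [List.mem_flatMap, List.mem_map, List.mem_filter, List.mem_range]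
  refine ⟨(σ 0).val, (σ 0).isLt, (σ 1).val, (σ 1).isLt, (σ 2).val, ⟨(σ 2).isLt, ?_⟩,
    (σ 5).val, ⟨(σ 5).isLt, ?_⟩, rfl⟩
  · rw [key 0 1 2 (by decide)]
    rfl
  · rw [key 0 1 5 (by decide), key 0 2 5 (by decide), key 1 2 5 (by decide)]
    rfl

end

/-- **the bound**: the cyclic plane of order `3` has at most `5616` automorphisms -/
theorem card_aut_cyclicPlane13_le : Nat.card (setSystemAut cyclicPlane13) ≤ 5616 := by
  classical
  let Φ : setSystemAut cyclicPlane13 → quadList.toFinset :=
    fun σ => ⟨_, List.mem_toFinset.mpr (quad_mem σ.2)⟩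
  have hinj : Function.Injective Φ := by
    intro σ τ h
    have h' : (((σ : Equiv.Perm (Fin 13)) 0).val, ((σ : Equiv.Perm (Fin 13)) 1).val,
        ((σ : Equiv.Perm (Fin 13)) 2).val, ((σ : Equiv.Perm (Fin 13)) 5).val) =
        (((τ : Equiv.Perm (Fin 13)) 0).val, ((τ : Equiv.Perm (Fin 13)) 1).val,
        ((τ : Equiv.Perm (Fin 13)) 2).val, ((τ : Equiv.Perm (Fin 13)) 5).val) :=
      congrArg Subtype.val h
    simp only [Prod.mk.injEq] at h'
    obtain ⟨e0, e1, e2, e5⟩ := h'
    replace e0 := Fin.ext e0
    replace e1 := Fin.ext e1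
    replace e2 := Fin.ext e2
    replace e5 := Fin.ext e5
    have hmem : (τ : Equiv.Perm (Fin 13))⁻¹ * (σ : Equiv.Perm (Fin 13)) ∈
        setSystemAut cyclicPlane13 :=
      (setSystemAut cyclicPlane13).mul_mem ((setSystemAut cyclicPlane13).inv_mem τ.2) σ.2
    have h1 : (τ : Equiv.Perm (Fin 13))⁻¹ * (σ : Equiv.Perm (Fin 13)) = 1 := by
      apply fix_all hmem
      · rw [Equiv.Perm.mul_apply, e0]; simp
      · rw [Equiv.Perm.mul_apply, e1]; simp
      · rw [Equiv.Perm.mul_apply, e2]; simp
      · rw [Equiv.Perm.mul_apply, e5]; simp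
    apply Subtype.ext
    exact (inv_mul_eq_one.mp h1).symm
  calc Nat.card (setSystemAut cyclicPlane13) ≤ Nat.card quadList.toFinset :=
        Nat.card_le_card_of_injective Φ hinj
    _ = quadList.toFinset.card := by rw [Nat.card_eq_fintype_card, Fintype.card_coe]
    _ ≤ quadList.length := List.toFinset_card_le _
    _ = 5616 := quadList_length

end Cfsg.Agent.Lib.Helper5.L33
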