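/-
helper5: S5286-FP (leaf of helper21's plan `notes/S5286_leaves.lean`; twin of helper22's): a finite subgroup
`H` of `FreeGroup Y ⋊ Γ` (`Γ` permuting the generators) fixes a vertex of the Cayley tree which is a prefix of
`h.left` for some `h ∈ H`.

Proof by strong induction on a bound `n` for the word lengths of the orbit `{h.left}` of the vertex `1`.
Let `b = h₀.left` be of maximal length `r ≥ 1`, `ℓ` its first letter.  Then
 (a) every nontrivial `h.left` starts with `ℓ` (else `|b⁻¹ h.left| = r + |h.left| > r`, but this is the length of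
     `(h₀⁻¹ h).left`);
 (b) every nontrivial `h.left` ends with the inverse of `h.right • ℓ` ((a) for `h⁻¹`);
 (c) `h.left = 1` implies `h.right • ℓ = ℓ` ((a) for `h h₀`);
 so conjugating by the letter `ℓ` shortens every nontrivial `h.left` by two letters (a word of length one would
 be a letter equal to its own inverse up to the action, impossible as the action keeps the sign), and the
 induction hypothesis applies to `ℓ⁻¹ H ℓ`.
-/
import Mathlib
import Cfsg.Agent.Lib.Helper21.LSBasic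

set_option autoImplicit false
universe u
open Cfsg
open Cfsg.Agent.Lib.Helper21.LS

namespace Cfsg.Agent.Lib.Helper5.LSFP

variable {Γ : Type*} {Y : Type*} [Group Γ] [MulAction Γ Y]

theorem lsmul_lsmul_inv (γ : Γ) (p : Y × Bool) : lsmul γ (lsmul γ⁻¹ p) = p := by
  simp [lsmul]

theorem isReduced_map_lsmul (γ : Γ) {L : List (Y × Bool)} (h : FreeGroup.IsReduced L) :
    FreeGroup.IsReduced (L.map (lsmul γ)) := by
  unfold FreeGroup.IsReduced at *
  rw [List.isChain_map]
  refine h.imp ?_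
  intro a b hab h1
  exact hab (smul_left_cancel γ h1)

theorem vact_inl (u v : FreeGroup Y) :
    vact (SemidirectProduct.inl u : FreeGroup Y ⋊[actHom Γ Y] Γ) v = u * v := by
  simp [vact]

theorem conj_inl_left (u : FreeGroup Y) (h : FreeGroup Y ⋊[actHom Γ Y] Γ) :
    ((SemidirectProduct.inl u)⁻¹ * h * SemidirectProduct.inl u).left =
      u⁻¹ * h.left * actHom Γ Y h.right u := by
  simp [SemidirectProduct.mul_left, SemidirectProduct.inv_left]

variable [DecidableEq Y]

theorem toWord_mk_of_isReduced {L : List (Y × Bool)} (h : FreeGroup.IsReduced L) :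
    (FreeGroup.mk L).toWord = L := by
  rw [FreeGroup.toWord_mk, h.reduce_eq]

theorem toWord_actHom (γ : Γ) (x : FreeGroup Y) :
    (actHom Γ Y γ x).toWord = x.toWord.map (lsmul γ) := by
  conv_lhs => rw [← FreeGroup.mk_toWord (x := x), actHom_mk]
  exact toWord_mk_of_isReduced (isReduced_map_lsmul γ FreeGroup.isReduced_toWord)

theorem norm_actHom (γ : Γ) (x : FreeGroup Y) : (actHom Γ Y γ x).norm = x.norm := by
  unfold FreeGroup.norm
  rw [toWord_actHom, List.length_map]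

theorem exists_cons_of_ne_one {x : FreeGroup Y} (hx : x ≠ 1) :
    ∃ (a : Y × Bool) (W : List (Y × Bool)), x.toWord = a :: W := by
  cases hw : x.toWord with
  | nil => exact absurd (FreeGroup.toWord_eq_nil_iff.mp hw) hx
  | cons a W => exact ⟨a, W, rfl⟩

theorem norm_inv_mul_of_head_ne {b c : FreeGroup Y} {ℓ a' : Y × Bool} {B' W : List (Y × Bool)}
    (hb : b.toWord = ℓ :: B') (hc : c.toWord = a' :: W) (hne : a' ≠ ℓ) :
    (b⁻¹ * c).norm = b.norm + c.norm := by
  have hred : FreeGroup.IsReduced (FreeGroup.invRev (ℓ :: B') ++ (a' :: W)) := by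
    have h1 : FreeGroup.IsReduced (FreeGroup.invRev (ℓ :: B')) := by
      rw [← hb, ← FreeGroup.toWord_inv]; exact FreeGroup.isReduced_toWord
    have h2 : FreeGroup.IsReduced (a' :: W) := by rw [← hc]; exact FreeGroup.isReduced_toWord
    have e : FreeGroup.invRev (ℓ :: B') = FreeGroup.invRev B' ++ [(ℓ.1, !ℓ.2)] := by
      simp [FreeGroup.invRev]
    rw [e] at h1 ⊢
    have h3 : FreeGroup.IsReduced ([(ℓ.1, !ℓ.2)] ++ (a' :: W)) := by
      rw [List.singleton_append, FreeGroup.isReduced_cons_cons]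
      refine ⟨?_, h2⟩
      intro h4
      by_contra h5
      apply hne
      have h6 : a'.2 = ℓ.2 := by
        cases h7 : a'.2 <;> cases h8 : ℓ.2 <;> simp_all
      exact Prod.ext h4.symm h6
    exact FreeGroup.IsReduced.append_overlap h1 h3 (by simp)
  unfold FreeGroup.norm
  rw [FreeGroup.toWord_mul, FreeGroup.toWord_inv, hb, hc, hred.reduce_eq, List.length_append,
    FreeGroup.invRev_length]

section step

variable (H : Subgroup (FreeGroup Y ⋊[actHom Γ Y] Γ)) (h₀ : FreeGroup Y ⋊[actHom Γ Y] Γ)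
  (hh₀ : h₀ ∈ H) (hmax : ∀ h ∈ H, h.left.norm ≤ h₀.left.norm) (ℓ : Y × Bool)
  (B' : List (Y × Bool)) (hb : h₀.left.toWord = ℓ :: B')

include hh₀ hmax hb

/-- (a) every nontrivial `h.left` starts with the first letter of the longest one. -/
theorem head_eq (h : FreeGroup Y ⋊[actHom Γ Y] Γ) (hh : h ∈ H) (hne : h.left ≠ 1) :
    ∃ W, h.left.toWord = ℓ :: W := by
  obtain ⟨a', W, hc⟩ := exists_cons_of_ne_one hne
  by_cases hal : a' = ℓ
  · exact ⟨W, by rw [hc, hal]⟩
  · exfalso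
    have h1 := norm_inv_mul_of_head_ne hb hc hal
    have h2 : (h₀⁻¹ * h).left = actHom Γ Y h₀.right⁻¹ (h₀.left⁻¹ * h.left) := by
      simp [SemidirectProduct.mul_left, SemidirectProduct.inv_left, map_mul]
    have h3 := hmax _ (H.mul_mem (H.inv_mem hh₀) hh)
    rw [h2, norm_actHom, h1] at h3
    have h4 : h.left.norm = 0 := by omega
    exact hne (FreeGroup.norm_eq_zero.mp h4)

/-- (b) every nontrivial `h.left` ends with the inverse of the letter `h.right • ℓ`. -/
theorem last_eq (h : FreeGroup Y ⋊[actHom Γ Y] Γ) (hh : h ∈ H) (hne : h.left ≠ 1) :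
    ∃ W, h.left.toWord = W ++ [(h.right • ℓ.1, !ℓ.2)] := by
  have h1 : (h⁻¹).left = actHom Γ Y h.right⁻¹ (h.left⁻¹) := by
    simp [SemidirectProduct.inv_left]
  have h2 : (h⁻¹).left ≠ 1 := by
    rw [h1]
    intro h3
    apply hne
    have h4 := (map_eq_one_iff _ (MulEquiv.injective (actHom Γ Y h.right⁻¹))).mp h3
    exact inv_eq_one.mp h4
  obtain ⟨W₁, hW₁⟩ := head_eq H h₀ hh₀ hmax ℓ B' hb h⁻¹ (H.inv_mem hh) h2
  rw [h1, toWord_actHom, FreeGroup.toWord_inv] at hW₁
  have h3 : FreeGroup.invRev h.left.toWord = (ℓ :: W₁).map (lsmul h.right) := by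
    rw [← hW₁, List.map_map]
    have h5 : (lsmul h.right ∘ lsmul h.right⁻¹ : Y × Bool → Y × Bool) = id := by
      funext p; exact lsmul_lsmul_inv _ _
    rw [h5, List.map_id]
  have h4 := congrArg FreeGroup.invRev h3
  rw [FreeGroup.invRev_invRev] at h4
  refine ⟨FreeGroup.invRev (W₁.map (lsmul h.right)), ?_⟩
  rw [h4]
  simp [FreeGroup.invRev, lsmul]

/-- (c) an element fixing the vertex `1` fixes the letter `ℓ`. -/
theorem lsmul_eq_of_left_eq_one (h : FreeGroup Y ⋊[actHom Γ Y] Γ) (hh : h ∈ H)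
    (h1 : h.left = 1) : lsmul h.right ℓ = ℓ := by
  have hb1 : h₀.left ≠ 1 := by
    intro h2
    rw [h2, FreeGroup.toWord_one] at hb
    exact List.cons_ne_nil _ _ hb.symm
  have h2 : (h * h₀).left = actHom Γ Y h.right h₀.left := by
    rw [SemidirectProduct.mul_left, h1, one_mul]
  have h3 : (h * h₀).left ≠ 1 := by
    rw [h2]
    intro h4
    exact hb1 ((map_eq_one_iff _ (MulEquiv.injective (actHom Γ Y h.right))).mp h4)
  obtain ⟨W, hW⟩ := head_eq H h₀ hh₀ hmax ℓ B' hb (h * h₀) (H.mul_mem hh hh₀) h3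
  rw [h2, toWord_actHom, hb, List.map_cons] at hW
  exact (List.cons.inj hW).1

/-- (a) + (b): the shape of a nontrivial `h.left`. -/
theorem middle (h : FreeGroup Y ⋊[actHom Γ Y] Γ) (hh : h ∈ H) (hne : h.left ≠ 1) :
    ∃ W', h.left.toWord = ℓ :: (W' ++ [(h.right • ℓ.1, !ℓ.2)]) := by
  obtain ⟨W, hW⟩ := head_eq H h₀ hh₀ hmax ℓ B' hb h hh hne
  obtain ⟨W₂, hW₂⟩ := last_eq H h₀ hh₀ hmax ℓ B' hb h hh hne
  rw [hW] at hW₂
  cases W₂ with
  | nil =>
    exfalso
    rw [List.nil_append] at hW₂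
    have h1 := (List.cons.inj hW₂).1
    have h2 := congrArg Prod.snd h1
    simp at h2
  | cons x W' =>
    rw [List.cons_append] at hW₂
    obtain ⟨_, hW'⟩ := List.cons.inj hW₂
    exact ⟨W', by rw [hW, hW']⟩

omit hh₀ hmax hb in
/-- conjugating by the letter `ℓ` strips the first and the last letter. -/
theorem conj_left_eq_mk (h : FreeGroup Y ⋊[actHom Γ Y] Γ) (W' : List (Y × Bool))
    (hW' : h.left.toWord = ℓ :: (W' ++ [(h.right • ℓ.1, !ℓ.2)])) :
    ((SemidirectProduct.inl (FreeGroup.mk [ℓ]) : FreeGroup Y ⋊[actHom Γ Y] Γ)⁻¹ * h *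
      SemidirectProduct.inl (FreeGroup.mk [ℓ])).left = FreeGroup.mk W' := by
  rw [conj_inl_left, actHom_mk, ← FreeGroup.mk_toWord (x := h.left), hW']
  have e1 : FreeGroup.mk (ℓ :: (W' ++ [(h.right • ℓ.1, !ℓ.2)])) =
      FreeGroup.mk [ℓ] * FreeGroup.mk W' * FreeGroup.mk [(h.right • ℓ.1, !ℓ.2)] := by
    rw [FreeGroup.mul_mk, FreeGroup.mul_mk]
    simp
  have e2 : FreeGroup.mk [(h.right • ℓ.1, !ℓ.2)] =
      (FreeGroup.mk ([ℓ].map (lsmul h.right)))⁻¹ := by
    rw [FreeGroup.inv_mk]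
    simp [FreeGroup.invRev, lsmul]
  rw [e1, e2]
  group

omit hh₀ hmax hb [DecidableEq Y] in
/-- conjugating by the letter `ℓ` an element fixing the vertex `1` and the letter `ℓ`. -/
theorem conj_left_eq_one (h : FreeGroup Y ⋊[actHom Γ Y] Γ) (h1 : h.left = 1)
    (h2 : lsmul h.right ℓ = ℓ) :
    ((SemidirectProduct.inl (FreeGroup.mk [ℓ]) : FreeGroup Y ⋊[actHom Γ Y] Γ)⁻¹ * h *
      SemidirectProduct.inl (FreeGroup.mk [ℓ])).left = 1 := by
  rw [conj_inl_left, actHom_mk, h1, List.map_singleton, h2]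
  group

end step

theorem main_ind : ∀ (n : ℕ) (H : Subgroup (FreeGroup Y ⋊[actHom Γ Y] Γ)) [Finite H],
    (∀ h ∈ H, h.left.norm ≤ n) →
    ∃ (L L' : List (Y × Bool)), FreeGroup.IsReduced (L ++ L') ∧
      (∃ h ∈ H, h.left = FreeGroup.mk (L ++ L')) ∧
      ∀ h ∈ H, vact h (FreeGroup.mk L) = FreeGroup.mk L := by
  intro n
  induction n using Nat.strong_induction_on with
  | _ n ih =>
  intro H _ hn
  obtain ⟨x₀, hx₀⟩ :=
    Finite.exists_max (fun h : H => (h : FreeGroup Y ⋊[actHom Γ Y] Γ).left.norm)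
  by_cases hr : (x₀ : FreeGroup Y ⋊[actHom Γ Y] Γ).left = 1
  · refine ⟨[], [], FreeGroup.IsReduced.nil, ⟨1, H.one_mem, ?_⟩, fun h hh => ?_⟩
    · rw [List.append_nil, ← FreeGroup.one_eq_mk]; rfl
    · have h1 : h.left.norm ≤ (x₀ : FreeGroup Y ⋊[actHom Γ Y] Γ).left.norm := hx₀ ⟨h, hh⟩
      rw [hr, FreeGroup.norm_one] at h1
      have h2 : h.left = 1 := FreeGroup.norm_eq_zero.mp (by omega)
      rw [← FreeGroup.one_eq_mk, vact_one_left, h2]
  · obtain ⟨h₀, hh₀⟩ := x₀
    simp only at hr hx₀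
    have hmax : ∀ h ∈ H, h.left.norm ≤ h₀.left.norm := fun h hh => hx₀ ⟨h, hh⟩
    obtain ⟨ℓ, B', hb⟩ := exists_cons_of_ne_one hr
    have hn1 : 1 ≤ n := by
      have h1 := hn h₀ hh₀
      unfold FreeGroup.norm at h1
      rw [hb, List.length_cons] at h1
      omega
    obtain ⟨g, hg⟩ : ∃ g : FreeGroup Y ⋊[actHom Γ Y] Γ,
        g = SemidirectProduct.inl (FreeGroup.mk [ℓ]) := ⟨_, rfl⟩
    obtain ⟨H', hH'def⟩ : ∃ H' : Subgroup (FreeGroup Y ⋊[actHom Γ Y] Γ),
        H' = H.map (MulAut.conj g⁻¹).toMonoidHom := ⟨_, rfl⟩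
    have hH' : ∀ k ∈ H', ∃ h ∈ H, k = g⁻¹ * h * g := by
      intro k hk
      rw [hH'def] at hk
      obtain ⟨h, hh, rfl⟩ := Subgroup.mem_map.mp hk
      exact ⟨h, hh, by simp⟩
    have hH'mem : ∀ h ∈ H, g⁻¹ * h * g ∈ H' := by
      intro h hh
      rw [hH'def]
      exact Subgroup.mem_map.mpr ⟨h, hh, by simp⟩
    have : Finite H' := by
      rw [hH'def]
      exact Finite.of_surjective
        (fun h : H => (⟨(MulAut.conj g⁻¹).toMonoidHom h, Subgroup.mem_map_of_mem _ h.2⟩ :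
          H.map (MulAut.conj g⁻¹).toMonoidHom))
        (by
          rintro ⟨k, hk⟩
          obtain ⟨h, hh, rfl⟩ := Subgroup.mem_map.mp hk
          exact ⟨⟨h, hh⟩, rfl⟩)
    have hbound : ∀ k ∈ H', k.left.norm ≤ n - 1 := by
      intro k hk
      obtain ⟨h, hh, rfl⟩ := hH' k hk
      rw [hg]
      by_cases hc : h.left = 1
      · rw [conj_left_eq_one ℓ h hc (lsmul_eq_of_left_eq_one H h₀ hh₀ hmax ℓ B' hb h hh hc),
          FreeGroup.norm_one]
        omega
      · obtain ⟨W', hW'⟩ := middle H h₀ hh₀ hmax ℓ B' hb h hh hc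
        rw [conj_left_eq_mk ℓ h W' hW']
        have h1 := FreeGroup.norm_mk_le (L₁ := W')
        have h2 := hn h hh
        unfold FreeGroup.norm at h2
        rw [hW', List.length_cons, List.length_append, List.length_singleton] at h2
        omega
    obtain ⟨L₁, L₁', hred, ⟨k, hk, hkl⟩, hfix⟩ := ih (n - 1) (by omega) H' hbound
    have hfix' : ∀ h ∈ H, vact h (FreeGroup.mk (ℓ :: L₁)) = FreeGroup.mk (ℓ :: L₁) := by
      intro h hh
      have e : FreeGroup.mk (ℓ :: L₁) = vact g (FreeGroup.mk L₁) := by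
        rw [hg, vact_inl, FreeGroup.mul_mk, List.singleton_append]
      rw [e, ← vact_mul]
      have e2 : h * g = g * (g⁻¹ * h * g) := by group
      rw [e2, vact_mul, hfix _ (hH'mem h hh)]
    obtain ⟨h, hh, rfl⟩ := hH' k hk
    rw [hg] at hkl
    by_cases hc : h.left = 1
    · rw [conj_left_eq_one ℓ h hc (lsmul_eq_of_left_eq_one H h₀ hh₀ hmax ℓ B' hb h hh hc)] at hkl
      have h2 : L₁ ++ L₁' = [] := by
        have h3 := toWord_mk_of_isReduced hred
        rw [← hkl, FreeGroup.toWord_one] at h3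
        exact h3.symm
      have h3 : L₁ = [] := (List.append_eq_nil_iff.mp h2).1
      rw [h3] at hfix'
      refine ⟨[ℓ], B', ?_, ⟨h₀, hh₀, ?_⟩, hfix'⟩
      · rw [List.singleton_append, ← hb]; exact FreeGroup.isReduced_toWord
      · rw [List.singleton_append, ← hb, FreeGroup.mk_toWord]
    · obtain ⟨W', hW'⟩ := middle H h₀ hh₀ hmax ℓ B' hb h hh hc
      rw [conj_left_eq_mk ℓ h W' hW'] at hkl
      have hW'red : FreeGroup.IsReduced W' :=
        (FreeGroup.isReduced_toWord (x := h.left)).infix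
          ⟨[ℓ], [(h.right • ℓ.1, !ℓ.2)], by rw [hW']; simp⟩
      have h2 : W' = L₁ ++ L₁' := by
        rw [← toWord_mk_of_isReduced hW'red, hkl, toWord_mk_of_isReduced hred]
      have h3 : (ℓ :: L₁) ++ (L₁' ++ [(h.right • ℓ.1, !ℓ.2)]) = h.left.toWord := by
        rw [hW', h2]; simp
      refine ⟨ℓ :: L₁, L₁' ++ [(h.right • ℓ.1, !ℓ.2)], ?_, ⟨h, hh, ?_⟩, hfix'⟩
      · rw [h3]; exact FreeGroup.isReduced_toWord
      · rw [h3, FreeGroup.mk_toWord]

end Cfsg.Agent.Lib.Helper5.LSFP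

namespace Cfsg.Agent.Lib.Helper5.LSFP

open Cfsg.Agent.Lib.Helper21.LS

/-! ### (FP) GENERAL: a finite subgroup of `FreeGroup Y ⋊ Γ` fixes a vertex of the Cayley tree, and the vertex
is a prefix of `h.left` for some `h ∈ H`. -/
theorem exists_fixed_vertex {Γ : Type*} {Y : Type*} [Group Γ] [MulAction Γ Y]
    (H : Subgroup (FreeGroup Y ⋊[actHom Γ Y] Γ)) [Finite H] :
    ∃ (L L' : List (Y × Bool)), FreeGroup.IsReduced (L ++ L') ∧
      (∃ h ∈ H, h.left = FreeGroup.mk (L ++ L')) ∧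
      ∀ h ∈ H, vact h (FreeGroup.mk L) = FreeGroup.mk L := by
  classical
  obtain ⟨x₀, hx₀⟩ :=
    Finite.exists_max (fun h : H => (h : FreeGroup Y ⋊[actHom Γ Y] Γ).left.norm)
  exact main_ind _ H (fun h hh => hx₀ ⟨h, hh⟩)

end Cfsg.Agent.Lib.Helper5.LSFP
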