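/-
helper5: linear-algebra utilities for the factorisation of a non-scalar matrix of determinant one
into two regular unipotent matrices (S2522): avoiding finitely many subspaces over a field with
enough elements, kernels of rank-one perturbations, eigenspace bookkeeping.
-/
import Mathlib

set_option autoImplicit false

namespace Cfsg.Agent.Lib.Helper5.Lev

open Module

/-- `K` has at least `r` elements. -/
def BigField (K : Type*) (r : ℕ) : Prop := ∀ T : Finset K, T.card < r → ∃ t : K, t ∉ T

theorem BigField.mono {K : Type*} {r s : ℕ} (h : BigField K r) (hs : s ≤ r) : BigField K s :=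
  fun T hT => h T (lt_of_lt_of_le hT hs)

theorem bigField_of_le_mk {K : Type*} {r : ℕ} (h : (r : Cardinal) ≤ Cardinal.mk K) :
    BigField K r := by
  intro T hT
  by_contra hne
  push Not at hne
  have h1 : Cardinal.mk K ≤ (T.card : Cardinal) := by
    rw [← Cardinal.mk_coe_finset (s := T)]
    exact Cardinal.mk_le_of_injective (f := fun t : K => (⟨t, hne t⟩ : T))
      (fun a b hab => by simpa using congrArg Subtype.val hab)
  have h2 : (r : Cardinal) ≤ (T.card : Cardinal) := h.trans h1
  have h3 : r ≤ T.card := by exact_mod_cast h2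
  omega

theorem bigField_five {K : Type*} [Field K] (h4 : BigField K 4) (h2 : (2 : K) ≠ 0) :
    BigField K 5 := by
  intro T hT
  by_contra hne
  push Not at hne
  haveI : Finite K := Finite.of_injective (fun t : K => (⟨t, hne t⟩ : T))
    (fun a b hab => by simpa using congrArg Subtype.val hab)
  haveI : Fintype K := Fintype.ofFinite K
  have hc : Fintype.card K ≤ T.card := by
    have := Fintype.card_le_of_injective (fun t : K => (⟨t, hne t⟩ : T))
      (fun a b hab => by simpa using congrArg Subtype.val hab)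
    simpa using this
  have h4' : 4 ≤ Fintype.card K := by
    by_contra hlt
    obtain ⟨t, ht⟩ := h4 Finset.univ (by rw [Finset.card_univ]; omega)
    exact ht (Finset.mem_univ t)
  have hcard : Fintype.card K = 4 := by omega
  have h0 : ((Fintype.card K : ℕ) : K) = 0 := Nat.cast_card_eq_zero K
  rw [hcard] at h0
  apply h2
  have : (2 : K) * 2 = 0 := by
    have : ((4 : ℕ) : K) = 2 * 2 := by norm_num
    rw [← this]; exact h0
  exact mul_self_eq_zero.mp this

section avoid

variable {K : Type*} [Field K] {E : Type*} [AddCommGroup E] [Module K E]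

/-- Inside a subspace `S`, finitely many subspaces not containing `S` can be avoided simultaneously
as soon as the field has at least as many elements as there are subspaces. -/
theorem exists_mem_forall_notMem (S : Submodule K E) :
    ∀ (l : List (Submodule K E)), (∀ B ∈ l, ¬ S ≤ B) → BigField K l.length →
      ∃ v ∈ S, ∀ B ∈ l, v ∉ B := by
  intro l
  induction l with
  | nil => intro _ _; exact ⟨0, S.zero_mem, by simp⟩
  | cons B l ih =>
    intro hl hK
    obtain ⟨v, hvS, hv⟩ := ih (fun B' hB' => hl B' (List.mem_cons_of_mem _ hB'))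
      (hK.mono (by simp))
    by_cases hvB : v ∉ B
    · refine ⟨v, hvS, ?_⟩
      intro B' hB'
      rcases List.mem_cons.mp hB' with rfl | h
      · exact hvB
      · exact hv B' h
    · push Not at hvB
      obtain ⟨u, huS, huB⟩ : ∃ u ∈ S, u ∉ B := by
        have := hl B List.mem_cons_self
        rw [SetLike.not_le_iff_exists] at this
        exact this
      classical
      let f : Submodule K E → K := fun B' =>
        if h : ∃ t : K, u + t • v ∈ B' then h.choose else 0
      let T : Finset K := (l.map f).toFinset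
      have hT : T.card < (B :: l).length := by
        calc T.card ≤ (l.map f).length := List.toFinset_card_le _
          _ = l.length := List.length_map ..
          _ < (B :: l).length := by simp
      obtain ⟨t, ht⟩ := hK T hT
      refine ⟨u + t • v, S.add_mem huS (S.smul_mem t hvS), ?_⟩
      intro B' hB'
      rcases List.mem_cons.mp hB' with rfl | h
      · intro hmem
        apply huB
        have := B'.sub_mem hmem (B'.smul_mem t hvB)
        simpa using this
      · intro hmem
        have hex : ∃ t : K, u + t • v ∈ B' := ⟨t, hmem⟩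
        have hft : f B' ∈ T := by
          simp only [T, List.mem_toFinset, List.mem_map]
          exact ⟨B', h, rfl⟩
        have hfB : u + f B' • v ∈ B' := by
          simp only [f, dif_pos hex]
          exact hex.choose_spec
        have hne : f B' ≠ t := fun e => ht (e ▸ hft)
        have h1 : (t - f B') • v ∈ B' := by
          have := B'.sub_mem hmem hfB
          rwa [add_sub_add_left_eq_sub, ← sub_smul] at this
        have hvB' : v ∈ B' := by
          have h2 := B'.smul_mem (t - f B')⁻¹ h1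
          rwa [smul_smul, inv_mul_cancel₀ (sub_ne_zero.mpr (Ne.symm hne)), one_smul] at h2
        exact hv B' h hvB'

end avoid

section dual

variable {K : Type*} [Field K] {V : Type*} [AddCommGroup V] [Module K V]

theorem exists_dual_vanish_ne {w u : V} (h : u ∉ Submodule.span K {w}) :
    ∃ φ : Dual K V, φ w = 0 ∧ φ u ≠ 0 := by
  obtain ⟨f, hf1, hf2⟩ := Submodule.exists_dual_map_eq_bot_of_notMem h inferInstance
  refine ⟨f, ?_, hf1⟩
  have : f w ∈ (Submodule.span K {w}).map f :=
    ⟨w, Submodule.mem_span_singleton_self w, rfl⟩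
  rw [hf2] at this
  simpa using this

/-- A functional vanishing at `w` and nowhere on a short list of vectors outside `K w`. -/
theorem exists_dual_list (w : V) (us : List V) (hus : ∀ u ∈ us, u ∉ Submodule.span K {w})
    (hK : BigField K us.length) : ∃ φ : Dual K V, φ w = 0 ∧ ∀ u ∈ us, φ u ≠ 0 := by
  let ev : V → Submodule K (Dual K V) := fun u => LinearMap.ker (Module.Dual.eval K V u)
  have hev : ∀ (u : V) (φ : Dual K V), φ ∈ ev u ↔ φ u = 0 := by
    intro u φ
    simp [ev, LinearMap.mem_ker]
  obtain ⟨φ, hφS, hφ⟩ := exists_mem_forall_notMem (ev w) (us.map ev) (by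
    intro B hB
    obtain ⟨u, hu, rfl⟩ := List.mem_map.mp hB
    intro hle
    obtain ⟨ψ, h1, h2⟩ := exists_dual_vanish_ne (hus u hu)
    exact h2 ((hev u ψ).mp (hle ((hev w ψ).mpr h1)))) (by simpa using hK)
  refine ⟨φ, (hev w φ).mp hφS, fun u hu h0 => ?_⟩
  exact hφ (ev u) (List.mem_map.mpr ⟨u, hu, rfl⟩) ((hev u φ).mpr h0)

end dual

section rankone

variable {K : Type*} [Field K] {V : Type*} [AddCommGroup V] [Module K V]

theorem ker_sub_smulRight_of_notMem (A : V →ₗ[K] V) (b : V) (χ : Dual K V)
    (hb : b ∉ LinearMap.range A) :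
    LinearMap.ker (A - χ.smulRight b) = LinearMap.ker A ⊓ LinearMap.ker χ := by
  ext x
  simp only [LinearMap.mem_ker, Submodule.mem_inf, LinearMap.sub_apply,
    LinearMap.smulRight_apply, sub_eq_zero]
  constructor
  · intro h
    have hχ : χ x = 0 := by
      by_contra hne
      apply hb
      refine ⟨(χ x)⁻¹ • x, ?_⟩
      rw [map_smul, h, smul_smul, inv_mul_cancel₀ hne, one_smul]
    exact ⟨by rw [h, hχ, zero_smul], hχ⟩
  · rintro ⟨h1, h2⟩
    rw [h1, h2, zero_smul]

variable [FiniteDimensional K V]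

theorem finrank_ker_dual_add_one_ge (χ : Dual K V) :
    finrank K V ≤ finrank K (LinearMap.ker χ) + 1 := by
  have h := LinearMap.finrank_range_add_finrank_ker χ
  have h1 : finrank K (LinearMap.range χ) ≤ 1 := by
    have := Submodule.finrank_le (LinearMap.range χ)
    rwa [finrank_self] at this
  omega

theorem finrank_le_inf_ker_add_one (S : Submodule K V) (χ : Dual K V) :
    finrank K S ≤ finrank K (S ⊓ LinearMap.ker χ : Submodule K V) + 1 := by
  have h := Submodule.finrank_sup_add_finrank_inf_eq S (LinearMap.ker χ)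
  have h1 : finrank K (S ⊔ LinearMap.ker χ : Submodule K V) ≤ finrank K V :=
    Submodule.finrank_le _
  have h2 := finrank_ker_dual_add_one_ge χ
  omega

theorem finrank_inf_ker_add_one (S : Submodule K V) (χ : Dual K V)
    (h : ∃ e ∈ S, χ e ≠ 0) :
    finrank K (S ⊓ LinearMap.ker χ : Submodule K V) + 1 = finrank K S := by
  obtain ⟨e, heS, he⟩ := h
  have htop : S ⊔ LinearMap.ker χ = ⊤ := by
    rw [eq_top_iff]
    intro x _
    rw [Submodule.mem_sup]
    refine ⟨(χ x * (χ e)⁻¹) • e, S.smul_mem _ heS, x - (χ x * (χ e)⁻¹) • e, ?_, by abel⟩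
    rw [LinearMap.mem_ker, map_sub, map_smul, smul_eq_mul, mul_assoc, inv_mul_cancel₀ he, mul_one,
      sub_self]
  have h0 := Submodule.finrank_sup_add_finrank_inf_eq S (LinearMap.ker χ)
  rw [htop, finrank_top] at h0
  have h2 : finrank K (LinearMap.ker χ) + 1 = finrank K V := by
    have h := LinearMap.finrank_range_add_finrank_ker χ
    have hr : LinearMap.range χ = ⊤ := by
      rw [LinearMap.range_eq_top]
      intro c
      exact ⟨(c * (χ e)⁻¹) • e, by rw [map_smul, smul_eq_mul, mul_assoc, inv_mul_cancel₀ he, mul_one]⟩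
    rw [hr, finrank_top, finrank_self] at h
    omega
  omega

theorem finrank_ker_sub_smulRight_le_add_one (A : V →ₗ[K] V) (b : V) (χ : Dual K V) :
    finrank K (LinearMap.ker (A - χ.smulRight b)) ≤ finrank K (LinearMap.ker A) + 1 := by
  have h1 := finrank_le_inf_ker_add_one (LinearMap.ker (A - χ.smulRight b)) χ
  have h2 : (LinearMap.ker (A - χ.smulRight b) ⊓ LinearMap.ker χ : Submodule K V)
      ≤ LinearMap.ker A := by
    intro x hx
    rw [Submodule.mem_inf, LinearMap.mem_ker, LinearMap.mem_ker] at hx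
    rw [LinearMap.mem_ker]
    have := hx.1
    rw [LinearMap.sub_apply, LinearMap.smulRight_apply, hx.2, zero_smul, sub_zero] at this
    exact this
  have h3 := Submodule.finrank_mono h2
  omega

theorem finrank_ker_sub_smulRight_le (A : V →ₗ[K] V) (b : V) (χ : Dual K V)
    (hb : b ∉ LinearMap.range A) :
    finrank K (LinearMap.ker (A - χ.smulRight b)) ≤ finrank K (LinearMap.ker A) := by
  rw [ker_sub_smulRight_of_notMem A b χ hb]
  exact Submodule.finrank_mono inf_le_left

theorem finrank_ker_sub_smulRight_add_one (A : V →ₗ[K] V) (b : V) (χ : Dual K V)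
    (hb : b ∉ LinearMap.range A) (h : ∃ e ∈ LinearMap.ker A, χ e ≠ 0) :
    finrank K (LinearMap.ker (A - χ.smulRight b)) + 1 = finrank K (LinearMap.ker A) := by
  rw [ker_sub_smulRight_of_notMem A b χ hb]
  exact finrank_inf_ker_add_one _ χ h

/-- in dimension one every endomorphism is a scalar -/
theorem exists_eq_smul_id_of_finrank_eq_one (h : finrank K V = 1) (f : V →ₗ[K] V) :
    ∃ c : K, f = c • LinearMap.id := by
  obtain ⟨v, hv0, hv⟩ := finrank_eq_one_iff'.mp h
  obtain ⟨c, hc⟩ := hv (f v)
  refine ⟨c, LinearMap.ext fun w => ?_⟩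
  obtain ⟨d, rfl⟩ := hv w
  rw [map_smul, ← hc, LinearMap.smul_apply, LinearMap.id_apply, smul_comm]

theorem eq_id_of_finrank_eq_one_of_det (h : finrank K V = 1) (f : V →ₗ[K] V)
    (hdet : LinearMap.det f = 1) : f = LinearMap.id := by
  obtain ⟨c, rfl⟩ := exists_eq_smul_id_of_finrank_eq_one h f
  rw [LinearMap.det_smul, h, pow_one, LinearMap.det_id, mul_one] at hdet
  rw [hdet, one_smul]

end rankone

section eigen

variable {K : Type*} [Field K] {V : Type*} [AddCommGroup V] [Module K V]

/-- eigenspace of `g` for `c` -/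
def eig (g : V →ₗ[K] V) (c : K) : Submodule K V := LinearMap.ker (g - c • LinearMap.id)

/-- range of `g - c` -/
def rng (g : V →ₗ[K] V) (c : K) : Submodule K V := LinearMap.range (g - c • LinearMap.id)

theorem mem_eig {g : V →ₗ[K] V} {c : K} {x : V} : x ∈ eig g c ↔ g x = c • x := by
  simp [eig, LinearMap.mem_ker, sub_eq_zero]

theorem mem_rng {g : V →ₗ[K] V} {c : K} {x : V} : x ∈ rng g c ↔ ∃ y, g y - c • y = x := by
  simp [rng, LinearMap.mem_range]

theorem mem_rng_of_mem_eig {g : V →ₗ[K] V} {c c' : K} {x : V} (hx : x ∈ eig g c') (h : c' ≠ c) :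
    x ∈ rng g c := by
  rw [mem_eig] at hx
  rw [mem_rng]
  refine ⟨(c' - c)⁻¹ • x, ?_⟩
  rw [map_smul, hx, smul_comm c, ← smul_sub, ← sub_smul, smul_smul,
    inv_mul_cancel₀ (sub_ne_zero.mpr h), one_smul]

theorem mem_rng_of_apply_mem {g : V →ₗ[K] V} {c : K} (hc : c ≠ 0) {v : V} (h : g v ∈ rng g c) :
    v ∈ rng g c := by
  rw [mem_rng] at h ⊢
  obtain ⟨y, hy⟩ := h
  refine ⟨c⁻¹ • (y - v), ?_⟩
  have e : g y - g v = c • y := by rw [← hy]; abel
  rw [map_smul, map_sub, e, smul_smul, inv_mul_cancel₀ hc, one_smul, smul_smul,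
    mul_inv_cancel₀ hc, one_smul]
  abel

theorem eig_inf_eig {g : V →ₗ[K] V} {c₁ c₂ : K} (h : c₁ ≠ c₂) : eig g c₁ ⊓ eig g c₂ = ⊥ := by
  rw [eq_bot_iff]
  intro x hx
  rw [Submodule.mem_inf, mem_eig, mem_eig] at hx
  rw [Submodule.mem_bot]
  have : (c₁ - c₂) • x = 0 := by rw [sub_smul, ← hx.1, ← hx.2, sub_self]
  exact (smul_eq_zero.mp this).resolve_left (sub_ne_zero.mpr h)

variable [FiniteDimensional K V]

theorem finrank_rng_add_eig (g : V →ₗ[K] V) (c : K) :
    finrank K (rng g c) + finrank K (eig g c) = finrank K V :=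
  LinearMap.finrank_range_add_finrank_ker _

theorem finrank_eig_add_le₂ (g : V →ₗ[K] V) {c₁ c₂ : K} (h : c₁ ≠ c₂) :
    finrank K (eig g c₁) + finrank K (eig g c₂) ≤ finrank K V := by
  have h0 := Submodule.finrank_sup_add_finrank_inf_eq (eig g c₁) (eig g c₂)
  rw [eig_inf_eig h, finrank_bot] at h0
  have := Submodule.finrank_le (eig g c₁ ⊔ eig g c₂)
  omega

theorem finrank_eig_add_le₃ (g : V →ₗ[K] V) {c₁ c₂ c₃ : K} (h12 : c₁ ≠ c₂) (h13 : c₁ ≠ c₃)
    (h23 : c₂ ≠ c₃) :
    finrank K (eig g c₁) + finrank K (eig g c₂) + finrank K (eig g c₃) ≤ finrank K V := by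
  have h0 := Submodule.finrank_sup_add_finrank_inf_eq (eig g c₁) (eig g c₂)
  rw [eig_inf_eig h12, finrank_bot] at h0
  have hinf : (eig g c₁ ⊔ eig g c₂) ⊓ eig g c₃ = ⊥ := by
    rw [eq_bot_iff]
    intro x hx
    rw [Submodule.mem_inf, Submodule.mem_sup] at hx
    obtain ⟨⟨a, ha, b, hb, rfl⟩, h3⟩ := hx
    rw [mem_eig] at ha hb h3
    rw [map_add, ha, hb, smul_add] at h3
    have h4 : (c₁ - c₃) • a = (c₃ - c₂) • b := by
      rw [sub_smul, sub_smul, sub_eq_sub_iff_add_eq_add]
      rw [h3]; abel
    have ha' : (c₁ - c₃) • a ∈ eig g c₁ ⊓ eig g c₂ := by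
      refine ⟨(eig g c₁).smul_mem _ (mem_eig.mpr ha), ?_⟩
      rw [h4]; exact (eig g c₂).smul_mem _ (mem_eig.mpr hb)
    rw [eig_inf_eig h12, Submodule.mem_bot] at ha'
    have ha0 : a = 0 := (smul_eq_zero.mp ha').resolve_left (sub_ne_zero.mpr h13)
    have hb0 : b = 0 := by
      rw [ha', eq_comm] at h4
      exact (smul_eq_zero.mp h4).resolve_left (sub_ne_zero.mpr (Ne.symm h23))
    rw [Submodule.mem_bot, ha0, hb0, add_zero]
  have h1 := Submodule.finrank_sup_add_finrank_inf_eq (eig g c₁ ⊔ eig g c₂) (eig g c₃)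
  rw [hinf, finrank_bot] at h1
  have := Submodule.finrank_le ((eig g c₁ ⊔ eig g c₂) ⊔ eig g c₃)
  omega

theorem rng_ne_top_of_eig (g : V →ₗ[K] V) (c : K) (h : 1 ≤ finrank K (eig g c)) :
    rng g c ≠ ⊤ := by
  intro htop
  have := finrank_rng_add_eig g c
  rw [htop, finrank_top] at this
  omega

omit [FiniteDimensional K V] in
theorem eig_ne_top (g : V →ₗ[K] V) (hns : ¬ ∃ c : K, g = c • LinearMap.id) (c : K) :
    eig g c ≠ ⊤ := by
  intro htop
  apply hns
  refine ⟨c, LinearMap.ext fun x => ?_⟩
  have : x ∈ eig g c := by rw [htop]; trivial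
  rw [mem_eig] at this
  rw [this, LinearMap.smul_apply, LinearMap.id_apply]

end eigen

end Cfsg.Agent.Lib.Helper5.Lev
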