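/-
helper5: the compression step for S2522.  Given `g : V → V`, a vector `v` and a functional `φ` with
`φ v = φ (g v) = 1`, the map `g` has the block form `[[1, y'], [z', A]]` with respect to
`V = K v ⊕ ker φ`; the Schur complement `cG` lives on `ker φ`, has the same determinant, and a
factorisation `cG = ℓ' u'` into unipotent maps lifts to a factorisation `g = ℓ u`.
-/
import Cfsg.Agent.Lib.Helper5.LevA

set_option autoImplicit false

namespace Cfsg.Agent.Lib.Helper5.Lev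

open Module

section compress

variable {K : Type*} [Field K] {V : Type*} [AddCommGroup V] [Module K V]

/-- `x ↦ g x + (φ x - φ (g x)) • g v` -/
def cE (g : V →ₗ[K] V) (v : V) (φ : Dual K V) : V →ₗ[K] V :=
  g ∘ₗ (LinearMap.id + (φ - φ ∘ₗ g).smulRight v)

theorem cE_apply (g : V →ₗ[K] V) (v : V) (φ : Dual K V) (x : V) :
    cE g v φ x = g x + (φ x - φ (g x)) • g v := by
  simp [cE, LinearMap.smulRight_apply]

variable {g : V →ₗ[K] V} {v : V} {φ : Dual K V}

theorem phi_cE (hφg : φ (g v) = 1) (x : V) : φ (cE g v φ x) = φ x := by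
  rw [cE_apply, map_add, map_smul, hφg, smul_eq_mul, mul_one]; ring

theorem cE_mem (hφg : φ (g v) = 1) :
    LinearMap.ker φ ≤ (LinearMap.ker φ).comap (cE g v φ) := by
  intro w hw
  rw [Submodule.mem_comap, LinearMap.mem_ker, phi_cE hφg]
  exact hw

/-- the compression of `g` to `ker φ` -/
def cG (g : V →ₗ[K] V) (v : V) (φ : Dual K V) (hφg : φ (g v) = 1) :
    LinearMap.ker φ →ₗ[K] LinearMap.ker φ :=
  (cE g v φ).restrict (cE_mem hφg)

theorem cG_coe (hφg : φ (g v) = 1) (w : LinearMap.ker φ) :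
    ((cG g v φ hφg w : LinearMap.ker φ) : V) = g w - φ (g w) • g v := by
  rw [cG, LinearMap.restrict_coe_apply, cE_apply]
  have : φ (w : V) = 0 := w.2
  rw [this, zero_sub, neg_smul, sub_eq_add_neg]

theorem det_cG [FiniteDimensional K V] (hφv : φ v = 1) (hφg : φ (g v) = 1) :
    LinearMap.det (cG g v φ hφg) = LinearMap.det g := by
  have h1 : LinearMap.det (cE g v φ) = LinearMap.det g := by
    unfold cE
    rw [LinearMap.det_comp]
    have : (LinearMap.id + (φ - φ ∘ₗ g).smulRight v : V →ₗ[K] V)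
        = LinearMap.transvection (φ - φ ∘ₗ g) v := by
      ext x; simp [LinearMap.transvection.apply]
    rw [this, LinearMap.transvection.det]
    simp [hφv, hφg]
  have h2 := LinearMap.det_eq_det_mul_det (LinearMap.ker φ) (cE g v φ) (cE_mem hφg)
  have h3 : (LinearMap.ker φ).mapQ (LinearMap.ker φ) (cE g v φ) (cE_mem hφg) = LinearMap.id := by
    apply Submodule.linearMap_qext
    ext x
    simp only [LinearMap.comp_apply, Submodule.mkQ_apply, Submodule.mapQ_apply,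
      LinearMap.id_apply]
    rw [Submodule.Quotient.eq, LinearMap.mem_ker, map_sub, phi_cE hφg, sub_self]
  rw [h3, LinearMap.det_id, mul_one] at h2
  rw [← h1, h2]
  rfl

/-- kernels of `cG - c` embed into kernels of the rank-one perturbation of `g - c` -/
theorem finrank_ker_cG_le [FiniteDimensional K V] (hφg : φ (g v) = 1) (c : K) :
    finrank K (LinearMap.ker (cG g v φ hφg - c • LinearMap.id)) ≤
      finrank K (LinearMap.ker ((g - c • LinearMap.id) - (φ ∘ₗ g).smulRight (g v))) := by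
  rw [← Submodule.finrank_map_subtype_eq (LinearMap.ker φ)
    (LinearMap.ker (cG g v φ hφg - c • LinearMap.id))]
  apply Submodule.finrank_mono
  rintro _ ⟨w, hw, rfl⟩
  rw [SetLike.mem_coe, LinearMap.mem_ker, LinearMap.sub_apply, LinearMap.smul_apply,
    LinearMap.id_apply, sub_eq_zero] at hw
  have hw' := congrArg (Subtype.val) hw
  rw [cG_coe hφg] at hw'
  rw [LinearMap.mem_ker]
  simp only [LinearMap.sub_apply, LinearMap.smul_apply, LinearMap.id_apply,
    LinearMap.smulRight_apply, LinearMap.comp_apply, Submodule.subtype_apply]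
  rw [sub_right_comm, hw']
  simp

/-- the projection onto `ker φ` along `v` -/
def cP (v : V) (φ : Dual K V) (hφv : φ v = 1) : V →ₗ[K] LinearMap.ker φ :=
  LinearMap.codRestrict (LinearMap.ker φ) (LinearMap.id - φ.smulRight v) (by
    intro x
    rw [LinearMap.mem_ker, LinearMap.sub_apply, LinearMap.id_apply, LinearMap.smulRight_apply,
      map_sub, map_smul, hφv, smul_eq_mul, mul_one, sub_self])

theorem cP_coe (hφv : φ v = 1) (x : V) :
    ((cP v φ hφv x : LinearMap.ker φ) : V) = x - φ x • v := rfl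

theorem cP_subtype (hφv : φ v = 1) (w : LinearMap.ker φ) : cP v φ hφv (w : V) = w := by
  apply Subtype.ext
  rw [cP_coe]
  have : φ (w : V) = 0 := w.2
  rw [this, zero_smul, sub_zero]

theorem cP_self (hφv : φ v = 1) : cP v φ hφv v = 0 := by
  apply Subtype.ext
  rw [cP_coe, hφv, one_smul, sub_self]
  rfl

theorem decomp (hφv : φ v = 1) (x : V) :
    x = ((cP v φ hφv x : LinearMap.ker φ) : V) + φ x • v := by
  rw [cP_coe]; abel

/-- lift of the lower factor -/
def cL (g : V →ₗ[K] V) (v : V) (φ : Dual K V) (hφv : φ v = 1)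
    (ℓ' : LinearMap.ker φ →ₗ[K] LinearMap.ker φ) : V →ₗ[K] V :=
  (LinearMap.ker φ).subtype ∘ₗ ℓ' ∘ₗ cP v φ hφv + φ.smulRight (g v)

/-- lift of the upper factor -/
def cU (g : V →ₗ[K] V) (v : V) (φ : Dual K V) (hφv : φ v = 1)
    (u' : LinearMap.ker φ →ₗ[K] LinearMap.ker φ) : V →ₗ[K] V :=
  (LinearMap.ker φ).subtype ∘ₗ u' ∘ₗ cP v φ hφv +
    (φ + (φ ∘ₗ g) ∘ₗ (LinearMap.ker φ).subtype ∘ₗ cP v φ hφv).smulRight v

theorem cL_apply (hφv : φ v = 1) (ℓ' : LinearMap.ker φ →ₗ[K] LinearMap.ker φ) (x : V) :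
    cL g v φ hφv ℓ' x = ((ℓ' (cP v φ hφv x) : LinearMap.ker φ) : V) + φ x • g v := rfl

theorem cU_apply (hφv : φ v = 1) (u' : LinearMap.ker φ →ₗ[K] LinearMap.ker φ) (x : V) :
    cU g v φ hφv u' x = ((u' (cP v φ hφv x) : LinearMap.ker φ) : V) +
      (φ x + φ (g ((cP v φ hφv x : LinearMap.ker φ) : V))) • v := rfl

theorem cL_comp_cU (hφv : φ v = 1) (hφg : φ (g v) = 1)
    (ℓ' u' : LinearMap.ker φ →ₗ[K] LinearMap.ker φ) (h : ℓ' ∘ₗ u' = cG g v φ hφg) :
    cL g v φ hφv ℓ' ∘ₗ cU g v φ hφv u' = g := by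
  ext x
  rw [LinearMap.comp_apply, cL_apply]
  have h1 : cP v φ hφv (cU g v φ hφv u' x) = u' (cP v φ hφv x) := by
    rw [cU_apply, map_add, map_smul, cP_subtype, cP_self, smul_zero, add_zero]
  have h2 : φ (cU g v φ hφv u' x) = φ x + φ (g ((cP v φ hφv x : LinearMap.ker φ) : V)) := by
    rw [cU_apply, map_add, map_smul, hφv, smul_eq_mul, mul_one]
    have : φ ((u' (cP v φ hφv x) : LinearMap.ker φ) : V) = 0 := (u' (cP v φ hφv x)).2
    rw [this, zero_add]
  rw [h1, h2]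
  have h3 : ℓ' (u' (cP v φ hφv x)) = cG g v φ hφg (cP v φ hφv x) := by
    rw [← h]; rfl
  rw [h3, cG_coe hφg, add_smul]
  conv_rhs => rw [decomp hφv x, map_add, map_smul]
  abel

section powers

variable (hφv : φ v = 1) (hφg : φ (g v) = 1)

/-- the vector `z' = g v - v` of `ker φ` -/
def cZ (g : V →ₗ[K] V) (v : V) (φ : Dual K V) (hφv : φ v = 1) (hφg : φ (g v) = 1) :
    LinearMap.ker φ :=
  ⟨g v - v, by rw [LinearMap.mem_ker, map_sub, hφv, hφg, sub_self]⟩

/-- `cL - 1` as a map into `ker φ` -/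
def cLam (g : V →ₗ[K] V) (v : V) (φ : Dual K V) (hφv : φ v = 1) (hφg : φ (g v) = 1)
    (ℓ' : LinearMap.ker φ →ₗ[K] LinearMap.ker φ) : V →ₗ[K] LinearMap.ker φ :=
  (ℓ' - 1) ∘ₗ cP v φ hφv + φ.smulRight (cZ g v φ hφv hφg)

theorem cL_sub_one_apply (ℓ' : LinearMap.ker φ →ₗ[K] LinearMap.ker φ) (x : V) :
    (cL g v φ hφv ℓ' - 1) x = ((cLam g v φ hφv hφg ℓ' x : LinearMap.ker φ) : V) := by
  rw [LinearMap.sub_apply, cL_apply, Module.End.one_apply]
  simp only [cLam, LinearMap.add_apply, LinearMap.comp_apply, LinearMap.sub_apply,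
    Module.End.one_apply, LinearMap.smulRight_apply, Submodule.coe_add, Submodule.coe_sub,
    Submodule.coe_smul, cZ, cP_coe]
  rw [smul_sub]
  abel

theorem cLam_subtype (ℓ' : LinearMap.ker φ →ₗ[K] LinearMap.ker φ) (w : LinearMap.ker φ) :
    cLam g v φ hφv hφg ℓ' (w : V) = (ℓ' - 1) w := by
  have : φ (w : V) = 0 := w.2
  simp only [cLam, LinearMap.add_apply, LinearMap.comp_apply, LinearMap.smulRight_apply,
    cP_subtype, this, zero_smul, add_zero]

theorem cL_pow (ℓ' : LinearMap.ker φ →ₗ[K] LinearMap.ker φ) (j : ℕ) (x : V) :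
    ((cL g v φ hφv ℓ' - 1) ^ (j + 1)) x =
      ((((ℓ' - 1) ^ j) (cLam g v φ hφv hφg ℓ' x) : LinearMap.ker φ) : V) := by
  induction j generalizing x with
  | zero => rw [zero_add, pow_one, pow_zero, Module.End.one_apply, cL_sub_one_apply hφv hφg]
  | succ j ih =>
    rw [pow_succ, Module.End.mul_apply, ih, cL_sub_one_apply hφv hφg, cLam_subtype,
      pow_succ (ℓ' - 1), Module.End.mul_apply]

theorem cU_sub_one_apply (u' : LinearMap.ker φ →ₗ[K] LinearMap.ker φ) (x : V) :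
    (cU g v φ hφv u' - 1) x = (((u' - 1) (cP v φ hφv x) : LinearMap.ker φ) : V) +
      φ (g ((cP v φ hφv x : LinearMap.ker φ) : V)) • v := by
  rw [LinearMap.sub_apply, cU_apply, Module.End.one_apply, LinearMap.sub_apply,
    Module.End.one_apply, Submodule.coe_sub, add_smul]
  conv_lhs => rw [decomp hφv x]
  simp only [map_add, map_smul, cP_subtype, cP_self, smul_zero, add_zero]
  have : φ ((cP v φ hφv x : LinearMap.ker φ) : V) = 0 := (cP v φ hφv x).2
  rw [this, zero_add, hφv, smul_eq_mul, mul_one]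
  abel

theorem cP_cU_pow (u' : LinearMap.ker φ →ₗ[K] LinearMap.ker φ) (j : ℕ) (x : V) :
    cP v φ hφv (((cU g v φ hφv u' - 1) ^ j) x) = ((u' - 1) ^ j) (cP v φ hφv x) := by
  induction j generalizing x with
  | zero => rw [pow_zero, pow_zero, Module.End.one_apply, Module.End.one_apply]
  | succ j ih =>
    rw [pow_succ, Module.End.mul_apply, ih, cU_sub_one_apply hφv, map_add, map_smul, cP_subtype,
      cP_self, smul_zero, add_zero, pow_succ (u' - 1), Module.End.mul_apply]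

theorem phi_cU_pow (u' : LinearMap.ker φ →ₗ[K] LinearMap.ker φ) (j : ℕ) (x : V) :
    φ (((cU g v φ hφv u' - 1) ^ (j + 1)) x) =
      φ (g ((((u' - 1) ^ j) (cP v φ hφv x) : LinearMap.ker φ) : V)) := by
  rw [pow_succ', Module.End.mul_apply, cU_sub_one_apply hφv, map_add, map_smul, hφv, smul_eq_mul,
    mul_one, cP_cU_pow hφv]
  have : φ ((((u' - 1) (((u' - 1) ^ j) (cP v φ hφv x))) : LinearMap.ker φ) : V) = 0 :=
    ((u' - 1) (((u' - 1) ^ j) (cP v φ hφv x))).2
  rw [this, zero_add]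

theorem cU_pow (u' : LinearMap.ker φ →ₗ[K] LinearMap.ker φ) (j : ℕ) (x : V) :
    ((cU g v φ hφv u' - 1) ^ (j + 1)) x =
      ((((u' - 1) ^ (j + 1)) (cP v φ hφv x) : LinearMap.ker φ) : V) +
        φ (g ((((u' - 1) ^ j) (cP v φ hφv x) : LinearMap.ker φ) : V)) • v := by
  conv_lhs => rw [decomp hφv (((cU g v φ hφv u' - 1) ^ (j + 1)) x)]
  rw [cP_cU_pow hφv, phi_cU_pow hφv]

/-- the lifting lemma: a unipotent factorisation of the compression lifts -/
theorem lift_factorisation (ℓ' u' : LinearMap.ker φ →ₗ[K] LinearMap.ker φ)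
    (h : ℓ' ∘ₗ u' = cG g v φ hφg) (k : ℕ)
    (hL0 : (ℓ' - 1) ^ (k + 1) = 0) (hU0 : (u' - 1) ^ (k + 1) = 0)
    (hz : ((ℓ' - 1) ^ k) (cZ g v φ hφv hφg) ≠ 0)
    (hy : ∃ w : LinearMap.ker φ, φ (g ((((u' - 1) ^ k) w : LinearMap.ker φ) : V)) ≠ 0)
    (z : V) (y : Dual K V) (hz' : φ z ≠ 0) (hy' : y v ≠ 0) :
    ∃ ℓ u : V →ₗ[K] V, ℓ ∘ₗ u = g ∧ (ℓ - 1) ^ (k + 2) = 0 ∧ (u - 1) ^ (k + 2) = 0 ∧
      ((ℓ - 1) ^ (k + 1)) z ≠ 0 ∧ ∃ x, y (((u - 1) ^ (k + 1)) x) ≠ 0 := by
  refine ⟨cL g v φ hφv ℓ', cU g v φ hφv u', cL_comp_cU hφv hφg ℓ' u' h, ?_, ?_, ?_, ?_⟩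
  · ext x
    rw [cL_pow hφv hφg, hL0, LinearMap.zero_apply, LinearMap.zero_apply, Submodule.coe_zero]
  · ext x
    rw [cU_pow hφv, hU0, pow_succ (u' - 1) (k + 1), hU0, zero_mul]
    simp
  · rw [cL_pow hφv hφg]
    intro h0
    apply hz
    have h1 : ((ℓ' - 1) ^ k) (cLam g v φ hφv hφg ℓ' z) = 0 := Subtype.ext h0
    simp only [cLam, LinearMap.add_apply, LinearMap.comp_apply, LinearMap.smulRight_apply,
      map_add, map_smul] at h1
    have h2 : ((ℓ' - 1) ^ k) ((ℓ' - 1) (cP v φ hφv z)) = 0 := by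
      rw [← Module.End.mul_apply, ← pow_succ, hL0, LinearMap.zero_apply]
    rw [h2, zero_add] at h1
    exact (smul_eq_zero.mp h1).resolve_left hz'
  · obtain ⟨w, hw⟩ := hy
    refine ⟨(w : V), ?_⟩
    rw [cU_pow hφv, cP_subtype, hU0, LinearMap.zero_apply, Submodule.coe_zero, zero_add, map_smul,
      smul_eq_mul]
    exact mul_ne_zero hw hy'

end powers

end compress

end Cfsg.Agent.Lib.Helper5.Lev
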