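/-
helper5: the choice lemmas for S2522.  For a non-scalar `g` of determinant one whose fixed space has
codimension at least two we choose a vector `v` and a functional `φ` with `φ v = φ (g v) = 1` such
that the compression `cG g v φ` again satisfies the hypotheses (in dimension one less).
-/
import Cfsg.Agent.Lib.Helper5.LevB

set_option autoImplicit false

namespace Cfsg.Agent.Lib.Helper5.Lev

open Module

section basics

variable {K : Type*} [Field K] {V : Type*} [AddCommGroup V] [Module K V]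

theorem mem_eig_one {g : V →ₗ[K] V} {x : V} : x ∈ eig g 1 ↔ g x = x := by
  rw [mem_eig, one_smul]

theorem mem_rng_one {g : V →ₗ[K] V} {x : V} : x ∈ rng g 1 ↔ ∃ y, g y - y = x := by
  rw [mem_rng]; simp only [one_smul]

variable [FiniteDimensional K V]

theorem finrank_span_singleton_le_one (a : V) : finrank K (Submodule.span K {a}) ≤ 1 := by
  by_cases ha : a = 0
  · rw [ha, Submodule.span_zero_singleton, finrank_bot]; exact Nat.zero_le _
  · rw [finrank_span_singleton ha]

theorem exists_mem_notMem_span_singleton (S : Submodule K V) (h : 2 ≤ finrank K S) (a : V) :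
    ∃ e ∈ S, e ∉ Submodule.span K {a} := by
  by_contra hcon
  push Not at hcon
  have hle : S ≤ Submodule.span K {a} := hcon
  have h1 := Submodule.finrank_mono hle
  have h2 := finrank_span_singleton_le_one (K := K) a
  omega

theorem exists_mem_ne_zero_of_finrank (S : Submodule K V) (h : 1 ≤ finrank K S) :
    ∃ e ∈ S, e ≠ 0 :=
  Submodule.exists_mem_ne_zero_of_ne_bot (Submodule.one_le_finrank_iff.mp h)

theorem exists_apply_sub_notMem {g : V →ₗ[K] V}
    (h : finrank K (eig g 1) + 2 ≤ finrank K V) (a : V) :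
    ∃ x, g x - x ∉ Submodule.span K {a} := by
  have h1 := finrank_rng_add_eig g 1
  obtain ⟨e, he, hea⟩ := exists_mem_notMem_span_singleton (rng g 1) (by omega) a
  obtain ⟨x, rfl⟩ := mem_rng_one.mp he
  exact ⟨x, hea⟩

theorem eig_zero_eq_bot {g : V →ₗ[K] V} (hdet : LinearMap.det g = 1) : eig g 0 = ⊥ := by
  have hk : LinearMap.ker g = ⊥ := by
    by_contra h
    have h0 := LinearMap.det_eq_zero_iff_ker_ne_bot.mpr h
    rw [hdet] at h0
    exact one_ne_zero h0
  unfold eig
  rw [zero_smul, sub_zero, hk]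

theorem ne_zero_of_finrank_eig {g : V →ₗ[K] V} (hdet : LinearMap.det g = 1) {c : K}
    (h : 1 ≤ finrank K (eig g c)) : c ≠ 0 := by
  rintro rfl
  rw [eig_zero_eq_bot hdet, finrank_bot] at h
  omega

theorem finrank_ker_add_one_of_apply_eq_one {φ : Dual K V} {v : V} (hφv : φ v = 1) :
    finrank K (LinearMap.ker φ) + 1 = finrank K V := by
  have h := finrank_inf_ker_add_one (⊤ : Submodule K V) φ
    ⟨v, Submodule.mem_top, by rw [hφv]; exact one_ne_zero⟩
  rwa [top_inf_eq, finrank_top] at h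

theorem finrank_ker_of_eq_smul (f : V →ₗ[K] V) (c : K) (h : f = c • LinearMap.id) :
    finrank K (LinearMap.ker (f - c • LinearMap.id)) = finrank K V := by
  rw [h, sub_self, LinearMap.ker_zero, finrank_top]

end basics

section verify

variable {K : Type*} [Field K] {V : Type*} [AddCommGroup V] [Module K V] [FiniteDimensional K V]
variable {g : V →ₗ[K] V} {v : V} {φ : Dual K V}

theorem ver_le_add_one (hφg : φ (g v) = 1) (c : K) :
    finrank K (eig (cG g v φ hφg) c) ≤ finrank K (eig g c) + 1 :=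
  (finrank_ker_cG_le hφg c).trans (finrank_ker_sub_smulRight_le_add_one _ _ _)

theorem ver_le (hφg : φ (g v) = 1) {c : K} (hc : c ≠ 0) (hv : v ∉ rng g c) :
    finrank K (eig (cG g v φ hφg) c) ≤ finrank K (eig g c) :=
  (finrank_ker_cG_le hφg c).trans
    (finrank_ker_sub_smulRight_le _ _ _ (fun h => hv (mem_rng_of_apply_mem hc h)))

theorem ver_lt (hφg : φ (g v) = 1) {c : K} (hc : c ≠ 0) (hv : v ∉ rng g c)
    (he : ∃ e ∈ eig g c, φ e ≠ 0) :
    finrank K (eig (cG g v φ hφg) c) + 1 ≤ finrank K (eig g c) := by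
  have h1 : finrank K (eig (cG g v φ hφg) c) ≤ _ := finrank_ker_cG_le hφg c
  have h2 : _ + 1 = finrank K (eig g c) :=
    finrank_ker_sub_smulRight_add_one (g - c • LinearMap.id) (g v) (φ ∘ₗ g)
      (fun h => hv (mem_rng_of_apply_mem hc h)) (by
        obtain ⟨e, he1, he2⟩ := he
        refine ⟨e, he1, ?_⟩
        rw [LinearMap.comp_apply, mem_eig.mp he1, map_smul, smul_eq_mul]
        exact mul_ne_zero hc he2)
  omega

end verify

section choose

variable {K : Type*} [Field K] {V : Type*} [AddCommGroup V] [Module K V] [FiniteDimensional K V]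

/-- the choice of the vector -/
theorem choose_v (g : V →ₗ[K] V) (hns : ¬ ∃ c : K, g = c • LinearMap.id)
    (hk1 : finrank K (eig g 1) + 2 ≤ finrank K V)
    (z : V) (hz : z ≠ 0) (y : Dual K V) (hy : y ≠ 0)
    (crit : K → Prop) (hcrit : ∀ c, crit c → 1 ≤ finrank K (eig g c))
    (h3 : ∀ c₁ c₂ c₃, crit c₁ → crit c₂ → crit c₃ → c₁ = c₂ ∨ c₁ = c₃ ∨ c₂ = c₃)
    (Ex : List (Submodule K V)) (hEx : ∀ B ∈ Ex, B ≠ ⊤)
    (hK : BigField K (4 + Ex.length) ∨
      (BigField K (3 + Ex.length) ∧ crit 1 ∧ ∀ c, crit c → c = 1)) :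
    ∃ v : V, y v ≠ 0 ∧ g v - v ∉ Submodule.span K {z} ∧ (∀ c, crit c → v ∉ rng g c) ∧
      (∀ B ∈ Ex, v ∉ B) ∧ ∀ c, v ∉ eig g c := by
  classical
  have hB1 : LinearMap.ker y ≠ ⊤ := by
    intro h; apply hy; exact LinearMap.ker_eq_top.mp h
  have hB2 : (Submodule.span K {z}).comap (g - 1) ≠ ⊤ := by
    intro h
    obtain ⟨x, hx⟩ := exists_apply_sub_notMem hk1 z
    apply hx
    have : x ∈ (Submodule.span K {z}).comap (g - 1) := by rw [h]; trivial
    rwa [Submodule.mem_comap, LinearMap.sub_apply, Module.End.one_apply] at this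
  have key : ∀ L : List (Submodule K V), (∀ B ∈ L, B ≠ ⊤) →
      BigField K (2 + L.length + Ex.length) →
      ∃ v, y v ≠ 0 ∧ g v - v ∉ Submodule.span K {z} ∧ (∀ B ∈ L, v ∉ B) ∧ ∀ B ∈ Ex, v ∉ B := by
    intro L hL hbig
    obtain ⟨v, -, hv⟩ := exists_mem_forall_notMem (⊤ : Submodule K V)
      (LinearMap.ker y :: (Submodule.span K {z}).comap (g - 1) :: (L ++ Ex)) (by
        intro B hB htop
        have hBt : B = ⊤ := top_le_iff.mp htop
        simp only [List.mem_cons, List.mem_append] at hB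
        rcases hB with rfl | rfl | hB | hB
        · exact hB1 hBt
        · exact hB2 hBt
        · exact hL B hB hBt
        · exact hEx B hB hBt) (by
        refine hbig.mono ?_
        simp only [List.length_cons, List.length_append]
        omega)
    refine ⟨v, ?_, ?_, ?_, ?_⟩
    · have := hv _ List.mem_cons_self
      rwa [LinearMap.mem_ker] at this
    · have := hv _ (List.mem_cons_of_mem _ List.mem_cons_self)
      rwa [Submodule.mem_comap, LinearMap.sub_apply, Module.End.one_apply] at this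
    · intro B hB
      exact hv B (by simp [hB])
    · intro B hB
      exact hv B (by simp [hB])
  by_cases hA : ∃ c₁ c₂, c₁ ≠ c₂ ∧ crit c₁ ∧ crit c₂
  · obtain ⟨c₁, c₂, h12, hc₁, hc₂⟩ := hA
    have hbig : BigField K (4 + Ex.length) := by
      rcases hK with h | ⟨-, -, h⟩
      · exact h
      · exact absurd ((h c₁ hc₁).trans (h c₂ hc₂).symm) h12
    obtain ⟨v, hv1, hv2, hv3, hv4⟩ := key [rng g c₁, rng g c₂] (by
        intro B hB
        simp only [List.mem_cons, List.not_mem_nil, or_false] at hB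
        rcases hB with rfl | rfl
        · exact rng_ne_top_of_eig g c₁ (hcrit c₁ hc₁)
        · exact rng_ne_top_of_eig g c₂ (hcrit c₂ hc₂)) (hbig.mono (by simp))
    refine ⟨v, hv1, hv2, ?_, hv4, ?_⟩
    · intro c hc
      rcases h3 c c₁ c₂ hc hc₁ hc₂ with rfl | rfl | h
      · exact hv3 _ (by simp)
      · exact hv3 _ (by simp)
      · exact absurd h h12
    · intro c hc
      by_cases h : c = c₁
      · subst h
        exact hv3 (rng g c₂) (by simp) (mem_rng_of_mem_eig hc h12)
      · exact hv3 (rng g c₁) (by simp) (mem_rng_of_mem_eig hc h)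
  · have hA' : ∀ c₁ c₂, crit c₁ → crit c₂ → c₁ = c₂ := by
      intro c₁ c₂ h₁ h₂
      by_contra hne
      exact hA ⟨c₁, c₂, hne, h₁, h₂⟩
    by_cases hB : ∃ c₁, 1 ≤ finrank K (eig g c₁) ∧ ∀ c, crit c → c = c₁
    · obtain ⟨c₁, hc₁, hall⟩ := hB
      by_cases h1 : c₁ = 1
      · subst h1
        have hbig : BigField K (3 + Ex.length) := by
          rcases hK with h | ⟨h, -, -⟩
          · exact h.mono (by omega)
          · exact h
        obtain ⟨v, hv1, hv2, hv3, hv4⟩ := key [rng g 1] (by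
            intro B hB
            simp only [List.mem_cons, List.not_mem_nil, or_false] at hB
            subst hB
            exact rng_ne_top_of_eig g 1 hc₁) (hbig.mono (by simp))
        refine ⟨v, hv1, hv2, ?_, hv4, ?_⟩
        · intro c hc
          rw [hall c hc]
          exact hv3 _ (by simp)
        · intro c hc
          by_cases h : c = 1
          · subst h
            apply hv2
            rw [mem_eig_one.mp hc, sub_self]
            exact Submodule.zero_mem _
          · exact hv3 (rng g 1) (by simp) (mem_rng_of_mem_eig hc h)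
      · have hbig : BigField K (4 + Ex.length) := by
          rcases hK with h | ⟨-, h, h'⟩
          · exact h
          · exact absurd (hall 1 h).symm h1
        obtain ⟨v, hv1, hv2, hv3, hv4⟩ := key [rng g c₁, eig g c₁] (by
            intro B hB
            simp only [List.mem_cons, List.not_mem_nil, or_false] at hB
            rcases hB with rfl | rfl
            · exact rng_ne_top_of_eig g c₁ hc₁
            · exact eig_ne_top g hns c₁) (hbig.mono (by simp))
        refine ⟨v, hv1, hv2, ?_, hv4, ?_⟩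
        · intro c hc
          rw [hall c hc]
          exact hv3 _ (by simp)
        · intro c hc
          by_cases h : c = c₁
          · subst h
            exact hv3 (eig g c) (by simp) hc
          · exact hv3 (rng g c₁) (by simp) (mem_rng_of_mem_eig hc h)
    · have hnoeig : ∀ c, ¬ 1 ≤ finrank K (eig g c) := by
        intro c hc
        apply hB
        refine ⟨c, hc, fun c' hc' => ?_⟩
        exact absurd ⟨c', hcrit c' hc', fun c'' h'' => hA' c'' c' h'' hc'⟩ hB
      have hbig : BigField K (2 + Ex.length) := by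
        rcases hK with h | ⟨h, -, -⟩
        · exact h.mono (by omega)
        · exact h.mono (by omega)
      obtain ⟨v, hv1, hv2, -, hv4⟩ := key [] (by simp) (hbig.mono (by simp))
      refine ⟨v, hv1, hv2, ?_, hv4, ?_⟩
      · intro c hc
        exact absurd (hcrit c hc) (hnoeig c)
      · intro c hc
        apply hnoeig c
        rw [Submodule.one_le_finrank_iff]
        intro hbot
        rw [hbot, Submodule.mem_bot] at hc
        apply hv1
        rw [hc, map_zero]

/-- the choice of the functional -/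
theorem choose_phi (g : V →ₗ[K] V) (hk1 : finrank K (eig g 1) + 2 ≤ finrank K V)
    (z : V) (hz : z ≠ 0) (v : V) (hv0 : v ≠ 0) (hvz : g v - v ∉ Submodule.span K {z})
    (hve : ∀ c, v ∉ eig g c)
    (es : List V) (hes : ∀ e ∈ es, e ∉ Submodule.span K {g v - v})
    (hK : BigField K (3 + es.length)) :
    ∃ φ : Dual K V, φ v = 1 ∧ φ (g v) = 1 ∧ φ z ≠ 0 ∧
      (∃ w : LinearMap.ker φ, φ (g (w : V)) ≠ 0) ∧ ∀ e ∈ es, φ e ≠ 0 := by
  obtain ⟨x₁, hx₁⟩ := exists_apply_sub_notMem hk1 (g v - v)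
  have h1 : v ∉ Submodule.span K {g v - v} := by
    intro h
    rw [Submodule.mem_span_singleton] at h
    obtain ⟨a, ha⟩ := h
    have ha0 : a ≠ 0 := by
      rintro rfl
      rw [zero_smul] at ha
      exact hv0 ha.symm
    apply hve (1 + a⁻¹)
    rw [mem_eig, add_smul, one_smul]
    have : a⁻¹ • v = g v - v := by
      have h' := congrArg (fun t => a⁻¹ • t) ha
      simp only [smul_smul, inv_mul_cancel₀ ha0, one_smul] at h'
      exact h'.symm
    rw [this]
    abel
  have h2 : z ∉ Submodule.span K {g v - v} := by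
    intro h
    rw [Submodule.mem_span_singleton] at h
    obtain ⟨a, ha⟩ := h
    have ha0 : a ≠ 0 := by
      rintro rfl
      rw [zero_smul] at ha
      exact hz ha.symm
    apply hvz
    rw [Submodule.mem_span_singleton]
    refine ⟨a⁻¹, ?_⟩
    rw [← ha, smul_smul, inv_mul_cancel₀ ha0, one_smul]
  obtain ⟨φ₀, hφ0, hφ⟩ := exists_dual_list (g v - v) (v :: z :: (g x₁ - x₁) :: es) (by
      intro u hu
      simp only [List.mem_cons] at hu
      rcases hu with rfl | rfl | rfl | hu
      · exact h1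
      · exact h2
      · exact hx₁
      · exact hes u hu) (hK.mono (by simp only [List.length_cons]; omega))
  have hgv : φ₀ (g v) = φ₀ v := by
    rw [map_sub, sub_eq_zero] at hφ0
    exact hφ0
  have ha : φ₀ v ≠ 0 := hφ v (by simp)
  have hφz : φ₀ z ≠ 0 := hφ z (by simp)
  have hφx : φ₀ (g x₁ - x₁) ≠ 0 := hφ _ (by simp)
  have hv1 : ((φ₀ v)⁻¹ • φ₀) v = 1 := by
    rw [LinearMap.smul_apply, smul_eq_mul, inv_mul_cancel₀ ha]
  have hg1 : ((φ₀ v)⁻¹ • φ₀) (g v) = 1 := by
    rw [LinearMap.smul_apply, smul_eq_mul, hgv, inv_mul_cancel₀ ha]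
  refine ⟨(φ₀ v)⁻¹ • φ₀, hv1, hg1, ?_, ?_, ?_⟩
  · rw [LinearMap.smul_apply, smul_eq_mul]
    exact mul_ne_zero (inv_ne_zero ha) hφz
  · refine ⟨⟨x₁ - ((φ₀ v)⁻¹ • φ₀) x₁ • v, ?_⟩, ?_⟩
    · rw [LinearMap.mem_ker, map_sub, map_smul, hv1, smul_eq_mul, mul_one, sub_self]
    · show ((φ₀ v)⁻¹ • φ₀) (g (x₁ - ((φ₀ v)⁻¹ • φ₀) x₁ • v)) ≠ 0
      rw [map_sub, map_smul, map_sub, map_smul, hg1, smul_eq_mul, mul_one, ← map_sub,
        LinearMap.smul_apply, smul_eq_mul]
      exact mul_ne_zero (inv_ne_zero ha) hφx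
  · intro e he
    rw [LinearMap.smul_apply, smul_eq_mul]
    exact mul_ne_zero (inv_ne_zero ha) (hφ e (by simp [he]))

end choose

section lemmaX

variable {K : Type*} [Field K] {V : Type*} [AddCommGroup V] [Module K V] [FiniteDimensional K V]

theorem notMem_span_sub_of_not_eig (g : V →ₗ[K] V) (v : V) (hv0 : v ≠ 0)
    (hve : ∀ c, v ∉ eig g c) : v ∉ Submodule.span K {g v - v} := by
  intro h
  rw [Submodule.mem_span_singleton] at h
  obtain ⟨a, ha⟩ := h
  have ha0 : a ≠ 0 := by
    rintro rfl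
    rw [zero_smul] at ha
    exact hv0 ha.symm
  apply hve (1 + a⁻¹)
  rw [mem_eig, add_smul, one_smul]
  have : a⁻¹ • v = g v - v := by
    have h' := congrArg (fun t => a⁻¹ • t) ha
    simp only [smul_smul, inv_mul_cancel₀ ha0, one_smul] at h'
    exact h'.symm
  rw [this]
  abel

theorem finrank_span_pair_le (a b : V) : finrank K (Submodule.span K {a, b}) ≤ 2 := by
  rw [Submodule.span_insert]
  have h1 := Submodule.finrank_add_le_finrank_add_finrank (Submodule.span K {a})
    (Submodule.span K {b})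
  have h2 := finrank_span_singleton_le_one (K := K) a
  have h3 := finrank_span_singleton_le_one (K := K) b
  omega

/-- in dimension three, without fixed vectors and with determinant one, the preimage of `g v`
under `g - 1` is not a multiple of `g v - v` -/
theorem notMem_span_of_det (g : V →ₗ[K] V) (h3 : finrank K V = 3) (hdet : LinearMap.det g = 1)
    (hk : eig g 1 = ⊥) (v : V) (hNv : g v - v ≠ 0) (hv : v ∉ Submodule.span K {g v - v})
    (x₀ : V) (hx₀ : g x₀ - x₀ = g v) : x₀ ∉ Submodule.span K {g v - v} := by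
  obtain ⟨a, ha⟩ : ∃ a, a = g v - v := ⟨_, rfl⟩
  rw [← ha] at hNv hv ⊢
  intro hmem
  rw [Submodule.mem_span_singleton] at hmem
  obtain ⟨t, ht⟩ := hmem
  obtain ⟨φ₀, hφ0, hφv0⟩ := exists_dual_vanish_ne hv
  have hgv0 : φ₀ (g v) = φ₀ v := by
    rw [ha, map_sub, sub_eq_zero] at hφ0
    exact hφ0
  obtain ⟨φ, hφv, hφg⟩ : ∃ φ : Dual K V, φ v = 1 ∧ φ (g v) = 1 := by
    refine ⟨(φ₀ v)⁻¹ • φ₀, ?_, ?_⟩
    · rw [LinearMap.smul_apply, smul_eq_mul, inv_mul_cancel₀ hφv0]
    · rw [LinearMap.smul_apply, smul_eq_mul, hgv0, inv_mul_cancel₀ hφv0]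
  have hφa : φ a = 0 := by rw [ha, map_sub, hφv, hφg, sub_self]
  have hgv : g v = t • (g a - a) := by
    have e : g x₀ = t • g a := by rw [← ht, map_smul]
    calc g v = g x₀ - x₀ := hx₀.symm
      _ = t • g a - t • a := by rw [e, ht]
      _ = t • (g a - a) := (smul_sub _ _ _).symm
  have h1 : t * φ (g a) = 1 := by
    have h := hφg
    rw [hgv, map_smul, map_sub, hφa, sub_zero, smul_eq_mul] at h
    exact h
  have hZa : ((cZ g v φ hφv hφg : LinearMap.ker φ) : V) = a := ha.symm
  have hfix : cG g v φ hφg (cZ g v φ hφv hφg) = cZ g v φ hφv hφg := by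
    apply Subtype.ext
    rw [cG_coe hφg, hZa, hgv, smul_smul, mul_comm, h1, one_smul]
    abel
  have hZ0 : cZ g v φ hφv hφg ≠ 0 := by
    intro h
    apply hNv
    rw [← hZa, h]
    rfl
  have hS : Submodule.span K {cZ g v φ hφv hφg} ≤
      (Submodule.span K {cZ g v φ hφv hφg}).comap (cG g v φ hφg) := by
    intro x hx
    rw [Submodule.mem_comap]
    rw [Submodule.mem_span_singleton] at hx ⊢
    obtain ⟨r, rfl⟩ := hx
    exact ⟨r, by rw [map_smul, hfix]⟩
  have hdetc : LinearMap.det (cG g v φ hφg) = 1 := by rw [det_cG hφv hφg, hdet]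
  have hmul := LinearMap.det_eq_det_mul_det (Submodule.span K {cZ g v φ hφv hφg})
    (cG g v φ hφg) hS
  have hres : (cG g v φ hφg).restrict hS = LinearMap.id := by
    refine LinearMap.ext fun x => Subtype.ext ?_
    rw [LinearMap.restrict_coe_apply, LinearMap.id_apply]
    obtain ⟨r, hr⟩ := Submodule.mem_span_singleton.mp x.2
    rw [← hr, map_smul, hfix]
  rw [hres, LinearMap.det_id, one_mul, hdetc] at hmul
  have hW : finrank K (LinearMap.ker φ) = 2 := by
    have := finrank_ker_add_one_of_apply_eq_one hφv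
    omega
  have hS1 : finrank K (Submodule.span K {cZ g v φ hφv hφg}) = 1 := finrank_span_singleton hZ0
  have hQ : finrank K ((LinearMap.ker φ) ⧸ Submodule.span K {cZ g v φ hφv hφg}) = 1 := by
    have := Submodule.finrank_quotient_add_finrank (Submodule.span K {cZ g v φ hφv hφg})
    omega
  have hid := eq_id_of_finrank_eq_one_of_det hQ
    ((Submodule.span K {cZ g v φ hφv hφg}).mapQ _ (cG g v φ hφg) hS) hmul.symm
  have hmem : ∀ w : LinearMap.ker φ,
      cG g v φ hφg w - w ∈ Submodule.span K {cZ g v φ hφv hφg} := by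
    intro w
    have h := LinearMap.congr_fun hid ((Submodule.span K {cZ g v φ hφv hφg}).mkQ w)
    rw [Submodule.mkQ_apply, Submodule.mapQ_apply, LinearMap.id_apply] at h
    exact (Submodule.Quotient.eq _).mp h
  have hT : ∀ x, g x - x ∈ Submodule.span K {g v, a} := by
    intro x
    have hw := hmem (cP v φ hφv x)
    rw [Submodule.mem_span_singleton] at hw
    obtain ⟨r, hr⟩ := hw
    have hr' := congrArg Subtype.val hr
    rw [Submodule.coe_smul, Submodule.coe_sub, cG_coe hφg, hZa] at hr'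
    have hx := decomp hφv x
    generalize ((cP v φ hφv x : LinearMap.ker φ) : V) = w at hr' hx
    rw [Submodule.mem_span_pair]
    refine ⟨φ (g w), r + φ x, ?_⟩
    conv_rhs => rw [hx, map_add, map_smul]
    rw [add_smul, hr', ha, smul_sub]
    abel
  have hr3 : finrank K (rng g 1) = 3 := by
    have := finrank_rng_add_eig g 1
    rw [hk, finrank_bot] at this
    omega
  have hle : rng g 1 ≤ Submodule.span K {g v, a} := by
    intro x' hx'
    obtain ⟨x, rfl⟩ := mem_rng_one.mp hx'
    exact hT x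
  have h4 := Submodule.finrank_mono hle
  have h5 := finrank_span_pair_le (K := K) (g v) a
  omega

end lemmaX

section step

variable {K : Type*} [Field K] {V : Type*} [AddCommGroup V] [Module K V] [FiniteDimensional K V]

theorem step_two (g : V →ₗ[K] V)
    (hns : ¬ ∃ c : K, g = c • LinearMap.id) (hk1 : finrank K (eig g 1) + 2 ≤ finrank K V)
    (hK : BigField K 4) (z : V) (hz : z ≠ 0) (y : Dual K V) (hy : y ≠ 0) :
    ∃ (v : V) (φ : Dual K V) (hφv : φ v = 1) (hφg : φ (g v) = 1), y v ≠ 0 ∧ φ z ≠ 0 ∧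
      cZ g v φ hφv hφg ≠ 0 ∧ (∃ w : LinearMap.ker φ, φ (g (w : V)) ≠ 0) := by
  obtain ⟨v, hv1, hv2, -, -, hv5⟩ := choose_v g hns hk1 z hz y hy (fun _ => False)
    (fun c h => h.elim) (fun _ _ _ h => h.elim) [] (by simp) (Or.inl (hK.mono (by simp)))
  have hv0 : v ≠ 0 := by
    rintro rfl
    exact hv1 (map_zero y)
  have hNv : g v - v ≠ 0 := fun h => hv2 (by rw [h]; exact Submodule.zero_mem _)
  obtain ⟨φ, hφv, hφg, hφz, hw, -⟩ := choose_phi g hk1 z hz v hv0 hv2 hv5 [] (by simp)
    (hK.mono (by simp))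
  exact ⟨v, φ, hφv, hφg, hv1, hφz, fun h => hNv (congrArg Subtype.val h), hw⟩

theorem step_ge4 (g : V →ₗ[K] V) (hn : 4 ≤ finrank K V) (hdet : LinearMap.det g = 1)
    (hns : ¬ ∃ c : K, g = c • LinearMap.id) (hk1 : finrank K (eig g 1) + 2 ≤ finrank K V)
    (hK : BigField K 4) (z : V) (hz : z ≠ 0) (y : Dual K V) (hy : y ≠ 0) :
    ∃ (v : V) (φ : Dual K V) (hφv : φ v = 1) (hφg : φ (g v) = 1), y v ≠ 0 ∧ φ z ≠ 0 ∧
      cZ g v φ hφv hφg ≠ 0 ∧ (∃ w : LinearMap.ker φ, φ (g (w : V)) ≠ 0) ∧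
      (¬ ∃ c : K, cG g v φ hφg = c • LinearMap.id) ∧
        finrank K (eig (cG g v φ hφg) 1) + 2 ≤ finrank K (LinearMap.ker φ) := by
  classical
  obtain ⟨n, hnV⟩ : ∃ n, n = finrank K V := ⟨_, rfl⟩
  obtain ⟨crit, hcd⟩ : ∃ crit : K → Prop, ∀ c, crit c ↔
      ((c = 1 ∧ n ≤ finrank K (eig g c) + 3) ∨ (c ≠ 1 ∧ n ≤ finrank K (eig g c) + 2)) :=
    ⟨_, fun c => Iff.rfl⟩
  obtain ⟨strong, hsd⟩ : ∃ strong : K → Prop, ∀ c, strong c ↔
      ((c = 1 ∧ n = finrank K (eig g c) + 2) ∨ (c ≠ 1 ∧ n = finrank K (eig g c) + 1)) :=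
    ⟨_, fun c => Iff.rfl⟩
  have hcrit : ∀ c, crit c → 1 ≤ finrank K (eig g c) := by
    intro c hc
    rcases (hcd c).mp hc with ⟨-, h⟩ | ⟨-, h⟩ <;> omega
  have h3 : ∀ c₁ c₂ c₃, crit c₁ → crit c₂ → crit c₃ → c₁ = c₂ ∨ c₁ = c₃ ∨ c₂ = c₃ := by
    intro c₁ c₂ c₃ h₁ h₂ h₃
    by_contra hne
    push Not at hne
    have hsum := finrank_eig_add_le₃ g hne.1 hne.2.1 hne.2.2
    rcases (hcd c₁).mp h₁ with ⟨e₁, h₁⟩ | ⟨e₁, h₁⟩ <;>
      rcases (hcd c₂).mp h₂ with ⟨e₂, h₂⟩ | ⟨e₂, h₂⟩ <;>
      rcases (hcd c₃).mp h₃ with ⟨e₃, h₃⟩ | ⟨e₃, h₃⟩ <;>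
      first
        | omega
        | exact hne.1 (e₁.trans e₂.symm)
        | exact hne.2.1 (e₁.trans e₃.symm)
        | exact hne.2.2 (e₂.trans e₃.symm)
  have hstrong1 : ∀ c c', strong c → strong c' → c = c' := by
    intro c c' h h'
    by_contra hne
    have hsum := finrank_eig_add_le₂ g hne
    rcases (hsd c).mp h with ⟨e₁, h₁⟩ | ⟨e₁, h₁⟩ <;>
      rcases (hsd c').mp h' with ⟨e₂, h₂⟩ | ⟨e₂, h₂⟩ <;>
      first
        | omega
        | exact hne (e₁.trans e₂.symm)
  obtain ⟨v, hv1, hv2, hv3, -, hv5⟩ := choose_v g hns hk1 z hz y hy crit hcrit h3 [] (by simp)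
    (Or.inl (hK.mono (by simp)))
  have hv0 : v ≠ 0 := by
    rintro rfl
    exact hv1 (map_zero y)
  have hNv : g v - v ≠ 0 := fun h => hv2 (by rw [h]; exact Submodule.zero_mem _)
  have hes : ∃ es : List V, es.length ≤ 1 ∧ (∀ e ∈ es, e ∉ Submodule.span K {g v - v}) ∧
      ∀ c, strong c → ∃ e ∈ es, e ∈ eig g c := by
    by_cases hs : ∃ c, strong c
    · obtain ⟨c₀, hc₀⟩ := hs
      have h2 : 2 ≤ finrank K (eig g c₀) := by
        rcases (hsd c₀).mp hc₀ with ⟨-, h⟩ | ⟨-, h⟩ <;> omega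
      obtain ⟨e, he1, he2⟩ := exists_mem_notMem_span_singleton (eig g c₀) h2 (g v - v)
      refine ⟨[e], by simp, ?_, ?_⟩
      · intro e' he'
        rw [List.mem_singleton] at he'
        rw [he']
        exact he2
      · intro c hc
        rw [hstrong1 c c₀ hc hc₀]
        exact ⟨e, by simp, he1⟩
    · exact ⟨[], by simp, by simp, fun c hc => absurd ⟨c, hc⟩ hs⟩
  obtain ⟨es, hes1, hes2, hes3⟩ := hes
  obtain ⟨φ, hφv, hφg, hφz, hw, hφe⟩ := choose_phi g hk1 z hz v hv0 hv2 hv5 es hes2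
    (hK.mono (by omega))
  have hstr : ∀ c, strong c → ∃ e ∈ eig g c, φ e ≠ 0 := by
    intro c hc
    obtain ⟨e, he1, he2⟩ := hes3 c hc
    exact ⟨e, he2, hφe e he1⟩
  have hW := finrank_ker_add_one_of_apply_eq_one hφv
  have hlt : ∀ c, finrank K (eig g c) < finrank K V :=
    fun c => Submodule.finrank_lt (eig_ne_top g hns c)
  have hf1 : finrank K (eig (cG g v φ hφg) 1) + 2 ≤ finrank K (LinearMap.ker φ) := by
    by_cases hc1 : n ≤ finrank K (eig g 1) + 3
    · have hv31 := hv3 1 ((hcd 1).mpr (Or.inl ⟨rfl, hc1⟩))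
      by_cases hst : n = finrank K (eig g 1) + 2
      · have := ver_lt hφg one_ne_zero hv31 (hstr 1 ((hsd 1).mpr (Or.inl ⟨rfl, hst⟩)))
        omega
      · have := ver_le (φ := φ) hφg one_ne_zero hv31
        omega
    · have := ver_le_add_one (g := g) (v := v) (φ := φ) hφg 1
      omega
  refine ⟨v, φ, hφv, hφg, hv1, hφz, fun h => hNv (congrArg Subtype.val h), hw, ?_, hf1⟩
  rintro ⟨c, hc⟩
  have hfull : finrank K (eig (cG g v φ hφg) c) = finrank K (LinearMap.ker φ) :=
    finrank_ker_of_eq_smul _ c hc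
  have hdetc : LinearMap.det (cG g v φ hφg) = 1 := by rw [det_cG hφv hφg, hdet]
  have hc0 : c ≠ 0 := ne_zero_of_finrank_eig hdetc (by rw [hfull]; omega)
  by_cases hc1 : c = 1
  · subst hc1
    omega
  · by_cases hcc : n ≤ finrank K (eig g c) + 2
    · have hv3c := hv3 c ((hcd c).mpr (Or.inr ⟨hc1, hcc⟩))
      have h1 := ver_le (φ := φ) hφg hc0 hv3c
      have h2 := hlt c
      have hst : n = finrank K (eig g c) + 1 := by omega
      have := ver_lt hφg hc0 hv3c (hstr c ((hsd c).mpr (Or.inr ⟨hc1, hst⟩)))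
      omega
    · have := ver_le_add_one (g := g) (v := v) (φ := φ) hφg c
      omega

end step

end Cfsg.Agent.Lib.Helper5.Lev
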