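/-
helper5: the dimension three step and the recursion for S2522: a non-scalar endomorphism of
determinant one whose fixed space has codimension at least two is a product of two regular
unipotent endomorphisms.
-/
import Cfsg.Agent.Lib.Helper5.LevC

set_option autoImplicit false

namespace Cfsg.Agent.Lib.Helper5.Lev

open Module

section step3

variable {K : Type*} [Field K] {V : Type*} [AddCommGroup V] [Module K V] [FiniteDimensional K V]

theorem two_ne_zero_of_neg_one_ne {K : Type*} [Field K] (h : (-1 : K) ≠ 1) : (2 : K) ≠ 0 := by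
  intro h2
  apply h
  rw [neg_eq_iff_add_eq_zero, one_add_one_eq_two, h2]

theorem step_three (g : V →ₗ[K] V) (hn : finrank K V = 3) (hdet : LinearMap.det g = 1)
    (hns : ¬ ∃ c : K, g = c • LinearMap.id) (hk1 : finrank K (eig g 1) + 2 ≤ finrank K V)
    (hK : BigField K 4) (z : V) (hz : z ≠ 0) (y : Dual K V) (hy : y ≠ 0) :
    ∃ (v : V) (φ : Dual K V) (hφv : φ v = 1) (hφg : φ (g v) = 1), y v ≠ 0 ∧ φ z ≠ 0 ∧
      cZ g v φ hφv hφg ≠ 0 ∧ (∃ w : LinearMap.ker φ, φ (g (w : V)) ≠ 0) ∧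
      (¬ ∃ c : K, cG g v φ hφg = c • LinearMap.id) ∧
        finrank K (eig (cG g v φ hφg) 1) + 2 ≤ finrank K (LinearMap.ker φ) := by
  classical
  obtain ⟨crit, hcd⟩ : ∃ crit : K → Prop, ∀ c, crit c ↔
      ((c = 1 ∧ finrank K (eig g c) = 1) ∨
        (c = -1 ∧ (-1 : K) ≠ 1 ∧ 1 ≤ finrank K (eig g c))) :=
    ⟨_, fun c => Iff.rfl⟩
  have hcrit : ∀ c, crit c → 1 ≤ finrank K (eig g c) := by
    intro c hc
    rcases (hcd c).mp hc with ⟨-, h⟩ | ⟨-, -, h⟩ <;> omega
  have h3 : ∀ c₁ c₂ c₃, crit c₁ → crit c₂ → crit c₃ → c₁ = c₂ ∨ c₁ = c₃ ∨ c₂ = c₃ := by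
    intro c₁ c₂ c₃ h₁ h₂ h₃
    rcases (hcd c₁).mp h₁ with ⟨e₁, -⟩ | ⟨e₁, -⟩ <;>
      rcases (hcd c₂).mp h₂ with ⟨e₂, -⟩ | ⟨e₂, -⟩ <;>
      rcases (hcd c₃).mp h₃ with ⟨e₃, -⟩ | ⟨e₃, -⟩ <;>
      first
        | exact Or.inl (e₁.trans e₂.symm)
        | exact Or.inr (Or.inl (e₁.trans e₃.symm))
        | exact Or.inr (Or.inr (e₂.trans e₃.symm))
  have hk1' : finrank K (eig g 1) ≤ 1 := by omega
  have hK5 : (-1 : K) ≠ 1 → BigField K 5 := fun h =>
    bigField_five hK (two_ne_zero_of_neg_one_ne h)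
  -- the extra subspace
  obtain ⟨Ex, hExlen, hExtop, hExmem⟩ : ∃ Ex : List (Submodule K V),
      (Ex.length ≤ 1 ∧ (finrank K (eig g 1) = 0 → Ex = [])) ∧ (∀ B ∈ Ex, B ≠ ⊤) ∧
      (finrank K (eig g 1) = 1 → ∀ v, (∀ B ∈ Ex, v ∉ B) →
        g (g v - v) - (g v - v) ≠ 0) := by
    by_cases h : finrank K (eig g 1) = 1
    · refine ⟨[LinearMap.ker ((g - 1) * (g - 1))], ⟨by simp, by omega⟩, ?_, ?_⟩
      · intro B hB
        rw [List.mem_singleton] at hB
        subst hB
        intro htop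
        have hle : rng g 1 ≤ eig g 1 := by
          intro x hx
          obtain ⟨y', rfl⟩ := mem_rng_one.mp hx
          rw [mem_eig_one]
          have hy' : y' ∈ LinearMap.ker ((g - 1) * (g - 1)) := by rw [htop]; trivial
          simp only [LinearMap.mem_ker, Module.End.mul_apply, LinearMap.sub_apply,
            Module.End.one_apply] at hy'
          exact sub_eq_zero.mp hy'
        have h1 := Submodule.finrank_mono hle
        have h2 := finrank_rng_add_eig g 1
        omega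
      · intro _ v hv
        have hv' := hv _ (List.mem_singleton_self _)
        simp only [LinearMap.mem_ker, Module.End.mul_apply, LinearMap.sub_apply,
          Module.End.one_apply] at hv'
        exact hv'
    · exact ⟨[], ⟨by simp, fun _ => rfl⟩, by simp, fun h' => absurd h' h⟩
  have hKv : BigField K (4 + Ex.length) ∨
      (BigField K (3 + Ex.length) ∧ crit 1 ∧ ∀ c, crit c → c = 1) := by
    by_cases hchar : (-1 : K) = 1
    · by_cases h : finrank K (eig g 1) = 1
      · refine Or.inr ⟨hK.mono (by omega), (hcd 1).mpr (Or.inl ⟨rfl, h⟩), fun c hc => ?_⟩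
        rcases (hcd c).mp hc with ⟨e, -⟩ | ⟨e, -⟩
        · exact e
        · exact e.trans hchar
      · refine Or.inl (hK.mono ?_)
        rw [hExlen.2 (by omega)]
        simp
    · exact Or.inl ((hK5 hchar).mono (by omega))
  obtain ⟨v, hv1, hv2, hv3, hv4, hv5⟩ := choose_v g hns hk1 z hz y hy crit hcrit h3 Ex hExtop hKv
  have hv0 : v ≠ 0 := by
    rintro rfl
    exact hv1 (map_zero y)
  have hNv : g v - v ≠ 0 := fun h => hv2 (by rw [h]; exact Submodule.zero_mem _)
  have hvspan := notMem_span_sub_of_not_eig g v hv0 hv5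
  obtain ⟨es₁, hes₁len, hes₁span, hes₁a, hes₁b⟩ : ∃ es₁ : List V, es₁.length ≤ 1 ∧
      (∀ e ∈ es₁, e ∉ Submodule.span K {g v - v}) ∧
      (finrank K (eig g 1) = 1 → ∃ e ∈ es₁, e ∈ eig g 1) ∧
      (finrank K (eig g 1) = 0 → ∃ x₀ ∈ es₁, g x₀ - x₀ = g v) := by
    by_cases h : finrank K (eig g 1) = 1
    · obtain ⟨e, he, he0⟩ := exists_mem_ne_zero_of_finrank (eig g 1) (by omega)
      refine ⟨[e], by simp, ?_, fun _ => ⟨e, by simp, he⟩, fun h' => by omega⟩
      intro e' he'
      rw [List.mem_singleton] at he'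
      rw [he']
      intro hmem
      rw [Submodule.mem_span_singleton] at hmem
      obtain ⟨a, ha⟩ := hmem
      have ha0 : a ≠ 0 := by
        rintro rfl
        rw [zero_smul] at ha
        exact he0 ha.symm
      apply hExmem h v hv4
      have hmem' : g v - v ∈ eig g 1 := by
        have : g v - v = a⁻¹ • e := by
          rw [← ha, smul_smul, inv_mul_cancel₀ ha0, one_smul]
        rw [this]
        exact (eig g 1).smul_mem _ he
      rw [mem_eig_one.mp hmem', sub_self]
    · have h0 : finrank K (eig g 1) = 0 := by omega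
      have hbot : eig g 1 = ⊥ := Submodule.finrank_eq_zero.mp h0
      have htop : rng g 1 = ⊤ := by
        apply Submodule.eq_top_of_finrank_eq
        have := finrank_rng_add_eig g 1
        omega
      obtain ⟨x₀, hx₀⟩ := mem_rng_one.mp (show g v ∈ rng g 1 by rw [htop]; trivial)
      refine ⟨[x₀], by simp, ?_, fun h' => absurd h' h, fun _ => ⟨x₀, by simp, hx₀⟩⟩
      intro e' he'
      rw [List.mem_singleton] at he'
      rw [he']
      exact notMem_span_of_det g hn hdet hbot v hNv hvspan x₀ hx₀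
  obtain ⟨es₂, hes₂len, hes₂char, hes₂span, hes₂a⟩ : ∃ es₂ : List V, es₂.length ≤ 1 ∧
      ((-1 : K) = 1 → es₂ = []) ∧
      (∀ e ∈ es₂, e ∉ Submodule.span K {g v - v}) ∧
      ((-1 : K) ≠ 1 → finrank K (eig g (-1)) = 2 → ∃ e ∈ es₂, e ∈ eig g (-1)) := by
    by_cases h : (-1 : K) ≠ 1 ∧ finrank K (eig g (-1)) = 2
    · obtain ⟨e, he1, he2⟩ := exists_mem_notMem_span_singleton (eig g (-1)) (by omega) (g v - v)
      refine ⟨[e], by simp, fun h' => absurd h' h.1, ?_, fun _ _ => ⟨e, by simp, he1⟩⟩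
      intro e' he'
      rw [List.mem_singleton] at he'
      rw [he']
      exact he2
    · exact ⟨[], by simp, fun _ => rfl, by simp, fun h1 h2 => absurd ⟨h1, h2⟩ h⟩
  have hKφ : BigField K (3 + (es₁ ++ es₂).length) := by
    rw [List.length_append]
    by_cases hchar : (-1 : K) = 1
    · rw [hes₂char hchar, List.length_nil]
      exact hK.mono (by omega)
    · exact (hK5 hchar).mono (by omega)
  obtain ⟨φ, hφv, hφg, hφz, hw, hφe⟩ := choose_phi g hk1 z hz v hv0 hv2 hv5 (es₁ ++ es₂) (by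
      intro e he
      rcases List.mem_append.mp he with h | h
      · exact hes₁span e h
      · exact hes₂span e h) hKφ
  have hW := finrank_ker_add_one_of_apply_eq_one hφv
  have hf1 : finrank K (eig (cG g v φ hφg) 1) + 2 ≤ finrank K (LinearMap.ker φ) := by
    by_cases h : finrank K (eig g 1) = 1
    · obtain ⟨e, he1, he2⟩ := hes₁a h
      have hv31 := hv3 1 ((hcd 1).mpr (Or.inl ⟨rfl, h⟩))
      have := ver_lt hφg one_ne_zero hv31 ⟨e, he2, hφe e (List.mem_append_left _ he1)⟩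
      omega
    · have h0 : finrank K (eig g 1) = 0 := by omega
      obtain ⟨x₀, hx1, hx2⟩ := hes₁b h0
      have hφx : φ x₀ ≠ 0 := hφe x₀ (List.mem_append_left _ hx1)
      have hbot : eig g 1 = ⊥ := Submodule.finrank_eq_zero.mp h0
      have hbot' : eig (cG g v φ hφg) 1 = ⊥ := by
        rw [eq_bot_iff]
        intro w hw
        rw [mem_eig_one] at hw
        have hw' := congrArg Subtype.val hw
        rw [cG_coe hφg] at hw'
        have hker : (w : V) - φ (g (w : V)) • x₀ ∈ eig g 1 := by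
          rw [mem_eig_one, map_sub, map_smul]
          have : g x₀ = g v + x₀ := by rw [← hx2, sub_add_cancel]
          rw [this, smul_add, ← sub_sub, hw']
        rw [hbot, Submodule.mem_bot, sub_eq_zero] at hker
        have h0' : φ (g (w : V)) * φ x₀ = 0 := by
          have h := congrArg φ hker
          rw [map_smul, smul_eq_mul] at h
          rw [← h]
          exact w.2
        have ht0 : φ (g (w : V)) = 0 := (mul_eq_zero.mp h0').resolve_right hφx
        rw [ht0, zero_smul] at hker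
        rw [Submodule.mem_bot]
        exact Subtype.ext hker
      rw [hbot', finrank_bot]
      omega
  refine ⟨v, φ, hφv, hφg, hv1, hφz, fun h => hNv (congrArg Subtype.val h), hw, ?_, hf1⟩
  rintro ⟨c, hc⟩
  have hfull : finrank K (eig (cG g v φ hφg) c) = finrank K (LinearMap.ker φ) :=
    finrank_ker_of_eq_smul _ c hc
  have hdetc : LinearMap.det (cG g v φ hφg) = 1 := by rw [det_cG hφv hφg, hdet]
  have hcc : c * c = 1 := by
    rw [hc, LinearMap.det_smul, LinearMap.det_id, mul_one] at hdetc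
    have h2 : finrank K (LinearMap.ker φ) = 2 := by omega
    rw [h2, pow_two] at hdetc
    exact hdetc
  rcases mul_self_eq_one_iff.mp hcc with rfl | rfl
  · omega
  · by_cases hchar : (-1 : K) = 1
    · rw [hchar] at hfull
      omega
    · have hc0 : (-1 : K) ≠ 0 := neg_ne_zero.mpr one_ne_zero
      by_cases hk : 1 ≤ finrank K (eig g (-1))
      · have hv3c := hv3 (-1) ((hcd (-1)).mpr (Or.inr ⟨rfl, hchar, hk⟩))
        have h1 := ver_le (φ := φ) hφg hc0 hv3c
        have h2 := Submodule.finrank_lt (eig_ne_top g hns (-1))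
        have hst : finrank K (eig g (-1)) = 2 := by omega
        obtain ⟨e, he1, he2⟩ := hes₂a hchar hst
        have := ver_lt hφg hc0 hv3c ⟨e, he2, hφe e (List.mem_append_right _ he1)⟩
        omega
      · have := ver_le_add_one (g := g) (v := v) (φ := φ) hφg (-1)
        omega

/-- the inductive step: the choice of `v` and `φ` -/
theorem step (g : V →ₗ[K] V) (hn : 2 ≤ finrank K V) (hdet : LinearMap.det g = 1)
    (hns : ¬ ∃ c : K, g = c • LinearMap.id) (hk1 : finrank K (eig g 1) + 2 ≤ finrank K V)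
    (hK : BigField K 4) (z : V) (hz : z ≠ 0) (y : Dual K V) (hy : y ≠ 0) :
    ∃ (v : V) (φ : Dual K V) (hφv : φ v = 1) (hφg : φ (g v) = 1), y v ≠ 0 ∧ φ z ≠ 0 ∧
      cZ g v φ hφv hφg ≠ 0 ∧ (∃ w : LinearMap.ker φ, φ (g (w : V)) ≠ 0) ∧
      (3 ≤ finrank K V → (¬ ∃ c : K, cG g v φ hφg = c • LinearMap.id) ∧
        finrank K (eig (cG g v φ hφg) 1) + 2 ≤ finrank K (LinearMap.ker φ)) := by
  rcases Nat.lt_or_ge (finrank K V) 3 with h | h
  · obtain ⟨v, φ, hφv, hφg, h1, h2, h3, h4⟩ := step_two g hns hk1 hK z hz y hy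
    exact ⟨v, φ, hφv, hφg, h1, h2, h3, h4, fun h' => by omega⟩
  · rcases Nat.lt_or_ge (finrank K V) 4 with h4 | h4
    · obtain ⟨v, φ, hφv, hφg, h1, h2, h3, h4', h5⟩ :=
        step_three g (by omega) hdet hns hk1 hK z hz y hy
      exact ⟨v, φ, hφv, hφg, h1, h2, h3, h4', fun _ => h5⟩
    · obtain ⟨v, φ, hφv, hφg, h1, h2, h3, h4', h5⟩ :=
        step_ge4 g h4 hdet hns hk1 hK z hz y hy
      exact ⟨v, φ, hφv, hφg, h1, h2, h3, h4', fun _ => h5⟩

end step3

section recursion

universe u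

variable {K : Type*} [Field K]

theorem exists_factor (hK : BigField K 4) : ∀ (n : ℕ) (V : Type u) [AddCommGroup V] [Module K V]
    [FiniteDimensional K V] (g : V →ₗ[K] V), finrank K V = n + 1 → LinearMap.det g = 1 →
    (2 ≤ n + 1 → (¬ ∃ c : K, g = c • LinearMap.id) ∧ finrank K (eig g 1) + 2 ≤ finrank K V) →
    ∀ (z : V) (y : Dual K V), z ≠ 0 → y ≠ 0 →
    ∃ ℓ u : V →ₗ[K] V, ℓ ∘ₗ u = g ∧ (ℓ - 1) ^ (n + 1) = 0 ∧ (u - 1) ^ (n + 1) = 0 ∧
      ((ℓ - 1) ^ n) z ≠ 0 ∧ ∃ x, y (((u - 1) ^ n) x) ≠ 0 := by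
  intro n
  induction n with
  | zero =>
    intro V _ _ _ g hn hdet _ z y hz hy
    have hg : g = LinearMap.id := eq_id_of_finrank_eq_one_of_det (by omega) g hdet
    refine ⟨1, 1, ?_, ?_, ?_, ?_, ?_⟩
    · rw [hg]
      exact LinearMap.id_comp _
    · rw [sub_self, zero_add, pow_one]
    · rw [sub_self, zero_add, pow_one]
    · rw [pow_zero, Module.End.one_apply]
      exact hz
    · by_contra hcon
      push Not at hcon
      apply hy
      ext x
      have := hcon x
      rw [pow_zero, Module.End.one_apply] at this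
      rw [this, LinearMap.zero_apply]
  | succ m ih =>
    intro V _ _ _ g hn hdet hcond z y hz hy
    obtain ⟨hns, hk1⟩ := hcond (by omega)
    obtain ⟨v, φ, hφv, hφg, hyv, hφz, hZ, hw, hchild⟩ :=
      step g (by omega) hdet hns hk1 hK z hz y hy
    have hW := finrank_ker_add_one_of_apply_eq_one hφv
    have hdetc : LinearMap.det (cG g v φ hφg) = 1 := by rw [det_cG hφv hφg, hdet]
    obtain ⟨w₀, hw₀⟩ := hw
    have hy' : ((φ ∘ₗ g) ∘ₗ (LinearMap.ker φ).subtype) ≠ 0 := by
      intro h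
      apply hw₀
      have := LinearMap.congr_fun h w₀
      simpa using this
    obtain ⟨ℓ', u', hcomp, hL0, hU0, hzL, x', hx'⟩ := ih (LinearMap.ker φ) (cG g v φ hφg)
      (by omega) hdetc (fun h2 => hchild (by omega)) (cZ g v φ hφv hφg)
      ((φ ∘ₗ g) ∘ₗ (LinearMap.ker φ).subtype) hZ hy'
    exact lift_factorisation hφv hφg ℓ' u' hcomp m hL0 hU0 hzL ⟨x', hx'⟩ z y hφz hyv

/-- a non-scalar endomorphism of determinant one whose fixed space has codimension at least two is
the product of two regular unipotent endomorphisms -/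
theorem exists_regular_factor (hK : BigField K 4) {V : Type u} [AddCommGroup V] [Module K V]
    [FiniteDimensional K V] (g : V →ₗ[K] V) {n : ℕ} (hn : finrank K V = n) (hn2 : 2 ≤ n)
    (hdet : LinearMap.det g = 1) (hns : ¬ ∃ c : K, g = c • LinearMap.id)
    (hk1 : finrank K (eig g 1) + 2 ≤ n) :
    ∃ ℓ u : V →ₗ[K] V, ℓ ∘ₗ u = g ∧ (ℓ - 1) ^ n = 0 ∧ (u - 1) ^ n = 0 ∧
      (ℓ - 1) ^ (n - 1) ≠ 0 ∧ (u - 1) ^ (n - 1) ≠ 0 := by
  obtain ⟨m, rfl⟩ : ∃ m, n = m + 1 := ⟨n - 1, by omega⟩
  haveI : Nontrivial V := Module.nontrivial_of_finrank_pos (R := K) (by omega)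
  obtain ⟨z, hz⟩ := exists_ne (0 : V)
  obtain ⟨y, -, hyz⟩ := exists_dual_vanish_ne (K := K) (w := (0 : V)) (u := z) (by
    rw [Submodule.span_zero_singleton, Submodule.mem_bot]
    exact hz)
  have hy : y ≠ 0 := by
    rintro rfl
    exact hyz rfl
  obtain ⟨ℓ, u, h1, h2, h3, h4, x, h5⟩ := exists_factor hK m V g hn hdet
    (fun _ => ⟨hns, by rw [hn]; exact hk1⟩) z y hz hy
  refine ⟨ℓ, u, h1, h2, h3, ?_, ?_⟩
  · intro h
    apply h4
    rw [Nat.add_sub_cancel] at h
    rw [h, LinearMap.zero_apply]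
  · intro h
    apply h5
    rw [Nat.add_sub_cancel] at h
    rw [h, LinearMap.zero_apply, map_zero]

end recursion

end Cfsg.Agent.Lib.Helper5.Lev
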