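/-
helper5: regular unipotent endomorphisms of `Fin n → K` are conjugate to the Jordan block; the
transvection case; the final matrix statement for S2522.
-/
import Cfsg.Agent.Lib.Helper5.LevD

set_option autoImplicit false

namespace Cfsg.Agent.Lib.Helper5.Lev

open Module

section jordan

variable {K : Type*} [Field K] {V : Type*} [AddCommGroup V] [Module K V]

theorem linearIndependent_pow_of_nilpotent {n : ℕ} (M : V →ₗ[K] V) (hM : M ^ n = 0) (e : V)
    (he : (M ^ (n - 1)) e ≠ 0) : LinearIndependent K (fun k : Fin n => (M ^ k.val) e) := by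
  rw [Fintype.linearIndependent_iff]
  intro a hsum
  have key : ∀ m : ℕ, ∀ k : Fin n, k.val = m → a k = 0 := by
    intro m
    induction m using Nat.strong_induction_on with
    | _ m ih =>
      intro k hk
      have h1 := congrArg (M ^ (n - 1 - m)) hsum
      rw [map_sum, map_zero] at h1
      rw [Finset.sum_eq_single k] at h1
      · rw [map_smul, ← Module.End.mul_apply, ← pow_add, hk] at h1
        have h2 : n - 1 - m + m = n - 1 := by
          have := k.2
          omega
        rw [h2] at h1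
        exact (smul_eq_zero.mp h1).resolve_right he
      · intro j _ hjk
        rw [map_smul]
        have hjk' : j.val ≠ k.val := fun h => hjk (Fin.ext h)
        rcases lt_or_gt_of_ne hjk' with hlt | hgt
        · rw [ih j.val (by omega) j rfl, zero_smul]
        · rw [← Module.End.mul_apply, ← pow_add]
          have h2 : n - 1 - m + j.val = n + (j.val - m - 1) := by
            have := j.2
            omega
          rw [h2, pow_add, hM, zero_mul, LinearMap.zero_apply, smul_zero]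
      · intro h
        exact absurd (Finset.mem_univ k) h
  intro k
  exact key k.val k rfl

/-- a regular unipotent endomorphism of `Fin n → K` is conjugate to the Jordan block -/
theorem exists_conj_jordan {n : ℕ} (Jm : Matrix (Fin n) (Fin n) K)
    (hJ : ∀ i j : Fin n, Jm i j = if i = j then 1 else if j.val = i.val + 1 then 1 else 0)
    (ℓ : (Fin n → K) →ₗ[K] (Fin n → K)) (h0 : (ℓ - 1) ^ n = 0) (h1 : (ℓ - 1) ^ (n - 1) ≠ 0) :
    ∃ X : Matrix (Fin n) (Fin n) K, IsUnit X ∧ LinearMap.toMatrix' ℓ * X = X * Jm := by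
  obtain ⟨e, he⟩ : ∃ e, ((ℓ - 1) ^ (n - 1)) e ≠ 0 := by
    by_contra h
    push Not at h
    exact h1 (LinearMap.ext h)
  have hd := linearIndependent_pow_of_nilpotent (ℓ - 1) h0 e he
  have hc : LinearIndependent K (fun j : Fin n => ((ℓ - 1) ^ (Fin.rev j).val) e) :=
    hd.comp Fin.rev Fin.rev_injective
  obtain ⟨c, hcdef⟩ : ∃ c : Fin n → (Fin n → K), c = fun j : Fin n => ((ℓ - 1) ^ (Fin.rev j).val) e :=
    ⟨_, rfl⟩
  rw [← hcdef] at hc
  have hM0 : ∀ j : Fin n, j.val = 0 → (ℓ - 1) (c j) = 0 := by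
    intro j hj
    rw [hcdef]
    show (ℓ - 1) (((ℓ - 1) ^ (Fin.rev j).val) e) = 0
    rw [← Module.End.mul_apply, ← pow_succ', Fin.val_rev, hj]
    have h2 : n - (0 + 1) + 1 = n := by
      have := j.2
      omega
    rw [h2, h0, LinearMap.zero_apply]
  have hM1 : ∀ j k : Fin n, j.val = k.val + 1 → (ℓ - 1) (c j) = c k := by
    intro j k hjk
    rw [hcdef]
    show (ℓ - 1) (((ℓ - 1) ^ (Fin.rev j).val) e) = ((ℓ - 1) ^ (Fin.rev k).val) e
    rw [← Module.End.mul_apply, ← pow_succ', Fin.val_rev, Fin.val_rev]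
    have h2 : n - (j.val + 1) + 1 = n - (k.val + 1) := by
      have := j.2
      omega
    rw [h2]
  have hℓc : ∀ j, ℓ (c j) = c j + (ℓ - 1) (c j) := by
    intro j
    rw [LinearMap.sub_apply, Module.End.one_apply]
    abel
  refine ⟨Matrix.of (fun i j => c j i), ?_, ?_⟩
  · rw [← Matrix.linearIndependent_cols_iff_isUnit]
    exact hc
  · ext i j
    have hL : (LinearMap.toMatrix' ℓ * Matrix.of (fun i j => c j i)) i j = (ℓ (c j)) i := by
      rw [← LinearMap.toMatrix'_mulVec]
      rfl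
    rw [hL, Matrix.mul_apply]
    simp only [Matrix.of_apply, hJ]
    rw [hℓc, Pi.add_apply]
    rcases Nat.eq_zero_or_pos j.val with hj | hj
    · rw [hM0 j hj, Pi.zero_apply, add_zero, Finset.sum_eq_single j]
      · rw [if_pos rfl, mul_one]
      · intro k _ hk
        rw [if_neg hk, if_neg (by omega), mul_zero]
      · intro h
        exact absurd (Finset.mem_univ j) h
    · have hk₀ : j.val - 1 < n := by
        have := j.2
        omega
      have hne : j ≠ ⟨j.val - 1, hk₀⟩ := by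
        intro h
        have := congrArg Fin.val h
        simp only at this
        omega
      rw [hM1 j ⟨j.val - 1, hk₀⟩ (by simp only; omega),
        Finset.sum_eq_add_of_mem j ⟨j.val - 1, hk₀⟩ (Finset.mem_univ _) (Finset.mem_univ _) hne]
      · rw [if_pos rfl, mul_one, if_neg (Ne.symm hne), if_pos (by simp only; omega), mul_one]
      · rintro k - ⟨hk1, hk2⟩
        rw [if_neg hk1, if_neg, mul_zero]
        intro h
        apply hk2
        apply Fin.ext
        simp only
        omega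

end jordan

section transvection

/-- (proof by helper15, copied from the file of S2579) a square-zero endomorphism of rank one has a
basis in which it is an elementary matrix -/
theorem exists_chain_basis {F : Type*} [Field F] {V : Type*} [AddCommGroup V] [Module F V]
    [FiniteDimensional F V] {k : ℕ}
    (f : V →ₗ[F] V) (hfin : finrank F V = k + 3) (hrange : finrank F (LinearMap.range f) = 1)
    (hff : ∀ x, f (f x) = 0) :
    ∃ b : Basis (Fin (k+3)) F V, f (b 0) = b 1 ∧ ∀ i, i ≠ 0 → f (b i) = 0 := by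
  classical
  have hkerdim : finrank F (LinearMap.ker f) = k + 2 := by
    have := LinearMap.finrank_range_add_finrank_ker f; omega
  obtain ⟨w, hw⟩ : ∃ w, f w ≠ 0 := by
    by_contra h; push Not at h
    have : LinearMap.range f = ⊥ := by
      rw [LinearMap.range_eq_bot]; exact LinearMap.ext h
    rw [this, finrank_bot] at hrange; omega
  obtain ⟨v, hv⟩ : ∃ v, v = f w := ⟨_, rfl⟩
  rw [← hv] at hw
  have hspan : ∀ z, ∃ μ : F, f z = μ • v := by
    have h1 := (finrank_eq_one_iff_of_nonzero' (⟨v, hv ▸ LinearMap.mem_range_self f w⟩ : LinearMap.range f)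
      (by simpa [Subtype.ext_iff] using hw)).mp hrange
    intro z
    obtain ⟨μ, hμ⟩ := h1 ⟨f z, LinearMap.mem_range_self f z⟩
    exact ⟨μ, by simpa [Subtype.ext_iff] using hμ.symm⟩
  have hvK : v ∈ LinearMap.ker f := by rw [LinearMap.mem_ker, hv]; exact hff w
  have hv' : (⟨v, hvK⟩ : LinearMap.ker f) ≠ 0 := by
    intro h; exact hw (congrArg Subtype.val h)
  obtain ⟨ψ, hψ⟩ := Module.Projective.exists_dual_eq_one F hv'
  have hkψ : finrank F (LinearMap.ker ψ) = k + 1 := by
    have h1 := LinearMap.finrank_range_add_finrank_ker ψ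
    have h2 : LinearMap.range ψ = ⊤ := by
      rw [LinearMap.range_eq_top]; intro c
      exact ⟨c • ⟨v, hvK⟩, by rw [map_smul, hψ, smul_eq_mul, mul_one]⟩
    rw [h2, finrank_top, finrank_self] at h1
    omega
  let b0 : Basis (Fin (k+1)) F (LinearMap.ker ψ) := Module.finBasisOfFinrankEq F _ hkψ
  let b1 : Basis (Fin (k+2)) F (LinearMap.ker f) := Module.Basis.mkFinCons ⟨v, hvK⟩ b0 (by
      intro c x hx h
      have := congrArg ψ h
      rw [map_add, map_smul, hψ, LinearMap.mem_ker.mp hx, map_zero, add_zero, smul_eq_mul, mul_one] at this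
      exact this)
    (by
      intro z
      exact ⟨-ψ z, by rw [LinearMap.mem_ker, map_add, map_smul, hψ]; simp⟩)
  let b2 : Basis (Fin (k+3)) F V := Module.Basis.mkFinCons w b1 (by
      intro c x hx h
      have := congrArg f h
      rw [map_add, map_smul, LinearMap.mem_ker.mp hx, add_zero, map_zero, ← hv] at this
      exact (smul_eq_zero.mp this).resolve_right hw)
    (by
      intro z; obtain ⟨μ, hμ⟩ := hspan z
      exact ⟨-μ, by rw [LinearMap.mem_ker, map_add, map_smul, hμ, ← hv]; simp⟩)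
  have hb2_0 : b2 0 = w := by simp [b2]
  have hb2_1 : b2 1 = v := by
    have : (1 : Fin (k+3)) = Fin.succ 0 := rfl
    rw [this]
    simp [b2, b1]
  have hb2_s : ∀ i : Fin (k+3), i ≠ 0 → f (b2 i) = 0 := by
    intro i hi
    obtain ⟨j, rfl⟩ := Fin.exists_succ_eq.mpr hi
    have : b2 j.succ = (b1 j : V) := by simp [b2]
    rw [this]
    exact (b1 j).2
  exact ⟨b2, by rw [hb2_0, hb2_1, hv], hb2_s⟩

variable {K : Type*} [Field K] {V : Type*} [AddCommGroup V] [Module K V] [FiniteDimensional K V]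

theorem sq_zero_of_det {g : V →ₗ[K] V} (hdet : LinearMap.det g = 1)
    (hr : finrank K (LinearMap.range (g - 1)) = 1) : ∀ x, (g - 1) ((g - 1) x) = 0 := by
  obtain ⟨a', ha'0⟩ : ∃ a' : LinearMap.range (g - 1), a' ≠ 0 := by
    haveI : Nontrivial (LinearMap.range (g - 1)) :=
      Module.nontrivial_of_finrank_pos (R := K) (by omega)
    exact exists_ne 0
  have hspan := (finrank_eq_one_iff_of_nonzero' a' ha'0).mp hr
  have ha0 : (a' : V) ≠ 0 := fun h => ha'0 (Subtype.ext h)
  obtain ⟨φ₁, -, hφ₁⟩ := exists_dual_vanish_ne (K := K) (w := (0 : V)) (u := (a' : V)) (by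
    rw [Submodule.span_zero_singleton, Submodule.mem_bot]
    exact ha0)
  have hN : ∀ x, (g - 1) x = ((φ₁ a')⁻¹ * φ₁ ((g - 1) x)) • (a' : V) := by
    intro x
    obtain ⟨c, hc⟩ := hspan ⟨(g - 1) x, LinearMap.mem_range_self _ x⟩
    have hc' : c • (a' : V) = (g - 1) x := congrArg Subtype.val hc
    rw [← hc', map_smul, smul_eq_mul, mul_comm c, ← mul_assoc, inv_mul_cancel₀ hφ₁, one_mul]
  obtain ⟨ψ, hψ⟩ : ∃ ψ : Dual K V, ∀ x, (g - 1) x = ψ x • (a' : V) :=
    ⟨(φ₁ a')⁻¹ • (φ₁ ∘ₗ (g - 1)), fun x => by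
      rw [LinearMap.smul_apply, LinearMap.comp_apply, smul_eq_mul]
      exact hN x⟩
  have hg : g = LinearMap.transvection ψ (a' : V) := by
    refine LinearMap.ext fun x => ?_
    rw [LinearMap.transvection.apply, ← hψ x, LinearMap.sub_apply, Module.End.one_apply]
    abel
  have hdet' := LinearMap.transvection.det ψ (a' : V)
  rw [← hg, hdet] at hdet'
  have hψa : ψ a' = 0 := by linear_combination -hdet'
  intro x
  rw [hψ x, map_smul, hψ (a' : V), hψa, zero_smul, smul_zero]

theorem exists_regular_factor_transvection (g : V →ₗ[K] V) {n : ℕ} (hn : finrank K V = n)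
    (hn3 : 3 ≤ n) (hdet : LinearMap.det g = 1) (hk : finrank K (eig g 1) + 1 = n) :
    ∃ ℓ u : V →ₗ[K] V, ℓ ∘ₗ u = g ∧ (ℓ - 1) ^ n = 0 ∧ (u - 1) ^ n = 0 ∧
      (ℓ - 1) ^ (n - 1) ≠ 0 ∧ (u - 1) ^ (n - 1) ≠ 0 := by
  obtain ⟨k, rfl⟩ : ∃ k, n = k + 3 := ⟨n - 3, by omega⟩
  have hN1 : g - (1 : K) • LinearMap.id = g - 1 := by
    rw [one_smul]
    rfl
  have hr : finrank K (LinearMap.range (g - 1)) = 1 := by
    have h := finrank_rng_add_eig g 1
    unfold rng at h
    rw [hN1] at h
    omega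
  have hff := sq_zero_of_det hdet hr
  obtain ⟨b, hb0, hb⟩ := exists_chain_basis (g - 1) hn hr hff
  obtain ⟨c, hc⟩ : ∃ c : Basis (Fin (k + 3)) K V, ∀ j, c j = b (j + 1) :=
    ⟨b.reindex (finRotate (k + 3)).symm, fun j => by
      rw [Basis.reindex_apply, Equiv.symm_symm, finRotate_apply]⟩
  have hc0 : c 0 = b 1 := by rw [hc, zero_add]
  have hlast : ∀ j : Fin (k + 3), j.val = k + 2 → (g - 1) (c j) = c 0 := by
    intro j hj
    have hjl : j = Fin.last (k + 2) := Fin.ext (by rw [hj, Fin.val_last])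
    rw [hc j, hjl, Fin.last_add_one, hb0, hc0]
  have hnot : ∀ j : Fin (k + 3), j.val ≠ k + 2 → (g - 1) (c j) = 0 := by
    intro j hj
    rw [hc j]
    apply hb
    intro h
    have hlt : j < Fin.last (k + 2) := by
      rw [Fin.lt_def, Fin.val_last]
      have := j.2
      omega
    have h1 := Fin.val_add_one_of_lt hlt
    rw [h] at h1
    simp at h1
  obtain ⟨M, hMdef⟩ : ∃ M : V →ₗ[K] V, M = c.constr K (fun j : Fin (k + 3) =>
      if h : j.val = 0 then (0 : V) else c ⟨j.val - 1, by have := j.2; omega⟩) := ⟨_, rfl⟩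
  have hM0 : ∀ j : Fin (k + 3), j.val = 0 → M (c j) = 0 := by
    intro j hj
    rw [hMdef, Basis.constr_basis, dif_pos hj]
  have hM1 : ∀ j i : Fin (k + 3), j.val = i.val + 1 → M (c j) = c i := by
    intro j i hji
    rw [hMdef, Basis.constr_basis, dif_neg (by omega)]
    congr 1
    apply Fin.ext
    simp only
    omega
  have hpow1 : ∀ (r : ℕ) (j i : Fin (k + 3)), j.val = i.val + r → (M ^ r) (c j) = c i := by
    intro r
    induction r with
    | zero =>
      intro j i h
      rw [pow_zero, Module.End.one_apply]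
      congr 1
      exact Fin.ext (by omega)
    | succ r ih =>
      intro j i h
      have hj' : j.val - 1 < k + 3 := by
        have := j.2
        omega
      rw [pow_succ, Module.End.mul_apply, hM1 j ⟨j.val - 1, hj'⟩ (by simp only; omega),
        ih ⟨j.val - 1, hj'⟩ i (by simp only; omega)]
  have hpow0 : ∀ (r : ℕ) (j : Fin (k + 3)), j.val < r → (M ^ r) (c j) = 0 := by
    intro r j h
    obtain ⟨s, rfl⟩ : ∃ s, r = s + (j.val + 1) := ⟨r - (j.val + 1), by omega⟩
    rw [pow_add, Module.End.mul_apply, pow_succ', Module.End.mul_apply,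
      hpow1 j.val j ⟨0, by omega⟩ (by simp), hM0 _ rfl, map_zero]
  have hMn : M ^ (k + 3) = 0 :=
    c.ext (fun j => by rw [hpow0 _ j j.2, LinearMap.zero_apply])
  have hMN : M ^ (k + 2) = g - 1 := by
    apply c.ext
    intro j
    by_cases hj : j.val = k + 2
    · rw [hpow1 (k + 2) j ⟨0, by omega⟩ (by simp only; omega), hlast j hj]
      congr 1
    · rw [hpow0 _ j (by have := j.2; omega), hnot j hj]
  have hnil : IsNilpotent M := ⟨k + 3, hMn⟩
  obtain ⟨ℓu, hℓu⟩ := hnil.isUnit_one_add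
  have hNne : g - 1 ≠ 0 := by
    intro h
    rw [h, LinearMap.range_zero, finrank_bot] at hr
    omega
  have hg : g = 1 + M ^ (k + 2) := by
    rw [hMN]
    abel
  have hcomm : Commute M (↑ℓu : Module.End K V) := by
    rw [hℓu]
    exact (Commute.one_right M).add_right (Commute.refl M)
  have hcommi : Commute M (↑ℓu⁻¹ : Module.End K V) := hcomm.units_inv_right
  obtain ⟨wu, hwu⟩ := (hnil.pow_succ k).isUnit_sub_one
  have hq : (↑ℓu⁻¹ : Module.End K V) * g - 1 = M * ↑(ℓu⁻¹ * wu) := by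
    have h1 : (↑ℓu⁻¹ : Module.End K V) * g - 1 = ↑ℓu⁻¹ * (g - ↑ℓu) := by
      rw [mul_sub, Units.inv_mul]
    have h2 : (1 + M ^ (k + 2) - (1 + M) : Module.End K V) = M * (M ^ (k + 1) - 1) := by
      rw [mul_sub, mul_one, ← pow_succ']
      abel
    rw [h1, hℓu, hg, h2, ← mul_assoc, ← hcommi.eq, mul_assoc, Units.val_mul, hwu]
  have hcq : Commute M (↑(ℓu⁻¹ * wu) : Module.End K V) := by
    rw [Units.val_mul, hwu]
    exact hcommi.mul_right
      (((Commute.refl M).pow_right (k + 1)).sub_right (Commute.one_right M))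
  have e1 : k + 3 - 1 = k + 2 := rfl
  refine ⟨1 + M, ↑ℓu⁻¹ * g, ?_, ?_, ?_, ?_, ?_⟩
  · show (1 + M) * (↑ℓu⁻¹ * g) = g
    rw [← hℓu, Units.mul_inv_cancel_left]
  · rw [add_sub_cancel_left, hMn]
  · rw [hq, hcq.mul_pow, hMn, zero_mul]
  · rw [add_sub_cancel_left, e1, hMN]
    exact hNne
  · rw [hq, hcq.mul_pow, e1]
    intro h
    rw [IsUnit.mul_left_eq_zero ((ℓu⁻¹ * wu).isUnit.pow _), hMN] at h
    exact hNne h

end transvection

section final

variable {K : Type*} [Field K]

theorem exists_two_regular_unipotent (hK : BigField K 4) (n : ℕ) (hn : 3 ≤ n)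
    (Jm g : Matrix (Fin n) (Fin n) K)
    (hJ : ∀ i j : Fin n, Jm i j = if i = j then 1 else if j.val = i.val + 1 then 1 else 0)
    (hg : ¬ ∃ c : K, g = c • (1 : Matrix (Fin n) (Fin n) K)) (hdet : g.det = 1) :
    ∃ X Y : Matrix (Fin n) (Fin n) K, IsUnit X ∧ IsUnit Y ∧
      ∃ L U : Matrix (Fin n) (Fin n) K, L * U = g ∧ L * X = X * Jm ∧ U * Y = Y * Jm := by
  have hfin : finrank K (Fin n → K) = n := Module.finrank_fin_fun K
  have hdetG : LinearMap.det (Matrix.toLin' g) = 1 := by rw [LinearMap.det_toLin', hdet]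
  have hns : ¬ ∃ c : K, Matrix.toLin' g = c • LinearMap.id := by
    rintro ⟨c, hc⟩
    apply hg
    refine ⟨c, ?_⟩
    have h := congrArg LinearMap.toMatrix' hc
    rw [LinearMap.toMatrix'_toLin', map_smul, LinearMap.toMatrix'_id] at h
    exact h
  have hfac : ∃ ℓ u : (Fin n → K) →ₗ[K] (Fin n → K), ℓ ∘ₗ u = Matrix.toLin' g ∧
      (ℓ - 1) ^ n = 0 ∧ (u - 1) ^ n = 0 ∧ (ℓ - 1) ^ (n - 1) ≠ 0 ∧ (u - 1) ^ (n - 1) ≠ 0 := by
    by_cases hk : finrank K (eig (Matrix.toLin' g) 1) + 2 ≤ n
    · exact exists_regular_factor hK _ hfin (by omega) hdetG hns hk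
    · have hlt := Submodule.finrank_lt (eig_ne_top (Matrix.toLin' g) hns 1)
      exact exists_regular_factor_transvection _ hfin hn hdetG (by omega)
  obtain ⟨ℓ, u, hcomp, hℓ0, hu0, hℓ1, hu1⟩ := hfac
  obtain ⟨X, hX, hLX⟩ := exists_conj_jordan Jm hJ ℓ hℓ0 hℓ1
  obtain ⟨Y, hY, hUY⟩ := exists_conj_jordan Jm hJ u hu0 hu1
  refine ⟨X, Y, hX, hY, LinearMap.toMatrix' ℓ, LinearMap.toMatrix' u, ?_, hLX, hUY⟩
  rw [← LinearMap.toMatrix'_comp, hcomp, LinearMap.toMatrix'_toLin']

end final

end Cfsg.Agent.Lib.Helper5.Lev
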