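import Mathlib
import Cfsg.Agent.Lib.Helper5.M11LocC

/-!
# Simple groups of order 7920: the square roots of an involution (helper5)

For the involution `t` of the local data, every `g` with `g ^ 2 = t` lies in the quaternion group
`Q`; hence every involution has exactly six square roots and there are `990` elements of order `4`.
-/

set_option autoImplicit false
set_option linter.unusedSectionVars false
set_option linter.style.haveILetI false

namespace Cfsg.Agent.Lib.Helper5.M11

open scoped Pointwise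

universe u

variable {G : Type u} [Group G] [Finite G]

/-- a group of order `16` normalizing a group of order `9` contains an involution centralizing
any given element of the latter -/
theorem exists_invol_comm_of_card (T S0 : Subgroup G) (hT : Nat.card ↥T = 9)
    (hS : Nat.card ↥S0 = 16) (hSN : S0 ≤ Subgroup.normalizer (T : Set G)) (x : G) (hx : x ∈ T) :
    ∃ s ∈ S0, orderOf s = 2 ∧ s * x = x * s := by
  classical
  let f : ↥S0 → ↥T := fun u =>
    ⟨(u : G) * x * (u : G)⁻¹, (Subgroup.mem_normalizer_iff.mp (hSN u.2) x).mp hx⟩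
  have hninj : ¬ Function.Injective f := fun hinj => by
    have := Nat.card_le_card_of_injective f hinj
    rw [hT, hS] at this
    omega
  rw [Function.Injective] at hninj
  push Not at hninj
  obtain ⟨u, v, hfuv, huv⟩ := hninj
  have hfuv' : (u : G) * x * (u : G)⁻¹ = (v : G) * x * (v : G)⁻¹ := congrArg Subtype.val hfuv
  set w : G := (v : G)⁻¹ * (u : G) with hw
  have hwS : w ∈ S0 := S0.mul_mem (S0.inv_mem v.2) u.2
  have hw1 : w ≠ 1 := by
    intro h
    apply huv
    apply Subtype.ext
    exact (inv_mul_eq_one.mp h).symm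
  have hwx : Commute w x := by
    show w * x = x * w
    calc w * x = (v : G)⁻¹ * ((u : G) * x * (u : G)⁻¹) * (u : G) := by rw [hw]; group
      _ = (v : G)⁻¹ * ((v : G) * x * (v : G)⁻¹) * (u : G) := by rw [hfuv']
      _ = x * w := by rw [hw]; group
  have hdvd : orderOf w ∣ 2 ^ 4 := by
    have h1 : orderOf (⟨w, hwS⟩ : ↥S0) ∣ Nat.card ↥S0 := orderOf_dvd_natCard _
    rw [hS, Subgroup.orderOf_mk] at h1
    exact h1
  obtain ⟨k, -, hk⟩ := (Nat.dvd_prime_pow Nat.prime_two).mp hdvd
  have hk0 : k ≠ 0 := by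
    intro h
    rw [h, pow_zero, orderOf_eq_one_iff] at hk
    exact hw1 hk
  obtain ⟨j, rfl⟩ := Nat.exists_eq_succ_of_ne_zero hk0
  refine ⟨w ^ 2 ^ j, S0.pow_mem hwS _, ?_, (hwx.pow_left _).eq⟩
  rw [orderOf_pow_of_dvd (by positivity) (by rw [hk]; exact pow_dvd_pow 2 (Nat.le_succ j)), hk,
    pow_succ, Nat.mul_div_cancel_left _ (by positivity)]

/-- no involution of `N(P)` centralizing a nonidentity element of `P` commutes with a square root
of the inverting involution -/
theorem no_invol_comm_aux [IsSimpleGroup G] (hG : Nat.card G = 7920) (P : Sylow 3 G)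
    (t s q x : G) (hinv : ∀ x ∈ (P : Subgroup G), t * x * t⁻¹ = x⁻¹) (hs : orderOf s = 2)
    (hx : x ∈ (P : Subgroup G)) (hx1 : x ≠ 1) (hsx : s * x = x * s)
    (hqN : q ∈ Subgroup.normalizer ((P : Subgroup G) : Set G)) (hqs : q * s = s * q)
    (hq2 : q ^ 2 = t) : False := by
  classical
  haveI : Fact (Nat.Prime 3) := ⟨Nat.prime_three⟩
  have hP9 := card_sylow3 hG P
  have hx3 : x ^ 3 = 1 := sylow3_pow_three hG P x hx
  have hox : orderOf x = 3 := orderOf_eq_prime hx3 hx1
  have hCT : Subgroup.centralizer ((P : Subgroup G) : Set G) = (P : Subgroup G) := by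
    symm
    apply Subgroup.eq_of_le_of_card_ge (sylow3_le_centralizer hG P)
    rw [card_centralizer_sylow3 hG P, hP9]
  set y : G := q * x * q⁻¹ with hy
  have hyP : y ∈ (P : Subgroup G) := (Subgroup.mem_normalizer_iff.mp hqN x).mp hx
  have hsy : s * y = y * s := by
    calc s * y = (s * q) * x * q⁻¹ := by rw [hy]; group
      _ = (q * s) * x * q⁻¹ := by rw [hqs]
      _ = q * (s * x) * q⁻¹ := by group
      _ = q * (x * s) * q⁻¹ := by rw [hsx]
      _ = q * x * (s * q⁻¹) := by group
      _ = q * x * (q⁻¹ * s) := by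
        congr 1
        calc s * q⁻¹ = q⁻¹ * (q * s) * q⁻¹ := by group
          _ = q⁻¹ * (s * q) * q⁻¹ := by rw [hqs]
          _ = q⁻¹ * s := by group
      _ = y * s := by rw [hy]; group
  set D : Subgroup G := (P : Subgroup G) ⊓ Subgroup.centralizer ({s} : Set G) with hD
  have hmemD : ∀ z : G, z ∈ D ↔ z ∈ (P : Subgroup G) ∧ s * z = z * s := by
    intro z
    rw [hD, Subgroup.mem_inf, Subgroup.mem_centralizer_iff]
    constructor
    · rintro ⟨h1, h2⟩
      exact ⟨h1, h2 s rfl⟩
    · rintro ⟨h1, h2⟩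
      refine ⟨h1, fun h hh => ?_⟩
      rw [Set.mem_singleton_iff.mp hh]
      exact h2
  have hxD : x ∈ D := (hmemD x).mpr ⟨hx, hsx⟩
  have hyD : y ∈ D := (hmemD y).mpr ⟨hyP, hsy⟩
  have hDdvd : Nat.card ↥D ∣ 9 := by
    rw [← hP9]
    exact Subgroup.card_dvd_of_le inf_le_left
  have hD9 : Nat.card ↥D ≠ 9 := by
    intro h
    have hDP : D = (P : Subgroup G) := Subgroup.eq_of_le_of_card_ge inf_le_left (by rw [h, hP9])
    have hsC : s ∈ Subgroup.centralizer ((P : Subgroup G) : Set G) := by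
      rw [Subgroup.mem_centralizer_iff]
      intro z hz
      have hzD : z ∈ D := by rw [hDP]; exact hz
      exact ((hmemD z).mp hzD).2.symm
    rw [hCT] at hsC
    have h1 : orderOf (⟨s, hsC⟩ : ↥(P : Subgroup G)) ∣ Nat.card ↥(P : Subgroup G) :=
      orderOf_dvd_natCard _
    rw [hP9, Subgroup.orderOf_mk, hs] at h1
    omega
  have hD1 : Nat.card ↥D ≠ 1 := by
    intro h
    have := Subgroup.eq_bot_of_card_eq D h
    rw [this, Subgroup.mem_bot] at hxD
    exact hx1 hxD
  have hD3 : Nat.card ↥D = 3 := by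
    have hle : Nat.card ↥D ≤ 9 := Nat.le_of_dvd (by norm_num) hDdvd
    generalize Nat.card ↥D = n at *
    interval_cases n <;> omega
  have hDx : Subgroup.zpowers x = D :=
    Subgroup.eq_of_le_of_card_ge (Subgroup.zpowers_le.mpr hxD) (by rw [Nat.card_zpowers, hox, hD3])
  have hy' : y ∈ Subgroup.zpowers x := by rw [hDx]; exact hyD
  obtain ⟨k, hk⟩ := Subgroup.mem_zpowers_iff.mp hy'
  have hkm := zpow_mod_orderOf x k
  rw [hox, hk] at hkm
  have hk3 : k % (3 : ℕ) = 0 ∨ k % (3 : ℕ) = 1 ∨ k % (3 : ℕ) = 2 := by omega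
  have htx : t * x * t⁻¹ = q * y * q⁻¹ := by
    rw [← hq2, pow_two, hy]; group
  have hfin : q * y * q⁻¹ = x → False := by
    intro h
    rw [h, hinv x hx] at htx
    -- x⁻¹ = x
    have h2 : x ^ 2 = 1 := by
      rw [pow_two]
      nth_rewrite 1 [← htx]
      exact inv_mul_cancel x
    have h3 := orderOf_dvd_of_pow_eq_one h2
    rw [hox] at h3
    omega
  rcases hk3 with h | h | h <;> rw [h] at hkm
  · rw [zpow_zero] at hkm
    apply hx1
    have h1 : q * x * q⁻¹ = 1 := by rw [← hy]; exact hkm.symm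
    exact conj_eq_one_iff.mp h1
  · rw [zpow_one] at hkm
    apply hfin
    rw [← hkm]
    show q * x * q⁻¹ = x
    rw [← hy, ← hkm]
  · apply hfin
    have hy2 : y = x * x := by
      rw [← hkm]
      show x ^ (2 : ℤ) = x * x
      rw [zpow_ofNat, pow_two]
    calc q * y * q⁻¹ = (q * x * q⁻¹) * (q * x * q⁻¹) := by rw [hy2]; group
      _ = y * y := by rw [← hy]
      _ = x ^ 3 * x := by rw [hy2, pow_succ, pow_two]; group
      _ = x := by rw [hx3, one_mul]

/-- a `2`-subgroup of `N(P)` containing the inverting involution `t` centralizes `t` -/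
theorem two_subgroup_comm_invol [IsSimpleGroup G] (hG : Nat.card G = 7920) (P : Sylow 3 G)
    (t : G) (ht : orderOf t = 2) (hinv : ∀ x ∈ (P : Subgroup G), t * x * t⁻¹ = x⁻¹)
    (S0 : Subgroup G) (hS0c : Nat.card ↥S0 = 16)
    (hS0N : S0 ≤ Subgroup.normalizer ((P : Subgroup G) : Set G)) (htS0 : t ∈ S0) :
    ∀ s ∈ S0, s * t = t * s := by
  have hP9 := card_sylow3 hG P
  have ht2 : t * t = 1 := by
    have := pow_orderOf_eq_one t
    rwa [ht, pow_two] at this
  set T : Subgroup G := (P : Subgroup G) with hT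
  have hCT : Subgroup.centralizer (T : Set G) = T := by
    symm
    apply Subgroup.eq_of_le_of_card_ge (sylow3_le_centralizer hG P)
    rw [card_centralizer_sylow3 hG P, hP9]
  have hdisj : T ⊓ S0 = ⊥ :=
    Subgroup.inf_eq_bot_of_coprime (by rw [hP9, hS0c]; norm_num)
  intro s hs
  have hsN : s ∈ Subgroup.normalizer (T : Set G) := hS0N hs
  set u := s * t * s⁻¹ with hu
  have huinv : ∀ x ∈ T, u * x * u⁻¹ = x⁻¹ := by
    intro x hx
    have hx' : s⁻¹ * x * s ∈ T := by
      have := (Subgroup.mem_normalizer_iff.mp ((Subgroup.normalizer (T : Set G)).inv_mem hsN) x).mp hx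
      rwa [inv_inv] at this
    have h1 := hinv _ hx'
    calc u * x * u⁻¹ = s * (t * (s⁻¹ * x * s) * t⁻¹) * s⁻¹ := by rw [hu]; group
      _ = s * (s⁻¹ * x * s)⁻¹ * s⁻¹ := by rw [h1]
      _ = x⁻¹ := by group
  have hut : u * t ∈ Subgroup.centralizer (T : Set G) := by
    rw [Subgroup.mem_centralizer_iff]
    intro x hx
    have h1 := hinv x hx
    have h2 := huinv x⁻¹ (T.inv_mem hx)
    rw [inv_inv] at h2
    have h3 : (u * t) * x * (u * t)⁻¹ = x := by
      calc (u * t) * x * (u * t)⁻¹ = u * (t * x * t⁻¹) * u⁻¹ := by group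
        _ = x := by rw [h1, h2]
    exact (mul_inv_eq_iff_eq_mul.mp h3).symm
  rw [hCT] at hut
  have hutS : u * t ∈ S0 :=
    S0.mul_mem (S0.mul_mem (S0.mul_mem hs htS0) (S0.inv_mem hs)) htS0
  have hut1 : u * t = 1 := by
    have : u * t ∈ T ⊓ S0 := ⟨hut, hutS⟩
    rwa [hdisj, Subgroup.mem_bot] at this
  have hu' : u = t := by
    calc u = u * (t * t) := by rw [ht2, mul_one]
      _ = (u * t) * t := by group
      _ = t := by rw [hut1, one_mul]
  rw [hu] at hu'
  exact mul_inv_eq_iff_eq_mul.mp hu'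

end Cfsg.Agent.Lib.Helper5.M11
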