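import Mathlib
import Cfsg.Agent.Lib.Helper5.M11FourA

/-!
# Simple groups of order 7920: the square roots of an involution, part B (helper5)

`exists_local_data_sq`: the local data of `M11LocC` with the extra clause that every square root
of `t` lies in `Q`.
-/

set_option autoImplicit false
set_option linter.unusedSectionVars false
set_option linter.style.haveILetI false

namespace Cfsg.Agent.Lib.Helper5.M11

open scoped Pointwise

universe u

variable {G : Type u} [Group G] [Finite G]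

set_option maxHeartbeats 1600000 in
/-- the local data, with all square roots of `t` in `Q` -/
theorem exists_local_data_sq [IsSimpleGroup G] (hG : Nat.card G = 7920) :
    ∃ (P : Sylow 3 G) (Q : Subgroup G) (t c : G), Nat.card ↥(P : Subgroup G) = 9 ∧
      Nat.card ↥Q = 8 ∧ orderOf t = 2 ∧ orderOf c = 3 ∧
      (∀ x ∈ (P : Subgroup G), t * x * t⁻¹ = x⁻¹) ∧ t ∈ Q ∧
      Q ≤ Subgroup.normalizer ((P : Subgroup G) : Set G) ∧
      (∀ q ∈ Q, q ≠ 1 → q ≠ t → q ^ 2 = t) ∧ (∀ q ∈ Q, c * q * c⁻¹ ∈ Q) ∧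
      c ∉ Subgroup.normalizer ((P : Subgroup G) : Set G) ∧
      (∀ q ∈ Q, ∀ q' ∈ Q, q ≠ 1 → q ≠ t → q' ≠ 1 → q' ≠ t → IsConj q q' ∨ IsConj q⁻¹ q') ∧
      c * t = t * c ∧ (∀ q ∈ Q, q * t = t * q) ∧
      (∀ g : G, g * t = t * g → ∀ q ∈ Q, g * q * g⁻¹ ∈ Q) ∧
      (∀ g : G, g ^ 2 = t → g ∈ Q) := by
  classical
  haveI : Fact (Nat.Prime 2) := ⟨Nat.prime_two⟩
  obtain ⟨P, Q, t, c, hP9, hQ8, ht, hc, hinv, htQ, hQN, hsq, hcQ, hcN, hconj, hct, hQt, hQnorm⟩ :=
    exists_local_data' hG
  refine ⟨P, Q, t, c, hP9, hQ8, ht, hc, hinv, htQ, hQN, hsq, hcQ, hcN, hconj, hct, hQt, hQnorm,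
    ?_⟩
  have ht2 : t * t = 1 := by
    have := pow_orderOf_eq_one t
    rwa [ht, pow_two] at this
  have ht1 : t ≠ 1 := by
    intro h
    rw [h, orderOf_one] at ht
    omega
  set N := Subgroup.normalizer ((P : Subgroup G) : Set G) with hN
  have hN144 : Nat.card ↥N = 144 := card_normalizer_sylow3_eq hG P
  -- a Sylow 2-subgroup of `N` containing `Q`
  have hQp : IsPGroup 2 ↥(Q.subgroupOf N) :=
    IsPGroup.of_card (n := 3)
      (by rw [Nat.card_congr (Subgroup.subgroupOfEquivOfLe hQN).toEquiv, hQ8]; norm_num)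
  obtain ⟨S2, hS2⟩ := hQp.exists_le_sylow
  set S0 : Subgroup G := (S2 : Subgroup ↥N).map N.subtype with hS0
  have hS0N : S0 ≤ N := by
    rintro _ ⟨x, -, rfl⟩
    exact x.2
  have hfacN : (Nat.card ↥N).factorization 2 = 4 := by
    rw [hN144, show (144 : ℕ) = 2 ^ 4 * 9 from rfl,
      Nat.factorization_mul (by norm_num) (by norm_num)]
    simp only [Finsupp.coe_add, Pi.add_apply]
    rw [Nat.prime_two.factorization_pow, Finsupp.single_eq_same,
      Nat.factorization_eq_zero_of_not_dvd (by norm_num)]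
  have hS0c : Nat.card ↥S0 = 16 := by
    rw [hS0, Subgroup.card_map_of_injective (Subgroup.subtype_injective N),
      S2.card_eq_multiplicity, hfacN]
    norm_num
  have hQS0 : Q ≤ S0 := by
    intro q hq
    exact ⟨⟨q, hQN hq⟩, hS2 (Subgroup.mem_subgroupOf.mpr hq), rfl⟩
  have htS0 : t ∈ S0 := hQS0 htQ
  have hS0t := two_subgroup_comm_invol hG P t ht hinv S0 hS0c hS0N htS0
  -- an involution of `S0` centralizing some nonidentity element of `P`
  obtain ⟨x, hxP, hx1⟩ : ∃ x ∈ (P : Subgroup G), x ≠ 1 := by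
    by_contra hno
    push Not at hno
    have : (P : Subgroup G) = ⊥ := (Subgroup.eq_bot_iff_forall _).mpr hno
    rw [this, Subgroup.card_bot] at hP9
    omega
  obtain ⟨s, hsS0, hs, hsx⟩ := exists_invol_comm_of_card (P : Subgroup G) S0 hP9 hS0c hS0N x hxP
  have hs2 : s * s = 1 := by
    have := pow_orderOf_eq_one s
    rwa [hs, pow_two] at this
  have hs1 : s ≠ 1 := by
    intro h
    rw [h, orderOf_one] at hs
    omega
  have hx3 : x ^ 3 = 1 := sylow3_pow_three hG P x hxP
  have hsQ : s ∉ Q := by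
    intro hsQ
    by_cases hst : s = t
    · rw [hst] at hsx
      have h1 := hinv x hxP
      have h2 : t * x * t⁻¹ = x := by rw [hsx, mul_inv_cancel_right]
      rw [h2] at h1
      have h3 : x ^ 2 = 1 := by
        rw [pow_two]
        nth_rewrite 1 [h1]
        exact inv_mul_cancel x
      apply hx1
      calc x = x ^ 3 * (x ^ 2)⁻¹ := by group
        _ = 1 := by rw [hx3, h3, inv_one, mul_one]
    · have := hsq s hsQ hs1 hst
      rw [pow_two, hs2] at this
      exact ht1 this.symm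
  have hidx : (Q.subgroupOf S0).index = 2 := by
    have h1 := Subgroup.card_mul_index (Q.subgroupOf S0)
    rw [Nat.card_congr (Subgroup.subgroupOfEquivOfLe hQS0).toEquiv, hQ8, hS0c] at h1
    omega
  -- elements of `S0` outside `Q` do not square to `t`
  have key : ∀ g1 ∈ S0, g1 ^ 2 = t → g1 ∈ Q := by
    intro g1 hg1 hg1sq
    by_contra hg1Q
    have hmem : ((⟨g1, hg1⟩ : ↥S0) * ⟨s, hsS0⟩) ∈ Q.subgroupOf S0 := by
      rw [Subgroup.mul_mem_iff_of_index_two hidx]
      simp only [Subgroup.mem_subgroupOf]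
      exact ⟨fun h => absurd h hg1Q, fun h => absurd h hsQ⟩
    have hqQ : g1 * s ∈ Q := Subgroup.mem_subgroupOf.mp hmem
    obtain ⟨q, hq⟩ : ∃ q, q = g1 * s := ⟨_, rfl⟩
    rw [← hq] at hqQ
    have hg1' : g1 = q * s := by rw [hq, mul_assoc, hs2, mul_one]
    have hsqq : q * s * (q * s) = t := by rw [← hg1', ← pow_two]; exact hg1sq
    by_cases hq1 : q = 1
    · rw [hq1, one_mul, hs2] at hsqq
      exact ht1 hsqq.symm
    by_cases hqt : q = t
    · rw [hqt] at hsqq
      have h1 : t * s * (t * s) = 1 := by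
        calc t * s * (t * s) = t * (s * t) * s := by group
          _ = t * (t * s) * s := by rw [hS0t s hsS0]
          _ = (t * t) * (s * s) := by group
          _ = 1 := by rw [ht2, hs2, one_mul]
      rw [h1] at hsqq
      exact ht1 hsqq.symm
    have hq2 := hsq q hqQ hq1 hqt
    have hqs : q * s = s * q := by
      have h1 : q * (s * q * s) = q * q := by
        rw [← pow_two q, hq2, ← hsqq]; group
      have h2 : s * q * s = q := mul_left_cancel h1
      calc q * s = (s * q * s) * s := by rw [h2]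
        _ = s * q * (s * s) := by group
        _ = s * q := by rw [hs2, mul_one]
    exact no_invol_comm_aux hG P t s q x hinv hs hxP hx1 hsx (hQN hqQ) hqs hq2
  -- the general case: conjugate into `S0` inside `C(t)`
  intro g hg
  by_contra hgQ
  set C := Subgroup.centralizer ({t} : Set G) with hC
  have hC48 : Nat.card ↥C = 48 := Cfsg.Agent.Lib.Helper24.M11Inv.card_centralizer_invol hG t ht
  have hmemC : ∀ g : G, g ∈ C ↔ g * t = t * g := by
    intro g
    rw [hC, Subgroup.mem_centralizer_iff]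
    constructor
    · intro h
      exact (h t rfl).symm
    · intro h x hx
      rw [Set.mem_singleton_iff.mp hx]
      exact h.symm
  have hgC : g ∈ C := by
    rw [hmemC, ← hg, pow_two]; group
  have hS0C : S0 ≤ C := fun s hs => (hmemC s).mpr (hS0t s hs)
  have hfacC : (Nat.card ↥C).factorization 2 = 4 := by
    rw [hC48, show (48 : ℕ) = 2 ^ 4 * 3 from rfl,
      Nat.factorization_mul (by norm_num) (by norm_num)]
    simp only [Finsupp.coe_add, Pi.add_apply]
    rw [Nat.prime_two.factorization_pow, Finsupp.single_eq_same,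
      Nat.factorization_eq_zero_of_not_dvd (by norm_num)]
  have hS0'c : Nat.card ↥(S0.subgroupOf C) = 2 ^ (Nat.card ↥C).factorization 2 := by
    rw [hfacC, Nat.card_congr (Subgroup.subgroupOfEquivOfLe hS0C).toEquiv, hS0c]
    norm_num
  obtain ⟨g', hg'⟩ : ∃ g' : ↥C, g' = ⟨g, hgC⟩ := ⟨_, rfl⟩
  have hg'v : (g' : G) = g := by rw [hg']
  have hg'4 : g' ^ 4 = 1 := by
    apply Subtype.ext
    show (g' : G) ^ 4 = 1
    rw [hg'v, show 4 = 2 * 2 from rfl, pow_mul, hg, pow_two, ht2]
  have hgp : IsPGroup 2 ↥(Subgroup.zpowers g') := by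
    have hd : orderOf g' ∣ 2 ^ 2 := orderOf_dvd_of_pow_eq_one hg'4
    obtain ⟨k, -, hk⟩ := (Nat.dvd_prime_pow Nat.prime_two).mp hd
    exact IsPGroup.of_card (n := k) (by rw [Nat.card_zpowers, hk])
  obtain ⟨S', hS'⟩ := hgp.exists_le_sylow
  obtain ⟨y, hy⟩ := MulAction.exists_smul_eq ↥C (Sylow.ofCard (S0.subgroupOf C) hS0'c) S'
  have hg'S' : g' ∈ (S' : Subgroup ↥C) := hS' (Subgroup.mem_zpowers g')
  rw [← hy, Sylow.coe_subgroup_smul, Subgroup.mem_pointwise_smul_iff_inv_smul_mem,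
    Sylow.coe_ofCard, Subgroup.mem_subgroupOf] at hg'S'
  have h2 : ((MulAut.conj y)⁻¹ • g' : ↥C) = y⁻¹ * g' * y := by
    rw [MulAut.smul_def, MulAut.conj_inv_apply]
  rw [h2] at hg'S'
  have hg1 : (y : G)⁻¹ * g * (y : G) ∈ S0 := by
    rw [← hg'v]
    exact hg'S'
  have hyt : (y : G) * t = t * (y : G) := (hmemC _).mp y.2
  have hg1sq : ((y : G)⁻¹ * g * (y : G)) ^ 2 = t := by
    rw [pow_two]
    calc (y : G)⁻¹ * g * (y : G) * ((y : G)⁻¹ * g * (y : G))
        = (y : G)⁻¹ * (g * g) * (y : G) := by group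
      _ = (y : G)⁻¹ * (t * (y : G)) := by rw [← pow_two, hg, mul_assoc]
      _ = (y : G)⁻¹ * ((y : G) * t) := by rw [hyt]
      _ = t := by group
  have h3 := key _ hg1 hg1sq
  have h4 := hQnorm (y : G) hyt _ h3
  apply hgQ
  have h5 : (y : G) * ((y : G)⁻¹ * g * (y : G)) * (y : G)⁻¹ = g := by group
  rwa [h5] at h4

end Cfsg.Agent.Lib.Helper5.M11
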