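import Mathlib
import Cfsg.Agent.Lib.Helper5.M11FourB

/-!
# Simple groups of order 7920: counting involutions and elements of order four (helper5)

* `card_sq_eq_invol`: every involution has exactly six square roots;
* `card_invol`: there are `165` involutions;
* `card_orderOf_four`: there are `990` elements of order `4`.
-/

set_option autoImplicit false
set_option linter.unusedSectionVars false
set_option linter.style.haveILetI false

namespace Cfsg.Agent.Lib.Helper5.M11

universe u

variable {G : Type u} [Group G] [Finite G]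

/-- every involution has exactly six square roots -/
theorem card_sq_eq_invol [IsSimpleGroup G] (hG : Nat.card G = 7920) (t₁ : G)
    (ht₁ : orderOf t₁ = 2) : Nat.card {g : G // g ^ 2 = t₁} = 6 := by
  classical
  obtain ⟨P, Q, t, c, -, hQ8, ht, -, -, htQ, -, hsq, -, -, -, -, -, -, hroot⟩ :=
    exists_local_data_sq hG
  have ht2 : t * t = 1 := by
    have := pow_orderOf_eq_one t
    rwa [ht, pow_two] at this
  have ht1 : t ≠ 1 := by
    intro h
    rw [h, orderOf_one] at ht
    omega
  obtain ⟨y, hy⟩ := isConj_iff.mp (Cfsg.Agent.Lib.Helper24.M11Vec.isConj_of_invol hG t t₁ ht ht₁)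
  have e : {g : G // g ^ 2 = t₁} ≃ {g : G // g ^ 2 = t} :=
    { toFun := fun g => ⟨y⁻¹ * g.1 * y, by
        rw [pow_two]
        calc y⁻¹ * g.1 * y * (y⁻¹ * g.1 * y) = y⁻¹ * (g.1 * g.1) * y := by group
          _ = y⁻¹ * (y * t * y⁻¹) * y := by rw [← pow_two, g.2, hy]
          _ = t := by group⟩
      invFun := fun g => ⟨y * g.1 * y⁻¹, by
        rw [pow_two]
        calc y * g.1 * y⁻¹ * (y * g.1 * y⁻¹) = y * (g.1 * g.1) * y⁻¹ := by group
          _ = t₁ := by rw [← pow_two, g.2, hy]⟩
      left_inv := fun g => by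
        apply Subtype.ext
        show y * (y⁻¹ * g.1 * y) * y⁻¹ = g.1
        group
      right_inv := fun g => by
        apply Subtype.ext
        show y⁻¹ * (y * g.1 * y⁻¹) * y = g.1
        group }
  rw [Nat.card_congr e]
  have hset : {g : G | g ^ 2 = t} = (Q : Set G) \ {1, t} := by
    ext g
    constructor
    · intro h
      have h' : g ^ 2 = t := h
      refine ⟨hroot g h', ?_⟩
      intro hmem
      rcases hmem with h1 | h1
      · rw [h1, one_pow] at h'
        exact ht1 h'.symm
      · have h1' : g = t := h1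
        rw [h1', pow_two, ht2] at h'
        exact ht1 h'.symm
    · rintro ⟨h1, h2⟩
      have hg1 : g ≠ 1 := fun h => h2 (Or.inl h)
      have hgt : g ≠ t := fun h => h2 (Or.inr h)
      exact hsq g h1 hg1 hgt
  have hsub : ({1, t} : Set G) ⊆ (Q : Set G) := by
    intro z hz
    rcases hz with h | h
    · rw [h]; exact Q.one_mem
    · have h' : z = t := h
      rw [h']; exact htQ
  show Nat.card ↥{g : G | g ^ 2 = t} = 6
  rw [Nat.card_coe_set_eq, hset, Set.ncard_diff hsub (Set.toFinite _), Set.ncard_pair ht1.symm]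
  have hQn : (Q : Set G).ncard = 8 := by
    rw [← Nat.card_coe_set_eq]
    exact hQ8
  rw [hQn]

/-- there are `165` involutions -/
theorem card_invol [IsSimpleGroup G] (hG : Nat.card G = 7920) :
    Nat.card {s : G // orderOf s = 2} = 165 := by
  classical
  haveI : Fact (Nat.Prime 2) := ⟨Nat.prime_two⟩
  obtain ⟨t, ht⟩ := exists_prime_orderOf_dvd_card' (G := G) 2 (by rw [hG]; norm_num)
  have h48 := Cfsg.Agent.Lib.Helper24.M11Inv.card_centralizer_invol hG t ht
  have hset : {s : G | orderOf s = 2} = MulAction.orbit (ConjAct G) t := by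
    ext s
    rw [ConjAct.mem_orbit_conjAct]
    constructor
    · intro h
      exact Cfsg.Agent.Lib.Helper24.M11Vec.isConj_of_invol hG s t h ht
    · intro h
      show orderOf s = 2
      rw [Cfsg.Agent.Lib.Helper24.M11Inv.orderOf_eq_of_isConj h, ht]
  show Nat.card ↥{s : G | orderOf s = 2} = 165
  rw [Nat.card_coe_set_eq, hset, ← MulAction.index_stabilizer]
  have h1 := Subgroup.card_mul_index (MulAction.stabilizer (ConjAct G) t)
  rw [← Subgroup.nat_card_centralizer_nat_card_stabilizer, h48] at h1
  have h2 : Nat.card (ConjAct G) = 7920 := hG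
  rw [h2] at h1
  omega

/-- there are `990` elements of order `4` -/
theorem card_orderOf_four [IsSimpleGroup G] (hG : Nat.card G = 7920) :
    Nat.card {g : G // orderOf g = 4} = 990 := by
  classical
  haveI : Fintype {s : G // orderOf s = 2} := Fintype.ofFinite _
  have hsq2 : ∀ g : G, orderOf g = 4 → orderOf (g ^ 2) = 2 := by
    intro g hg
    rw [orderOf_pow_of_dvd (by norm_num) (by rw [hg]; norm_num), hg]
  have h4 : ∀ (g s : G), orderOf s = 2 → g ^ 2 = s → orderOf g = 4 := by
    intro g s hs hgs
    have hs1 : s ≠ 1 := by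
      intro h
      rw [h, orderOf_one] at hs
      omega
    have hs2 : s ^ 2 = 1 := by
      have := pow_orderOf_eq_one s
      rwa [hs] at this
    have := orderOf_eq_prime_pow (x := g) (p := 2) (n := 1)
      (by rw [pow_one, hgs]; exact hs1)
      (by rw [show 2 ^ (1 + 1) = 2 * 2 from rfl, pow_mul, hgs, hs2])
    simpa using this
  let f : {g : G // orderOf g = 4} → {s : G // orderOf s = 2} :=
    fun g => ⟨g.1 ^ 2, hsq2 g.1 g.2⟩
  rw [Nat.card_congr (Equiv.sigmaFiberEquiv f).symm, Nat.card_sigma]
  have hfib : ∀ s : {s : G // orderOf s = 2},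
      Nat.card {g : {g : G // orderOf g = 4} // f g = s} = 6 := by
    intro s
    rw [← card_sq_eq_invol hG s.1 s.2]
    apply Nat.card_congr
    exact
      { toFun := fun g => ⟨g.1.1, congrArg Subtype.val g.2⟩
        invFun := fun g => ⟨⟨g.1, h4 g.1 s.1 s.2 g.2⟩, Subtype.ext g.2⟩
        left_inv := fun g => rfl
        right_inv := fun g => rfl }
  rw [Finset.sum_congr rfl (fun s _ => hfib s), Finset.sum_const, Finset.card_univ,
    ← Nat.card_eq_fintype_card, card_invol hG]
  rfl

end Cfsg.Agent.Lib.Helper5.M11
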