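import Mathlib
import Cfsg.Agent.Lib.Helper5.M11FourC

/-!
# Simple groups of order 7920: numbers of elements of order 3, 5, 11 (helper5)

Generic: `card_isConj_mul_card_centralizer` (class size), `card_orderOf_prime_of_sylow` (elements of
order `p` when the Sylow `p`-subgroups have order `p`).
For simple `G` of order `7920`: `card_orderOf_three = 440`, `card_orderOf_five = 1584`,
`card_orderOf_eleven = 1440`.
-/

set_option autoImplicit false
set_option linter.unusedSectionVars false
set_option linter.style.haveILetI false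

namespace Cfsg.Agent.Lib.Helper5.M11

universe u

variable {G : Type u} [Group G] [Finite G]

/-- the size of a conjugacy class times the order of the centralizer is the group order -/
theorem card_isConj_mul_card_centralizer (t : G) :
    Nat.card {s : G // IsConj s t} * Nat.card ↥(Subgroup.centralizer ({t} : Set G)) =
      Nat.card G := by
  classical
  have hset : {s : G | IsConj s t} = MulAction.orbit (ConjAct G) t := by
    ext s
    rw [ConjAct.mem_orbit_conjAct]
    rfl
  show Nat.card ↥{s : G | IsConj s t} * _ = _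
  rw [Nat.card_coe_set_eq, hset, ← MulAction.index_stabilizer,
    Subgroup.nat_card_centralizer_nat_card_stabilizer, mul_comm]
  exact Subgroup.card_mul_index _

/-- if the Sylow `p`-subgroups have order `p`, there are `(p - 1) n_p` elements of order `p` -/
theorem card_orderOf_prime_of_sylow (p : ℕ) [Fact p.Prime]
    (hp : ∀ P : Sylow p G, Nat.card ↥(P : Subgroup G) = p) :
    Nat.card {g : G // orderOf g = p} = (p - 1) * Nat.card (Sylow p G) := by
  classical
  have hord : ∀ (P : Sylow p G) (g : G), g ∈ (P : Subgroup G) → g ≠ 1 → orderOf g = p := by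
    intro P g hg hg1
    have h1 : orderOf (⟨g, hg⟩ : ↥(P : Subgroup G)) ∣ Nat.card ↥(P : Subgroup G) :=
      orderOf_dvd_natCard _
    rw [hp P, Subgroup.orderOf_mk] at h1
    rcases (Nat.dvd_prime (Fact.out : p.Prime)).mp h1 with h | h
    · exact absurd (orderOf_eq_one_iff.mp h) hg1
    · exact h
  let φ : (Σ P : Sylow p G, {g : G // g ∈ (P : Subgroup G) ∧ g ≠ 1}) →
      {g : G // orderOf g = p} := fun x => ⟨x.2.1, hord x.1 x.2.1 x.2.2.1 x.2.2.2⟩
  have hφ : Function.Bijective φ := by
    constructor
    · rintro ⟨P, g, hg, hg1⟩ ⟨P', g', hg', hg'1⟩ h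
      have hgg : g = g' := congrArg Subtype.val h
      subst hgg
      have hP : P = P' := by
        have h1 : Subgroup.zpowers g = (P : Subgroup G) :=
          Subgroup.eq_of_le_of_card_ge (Subgroup.zpowers_le.mpr hg)
            (by rw [Nat.card_zpowers, hord P g hg hg1, hp P])
        have h2 : Subgroup.zpowers g = (P' : Subgroup G) :=
          Subgroup.eq_of_le_of_card_ge (Subgroup.zpowers_le.mpr hg')
            (by rw [Nat.card_zpowers, hord P' g hg' hg'1, hp P'])
        exact Sylow.ext (h1.symm.trans h2)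
      subst hP
      rfl
    · rintro ⟨g, hg⟩
      have hgp : IsPGroup p ↥(Subgroup.zpowers g) :=
        IsPGroup.of_card (n := 1) (by rw [Nat.card_zpowers, hg, pow_one])
      obtain ⟨P, hP⟩ := hgp.exists_le_sylow
      have hg1 : g ≠ 1 := by
        intro h
        rw [h, orderOf_one] at hg
        exact (Fact.out : p.Prime).one_lt.ne hg
      exact ⟨⟨P, g, hP (Subgroup.mem_zpowers g), hg1⟩, rfl⟩
  rw [← Nat.card_congr (Equiv.ofBijective φ hφ)]
  haveI : Fintype (Sylow p G) := Fintype.ofFinite _
  rw [Nat.card_sigma]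
  have hfib : ∀ P : Sylow p G, Nat.card {g : G // g ∈ (P : Subgroup G) ∧ g ≠ 1} = p - 1 := by
    intro P
    have hset : {g : G | g ∈ (P : Subgroup G) ∧ g ≠ 1} = ((P : Subgroup G) : Set G) \ {1} := by
      ext g
      rfl
    show Nat.card ↥{g : G | g ∈ (P : Subgroup G) ∧ g ≠ 1} = p - 1
    rw [Nat.card_coe_set_eq, hset,
      Set.ncard_diff (Set.singleton_subset_iff.mpr (P : Subgroup G).one_mem) (Set.toFinite _),
      Set.ncard_singleton, ← Nat.card_coe_set_eq]
    show Nat.card ↥(P : Subgroup G) - 1 = p - 1
    rw [hp P]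
  rw [Finset.sum_congr rfl (fun P _ => hfib P), Finset.sum_const, Finset.card_univ,
    ← Nat.card_eq_fintype_card, smul_eq_mul, mul_comm]

/-- there are `440` elements of order `3` -/
theorem card_orderOf_three [IsSimpleGroup G] (hG : Nat.card G = 7920) :
    Nat.card {g : G // orderOf g = 3} = 440 := by
  classical
  haveI : Fact (Nat.Prime 3) := ⟨Nat.prime_three⟩
  obtain ⟨z, hz⟩ := exists_prime_orderOf_dvd_card' (G := G) 3 (by rw [hG]; norm_num)
  have h18 := Cfsg.Agent.Lib.Helper24.M11Vec.card_centralizer_three hG z hz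
  have hreal : ∀ x : G, orderOf x = 3 → IsConj x x⁻¹ := by
    intro x hx
    obtain ⟨s, -, hs⟩ := exists_invol_inverting_order_three hG x hx
    exact isConj_iff.mpr ⟨s, hs⟩
  have e : {g : G // orderOf g = 3} ≃ {s : G // IsConj s z} :=
    Equiv.subtypeEquivRight (fun s =>
      ⟨fun h => Cfsg.Agent.Lib.Helper24.M11Three.isConj_of_real_order_three hG s z h hz
          (hreal s h) (hreal z hz),
        fun h => by rw [Cfsg.Agent.Lib.Helper24.M11Inv.orderOf_eq_of_isConj h, hz]⟩)
  rw [Nat.card_congr e]
  have := card_isConj_mul_card_centralizer z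
  rw [h18, hG] at this
  omega

/-- there are `1584` elements of order `5` -/
theorem card_orderOf_five [IsSimpleGroup G] (hG : Nat.card G = 7920) :
    Nat.card {g : G // orderOf g = 5} = 1584 := by
  classical
  haveI : Fact (Nat.Prime 5) := ⟨by norm_num⟩
  have hd := fun Q : Sylow 5 G => sylow5_data hG (no_order_ten_7920 hG) Q
  rw [card_orderOf_prime_of_sylow 5 (fun Q => (hd Q).1)]
  obtain ⟨Q⟩ : Nonempty (Sylow 5 G) := inferInstance
  rw [Sylow.card_eq_index_normalizer Q]
  have h1 := Subgroup.card_mul_index (Subgroup.normalizer ((Q : Subgroup G) : Set G))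
  rw [(hd Q).2.1, hG] at h1
  have h2 : (Subgroup.normalizer ((Q : Subgroup G) : Set G)).index = 396 := by omega
  show (5 - 1) * (Subgroup.normalizer ((Q : Subgroup G) : Set G)).index = 1584
  rw [h2]

/-- there are `1440` elements of order `11` -/
theorem card_orderOf_eleven [IsSimpleGroup G] (hG : Nat.card G = 7920) :
    Nat.card {g : G // orderOf g = 11} = 1440 := by
  classical
  haveI : Fact (Nat.Prime 11) := ⟨by norm_num⟩
  have hd := fun Q : Sylow 11 G => sylow11_data hG Q
  rw [card_orderOf_prime_of_sylow 11 (fun Q => (hd Q).1)]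
  obtain ⟨Q⟩ : Nonempty (Sylow 11 G) := inferInstance
  rw [Sylow.card_eq_index_normalizer Q]
  have h1 := Subgroup.card_mul_index (Subgroup.normalizer ((Q : Subgroup G) : Set G))
  rw [(hd Q).2.1, hG] at h1
  have h2 : (Subgroup.normalizer ((Q : Subgroup G) : Set G)).index = 144 := by omega
  show (11 - 1) * (Subgroup.normalizer ((Q : Subgroup G) : Set G)).index = 1440
  rw [h2]

end Cfsg.Agent.Lib.Helper5.M11
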