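import Mathlib
import Cfsg.Agent.Lib.Helper5.M11NseA

/-!
# Simple groups of order 7920: the elements of order 6 (helper5)

`card_invol_comm_three`: an element of order `3` commutes with exactly three involutions;
`card_orderOf_six`: there are `1320` elements of order `6`.
-/

set_option autoImplicit false
set_option linter.unusedSectionVars false
set_option linter.style.haveILetI false

namespace Cfsg.Agent.Lib.Helper5.M11

universe u

variable {G : Type u} [Group G] [Finite G]

set_option maxHeartbeats 1600000 in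
/-- an element of order `3` commutes with exactly three involutions -/
theorem card_invol_comm_three [IsSimpleGroup G] (hG : Nat.card G = 7920) (z : G)
    (hz : orderOf z = 3) : Nat.card {s : G // orderOf s = 2 ∧ s * z = z * s} = 3 := by
  classical
  haveI : Fact (Nat.Prime 2) := ⟨Nat.prime_two⟩
  haveI : Fact (Nat.Prime 3) := ⟨Nat.prime_three⟩
  have hzp : IsPGroup 3 ↥(Subgroup.zpowers z) :=
    IsPGroup.of_card (n := 1) (by rw [Nat.card_zpowers, hz, pow_one])
  obtain ⟨P, hP⟩ := hzp.exists_le_sylow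
  have hzP : z ∈ (P : Subgroup G) := hP (Subgroup.mem_zpowers z)
  have hP9 := card_sylow3 hG P
  have hcommP := sylow3_comm hG P
  have hCT : Subgroup.centralizer ((P : Subgroup G) : Set G) = (P : Subgroup G) := by
    symm
    apply Subgroup.eq_of_le_of_card_ge (sylow3_le_centralizer hG P)
    rw [card_centralizer_sylow3 hG P, hP9]
  set C := Subgroup.centralizer ({z} : Set G) with hC
  have h18 : Nat.card ↥C = 18 := Cfsg.Agent.Lib.Helper24.M11Vec.card_centralizer_three hG z hz
  have hmemC : ∀ g : G, g ∈ C ↔ g * z = z * g := by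
    intro g
    rw [hC, Subgroup.mem_centralizer_iff]
    constructor
    · intro h
      exact (h z rfl).symm
    · intro h x hx
      rw [Set.mem_singleton_iff.mp hx]
      exact h.symm
  have hPC : (P : Subgroup G) ≤ C := fun x hx => (hmemC x).mpr (hcommP x hx z hzP)
  have hz1 : z ≠ 1 := by
    intro h
    rw [h, orderOf_one] at hz
    omega
  have hz3 : z ^ 3 = 1 := by rw [← hz]; exact pow_orderOf_eq_one z
  -- an involution in `C`
  obtain ⟨s0', hs0'⟩ := exists_prime_orderOf_dvd_card' (G := ↥C) 2 (by rw [h18]; norm_num)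
  obtain ⟨s0, hs0def⟩ : ∃ s0 : G, s0 = (s0' : G) := ⟨_, rfl⟩
  have hs0C : s0 ∈ C := by rw [hs0def]; exact s0'.2
  have hs0 : orderOf s0 = 2 := by rw [hs0def, Subgroup.orderOf_coe, hs0']
  have hs0z : s0 * z = z * s0 := (hmemC s0).mp hs0C
  have hs02 : s0 * s0 = 1 := by
    have := pow_orderOf_eq_one s0
    rwa [hs0, pow_two] at this
  have hs0i : s0⁻¹ = s0 := inv_eq_of_mul_eq_one_left hs02
  have hnotP : ∀ s : G, orderOf s = 2 → s ∉ (P : Subgroup G) := by
    intro s hs hsP
    have h1 : orderOf (⟨s, hsP⟩ : ↥(P : Subgroup G)) ∣ Nat.card ↥(P : Subgroup G) :=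
      orderOf_dvd_natCard _
    rw [hP9, Subgroup.orderOf_mk, hs] at h1
    omega
  have hidx : ((P : Subgroup G).subgroupOf C).index = 2 := by
    have h1 := Subgroup.card_mul_index ((P : Subgroup G).subgroupOf C)
    rw [Nat.card_congr (Subgroup.subgroupOfEquivOfLe hPC).toEquiv, hP9, h18] at h1
    omega
  haveI hnorm : ((P : Subgroup G).subgroupOf C).Normal := Subgroup.normal_of_index_eq_two hidx
  have hconjP : ∀ x ∈ (P : Subgroup G), s0 * x * s0⁻¹ ∈ (P : Subgroup G) := by
    intro x hx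
    have h1 : (⟨x, hPC hx⟩ : ↥C) ∈ (P : Subgroup G).subgroupOf C := Subgroup.mem_subgroupOf.mpr hx
    have h2 := hnorm.conj_mem _ h1 ⟨s0, hs0C⟩
    exact Subgroup.mem_subgroupOf.mp h2
  -- the subgroup of inverted elements
  let I : Subgroup G :=
    { carrier := {x | x ∈ (P : Subgroup G) ∧ s0 * x * s0⁻¹ = x⁻¹}
      mul_mem' := by
        rintro a b ⟨ha, ha'⟩ ⟨hb, hb'⟩
        refine ⟨(P : Subgroup G).mul_mem ha hb, ?_⟩
        calc s0 * (a * b) * s0⁻¹ = (s0 * a * s0⁻¹) * (s0 * b * s0⁻¹) := by group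
          _ = a⁻¹ * b⁻¹ := by rw [ha', hb']
          _ = (b * a)⁻¹ := by group
          _ = (a * b)⁻¹ := by rw [hcommP a ha b hb]
      one_mem' := ⟨(P : Subgroup G).one_mem, by group⟩
      inv_mem' := by
        rintro a ⟨ha, ha'⟩
        refine ⟨(P : Subgroup G).inv_mem ha, ?_⟩
        calc s0 * a⁻¹ * s0⁻¹ = (s0 * a * s0⁻¹)⁻¹ := by group
          _ = a⁻¹⁻¹ := by rw [ha'] }
  have hmemI : ∀ x : G, x ∈ I ↔ x ∈ (P : Subgroup G) ∧ s0 * x * s0⁻¹ = x⁻¹ := fun x => Iff.rfl
  have hIP : I ≤ (P : Subgroup G) := fun x hx => ((hmemI x).mp hx).1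
  have hIdvd : Nat.card ↥I ∣ 9 := by
    rw [← hP9]
    exact Subgroup.card_dvd_of_le hIP
  have hI9 : Nat.card ↥I ≠ 9 := by
    intro h
    have hIeq : I = (P : Subgroup G) := Subgroup.eq_of_le_of_card_ge hIP (by rw [h, hP9])
    have hzI : z ∈ I := by rw [hIeq]; exact hzP
    have h1 := ((hmemI z).mp hzI).2
    have h2 : s0 * z * s0⁻¹ = z := by rw [hs0z, mul_inv_cancel_right]
    rw [h2] at h1
    have h3 : z ^ 2 = 1 := by
      rw [pow_two]
      nth_rewrite 1 [h1]
      exact inv_mul_cancel z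
    have h4 := orderOf_dvd_of_pow_eq_one h3
    rw [hz] at h4
    omega
  have hI1 : Nat.card ↥I ≠ 1 := by
    intro h
    have hbot := Subgroup.eq_bot_of_card_eq I h
    -- some element of `P` is moved by `s0`
    have hex : ∃ x ∈ (P : Subgroup G), s0 * x * s0⁻¹ ≠ x := by
      by_contra hno
      push Not at hno
      have hs0cent : s0 ∈ Subgroup.centralizer ((P : Subgroup G) : Set G) := by
        rw [Subgroup.mem_centralizer_iff]
        intro x hx
        exact (mul_inv_eq_iff_eq_mul.mp (hno x hx)).symm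
      rw [hCT] at hs0cent
      exact hnotP s0 hs0 hs0cent
    obtain ⟨x, hxP, hx⟩ := hex
    have hyP := hconjP x hxP
    have hw : x⁻¹ * (s0 * x * s0⁻¹) ∈ I := by
      rw [hmemI]
      refine ⟨(P : Subgroup G).mul_mem ((P : Subgroup G).inv_mem hxP) hyP, ?_⟩
      calc s0 * (x⁻¹ * (s0 * x * s0⁻¹)) * s0⁻¹
          = (s0 * x * s0⁻¹)⁻¹ * ((s0 * s0) * x * (s0 * s0)⁻¹) := by group
        _ = (s0 * x * s0⁻¹)⁻¹ * x := by rw [hs02]; group
        _ = (x⁻¹ * (s0 * x * s0⁻¹))⁻¹ := by group
    rw [hbot, Subgroup.mem_bot] at hw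
    apply hx
    calc s0 * x * s0⁻¹ = x * (x⁻¹ * (s0 * x * s0⁻¹)) := by group
      _ = x := by rw [hw, mul_one]
  have hI3 : Nat.card ↥I = 3 := by
    have hle : Nat.card ↥I ≤ 9 := Nat.le_of_dvd (by norm_num) hIdvd
    generalize Nat.card ↥I = n at *
    interval_cases n <;> omega
  -- the bijection
  rw [← hI3]
  symm
  apply Nat.card_congr
  refine Equiv.ofBijective (fun x : ↥I => ⟨(x : G) * s0, ?_, ?_⟩) ⟨?_, ?_⟩
  · have hx := (hmemI x.1).mp x.2
    have hsq : ((x : G) * s0) ^ 2 = 1 := by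
      rw [pow_two]
      calc (x : G) * s0 * ((x : G) * s0) = (x : G) * (s0 * (x : G) * s0⁻¹) * (s0 * s0) := by group
        _ = 1 := by rw [hx.2, hs02, mul_inv_cancel, one_mul]
    have hne : (x : G) * s0 ≠ 1 := by
      intro h
      have h1 : s0 = (x : G)⁻¹ := eq_inv_of_mul_eq_one_right h
      exact hnotP s0 hs0 (by rw [h1]; exact (P : Subgroup G).inv_mem hx.1)
    exact orderOf_eq_prime hsq hne
  · have hx := (hmemI x.1).mp x.2
    have hxz : (x : G) * z = z * (x : G) := hcommP _ hx.1 z hzP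
    calc (x : G) * s0 * z = (x : G) * (s0 * z) := by group
      _ = (x : G) * (z * s0) := by rw [hs0z]
      _ = ((x : G) * z) * s0 := by group
      _ = (z * (x : G)) * s0 := by rw [hxz]
      _ = z * ((x : G) * s0) := by group
  · intro x y h
    have h1 : (x : G) * s0 = (y : G) * s0 := congrArg Subtype.val h
    exact Subtype.ext (mul_right_cancel h1)
  · rintro ⟨s, hs, hsz⟩
    have hsC : s ∈ C := (hmemC s).mpr hsz
    have hs2 : s * s = 1 := by
      have := pow_orderOf_eq_one s
      rwa [hs, pow_two] at this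
    have hsi : s⁻¹ = s := inv_eq_of_mul_eq_one_left hs2
    have hmem : ((⟨s, hsC⟩ : ↥C) * ⟨s0, hs0C⟩) ∈ (P : Subgroup G).subgroupOf C := by
      rw [Subgroup.mul_mem_iff_of_index_two hidx]
      simp only [Subgroup.mem_subgroupOf]
      exact ⟨fun h => absurd h (hnotP s hs), fun h => absurd h (hnotP s0 hs0)⟩
    have hxP : s * s0 ∈ (P : Subgroup G) := Subgroup.mem_subgroupOf.mp hmem
    have hxI : s * s0 ∈ I := by
      rw [hmemI]
      refine ⟨hxP, ?_⟩
      calc s0 * (s * s0) * s0⁻¹ = s0 * s * (s0 * s0⁻¹) := by group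
        _ = s0⁻¹ * s⁻¹ := by rw [mul_inv_cancel, mul_one, hs0i, hsi]
        _ = (s * s0)⁻¹ := by group
    refine ⟨⟨s * s0, hxI⟩, ?_⟩
    apply Subtype.ext
    show s * s0 * s0 = s
    rw [mul_assoc, hs02, mul_one]

/-- there are `1320` elements of order `6` -/
theorem card_orderOf_six [IsSimpleGroup G] (hG : Nat.card G = 7920) :
    Nat.card {g : G // orderOf g = 6} = 1320 := by
  classical
  haveI : Fintype {z : G // orderOf z = 3} := Fintype.ofFinite _
  haveI : Fact (Nat.Prime 2) := ⟨Nat.prime_two⟩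
  have h4 : ∀ g : G, orderOf g = 6 → orderOf (g ^ 4) = 3 := by
    intro g hg
    rw [orderOf_pow' g (by norm_num), hg]
    rfl
  have h3 : ∀ g : G, orderOf g = 6 → orderOf (g ^ 3) = 2 := by
    intro g hg
    rw [orderOf_pow_of_dvd (by norm_num) (by rw [hg]; norm_num), hg]
  let f : {g : G // orderOf g = 6} → {z : G // orderOf z = 3} :=
    fun g => ⟨g.1 ^ 4, h4 g.1 g.2⟩
  rw [Nat.card_congr (Equiv.sigmaFiberEquiv f).symm, Nat.card_sigma]
  have hfib : ∀ z : {z : G // orderOf z = 3},
      Nat.card {g : {g : G // orderOf g = 6} // f g = z} = 3 := by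
    intro z
    refine Eq.trans ?_ (card_invol_comm_three hG z.1 z.2)
    have hz3 : (z : G) ^ 3 = 1 := by
      have := pow_orderOf_eq_one (z : G)
      rwa [z.2] at this
    apply Nat.card_congr
    refine
      { toFun := fun g => ⟨g.1.1 ^ 3, h3 g.1.1 g.1.2, ?_⟩
        invFun := fun s => ⟨⟨(z : G) * s.1, ?_⟩, ?_⟩
        left_inv := ?_
        right_inv := ?_ }
    · have hgz : g.1.1 ^ 4 = (z : G) := congrArg Subtype.val g.2
      rw [← hgz, ← pow_add, ← pow_add]
    · have hcomm : Commute (z : G) s.1 := s.2.2.symm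
      rw [hcomm.orderOf_mul_eq_mul_orderOf_of_coprime (by rw [z.2, s.2.1]; norm_num), z.2, s.2.1]
    · apply Subtype.ext
      show ((z : G) * s.1) ^ 4 = (z : G)
      have hcomm : Commute (z : G) s.1 := s.2.2.symm
      have hs2 : s.1 ^ 2 = 1 := by
        have := pow_orderOf_eq_one s.1
        rwa [s.2.1] at this
      rw [hcomm.mul_pow, show 4 = 3 + 1 from rfl, pow_succ (z : G), hz3, one_mul,
        show 3 + 1 = 2 * 2 from rfl, pow_mul, hs2, one_pow, mul_one]
    · intro g
      apply Subtype.ext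
      apply Subtype.ext
      have hgz : g.1.1 ^ 4 = (z : G) := congrArg Subtype.val g.2
      have hg6 : g.1.1 ^ 6 = 1 := by
        have := pow_orderOf_eq_one g.1.1
        rwa [g.1.2] at this
      show (z : G) * g.1.1 ^ 3 = g.1.1
      rw [← hgz, ← pow_add, show 4 + 3 = 6 + 1 from rfl, pow_succ, hg6, one_mul]
    · intro s
      apply Subtype.ext
      have hcomm : Commute (z : G) s.1 := s.2.2.symm
      have hs2 : s.1 ^ 2 = 1 := by
        have := pow_orderOf_eq_one s.1
        rwa [s.2.1] at this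
      have hs3 : s.1 ^ 3 = s.1 := by
        calc s.1 ^ 3 = s.1 ^ 2 * s.1 := pow_succ s.1 2
          _ = s.1 := by rw [hs2, one_mul]
      show ((z : G) * s.1) ^ 3 = s.1
      rw [hcomm.mul_pow, hz3, one_mul, hs3]
  rw [Finset.sum_congr rfl (fun z _ => hfib z), Finset.sum_const, Finset.card_univ,
    ← Nat.card_eq_fintype_card, card_orderOf_three hG]
  rfl

end Cfsg.Agent.Lib.Helper5.M11
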