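import Mathlib
import Cfsg.Agent.Lib.Helper5.M11NseB

/-!
# Simple groups of order 7920: element orders and the numbers of elements of each order (helper5)

* `orderOf_mem_7920`: element orders are `1, 2, 3, 4, 5, 6, 8, 11`;
* `card_orderOf_eight`: `1980` elements of order `8`;
* `nse_7920`: the set of numbers of elements of a given order is
  `{1, 165, 440, 990, 1584, 1320, 1980, 1440}`.
-/

set_option autoImplicit false
set_option linter.unusedSectionVars false
set_option linter.style.haveILetI false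

namespace Cfsg.Agent.Lib.Helper5.M11

universe u

variable {G : Type u} [Group G] [Finite G]

theorem exists_pow_orderOf_eq (g : G) (d : ℕ) (hd : d ∣ orderOf g) :
    ∃ k : ℕ, orderOf (g ^ k) = d := by
  have hn0 : 0 < orderOf g := orderOf_pos g
  have hd0 : 0 < d := Nat.pos_of_dvd_of_pos hd hn0
  have hkd : orderOf g / d ∣ orderOf g := Nat.div_dvd_of_dvd hd
  have hk0 : orderOf g / d ≠ 0 := by
    intro h
    have hle := Nat.le_of_dvd hn0 hd
    rcases Nat.div_eq_zero_iff.mp h with h' | h'
    · omega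
    · omega
  exact ⟨orderOf g / d, by rw [orderOf_pow_of_dvd hk0 hkd, Nat.div_div_self hd hn0.ne']⟩

theorem card_orderOf_one : Nat.card {g : G // orderOf g = 1} = 1 := by
  haveI : Subsingleton {g : G // orderOf g = 1} :=
    ⟨fun a b => Subtype.ext ((orderOf_eq_one_iff.mp a.2).trans (orderOf_eq_one_iff.mp b.2).symm)⟩
  haveI : Nonempty {g : G // orderOf g = 1} := ⟨⟨1, orderOf_one⟩⟩
  exact Nat.card_unique

/-- if the Sylow `p`-subgroups have order `p` and are self-centralizing, every element of order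
divisible by `p` has order `p` -/
theorem orderOf_eq_prime_of_dvd (p : ℕ) [Fact p.Prime]
    (hp : ∀ P : Sylow p G, Nat.card ↥(P : Subgroup G) = p ∧
      Nat.card ↥(Subgroup.centralizer ((P : Subgroup G) : Set G)) = p)
    (g : G) (hg : p ∣ orderOf g) : orderOf g = p := by
  obtain ⟨k, hx⟩ := exists_pow_orderOf_eq g p hg
  have hxp : IsPGroup p ↥(Subgroup.zpowers (g ^ k)) :=
    IsPGroup.of_card (n := 1) (by rw [Nat.card_zpowers, hx, pow_one])
  obtain ⟨P, hP⟩ := hxp.exists_le_sylow
  have hPeq : Subgroup.zpowers (g ^ k) = (P : Subgroup G) :=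
    Subgroup.eq_of_le_of_card_ge hP (by rw [Nat.card_zpowers, hx, (hp P).1])
  have hgC : g ∈ Subgroup.centralizer ((P : Subgroup G) : Set G) := by
    rw [Subgroup.mem_centralizer_iff]
    intro h hh
    have hh' : h ∈ Subgroup.zpowers (g ^ k) := by rw [hPeq]; exact hh
    obtain ⟨j, rfl⟩ := Subgroup.mem_zpowers_iff.mp hh'
    exact (((Commute.refl g).pow_left k).zpow_left j).eq
  have h1 : orderOf (⟨g, hgC⟩ : ↥(Subgroup.centralizer ((P : Subgroup G) : Set G))) ∣
      Nat.card ↥(Subgroup.centralizer ((P : Subgroup G) : Set G)) := orderOf_dvd_natCard _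
  rw [(hp P).2, Subgroup.orderOf_mk] at h1
  rcases (Nat.dvd_prime Fact.out).mp h1 with h | h
  · rw [h] at hg
    have h2 := Nat.le_of_dvd one_pos hg
    have h3 := (Fact.out : p.Prime).two_le
    omega
  · exact h

/-- no elements of order `16`: a cyclic Sylow `2`-subgroup would have a normal complement -/
theorem no_order_sixteen [IsSimpleGroup G] (hG : Nat.card G = 7920) (y : G)
    (hy : orderOf y = 16) : False := by
  classical
  haveI : Fact (Nat.Prime 2) := ⟨Nat.prime_two⟩
  have hfac : (Nat.card G).factorization 2 = 4 := by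
    rw [hG, show (7920 : ℕ) = 2 ^ 4 * 495 from rfl,
      Nat.factorization_mul (by norm_num) (by norm_num)]
    simp only [Finsupp.coe_add, Pi.add_apply]
    rw [Nat.prime_two.factorization_pow, Finsupp.single_eq_same,
      Nat.factorization_eq_zero_of_not_dvd (by norm_num)]
  have hcard : Nat.card ↥(Subgroup.zpowers y) = 2 ^ (Nat.card G).factorization 2 := by
    rw [Nat.card_zpowers, hy, hfac]
    norm_num
  obtain ⟨P, hP⟩ : ∃ P : Sylow 2 G, (P : Subgroup G) = Subgroup.zpowers y :=
    ⟨Sylow.ofCard (Subgroup.zpowers y) hcard, Sylow.coe_ofCard _ _⟩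
  have hcyc : IsCyclic ↥(P : Subgroup G) := by
    rw [hP]
    exact Subgroup.isCyclic_zpowers y
  have hmin : (Nat.card G).minFac = 2 := by
    rw [hG]
    norm_num
  have hcomp := IsCyclic.isComplement' hmin hcyc
  obtain ⟨K, hKn, hK⟩ : ∃ K : Subgroup G, K.Normal ∧ K.IsComplement' (P : Subgroup G) :=
    ⟨_, MonoidHom.normal_ker _, hcomp⟩
  have hmul := hK.card_mul_card
  have hP16 : Nat.card ↥(P : Subgroup G) = 16 := by rw [hP, Nat.card_zpowers, hy]
  rw [hP16, hG] at hmul
  rcases IsSimpleGroup.eq_bot_or_eq_top_of_normal K hKn with h | h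
  · rw [h, Subgroup.card_bot] at hmul
    omega
  · rw [h, Subgroup.card_top, hG] at hmul
    omega

set_option maxHeartbeats 1600000 in
/-- the element orders of a simple group of order `7920` -/
theorem orderOf_mem_7920 [IsSimpleGroup G] (hG : Nat.card G = 7920) (g : G) :
    orderOf g = 1 ∨ orderOf g = 2 ∨ orderOf g = 3 ∨ orderOf g = 4 ∨ orderOf g = 5 ∨
      orderOf g = 6 ∨ orderOf g = 8 ∨ orderOf g = 11 := by
  classical
  haveI : Fact (Nat.Prime 3) := ⟨Nat.prime_three⟩
  haveI : Fact (Nat.Prime 5) := ⟨by norm_num⟩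
  haveI : Fact (Nat.Prime 11) := ⟨by norm_num⟩
  have hdvd : orderOf g ∣ 7920 := by
    rw [← hG]
    exact orderOf_dvd_natCard g
  by_cases h11 : 11 ∣ orderOf g
  · have := orderOf_eq_prime_of_dvd 11
      (fun P : Sylow 11 G => ⟨(sylow11_data hG P).1, (sylow11_data hG P).2.2.1⟩) g h11
    omega
  by_cases h5 : 5 ∣ orderOf g
  · have := orderOf_eq_prime_of_dvd 5
      (fun P : Sylow 5 G => ⟨(sylow5_data hG (no_order_ten_7920 hG) P).1,
        (sylow5_data hG (no_order_ten_7920 hG) P).2.2⟩) g h5
    omega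
  have h144 : orderOf g ∣ 144 := arith_dvd_144 _ hdvd h5 h11
  have h9 : ¬ 9 ∣ orderOf g := by
    intro h
    obtain ⟨k, hx⟩ := exists_pow_orderOf_eq g 9 h
    have hxp : IsPGroup 3 ↥(Subgroup.zpowers (g ^ k)) :=
      IsPGroup.of_card (n := 2) (by rw [Nat.card_zpowers, hx]; norm_num)
    obtain ⟨P, hP⟩ := hxp.exists_le_sylow
    have h3 := sylow3_pow_three hG P (g ^ k) (hP (Subgroup.mem_zpowers _))
    have h4 := orderOf_dvd_of_pow_eq_one h3
    rw [hx] at h4
    omega
  have h16 : ¬ 16 ∣ orderOf g := by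
    intro h
    obtain ⟨k, hx⟩ := exists_pow_orderOf_eq g 16 h
    exact no_order_sixteen hG _ hx
  have h12 : ¬ 12 ∣ orderOf g := by
    intro h
    obtain ⟨k, hx⟩ := exists_pow_orderOf_eq g 12 h
    obtain ⟨x, hxdef⟩ : ∃ x : G, x = g ^ k := ⟨_, rfl⟩
    rw [← hxdef] at hx
    have hz : orderOf (x ^ 4) = 3 := by
      rw [orderOf_pow_of_dvd (by norm_num) (by rw [hx]; norm_num), hx]
    have h18 := Cfsg.Agent.Lib.Helper24.M11Vec.card_centralizer_three hG (x ^ 4) hz
    have hxC : x ∈ Subgroup.centralizer ({x ^ 4} : Set G) := by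
      rw [Subgroup.mem_centralizer_iff]
      intro h hh
      rw [Set.mem_singleton_iff.mp hh]
      exact ((Commute.refl x).pow_left 4).eq
    have h1 : orderOf (⟨x, hxC⟩ : ↥(Subgroup.centralizer ({x ^ 4} : Set G))) ∣
        Nat.card ↥(Subgroup.centralizer ({x ^ 4} : Set G)) := orderOf_dvd_natCard _
    rw [h18, Subgroup.orderOf_mk, hx] at h1
    omega
  have hle : orderOf g ≤ 144 := Nat.le_of_dvd (by norm_num) h144
  have hpos : 0 < orderOf g := orderOf_pos g
  generalize orderOf g = n at *
  clear hdvd h11 h5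
  interval_cases n <;> omega

set_option maxHeartbeats 1600000 in
/-- there are `1980` elements of order `8` -/
theorem card_orderOf_eight [IsSimpleGroup G] (hG : Nat.card G = 7920) :
    Nat.card {g : G // orderOf g = 8} = 1980 := by
  classical
  haveI : Fintype G := Fintype.ofFinite G
  have hmaps : Set.MapsTo (orderOf : G → ℕ) ↑(Finset.univ : Finset G)
      ↑({1, 2, 3, 4, 5, 6, 8, 11} : Finset ℕ) := by
    intro g _
    have := orderOf_mem_7920 hG g
    simp only [Finset.coe_insert, Finset.coe_singleton, Set.mem_insert_iff,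
      Set.mem_singleton_iff]
    exact this
  have hsum := Finset.card_eq_sum_card_fiberwise hmaps
  have hcnt : ∀ n : ℕ, (Finset.univ.filter (fun g : G => orderOf g = n)).card =
      Nat.card {g : G // orderOf g = n} := by
    intro n
    rw [Nat.card_eq_fintype_card, Fintype.card_subtype]
  simp only [hcnt] at hsum
  rw [Finset.card_univ, ← Nat.card_eq_fintype_card, hG] at hsum
  rw [Finset.sum_insert (by decide), Finset.sum_insert (by decide), Finset.sum_insert (by decide),
    Finset.sum_insert (by decide), Finset.sum_insert (by decide), Finset.sum_insert (by decide),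
    Finset.sum_insert (by decide), Finset.sum_singleton, card_orderOf_one, card_invol hG,
    card_orderOf_three hG, card_orderOf_four hG, card_orderOf_five hG, card_orderOf_six hG,
    card_orderOf_eleven hG] at hsum
  omega

/-- the set of numbers of elements of a given order -/
theorem nse_7920 [IsSimpleGroup G] (hG : Nat.card G = 7920) :
    {c : ℕ | 0 < c ∧ ∃ n : ℕ, c = Nat.card {g : G // orderOf g = n}} =
      {1, 165, 440, 990, 1584, 1320, 1980, 1440} := by
  ext c
  constructor
  · rintro ⟨hc, n, rfl⟩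
    have hne : Nonempty {g : G // orderOf g = n} := by
      by_contra h
      rw [not_nonempty_iff] at h
      rw [Nat.card_of_isEmpty] at hc
      exact lt_irrefl 0 hc
    obtain ⟨⟨g, hg⟩⟩ := hne
    show _ = 1 ∨ _ = 165 ∨ _ = 440 ∨ _ = 990 ∨ _ = 1584 ∨ _ = 1320 ∨ _ = 1980 ∨ _ = 1440
    rcases orderOf_mem_7920 hG g with h | h | h | h | h | h | h | h <;> rw [hg] at h <;> subst h
    · exact Or.inl card_orderOf_one
    · exact Or.inr (Or.inl (card_invol hG))
    · exact Or.inr (Or.inr (Or.inl (card_orderOf_three hG)))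
    · exact Or.inr (Or.inr (Or.inr (Or.inl (card_orderOf_four hG))))
    · exact Or.inr (Or.inr (Or.inr (Or.inr (Or.inl (card_orderOf_five hG)))))
    · exact Or.inr (Or.inr (Or.inr (Or.inr (Or.inr (Or.inl (card_orderOf_six hG))))))
    · exact Or.inr (Or.inr (Or.inr (Or.inr (Or.inr (Or.inr (Or.inl (card_orderOf_eight hG)))))))
    · exact Or.inr (Or.inr (Or.inr (Or.inr (Or.inr (Or.inr (Or.inr (card_orderOf_eleven hG)))))))
  · intro h
    have h' : c = 1 ∨ c = 165 ∨ c = 440 ∨ c = 990 ∨ c = 1584 ∨ c = 1320 ∨ c = 1980 ∨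
        c = 1440 := h
    rcases h' with h | h | h | h | h | h | h | h <;> subst h
    · exact ⟨by norm_num, 1, card_orderOf_one.symm⟩
    · exact ⟨by norm_num, 2, (card_invol hG).symm⟩
    · exact ⟨by norm_num, 3, (card_orderOf_three hG).symm⟩
    · exact ⟨by norm_num, 4, (card_orderOf_four hG).symm⟩
    · exact ⟨by norm_num, 5, (card_orderOf_five hG).symm⟩
    · exact ⟨by norm_num, 6, (card_orderOf_six hG).symm⟩
    · exact ⟨by norm_num, 8, (card_orderOf_eight hG).symm⟩
    · exact ⟨by norm_num, 11, (card_orderOf_eleven hG).symm⟩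

end Cfsg.Agent.Lib.Helper5.M11
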