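/-
helper5: S4017 market (planner helper26), leaf MIX-BSW `bsw_data` (exact name + binders).
= `MIXBSWOf.bsw_data_core` at `T = θ t` with CORELE (helper2), STRUCT (helper9), INV (helper23),
TI (helper23 `MIXTIOf.core_TI_of` over helper9's CY).
-/
import Mathlib
import Cfsg.Prelude.Def_Local
import Cfsg.Agent.Lib.Helper26.MixDefs
import Cfsg.Agent.Lib.Helper8.AbInvA
import Cfsg.Agent.Lib.Helper5.MIXBSWOf
import Cfsg.Agent.Lib.Helper2.MIXCORELE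
import Cfsg.Agent.Lib.Helper9.MIXSTRUCT
import Cfsg.Agent.Lib.Helper9.MIXCY
import Cfsg.Agent.Lib.Helper23.MIXINV
import Cfsg.Agent.Lib.Helper23.MIXTIOf

set_option autoImplicit false

namespace Cfsg.Agent.Lib.Helper5.MIXBSW

open Cfsg Cfsg.Agent.Lib.Helper26.Mix

universe u

variable {G : Type u} [Group G] [Finite G] {p a : ℕ} {Q : Subgroup G} {g : G}

/-- the hypothesis `C_{θ t}(Q) = 1` for all `t ∈ Q \ 1` -/
def P0Triv (G : Type u) [Group G] (Q : Subgroup G) : Prop :=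
  ∀ t ∈ Q, t ≠ 1 → ∀ z ∈ centralizerPPrimeCore 2 t, (∀ u ∈ Q, z * u = u * z) → z = 1

/-- BSW : the hypotheses of S3282 hold for `K = θ t <t>`, `s ∈ Q \ <t>`; its conclusion. -/
theorem bsw_data (c : Ctx G p a Q g) (hsimple : Simple G) (ha2 : a = 2) (h0 : P0Triv G Q)
    (t : G) (ht : t ∈ Q) (ht1 : t ≠ 1) (hne : centralizerPPrimeCore 2 t ≠ ⊥) :
    ∃ Q1 D : Subgroup G,
      2 * Nat.card G = Nat.card ↥Q1 * (Nat.card ↥Q1 + 1) * (Nat.card ↥Q1 - 1) ∧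
      (∀ x ∈ Q1, x ≠ 1 → Subgroup.centralizer ({x} : Set G) = Q1) ∧
      IsMulCommutative ↥D ∧ 2 * Nat.card ↥D + 1 = Nat.card ↥Q1 ∧ Q1 ⊓ D = ⊥ ∧
      Subgroup.normalizer (Q1 : Set G) = Q1 ⊔ D ∧
      ∀ X : Subgroup G, X ≤ D → X ≠ ⊥ →
        Subgroup.normalizer (X : Set G) = Subgroup.normalizer (D : Set G) ∧
        ∃ u : G, orderOf u = 2 ∧ u ∉ D ∧ (∀ d ∈ D, u * d * u⁻¹ = d⁻¹) ∧
          Subgroup.normalizer (D : Set G) = D ⊔ Subgroup.zpowers u := by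
  have hcore := Cfsg.Agent.Lib.Helper2.MIXCORELE.core_basic t
  have hstruct := Cfsg.Agent.Lib.Helper9.MIXSTRUCT.cent_structure c t ht ht1
  exact Cfsg.Agent.Lib.Helper5.MIXBSWOf.bsw_data_core c ha2 t ht ht1 (centralizerPPrimeCore 2 t)
    hcore.1 hcore.2.2 hstruct.1 hstruct.2.1
    (fun s hs hs1 hst =>
      Cfsg.Agent.Lib.Helper23.MIXINV.inverts_of_P0Triv c ha2 h0 t ht ht1 s hs hs1 hst)
    (fun x hx => Cfsg.Agent.Lib.Helper23.MIXTIOf.core_TI_of t ht1 (c.hQexp t ht)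
      (fun y hy hy1 x' hx' =>
        Cfsg.Agent.Lib.Helper9.MIXCY.centralizer_of_mem_core c hsimple ha2 h0 t ht ht1 y hy hy1 x' hx')
      x hx)

end Cfsg.Agent.Lib.Helper5.MIXBSW
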