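import Mathlib

/-!
Explicit finite subgroups of `GL (Fin 2) (ZMod p)` given by lists of quadruples of naturals
(for kernel-friendly `decide`), and regularity on the non-zero vectors.
-/

set_option autoImplicit false

namespace Cfsg.Agent.Lib.Helper5.MatList

open Matrix

/-- a 2x2 matrix `!![a, b; c, d]` as a quadruple of naturals -/
abbrev T := ℕ × ℕ × ℕ × ℕ

def oneT : T := (1, 0, 0, 1)

def mulT (p : ℕ) (x y : T) : T :=
  ((x.1 * y.1 + x.2.1 * y.2.2.1) % p, (x.1 * y.2.1 + x.2.1 * y.2.2.2) % p,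
   (x.2.2.1 * y.1 + x.2.2.2 * y.2.2.1) % p, (x.2.2.1 * y.2.1 + x.2.2.2 * y.2.2.2) % p)

def toMat (p : ℕ) (x : T) : Matrix (Fin 2) (Fin 2) (ZMod p) :=
  !![(x.1 : ZMod p), (x.2.1 : ZMod p); (x.2.2.1 : ZMod p), (x.2.2.2 : ZMod p)]

lemma toMat_oneT (p : ℕ) : toMat p oneT = 1 := by
  ext i j
  fin_cases i <;> fin_cases j <;> simp [toMat, oneT]

lemma toMat_mulT (p : ℕ) (x y : T) : toMat p (mulT p x y) = toMat p x * toMat p y := by
  ext i j
  fin_cases i <;> fin_cases j <;>
    simp [toMat, mulT, Matrix.mul_apply, Fin.sum_univ_two, ZMod.natCast_mod]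

def red (p : ℕ) (x : T) : Prop := x.1 < p ∧ x.2.1 < p ∧ x.2.2.1 < p ∧ x.2.2.2 < p

instance (p : ℕ) : DecidablePred (red p) := fun x => by unfold red; infer_instance

lemma natCast_inj_of_lt {p a b : ℕ} (ha : a < p) (hb : b < p)
    (h : (a : ZMod p) = (b : ZMod p)) : a = b := by
  have := (ZMod.natCast_eq_natCast_iff' a b p).1 h
  rwa [Nat.mod_eq_of_lt ha, Nat.mod_eq_of_lt hb] at this

lemma toMat_inj {p : ℕ} {x y : T} (hx : red p x) (hy : red p y)
    (h : toMat p x = toMat p y) : x = y := by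
  obtain ⟨a, b, c, d⟩ := x
  obtain ⟨a', b', c', d'⟩ := y
  obtain ⟨h1, h2, h3, h4⟩ := hx
  obtain ⟨h1', h2', h3', h4'⟩ := hy
  have e00 := congrFun (congrFun h 0) 0
  have e01 := congrFun (congrFun h 0) 1
  have e10 := congrFun (congrFun h 1) 0
  have e11 := congrFun (congrFun h 1) 1
  simp [toMat] at e00 e01 e10 e11
  simp only [Prod.mk.injEq]
  exact ⟨natCast_inj_of_lt h1 h1' e00, natCast_inj_of_lt h2 h2' e01,
    natCast_inj_of_lt h3 h3' e10, natCast_inj_of_lt h4 h4' e11⟩

lemma red_mulT {p : ℕ} (hp : 0 < p) (x y : T) : red p (mulT p x y) :=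
  ⟨Nat.mod_lt _ hp, Nat.mod_lt _ hp, Nat.mod_lt _ hp, Nat.mod_lt _ hp⟩

/-- evaluation of a word in the generators -/
def ev (p : ℕ) (gens : List T) (w : List ℕ) : T :=
  w.foldr (fun i acc => mulT p (gens.getD i oneT) acc) oneT

/-- the "no eigenvalue one" test: `det (m - 1) ≠ 0` -/
def fpf (p : ℕ) (x : T) : Prop :=
  ((x.1 + (p - 1)) * (x.2.2.2 + (p - 1))) % p ≠ (x.2.1 * x.2.2.1) % p

instance (p : ℕ) : DecidablePred (fpf p) := fun x => by unfold fpf; infer_instance

lemma natCast_pred (p : ℕ) (hp : 0 < p) : ((p - 1 : ℕ) : ZMod p) = -1 := by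
  rw [Nat.cast_sub hp]
  simp

lemma det_sub_one_ne_zero {p : ℕ} (hp : 0 < p) {x : T} (h : fpf p x) :
    (toMat p x - 1).det ≠ 0 := by
  intro h0
  apply h
  rw [Matrix.det_fin_two] at h0
  simp [toMat] at h0
  apply (ZMod.natCast_eq_natCast_iff' _ _ p).1
  push_cast
  rw [natCast_pred p hp]
  linear_combination h0

section Closure

variable {p : ℕ} [Fact p.Prime]

/-- Upper bound: every element of the closure is in the list. -/
theorem mem_list_of_mem_closure (S : Set (GL (Fin 2) (ZMod p))) (gens : List T) (L : List T)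
    (hS : ∀ g ∈ S, ∃ t ∈ gens, (g : Matrix (Fin 2) (Fin 2) (ZMod p)) = toMat p t)
    (hone : oneT ∈ L)
    (hclosed : ∀ t ∈ gens, ∀ x ∈ L, mulT p t x ∈ L)
    (h : GL (Fin 2) (ZMod p)) (hh : h ∈ Subgroup.closure S) :
    ∃ x ∈ L, (h : Matrix (Fin 2) (Fin 2) (ZMod p)) = toMat p x := by
  have hpow : ∀ g ∈ S, ∀ n : ℕ, ∀ y : GL (Fin 2) (ZMod p),
      (∃ x ∈ L, (y : Matrix (Fin 2) (Fin 2) (ZMod p)) = toMat p x) →
      ∃ x ∈ L, ((g ^ n * y : GL (Fin 2) (ZMod p)) : Matrix (Fin 2) (Fin 2) (ZMod p)) = toMat p x := by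
    intro g hg n
    induction n with
    | zero => intro y hy; simpa using hy
    | succ n ih =>
      intro y hy
      obtain ⟨x, hx, hxy⟩ := ih y hy
      obtain ⟨t, ht, hgt⟩ := hS g hg
      refine ⟨mulT p t x, hclosed t ht x hx, ?_⟩
      rw [toMat_mulT, ← hgt, ← hxy, pow_succ', mul_assoc]
      rfl
  induction hh using Subgroup.closure_induction_left with
  | one => exact ⟨oneT, hone, by rw [toMat_oneT]; rfl⟩
  | mul_left g hg y _ ih =>
    have := hpow g hg 1 y ih
    simpa using this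
  | inv_mul_cancel g hg y _ ih =>
    have h1 : g⁻¹ = g ^ (orderOf g - 1) := by
      have hpos : 0 < orderOf g := orderOf_pos g
      apply inv_eq_of_mul_eq_one_right
      rw [← pow_succ', Nat.sub_add_cancel hpos, pow_orderOf_eq_one]
    rw [h1]
    exact hpow g hg _ y ih

/-- Lower bound: every word evaluates into the closure. -/
theorem mem_closure_of_word (S : Set (GL (Fin 2) (ZMod p))) (gens : List T)
    (hS : ∀ t ∈ gens, ∃ g ∈ S, (g : Matrix (Fin 2) (Fin 2) (ZMod p)) = toMat p t)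
    (w : List ℕ) :
    ∃ h ∈ Subgroup.closure S, (h : Matrix (Fin 2) (Fin 2) (ZMod p)) = toMat p (ev p gens w) := by
  induction w with
  | nil => exact ⟨1, Subgroup.one_mem _, by simp [ev, toMat_oneT]⟩
  | cons i w ih =>
    obtain ⟨h, hh, hm⟩ := ih
    have hev : ev p gens (i :: w) = mulT p (gens.getD i oneT) (ev p gens w) := rfl
    rw [hev, toMat_mulT, ← hm]
    by_cases hi : i < gens.length
    · have hmem : gens.getD i oneT ∈ gens := by
        rw [List.getD_eq_getElem _ _ hi]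
        exact List.getElem_mem hi
      obtain ⟨g, hg, hgm⟩ := hS _ hmem
      exact ⟨g * h, Subgroup.mul_mem _ (Subgroup.subset_closure hg) hh, by rw [← hgm]; rfl⟩
    · have : gens.getD i oneT = oneT := by
        rw [List.getD_eq_default _ _ (not_lt.1 hi)]
      rw [this, toMat_oneT, one_mul]
      exact ⟨h, hh, rfl⟩

/-- Cardinality of the closure from the explicit list. -/
theorem card_closure (S : Set (GL (Fin 2) (ZMod p))) (gens : List T) (words : List (List ℕ))
    (hS : ∀ g ∈ S, ∃ t ∈ gens, (g : Matrix (Fin 2) (Fin 2) (ZMod p)) = toMat p t)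
    (hS' : ∀ t ∈ gens, ∃ g ∈ S, (g : Matrix (Fin 2) (Fin 2) (ZMod p)) = toMat p t)
    (hone : oneT ∈ words.map (ev p gens))
    (hclosed : ∀ t ∈ gens, ∀ x ∈ words.map (ev p gens), mulT p t x ∈ words.map (ev p gens))
    (hred : ∀ x ∈ words.map (ev p gens), red p x)
    (hnodup : (words.map (ev p gens)).Nodup) :
    Nat.card (Subgroup.closure S) = words.length := by
  classical
  set L := words.map (ev p gens) with hL
  have hup := mem_list_of_mem_closure S gens L hS hone hclosed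
  have hlow : ∀ x ∈ L, ∃ h ∈ Subgroup.closure S,
      (h : Matrix (Fin 2) (Fin 2) (ZMod p)) = toMat p x := by
    intro x hx
    rw [hL, List.mem_map] at hx
    obtain ⟨w, _, rfl⟩ := hx
    exact mem_closure_of_word S gens hS' w
  have key : Nat.card (Subgroup.closure S) = Nat.card {x // x ∈ L.toFinset} := by
    symm
    refine Nat.card_eq_of_bijective
      (fun x => ⟨(hlow x.1 (List.mem_toFinset.1 x.2)).choose,
        (hlow x.1 (List.mem_toFinset.1 x.2)).choose_spec.1⟩) ⟨?_, ?_⟩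
    · intro x y hxy
      have hx := (hlow x.1 (List.mem_toFinset.1 x.2)).choose_spec.2
      have hy := (hlow y.1 (List.mem_toFinset.1 y.2)).choose_spec.2
      have e : (hlow x.1 (List.mem_toFinset.1 x.2)).choose
          = (hlow y.1 (List.mem_toFinset.1 y.2)).choose := congrArg Subtype.val hxy
      rw [e] at hx
      have := toMat_inj (hred _ (List.mem_toFinset.1 x.2)) (hred _ (List.mem_toFinset.1 y.2))
        (hx.symm.trans hy)
      exact Subtype.ext this
    · intro h
      obtain ⟨x, hx, hxm⟩ := hup h.1 h.2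
      refine ⟨⟨x, List.mem_toFinset.2 hx⟩, ?_⟩
      apply Subtype.ext
      apply Units.ext
      have := (hlow x hx).choose_spec.2
      simp only
      rw [this, hxm]
  rw [key, Nat.card_eq_fintype_card, Fintype.card_coe, List.toFinset_card_of_nodup hnodup, hL,
    List.length_map]

end Closure

section Regular

variable {p : ℕ} [Fact p.Prime]

/-- A subgroup of `GL₂(p)` none of whose non-identity elements has eigenvalue one
acts semiregularly on non-zero vectors. -/
theorem mulVec_injective (H : Subgroup (GL (Fin 2) (ZMod p)))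
    (hfpf : ∀ h ∈ H, h ≠ 1 → ((h : Matrix (Fin 2) (Fin 2) (ZMod p)) - 1).det ≠ 0)
    (v : Fin 2 → ZMod p) (hv : v ≠ 0) :
    Function.Injective (fun h : H => ((h : GL (Fin 2) (ZMod p)) :
      Matrix (Fin 2) (Fin 2) (ZMod p)) *ᵥ v) := by
  intro h h' hh
  simp only at hh
  by_contra hne
  have hk : (h'⁻¹ * h : H) ≠ 1 := by
    intro h1
    apply hne
    have := congrArg (fun z => h' * z) h1
    simpa using this
  have hk' : ((h'⁻¹ * h : H) : GL (Fin 2) (ZMod p)) ≠ 1 := by
    intro h1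
    apply hk
    exact Subtype.ext h1
  have hdet := hfpf _ (h'⁻¹ * h : H).2 hk'
  apply hdet
  apply Matrix.exists_mulVec_eq_zero_iff.1
  refine ⟨v, hv, ?_⟩
  rw [Matrix.sub_mulVec, Matrix.one_mulVec, sub_eq_zero]
  have : ((h'⁻¹ * h : H) : GL (Fin 2) (ZMod p)) = (h' : GL (Fin 2) (ZMod p))⁻¹ * h := rfl
  rw [this, Units.val_mul, ← Matrix.mulVec_mulVec, hh, Matrix.mulVec_mulVec, ← Units.val_mul,
    inv_mul_cancel, Units.val_one, Matrix.one_mulVec]

theorem card_le_of_fpf (H : Subgroup (GL (Fin 2) (ZMod p)))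
    (hfpf : ∀ h ∈ H, h ≠ 1 → ((h : Matrix (Fin 2) (Fin 2) (ZMod p)) - 1).det ≠ 0) :
    Nat.card H ≤ p ^ 2 - 1 := by
  classical
  have hp : p.Prime := Fact.out
  have : NeZero p := ⟨hp.ne_zero⟩
  let v : Fin 2 → ZMod p := Pi.single 0 1
  have hv : v ≠ 0 := by
    intro h
    have := congrFun h 0
    simp [v] at this
  have hinj := mulVec_injective H hfpf v hv
  let f : H → {w : Fin 2 → ZMod p // w ≠ 0} := fun h =>
    ⟨((h : GL (Fin 2) (ZMod p)) : Matrix (Fin 2) (Fin 2) (ZMod p)) *ᵥ v, by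
      intro h0
      apply hv
      have := congrArg (fun z => (((h : GL (Fin 2) (ZMod p))⁻¹ : GL (Fin 2) (ZMod p)) :
        Matrix (Fin 2) (Fin 2) (ZMod p)) *ᵥ z) h0
      simp only [Matrix.mulVec_mulVec, Matrix.mulVec_zero] at this
      rwa [← Units.val_mul, inv_mul_cancel, Units.val_one, Matrix.one_mulVec] at this⟩
  have hf : Function.Injective f := by
    intro a b hab
    exact hinj (congrArg Subtype.val hab)
  have h1 := Nat.card_le_card_of_injective f hf
  have h2 : Nat.card {w : Fin 2 → ZMod p // w ≠ 0} = p ^ 2 - 1 := by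
    rw [Nat.card_eq_fintype_card, Fintype.card_subtype_compl, Fintype.card_subtype_eq]
    simp [ZMod.card]
  omega

theorem regular_of_card (H : Subgroup (GL (Fin 2) (ZMod p)))
    (hfpf : ∀ h ∈ H, h ≠ 1 → ((h : Matrix (Fin 2) (Fin 2) (ZMod p)) - 1).det ≠ 0)
    (hcard : Nat.card H = p ^ 2 - 1) (v w : Fin 2 → ZMod p) (hv : v ≠ 0) (hw : w ≠ 0) :
    ∃! h : H, ((h : GL (Fin 2) (ZMod p)) : Matrix (Fin 2) (Fin 2) (ZMod p)) *ᵥ v = w := by
  classical
  have hp : p.Prime := Fact.out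
  have : NeZero p := ⟨hp.ne_zero⟩
  have hinj := mulVec_injective H hfpf v hv
  let f : H → {w : Fin 2 → ZMod p // w ≠ 0} := fun h =>
    ⟨((h : GL (Fin 2) (ZMod p)) : Matrix (Fin 2) (Fin 2) (ZMod p)) *ᵥ v, by
      intro h0
      apply hv
      have := congrArg (fun z => (((h : GL (Fin 2) (ZMod p))⁻¹ : GL (Fin 2) (ZMod p)) :
        Matrix (Fin 2) (Fin 2) (ZMod p)) *ᵥ z) h0
      simp only [Matrix.mulVec_mulVec, Matrix.mulVec_zero] at this
      rwa [← Units.val_mul, inv_mul_cancel, Units.val_one, Matrix.one_mulVec] at this⟩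
  have hf : Function.Injective f := by
    intro a b hab
    exact hinj (congrArg Subtype.val hab)
  have h2 : Nat.card {w : Fin 2 → ZMod p // w ≠ 0} = p ^ 2 - 1 := by
    rw [Nat.card_eq_fintype_card, Fintype.card_subtype_compl, Fintype.card_subtype_eq]
    simp [ZMod.card]
  have hbij : Function.Bijective f := by
    rw [Fintype.bijective_iff_injective_and_card]
    refine ⟨hf, ?_⟩
    rw [← Nat.card_eq_fintype_card, ← Nat.card_eq_fintype_card, hcard, h2]
  obtain ⟨h, hh⟩ := hbij.2 ⟨w, hw⟩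
  refine ⟨h, congrArg Subtype.val hh, ?_⟩
  intro h' hh'
  apply hf
  apply Subtype.ext
  rw [hh]
  exact hh'

end Regular

section Final

variable {p : ℕ} [Fact p.Prime]

theorem fpf_of_list (S : Set (GL (Fin 2) (ZMod p))) (gens : List T) (L : List T)
    (hS : ∀ g ∈ S, ∃ t ∈ gens, (g : Matrix (Fin 2) (Fin 2) (ZMod p)) = toMat p t)
    (hone : oneT ∈ L)
    (hclosed : ∀ t ∈ gens, ∀ x ∈ L, mulT p t x ∈ L)
    (hfpf : ∀ x ∈ L, x = oneT ∨ fpf p x) :
    ∀ h ∈ Subgroup.closure S, h ≠ 1 →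
      ((h : Matrix (Fin 2) (Fin 2) (ZMod p)) - 1).det ≠ 0 := by
  have hp : p.Prime := Fact.out
  intro h hh hne
  obtain ⟨x, hx, hxm⟩ := mem_list_of_mem_closure S gens L hS hone hclosed h hh
  rcases hfpf x hx with rfl | hf
  · exfalso
    apply hne
    apply Units.ext
    rw [hxm, toMat_oneT]
    rfl
  · rw [hxm]
    exact det_sub_one_ne_zero hp.pos hf

theorem final (S : Set (GL (Fin 2) (ZMod p))) (gens : List T) (words : List (List ℕ))
    (hS : ∀ g ∈ S, ∃ t ∈ gens, (g : Matrix (Fin 2) (Fin 2) (ZMod p)) = toMat p t)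
    (hS' : ∀ t ∈ gens, ∃ g ∈ S, (g : Matrix (Fin 2) (Fin 2) (ZMod p)) = toMat p t)
    (hone : oneT ∈ words.map (ev p gens))
    (hclosed : ∀ t ∈ gens, ∀ x ∈ words.map (ev p gens), mulT p t x ∈ words.map (ev p gens))
    (hred : ∀ x ∈ words.map (ev p gens), red p x)
    (hnodup : (words.map (ev p gens)).Nodup)
    (hfpf : ∀ x ∈ words.map (ev p gens), x = oneT ∨ fpf p x)
    (hlen : words.length = p ^ 2 - 1) :
    Nat.card (Subgroup.closure S) = words.length ∧
    ∀ v w : Fin 2 → ZMod p, v ≠ 0 → w ≠ 0 → ∃! h : Subgroup.closure S,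
      ((h : GL (Fin 2) (ZMod p)) : Matrix (Fin 2) (Fin 2) (ZMod p)) *ᵥ v = w := by
  have hcard := card_closure S gens words hS hS' hone hclosed hred hnodup
  refine ⟨hcard, fun v w hv hw => ?_⟩
  exact regular_of_card _ (fpf_of_list S gens _ hS hone hclosed hfpf) (hcard.trans hlen) v w hv hw

end Final

end Cfsg.Agent.Lib.Helper5.MatList
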