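import Mathlib

set_option autoImplicit false
set_option linter.unusedSectionVars false
open Equiv MulAction

namespace Cfsg.Agent.Lib.Helper5.MinDeg

variable {α : Type*} [Fintype α] [DecidableEq α]

theorem pinv (g : Perm α) (x : α) : g⁻¹ (g x) = x := Perm.inv_eq_iff_eq.mpr rfl

theorem pinv' (g : Perm α) (x : α) : g (g⁻¹ x) = x := by
  have := pinv g⁻¹ x
  rwa [inv_inv] at this

/-- support of a commutator `g⁻¹ h⁻¹ g h` when `h` fixes `Φ` pointwise -/
theorem comm_support (g h : Perm α) (Φ : Finset α) (hΦ : ∀ x ∈ Φ, h x = x) (x : α)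
    (hx : (g⁻¹ * h⁻¹ * g * h) x ≠ x) :
    (x ∈ g.support ∨ h x ∈ g.support) ∧ ¬ (x ∈ Φ ∧ g x ∈ Φ) := by
  have hx' : h⁻¹ (g (h x)) ≠ g x := by
    intro h'
    apply hx
    simp only [Perm.mul_apply]
    rw [h', pinv]
  constructor
  · by_contra hcon
    push Not at hcon
    obtain ⟨h1, h2⟩ := hcon
    rw [Perm.mem_support, not_not] at h1 h2
    apply hx'
    rw [h2, pinv, h1]
  · rintro ⟨h1, h2⟩
    apply hx'
    rw [hΦ x h1]
    have := hΦ (g x) h2
    rw [← this, pinv, this]

/-- an almost invariant subset of given size of the support -/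
theorem exists_almost_invariant (g : Perm α) (j : ℕ) (hj : j ≤ g.support.card) :
    ∃ Φ : Finset α, Φ ⊆ g.support ∧ Φ.card = j ∧ (Φ.filter (fun x => g x ∉ Φ)).card ≤ 1 := by
  induction j with
  | zero => exact ⟨∅, Finset.empty_subset _, rfl, by simp⟩
  | succ j ih =>
    obtain ⟨Φ, hsub, hcard, hex⟩ := ih (by omega)
    -- choose the new point
    have hnew : ∃ u ∈ g.support, u ∉ Φ ∧ ∀ x ∈ Φ, g x ∉ Φ → g x = u := by
      rcases (Φ.filter (fun x => g x ∉ Φ)).eq_empty_or_nonempty with hE | ⟨e, he⟩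
      · have hlt : Φ.card < g.support.card := by omega
        obtain ⟨u, hu, huΦ⟩ := Finset.exists_mem_notMem_of_card_lt_card hlt
        refine ⟨u, hu, huΦ, ?_⟩
        intro x hx hgx
        exfalso
        have : x ∈ Φ.filter (fun x => g x ∉ Φ) := Finset.mem_filter.mpr ⟨hx, hgx⟩
        rw [hE] at this
        exact Finset.notMem_empty _ this
      · obtain ⟨heΦ, hge⟩ := Finset.mem_filter.mp he
        refine ⟨g e, Perm.apply_mem_support.mpr (hsub heΦ), hge, ?_⟩
        intro x hx hgx
        have hxE : x ∈ Φ.filter (fun x => g x ∉ Φ) := Finset.mem_filter.mpr ⟨hx, hgx⟩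
        have := Finset.card_le_one.mp hex x hxE e he
        rw [this]
    obtain ⟨u, hu, huΦ, hun⟩ := hnew
    refine ⟨insert u Φ, ?_, ?_, ?_⟩
    · intro x hx
      rcases Finset.mem_insert.mp hx with rfl | hx
      · exact hu
      · exact hsub hx
    · rw [Finset.card_insert_of_notMem huΦ, hcard]
    · have : (insert u Φ).filter (fun x => g x ∉ insert u Φ) ⊆ {u} := by
        intro x hx
        obtain ⟨hx1, hx2⟩ := Finset.mem_filter.mp hx
        rw [Finset.mem_singleton]
        rcases Finset.mem_insert.mp hx1 with rfl | hxΦ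
        · rfl
        · exfalso
          apply hx2
          by_cases hgx : g x ∈ Φ
          · exact Finset.mem_insert_of_mem hgx
          · rw [hun x hxΦ hgx]; exact Finset.mem_insert_self _ _
      exact (Finset.card_le_card this).trans (by simp)

/-- in a `k`-transitive group the pointwise stabiliser of fewer than `k` points is transitive on
the remaining points -/
theorem exists_fixing (G : Subgroup (Perm α)) {k : ℕ} (hkn : k ≤ Fintype.card α)
    (hG : IsMultiplyPretransitive G α k) (Φ : Finset α) (hΦ : Φ.card + 1 ≤ k) (y z : α)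
    (hy : y ∉ Φ) (hz : z ∉ Φ) :
    ∃ h : Perm α, h ∈ G ∧ (∀ x ∈ Φ, h x = x) ∧ h y = z := by
  have h1 : IsMultiplyPretransitive (fixingSubgroup G (Φ : Set α))
      (SubMulAction.ofFixingSubgroup G (Φ : Set α)) 1 := by
    apply SubMulAction.ofFixingSubgroup.isMultiplyPretransitive' (n := k) (Φ : Set α)
    · rw [Set.ncard_coe_finset]; exact hΦ
    · rw [ENat.card_eq_coe_fintype_card]; exact_mod_cast hkn
  rw [is_one_pretransitive_iff] at h1
  have hym : y ∈ SubMulAction.ofFixingSubgroup G (Φ : Set α) := by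
    rw [SubMulAction.mem_ofFixingSubgroup_iff]; exact_mod_cast hy
  have hzm : z ∈ SubMulAction.ofFixingSubgroup G (Φ : Set α) := by
    rw [SubMulAction.mem_ofFixingSubgroup_iff]; exact_mod_cast hz
  obtain ⟨h, hh⟩ := h1.exists_smul_eq ⟨y, hym⟩ ⟨z, hzm⟩
  refine ⟨((h : G) : Perm α), (h : G).2, ?_, ?_⟩
  · intro x hx
    have := (mem_fixingSubgroup_iff G).mp h.2 x (by exact_mod_cast hx)
    exact this
  · exact congrArg Subtype.val hh

/-- cardinality bound for the support of the commutator -/
theorem comm_support_card (g h : Perm α) (Φ : Finset α) (hsub : Φ ⊆ g.support)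
    (hΦ : ∀ x ∈ Φ, h x = x) :
    (g⁻¹ * h⁻¹ * g * h).support.card + (Φ.filter (fun x => g x ∈ Φ)).card ≤
      g.support.card + ((g.support \ Φ).filter (fun u => h⁻¹ u ∉ g.support)).card := by
  have hsubset : (g⁻¹ * h⁻¹ * g * h).support ⊆ (g.support \ Φ.filter (fun x => g x ∈ Φ)) ∪
      ((g.support \ Φ).filter (fun u => h⁻¹ u ∉ g.support)).image (⇑h⁻¹) := by
    intro x hx
    rw [Perm.mem_support] at hx
    obtain ⟨h1, h2⟩ := comm_support g h Φ hΦ x hx
    rw [Finset.mem_union]
    by_cases hxΔ : x ∈ g.support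
    · left
      rw [Finset.mem_sdiff]
      refine ⟨hxΔ, ?_⟩
      intro h3
      obtain ⟨h4, h5⟩ := Finset.mem_filter.mp h3
      exact h2 ⟨h4, h5⟩
    · right
      have hhx : h x ∈ g.support := h1.resolve_left hxΔ
      rw [Finset.mem_image]
      refine ⟨h x, ?_, pinv h x⟩
      rw [Finset.mem_filter, Finset.mem_sdiff]
      refine ⟨⟨hhx, ?_⟩, by rw [pinv]; exact hxΔ⟩
      intro h3
      apply hxΔ
      have h4 := hΦ (h x) h3
      have h5 : h x = x := h.injective h4
      rw [h5] at h3
      exact hsub h3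
  have h1 := Finset.card_le_card hsubset
  have h2 := Finset.card_union_le (g.support \ Φ.filter (fun x => g x ∈ Φ))
    (((g.support \ Φ).filter (fun u => h⁻¹ u ∉ g.support)).image (⇑h⁻¹))
  have h3 := Finset.card_image_le (s := (g.support \ Φ).filter (fun u => h⁻¹ u ∉ g.support))
    (f := (⇑h⁻¹))
  have h4 : (g.support \ Φ.filter (fun x => g x ∈ Φ)).card =
      g.support.card - (Φ.filter (fun x => g x ∈ Φ)).card := by
    apply Finset.card_sdiff_of_subset
    exact (Finset.filter_subset _ _).trans hsub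
  have h5 : (Φ.filter (fun x => g x ∈ Φ)).card ≤ g.support.card :=
    Finset.card_le_card ((Finset.filter_subset _ _).trans hsub)
  omega

theorem comm_ne_one_of_out (g h : Perm α) (y : α) (hy : y ∈ g.support) (hhy : h y ∉ g.support) :
    g⁻¹ * h⁻¹ * g * h ≠ 1 := by
  intro hf
  have h1 : (g⁻¹ * h⁻¹ * g * h) y = y := by rw [hf]; rfl
  simp only [Perm.mul_apply] at h1
  rw [Perm.notMem_support.mp hhy, pinv, Perm.inv_eq_iff_eq] at h1
  exact (Perm.mem_support.mp hy) h1.symm

theorem comm_ne_one_of_fix (g h : Perm α) (y : α) (hgy : h (g y) = g y) (hhy : h y ≠ y) :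
    g⁻¹ * h⁻¹ * g * h ≠ 1 := by
  intro hf
  have h1 : (g⁻¹ * h⁻¹ * g * h) y = y := by rw [hf]; rfl
  simp only [Perm.mul_apply] at h1
  rw [Perm.inv_eq_iff_eq, Perm.inv_eq_iff_eq, hgy] at h1
  exact hhy (g.injective h1)

/-- the descent step -/
theorem descent (G : Subgroup (Perm α)) {k : ℕ} (hk : 1 ≤ k) (hkn : k ≤ Fintype.card α)
    (hG : IsMultiplyPretransitive G α k) (g : Perm α) (hg : g ∈ G) (hg1 : g ≠ 1)
    (hlt : g.support.card < Fintype.card α) :
    ∃ f : Perm α, f ∈ G ∧ f ≠ 1 ∧ (f.support.card ≤ 3 ∨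
      (k < g.support.card ∧ f.support.card + 2 * k ≤ 2 * g.support.card + 2)) := by
  have hm2 : 2 ≤ g.support.card := Perm.two_le_card_support_of_ne_one hg1
  obtain ⟨z₀, hz₀⟩ : ∃ z₀, z₀ ∉ g.support := by
    by_contra hcon
    push Not at hcon
    have : g.support = Finset.univ := Finset.eq_univ_iff_forall.mpr hcon
    rw [this, Finset.card_univ] at hlt
    omega
  obtain ⟨Φ, hsub, hcard, hex⟩ :=
    exists_almost_invariant g (min (g.support.card - 1) (k - 1)) (by omega)
  have hΦk : Φ.card + 1 ≤ k := by rw [hcard]; omega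
  have hΦm : Φ.card < g.support.card := by rw [hcard]; omega
  have hz₀Φ : z₀ ∉ Φ := fun h => hz₀ (hsub h)
  have hfil := Finset.card_filter_add_card_filter_not (s := Φ) (fun x => g x ∈ Φ)
  have hsd : (g.support \ Φ).card = g.support.card - Φ.card := Finset.card_sdiff_of_subset hsub
  have hmem : ∀ h : Perm α, h ∈ G → g⁻¹ * h⁻¹ * g * h ∈ G := fun h hh =>
    G.mul_mem (G.mul_mem (G.mul_mem (G.inv_mem hg) (G.inv_mem hh)) hg) hh
  rcases Nat.eq_zero_or_pos (Φ.filter (fun x => g x ∉ Φ)).card with hE | hE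
  · -- invariant case
    obtain ⟨y, hy, hyΦ⟩ := Finset.exists_mem_notMem_of_card_lt_card hΦm
    obtain ⟨h, hhG, hhΦ, hhy⟩ := exists_fixing G hkn hG Φ hΦk y z₀ hyΦ hz₀Φ
    refine ⟨g⁻¹ * h⁻¹ * g * h, hmem h hhG,
      comm_ne_one_of_out g h y hy (by rw [hhy]; exact hz₀), ?_⟩
    have hb := comm_support_card g h Φ hsub hhΦ
    have hb2 : ((g.support \ Φ).filter (fun u => h⁻¹ u ∉ g.support)).card ≤
        (g.support \ Φ).card := Finset.card_filter_le _ _
    by_cases hmk : g.support.card ≤ k
    · left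
      have : Φ.card = g.support.card - 1 := by rw [hcard]; omega
      omega
    · right
      have : Φ.card = k - 1 := by rw [hcard]; omega
      refine ⟨by omega, ?_⟩
      omega
  · -- one exit point
    have hE1 : (Φ.filter (fun x => g x ∉ Φ)).card = 1 := by omega
    obtain ⟨e, he⟩ := Finset.card_pos.mp hE
    obtain ⟨heΦ, hge⟩ := Finset.mem_filter.mp he
    -- an entry point
    obtain ⟨y, hyΦ, hgy⟩ : ∃ y, y ∉ Φ ∧ g y ∈ Φ := by
      have hne : ¬ Φ ⊆ Φ.image g := by
        intro hss
        have hc : (Φ.image g).card ≤ Φ.card := Finset.card_image_le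
        have heq := Finset.eq_of_subset_of_card_le hss hc
        apply hge
        rw [heq]
        exact Finset.mem_image_of_mem g heΦ
      obtain ⟨u, hu, hu'⟩ := Finset.not_subset.mp hne
      refine ⟨g⁻¹ u, ?_, by rw [pinv']; exact hu⟩
      intro h
      apply hu'
      rw [Finset.mem_image]
      exact ⟨g⁻¹ u, h, pinv' g u⟩
    have hy : y ∈ g.support := by
      rw [Perm.mem_support]
      intro h
      rw [h] at hgy
      exact hyΦ hgy
    by_cases hz : ∃ z ∈ g.support \ Φ, z ≠ y
    · obtain ⟨z, hzm, hzy⟩ := hz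
      obtain ⟨hzΔ, hzΦ⟩ := Finset.mem_sdiff.mp hzm
      obtain ⟨h, hhG, hhΦ, hhy⟩ := exists_fixing G hkn hG Φ hΦk y z hyΦ hzΦ
      refine ⟨g⁻¹ * h⁻¹ * g * h, hmem h hhG,
        comm_ne_one_of_fix g h y (hhΦ _ hgy) (by rw [hhy]; exact hzy), ?_⟩
      have hb := comm_support_card g h Φ hsub hhΦ
      have hb2 : ((g.support \ Φ).filter (fun u => h⁻¹ u ∉ g.support)).card + 1 ≤
          (g.support \ Φ).card := by
        have hss : (g.support \ Φ).filter (fun u => h⁻¹ u ∉ g.support) ⊆
            (g.support \ Φ).erase z := by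
          intro u hu
          obtain ⟨hu1, hu2⟩ := Finset.mem_filter.mp hu
          rw [Finset.mem_erase]
          refine ⟨?_, hu1⟩
          rintro rfl
          apply hu2
          rw [← hhy, pinv]
          exact hy
        have := Finset.card_le_card hss
        rw [Finset.card_erase_of_mem hzm] at this
        have hpos : 0 < (g.support \ Φ).card := Finset.card_pos.mpr ⟨z, hzm⟩
        omega
      by_cases hmk : g.support.card ≤ k
      · left
        have : Φ.card = g.support.card - 1 := by rw [hcard]; omega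
        omega
      · right
        have : Φ.card = k - 1 := by rw [hcard]; omega
        refine ⟨by omega, ?_⟩
        omega
    · push Not at hz
      have hss : g.support \ Φ ⊆ {y} := by
        intro u hu
        rw [Finset.mem_singleton]
        exact hz u hu
      have hc1 : (g.support \ Φ).card ≤ 1 := (Finset.card_le_card hss).trans (by simp)
      obtain ⟨h, hhG, hhΦ, hhy⟩ := exists_fixing G hkn hG Φ hΦk y z₀ hyΦ hz₀Φ
      refine ⟨g⁻¹ * h⁻¹ * g * h, hmem h hhG,
        comm_ne_one_of_out g h y hy (by rw [hhy]; exact hz₀), ?_⟩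
      have hb := comm_support_card g h Φ hsub hhΦ
      have hb2 : ((g.support \ Φ).filter (fun u => h⁻¹ u ∉ g.support)).card ≤
          (g.support \ Φ).card := Finset.card_filter_le _ _
      left
      omega

end Cfsg.Agent.Lib.Helper5.MinDeg
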