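import Cfsg.Agent.Lib.Helper5.TSMax

set_option autoImplicit false
set_option linter.unusedSectionVars false
set_option linter.unusedVariables false
set_option linter.unusedSimpArgs false

namespace Cfsg.Agent.Lib.Helper5.NSMax

open Module QuadraticMap Matrix Cfsg.Agent.Lib.Helper25.CD Cfsg.Agent.Lib.Helper25.Spin
  Cfsg.Agent.Lib.Helper25.Fam Cfsg.Agent.Lib.Helper25.Siegel
  Cfsg.Agent.Lib.Helper25.PS Cfsg.Agent.Lib.Helper25.OGeom Cfsg.Agent.Lib.Helper15
  Cfsg.Agent.Lib.Helper5.TSMax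

section general

variable {F : Type*} [Field F] {V : Type*} [AddCommGroup V] [Module F V] (Q : QuadraticForm F V)

/-- The generalised Siegel map `x ↦ x + f(u,x) y - f(y,x) u - Q(y) f(u,x) u`. -/
def egen (u y x : V) : V := x + polar Q u x • y - polar Q y x • u - (Q y * polar Q u x) • u

theorem egen_add {u y y' : V} (hu : Q u = 0) (huy : polar Q u y = 0) (huy' : polar Q u y' = 0)
    (x : V) : egen Q u y (egen Q u y' x) = egen Q u (y + y') x := by
  unfold egen
  have hQ : Q (y + y') = Q y + Q y' + polar Q y y' := Cfsg.Agent.Lib.Helper25.MaxTS.Q_add y y'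
  simp only [polar_add_right, polar_smul_right, polar_sub_right, polar_sub_left, polar_add_left,
    polar_smul_left, smul_eq_mul, huy, huy', pself Q hu, polar_comm Q y u, polar_comm Q y' u, hQ]
  match_scalars <;> ring

theorem egen_sing {u w : V} (hw : Q w = 0) (k : F) (x : V) :
    egen Q u (k • w) x = siegF Q u w k x := by
  unfold egen siegF
  rw [QuadraticMap.map_smul, hw, polar_smul_left]
  simp only [smul_eq_mul, mul_zero, zero_mul, zero_smul, sub_zero]
  module

theorem egen_fix {u y v : V} (h1 : polar Q u v = 0) (h2 : polar Q y v = 0) :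
    egen Q u y v = v := by
  unfold egen
  rw [h1, h2]; simp

theorem sieg_gen {u y e : V} (hu : Q u = 0) (he : Q e = 0) (hue : polar Q u e = 0)
    (huy : polar Q u y = 0) (hey : polar Q e y = Q y) (x : V) :
    siegF Q u e 1 (siegF Q u (y - e) 1 x) = egen Q u y x := by
  unfold siegF egen
  simp only [polar_add_right, polar_smul_right, polar_sub_right, polar_sub_left, polar_add_left,
    polar_smul_left, smul_eq_mul, hue, huy, hey, pself Q hu, pself Q he,
    polar_comm Q e u, polar_comm Q y u, polar_comm Q y e]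
  match_scalars <;> ring

end general

section matrix

variable {ι : Type} [Fintype ι] [DecidableEq ι] {F : Type*} [Field F] [Fintype F]
  (Q : QuadraticForm F (ι → F))

/-- The generalised Siegel map is realised by an element of `Ω`. -/
theorem exists_egen (hQ : (polarBilin Q).Nondegenerate) (hn : 7 ≤ Fintype.card ι)
    {u y : ι → F} (hu0 : u ≠ 0) (hu : Q u = 0) (huy : polar Q u y = 0) :
    ∃ g ∈ Cfsg.Omega F ⇑Q, ∀ x, toOG Q g x = egen Q u y x := by
  obtain ⟨e, he, hue, hey⟩ : ∃ e, Q e = 0 ∧ polar Q u e = 0 ∧ polar Q e y = Q y := by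
    by_cases hQy : Q y = 0
    · exact ⟨0, by simp, by simp, by rw [hQy]; simp⟩
    · obtain ⟨f, hQf, huf⟩ := exists_sing_partner Q hQ hu0 hu
      have hnd := perpPair_nd Q ⊤ (ndOn_top Q hQ) (e := u) (f := f) Submodule.mem_top
        Submodule.mem_top hu hQf huf
      have hfr := perpPair_finrank Q ⊤ (e := u) (f := f) Submodule.mem_top Submodule.mem_top hu
        hQf huf
      rw [finrank_top, Module.finrank_fintype_fun_eq_card] at hfr
      obtain ⟨y', hy'⟩ : ∃ y', y' = y - polar Q f y • u := ⟨_, rfl⟩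
      have hy'mem : y' ∈ perpPair Q ⊤ u f := by
        rw [mem_perpPair]
        refine ⟨Submodule.mem_top, ?_, ?_⟩
        · rw [hy', polar_sub_right, polar_smul_right, pself Q hu, huy]; simp
        · rw [hy', polar_sub_right, polar_smul_right, polar_comm Q f u, huf]; simp
      have hy'0 : y' ≠ 0 := by
        intro h0
        apply hQy
        have e1 : y = polar Q f y • u := by rw [hy'] at h0; exact sub_eq_zero.1 h0
        rw [e1, QuadraticMap.map_smul, hu, smul_zero]
      obtain ⟨z, hzN, hQz, hyz⟩ := exists_sing_not_perp Q hnd (by omega) hy'mem hy'0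
      rw [mem_perpPair] at hzN
      have hyz' : polar Q y z ≠ 0 := by
        have e1 : polar Q y' z = polar Q y z := by
          rw [hy', polar_sub_left, polar_smul_left, hzN.2.1]; simp
        rwa [e1] at hyz
      refine ⟨(Q y * (polar Q y z)⁻¹) • z, ?_, ?_, ?_⟩
      · rw [QuadraticMap.map_smul, hQz, smul_zero]
      · rw [polar_smul_right, hzN.2.1, smul_zero]
      · rw [polar_smul_left, polar_comm Q z y, smul_eq_mul, mul_assoc, inv_mul_cancel₀ hyz',
          mul_one]
  have hQye : Q (y - e) = 0 := by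
    rw [Q_sub', he, polar_comm Q y e, hey]; ring
  have huye : polar Q u (y - e) = 0 := by rw [polar_sub_right, huy, hue, sub_zero]
  refine ⟨siegG Q u e 1 hu he hue * siegG Q u (y - e) 1 hu hQye huye,
    mul_mem (siegG_mem_omega Q hQ hn _ _ _ hu he hue)
      (siegG_mem_omega Q hQ hn _ _ _ hu hQye huye), ?_⟩
  intro x
  rw [map_mul, LinearEquiv.mul_apply, toOG_siegG, toOG_siegG]
  exact sieg_gen Q hu he hue huy hey x

/-- A singular point orthogonal to `v` and `v' = h v` (with `v'` outside `<u, v>`) is good. -/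
theorem good_of_two (hQ : (polarBilin Q).Nondegenerate) (hn : 7 ≤ Fintype.card ι)
    {v : ι → F} {M : Subgroup ↥(Cfsg.isometryGroup F ⇑Q)}
    (hSM : stabSub Q (Submodule.span F {v}) ⊓ Cfsg.Omega F ⇑Q ≤ M)
    (hMΩ : M ≤ Cfsg.Omega F ⇑Q) {h : ↥(Cfsg.isometryGroup F ⇑Q)} (hhM : h ∈ M)
    {v' : ι → F} (hv'def : v' = toOG Q h v)
    {u : ι → F} (hu0 : u ≠ 0) (hu : Q u = 0) (huv : polar Q u v = 0) (huv' : polar Q u v' = 0)
    (hv' : v' ∉ Submodule.span F {u, v}) : Good Q M (mk' Q u hu0 hu) := by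
  have hfixv : ∀ g ∈ Cfsg.Omega F ⇑Q, toOG Q g v = v → g ∈ M := by
    intro g hg hgv
    apply hSM
    refine Subgroup.mem_inf.2 ⟨?_, hg⟩
    apply mem_stabSub_of_le
    intro w hw
    obtain ⟨a, rfl⟩ := Submodule.mem_span_singleton.1 hw
    rw [map_smul, hgv]
    exact Submodule.smul_mem _ _ (Submodule.mem_span_singleton_self v)
  have hfixv' : ∀ g ∈ Cfsg.Omega F ⇑Q, toOG Q g v' = v' → g ∈ M := by
    intro g hg hgv
    have h1 : h⁻¹ * g * h ∈ M := by
      apply hfixv
      · exact mul_mem (mul_mem (inv_mem (hMΩ hhM)) hg) (hMΩ hhM)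
      · rw [map_mul, map_mul, map_inv, LinearEquiv.mul_apply, LinearEquiv.mul_apply, ← hv'def,
          hgv, hv'def, ← LinearEquiv.mul_apply, inv_mul_cancel]
        rfl
    have e : g = h * (h⁻¹ * g * h) * h⁻¹ := by group
    rw [e]
    exact mul_mem (mul_mem hhM h1) (inv_mem hhM)
  obtain ⟨z, hzperp, hzv'⟩ : ∃ z ∈ Cfsg.Agent.Lib.Helper25.MaxTS.perp Q
      (Submodule.span F {u, v}), polar Q z v' ≠ 0 := by
    by_contra hcon
    push Not at hcon
    apply hv'
    rw [← Cfsg.Agent.Lib.Helper25.MaxTS.perp_perp hQ (Submodule.span F {u, v}),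
      Cfsg.Agent.Lib.Helper25.MaxTS.mem_perp]
    exact hcon
  have hzu : polar Q u z = 0 :=
    Cfsg.Agent.Lib.Helper25.MaxTS.mem_perp.1 hzperp u (Submodule.subset_span (by simp))
  have hzv : polar Q v z = 0 :=
    Cfsg.Agent.Lib.Helper25.MaxTS.mem_perp.1 hzperp v (Submodule.subset_span (by simp))
  unfold Good X
  rw [Subgroup.closure_le]
  rintro g ⟨u1, hu1P, hu10, w, c, hw, hu1w, hg⟩
  rw [mk'_val] at hu1P
  obtain ⟨a, rfl⟩ := Submodule.mem_span_singleton.1 hu1P
  have ha : a ≠ 0 := by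
    rintro rfl
    simp at hu10
  have huw : polar Q u w = 0 := by
    rw [polar_smul_left, smul_eq_mul] at hu1w
    exact (mul_eq_zero.1 hu1w).resolve_left ha
  have hQu1 : Q (a • u) = 0 := by rw [QuadraticMap.map_smul, hu, smul_zero]
  rw [eq_siegG_of_coe Q hQu1 hw hu1w hg, siegG_smul_left Q a c hu hw huw]
  obtain ⟨k, hk⟩ : ∃ k, k = a * c := ⟨_, rfl⟩
  rw [← hk]
  obtain ⟨y, hy⟩ : ∃ y, y = k • w := ⟨_, rfl⟩
  have huy : polar Q u y = 0 := by rw [hy, polar_smul_right, huw, smul_zero]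
  obtain ⟨y1, hy1⟩ : ∃ y1, y1 = (polar Q y v' * (polar Q z v')⁻¹) • z := ⟨_, rfl⟩
  have huy1 : polar Q u y1 = 0 := by rw [hy1, polar_smul_right, hzu, smul_zero]
  have hy1v : polar Q y1 v = 0 := by
    rw [hy1, polar_smul_left, polar_comm Q z v, hzv, smul_zero]
  have hy1v' : polar Q y1 v' = polar Q y v' := by
    rw [hy1, polar_smul_left, smul_eq_mul, mul_assoc, inv_mul_cancel₀ hzv', mul_one]
  have huy2 : polar Q u (y - y1) = 0 := by rw [polar_sub_right, huy, huy1, sub_zero]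
  have hy2v' : polar Q (y - y1) v' = 0 := by rw [polar_sub_left, hy1v', sub_self]
  obtain ⟨g1, hg1Ω, hg1⟩ := exists_egen Q hQ hn hu0 hu huy1
  obtain ⟨g2, hg2Ω, hg2⟩ := exists_egen Q hQ hn hu0 hu huy2
  have hg1M : g1 ∈ M := hfixv g1 hg1Ω (by rw [hg1]; exact egen_fix Q huv hy1v)
  have hg2M : g2 ∈ M := hfixv' g2 hg2Ω (by rw [hg2]; exact egen_fix Q huv' hy2v')
  have heq : siegG Q u w k hu hw huw = g1 * g2 := by
    apply toOG_injective
    ext1 x
    rw [map_mul, LinearEquiv.mul_apply, toOG_siegG, hg1, hg2, egen_add Q hu huy1 huy2,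
      ← egen_sing Q hw, ← hy]
    congr 1
    abel
  rw [heq]
  exact mul_mem hg1M hg2M

theorem eq_omega_of_lt_ns (hQ : (polarBilin Q).Nondegenerate) (hn : 7 ≤ Fintype.card ι)
    {v : ι → F} (hv : Q v ≠ 0)
    (M : Subgroup ↥(Cfsg.isometryGroup F ⇑Q))
    (hSM : stabSub Q (Submodule.span F {v}) ⊓ Cfsg.Omega F ⇑Q ≤ M)
    (hMΩ : M ≤ Cfsg.Omega F ⇑Q)
    (hne : M ≠ stabSub Q (Submodule.span F {v}) ⊓ Cfsg.Omega F ⇑Q) :
    M = Cfsg.Omega F ⇑Q := by
  obtain ⟨h, hhM, hhS⟩ : ∃ h ∈ M, h ∉ stabSub Q (Submodule.span F {v}) := by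
    by_contra hcon
    push Not at hcon
    apply hne
    exact le_antisymm (fun g hg => Subgroup.mem_inf.2 ⟨hcon g hg, hMΩ hg⟩) hSM
  have hv' : toOG Q h v ∉ Submodule.span F {v} := by
    intro hcon
    apply hhS
    apply mem_stabSub_of_le
    intro w hw
    obtain ⟨a, rfl⟩ := Submodule.mem_span_singleton.1 hw
    rw [map_smul]
    exact Submodule.smul_mem _ _ hcon
  obtain ⟨v', hv'def⟩ : ∃ v', v' = toOG Q h v := ⟨_, rfl⟩
  rw [← hv'def] at hv'
  obtain ⟨Y, hY⟩ : ∃ Y : Submodule F (ι → F), Y = Submodule.span F {v, v'} := ⟨_, rfl⟩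
  obtain ⟨C, hC⟩ := Submodule.exists_isCompl Y
  have hYfr : finrank F Y ≤ 2 := by
    rw [hY]
    exact finrank_span_pair_le v v'
  have hCfr : finrank F Y + finrank F C = Fintype.card ι := by
    rw [Submodule.finrank_add_eq_of_isCompl hC, Module.finrank_fintype_fun_eq_card]
  have hNfr : finrank F (Cfsg.Agent.Lib.Helper25.MaxTS.perp Q Y) =
      Fintype.card ι - finrank F Y := by
    rw [Cfsg.Agent.Lib.Helper25.MaxTS.finrank_perp hQ, Module.finrank_fintype_fun_eq_card]
  have hinf : 3 ≤ finrank F (Cfsg.Agent.Lib.Helper25.MaxTS.perp Q Y ⊓ C : Submodule F (ι → F)) := by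
    have h1 := Submodule.finrank_sup_add_finrank_inf_eq (Cfsg.Agent.Lib.Helper25.MaxTS.perp Q Y) C
    have h2 : finrank F (Cfsg.Agent.Lib.Helper25.MaxTS.perp Q Y ⊔ C : Submodule F (ι → F)) ≤
        finrank F (ι → F) := Submodule.finrank_le _
    rw [Module.finrank_fintype_fun_eq_card] at h2
    omega
  obtain ⟨u, huNC, hu0, hQu⟩ := exists_singular_in Q _ hinf
  have huN : u ∈ Cfsg.Agent.Lib.Helper25.MaxTS.perp Q Y := (Submodule.mem_inf.1 huNC).1
  have huC : u ∈ C := (Submodule.mem_inf.1 huNC).2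
  have huY : u ∉ Y := by
    intro huY
    apply hu0
    have h1 : u ∈ Y ⊓ C := Submodule.mem_inf.2 ⟨huY, huC⟩
    rw [hC.inf_eq_bot] at h1
    exact (Submodule.mem_bot F).1 h1
  obtain ⟨t, htN, htu⟩ : ∃ t ∈ Cfsg.Agent.Lib.Helper25.MaxTS.perp Q Y, polar Q t u ≠ 0 := by
    by_contra hcon
    push Not at hcon
    apply huY
    rw [← Cfsg.Agent.Lib.Helper25.MaxTS.perp_perp hQ Y, Cfsg.Agent.Lib.Helper25.MaxTS.mem_perp]
    exact hcon
  obtain ⟨u', hu'⟩ : ∃ u', u' = t + (-(Q t * (polar Q t u)⁻¹)) • u := ⟨_, rfl⟩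
  have hQu' : Q u' = 0 := by
    rw [hu', Cfsg.Agent.Lib.Helper25.MaxTS.Q_add_smul, hQu]
    field_simp
    ring
  have hu'N : u' ∈ Cfsg.Agent.Lib.Helper25.MaxTS.perp Q Y := by
    rw [hu']
    exact Submodule.add_mem _ htN (Submodule.smul_mem _ _ huN)
  have hu'u : polar Q u' u = polar Q t u := by
    rw [hu', polar_add_left, polar_smul_left, pself Q hQu]
    simp
  have hu'0 : u' ≠ 0 := by
    intro h0
    rw [h0] at hu'u
    simp at hu'u
    exact htu hu'u.symm
  have hvY : v ∈ Y := by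
    rw [hY]
    exact Submodule.subset_span (by simp)
  have hv'Y : v' ∈ Y := by
    rw [hY]
    exact Submodule.subset_span (by simp)
  have huv : polar Q u v = 0 := by
    rw [polar_comm]
    exact Cfsg.Agent.Lib.Helper25.MaxTS.mem_perp.1 huN v hvY
  have huv' : polar Q u v' = 0 := by
    rw [polar_comm]
    exact Cfsg.Agent.Lib.Helper25.MaxTS.mem_perp.1 huN v' hv'Y
  have hu'v : polar Q u' v = 0 := by
    rw [polar_comm]
    exact Cfsg.Agent.Lib.Helper25.MaxTS.mem_perp.1 hu'N v hvY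
  have hu'v' : polar Q u' v' = 0 := by
    rw [polar_comm]
    exact Cfsg.Agent.Lib.Helper25.MaxTS.mem_perp.1 hu'N v' hv'Y
  have hnot1 : v' ∉ Submodule.span F {u, v} := by
    intro hmem
    obtain ⟨α, β, hαβ⟩ := Submodule.mem_span_pair.1 hmem
    have h0 := hu'v'
    rw [← hαβ, polar_add_right, polar_smul_right, polar_smul_right, hu'u, hu'v] at h0
    have hα : α = 0 := by simpa [htu] using h0
    apply hv'
    rw [← hαβ, hα, zero_smul, zero_add]
    exact Submodule.smul_mem _ _ (Submodule.mem_span_singleton_self v)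
  have hnot2 : v' ∉ Submodule.span F {u', v} := by
    intro hmem
    obtain ⟨α, β, hαβ⟩ := Submodule.mem_span_pair.1 hmem
    have h0 := huv'
    rw [← hαβ, polar_add_right, polar_smul_right, polar_smul_right, polar_comm Q u u', hu'u,
      huv] at h0
    have hα : α = 0 := by simpa [htu] using h0
    apply hv'
    rw [← hαβ, hα, zero_smul, zero_add]
    exact Submodule.smul_mem _ _ (Submodule.mem_span_singleton_self v)
  have hg1 := good_of_two Q hQ hn hSM hMΩ hhM hv'def hu0 hQu huv huv' hnot1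
  have hg2 := good_of_two Q hQ hn hSM hMΩ hhM hv'def hu'0 hQu' hu'v hu'v' hnot2
  apply eq_omega_of_all_good Q hQ hn M hMΩ
  refine all_good_of_opposite Q hQ (by omega) M hg2 hg1 ?_
  rw [ort_mk', hu'u]
  exact htu

theorem stab_lt_ns (hQ : (polarBilin Q).Nondegenerate) (hn : 7 ≤ Fintype.card ι)
    {v : ι → F} (hv : Q v ≠ 0) :
    stabSub Q (Submodule.span F {v}) ⊓ Cfsg.Omega F ⇑Q < Cfsg.Omega F ⇑Q := by
  refine lt_of_le_of_ne inf_le_right ?_
  intro heq
  have hle : Cfsg.Omega F ⇑Q ≤ stabSub Q (Submodule.span F {v}) := by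
    rw [← heq]
    exact inf_le_left
  have hv0 : v ≠ 0 := by
    rintro rfl
    simp at hv
  have h3 : 3 ≤ finrank F (⊤ : Submodule F (ι → F)) := by
    rw [finrank_top, Module.finrank_fintype_fun_eq_card]
    omega
  obtain ⟨u, -, hQu, hvu⟩ := exists_sing_not_perp Q (ndOn_top Q hQ) h3
    (Submodule.mem_top : v ∈ (⊤ : Submodule F (ι → F))) hv0
  have hfr : 7 ≤ finrank F (ι → F) := by
    rw [Module.finrank_fintype_fun_eq_card]
    exact hn
  obtain ⟨w, w', hQw, hQw', hww', huw, -, huw', -⟩ :=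
    exists_hyp_perp Q hQ hfr hQu hQu (pself Q hQu)
  have hg := hle (siegG_mem_omega Q hQ hn u w 1 hQu hQw huw)
  rw [mem_stabSub] at hg
  have hmem : toOG Q (siegG Q u w 1 hQu hQw huw) v ∈ Submodule.span F {v} := by
    rw [← hg]
    exact Submodule.mem_map_of_mem (Submodule.mem_span_singleton_self v)
  rw [toOG_siegG] at hmem
  obtain ⟨c, hc⟩ := Submodule.mem_span_singleton.1 hmem
  unfold siegF at hc
  have hd : polar Q u v • w - polar Q w v • u = (c - 1) • v := by
    rw [sub_smul, one_smul, hc]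
    simp
  have hQd : Q (polar Q u v • w - polar Q w v • u) = 0 := by
    rw [Q_sub', QuadraticMap.map_smul, QuadraticMap.map_smul, hQw, hQu, polar_smul_left,
      polar_smul_right, polar_comm Q w u, huw]
    simp
  rw [hd, QuadraticMap.map_smul, smul_eq_mul] at hQd
  have hc1 : c - 1 = 0 := by
    rcases mul_eq_zero.1 hQd with h | h
    · exact mul_self_eq_zero.1 h
    · exact absurd h hv
  rw [hc1, zero_smul] at hd
  have h5 : polar Q (polar Q u v • w - polar Q w v • u) w' = 0 := by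
    rw [hd]
    simp
  rw [polar_sub_left, polar_smul_left, polar_smul_left, hww', huw'] at h5
  apply hvu
  rw [polar_comm]
  simpa using h5

end matrix

section final

variable {ι : Type} [Fintype ι] [DecidableEq ι] {F : Type*} [Field F] [Fintype F]
  (Q : QuadraticForm F (ι → F))

/-- The stabiliser in `Ω` of a nonsingular point is a maximal subgroup of `Ω` (dimension at least
seven, any characteristic). -/
theorem isMaximalIn_ns (hQ : (polarBilin Q).Nondegenerate) (hn : 7 ≤ Fintype.card ι)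
    {v : ι → F} (hv : Q v ≠ 0) :
    Cfsg.Geo.IsMaximalIn (Cfsg.Geo.omegaGL ⇑Q)
      (Cfsg.Geo.subspaceStabilizer (Submodule.span F {v}) ⊓ Cfsg.Geo.omegaGL ⇑Q) := by
  have e1 : Cfsg.Geo.subspaceStabilizer (Submodule.span F {v}) ⊓ Cfsg.Geo.omegaGL ⇑Q =
      (stabSub Q (Submodule.span F {v}) ⊓ Cfsg.Omega F ⇑Q).map
        (Cfsg.isometryGroup F ⇑Q).subtype := by
    ext x
    constructor
    · rintro ⟨hx1, g, hg, rfl⟩
      exact ⟨g, ⟨hx1, hg⟩, rfl⟩
    · rintro ⟨g, ⟨hg1, hg2⟩, rfl⟩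
      exact ⟨hg1, g, hg2, rfl⟩
  rw [e1]
  exact isMaximalIn_map _ (Subgroup.subtype_injective _) (stab_lt_ns Q hQ hn hv)
    (fun M h1 h2 => by
      by_cases hM : M = stabSub Q (Submodule.span F {v}) ⊓ Cfsg.Omega F ⇑Q
      · exact Or.inl hM
      · exact Or.inr (eq_omega_of_lt_ns Q hQ hn hv M h1 h2 hM))

end final

end Cfsg.Agent.Lib.Helper5.NSMax
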