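import Mathlib
import Cfsg.Prelude.Def_GeometricClasses
import Cfsg.Agent.Lib.Lead.OEQF
import Cfsg.Agent.Lib.Helper22.OmMP2

/-!
OMEGA-EVEN, OE-ROWS2 leaf P2 (planner lead, `notes/OmEven_rows2_leaves.lean`): `not_omega_le_dec` for all `q`,
`8 ≤ card ι` (supports argument; helper22's support lemmas of `OmMP2` do not depend on the characteristic).
-/

set_option autoImplicit false
set_option linter.unusedSectionVars false
set_option linter.unusedVariables false

namespace Cfsg.Agent.Lib.Helper5.OELeaf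

open Cfsg Cfsg.Geo Matrix Module QuadraticMap Cfsg.Agent.Lib.Lead.OE
open Cfsg.Agent.Lib.Helper22.OmMLeaf

section generic
variable {ι : Type} [Fintype ι] [DecidableEq ι] {F : Type*} [Field F] [Fintype F]
  (Q : QuadraticForm F (ι → F))

/-- P2 (all q). -/
theorem not_omega_le_dec (hQ : (polarBilin Q).Nondegenerate) (hι : 8 ≤ Fintype.card ι) {t k : ℕ}
    {D : Fin t → Submodule F (ι → F)} (hD : IsNondegenerateMDecomposition (polar ⇑Q) k D) :
    ¬ omegaGL ⇑Q ≤ decompositionStabilizer D := by
  classical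
  intro hle
  -- the size of the support is constant on the non-zero singular vectors
  have hconst : ∀ u x : ι → F, u ≠ 0 → Q u = 0 → x ≠ 0 → Q x = 0 →
      (fsupp Q D x).card = (fsupp Q D u).card := by
    intro u x hu0 hu hx0 hx
    obtain ⟨g, hg, c, hc⟩ := Cfsg.Agent.Lib.Helper1.OmMLeaf.exists_omega_map Q hQ (by omega) hu0 hu hx0 hx
    obtain ⟨σ, hσ⟩ := hle hg
    have hc0 : c ≠ 0 := by
      rintro rfl
      rw [zero_smul] at hc
      exact hx0 hc
    rw [hc, fsupp_smul Q D hc0, fsupp_map Q hg hσ, Finset.card_map]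
  -- the choice of the sizes
  have hcard := Cfsg.Agent.Lib.Helper1.OmMLeaf.mdec_card_gen hD.decomp
  have htwo := hD.decomp.two_le
  have hpos := hD.decomp.pos
  obtain ⟨c, hc3, hct⟩ : ∃ c : ℕ, 3 ≤ c * k ∧ 2 * c ≤ t := by
    rcases Nat.lt_or_ge k 3 with hk | hk
    · have hk12 : k = 1 ∨ k = 2 := by omega
      rcases hk12 with rfl | rfl
      · refine ⟨3, by omega, by omega⟩
      · refine ⟨2, by omega, by omega⟩
    · exact ⟨1, by omega, by omega⟩
  obtain ⟨S, -, hS⟩ := Finset.exists_subset_card_eq (s := (Finset.univ : Finset (Fin t))) (n := c)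
    (by rw [Finset.card_univ, Fintype.card_fin]; omega)
  obtain ⟨T, hTS, hT⟩ := Finset.exists_subset_card_eq (s := (Finset.univ : Finset (Fin t)) \ S) (n := c)
    (by rw [Finset.card_sdiff_of_subset (Finset.subset_univ S), Finset.card_univ, Fintype.card_fin]; omega)
  have hST : Disjoint S T := by
    rw [Finset.disjoint_right]
    intro i hi
    exact (Finset.mem_sdiff.mp (hTS hi)).2
  have hfS : 3 ≤ finrank F ↥(⨆ i ∈ S, D i) := by rw [finrank_biSup_dec hD.decomp, hS]; exact hc3
  have hfT : 3 ≤ finrank F ↥(⨆ i ∈ T, D i) := by rw [finrank_biSup_dec hD.decomp, hT]; exact hc3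
  obtain ⟨a, haS, ha0, ha⟩ := Cfsg.Agent.Lib.Helper15.exists_singular_in Q _ hfS
  obtain ⟨b, hbT, hb0, hb⟩ := Cfsg.Agent.Lib.Helper15.exists_singular_in Q _ hfT
  have hab : Q (a + b) = 0 := by
    have h := polar_eq_zero_of_disjoint Q hD hST haS hbT
    unfold polar at h
    rw [ha, hb] at h
    simpa using h
  have hadd := fsupp_add Q hD hST haS hbT
  have hane := fsupp_nonempty Q hQ hD ha0
  have hab0 : a + b ≠ 0 := by
    intro h0
    rw [h0] at hadd
    have h00 : fsupp Q D (0 : ι → F) = ∅ := by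
      ext i
      rw [mem_fsupp]
      simp
    rw [h00, Finset.card_empty] at hadd
    have := hane.card_pos
    omega
  have h1 := hconst a b ha0 ha hb0 hb
  have h3 := hconst a (a + b) ha0 ha hab0 hab
  have := hane.card_pos
  omega

end generic

end Cfsg.Agent.Lib.Helper5.OELeaf
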