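import Mathlib
import Cfsg.Prelude.Def_GeometricClasses
import Cfsg.Agent.Lib.Lead.OEQF
import Cfsg.Agent.Lib.Helper22.OmMP2

/-!
OMEGA-EVEN, OE-ROWS3 leaf P2' (planner lead, `notes/OmEven_rows3_leaves.lean`): `not_omega_le_pair` for all `q`,
`8 ≤ card ι`: `Ω` does not stabilise a pair of complementary totally singular subspaces (supports argument on
helper22's `fsupp`).
-/

set_option autoImplicit false
set_option linter.unusedSectionVars false
set_option linter.unusedVariables false

namespace Cfsg.Agent.Lib.Helper5.OELeaf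

open Cfsg Cfsg.Geo Matrix Module QuadraticMap Cfsg.Agent.Lib.Lead.OE
open Cfsg.Agent.Lib.Helper22.OmMLeaf

section generic
variable {ι : Type} [Fintype ι] [DecidableEq ι] {F : Type*} [Field F] [Fintype F]
  (Q : QuadraticForm F (ι → F))

/-- the polar form vanishes on a totally singular subspace -/
lemma polar_zero_of_ts {W : Submodule F (ι → F)} (hts : IsTotallySingularQuad ⇑Q W) {a x : ι → F}
    (ha : a ∈ W) (hx : x ∈ W) : polar ⇑Q a x = 0 := by
  unfold polar
  rw [hts _ (W.add_mem ha hx), hts _ ha, hts _ hx]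
  simp

/-- a non-zero vector of one member of a totally singular pair is not orthogonal to the other member -/
lemma exists_polar_ne_zero_pair (hQ : (polarBilin Q).Nondegenerate) {k : ℕ}
    {D : Fin 2 → Submodule F (ι → F)} (hD : IsMDecomposition k D)
    (hts : ∀ i, IsTotallySingularQuad ⇑Q (D i)) {i j : Fin 2} (hij : i ≠ j) {a : ι → F}
    (ha : a ∈ D i) (ha0 : a ≠ 0) : ∃ x ∈ D j, polar ⇑Q a x ≠ 0 := by
  by_contra hcon
  push Not at hcon
  apply ha0
  apply hQ.1
  intro y
  have hle : iSup D ≤ LinearMap.ker (polarBilin Q a) := by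
    refine iSup_le fun l w hw => ?_
    rw [LinearMap.mem_ker, polarBilin_apply_apply]
    have hl : l = i ∨ l = j := by
      fin_cases i <;> fin_cases j <;> fin_cases l <;> simp_all
    rcases hl with rfl | rfl
    · exact polar_zero_of_ts Q (hts _) ha hw
    · exact hcon w hw
  have hy : y ∈ iSup D := by
    rw [hD.iSup_eq_top]
    exact Submodule.mem_top
  exact LinearMap.mem_ker.mp (hle hy)

/-- P2' (all q). -/
theorem not_omega_le_pair (hQ : (polarBilin Q).Nondegenerate) (hι : 8 ≤ Fintype.card ι) {k : ℕ}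
    {D : Fin 2 → Submodule F (ι → F)} (hD : IsMDecomposition k D)
    (hts : ∀ i, IsTotallySingularQuad ⇑Q (D i)) : ¬ omegaGL ⇑Q ≤ decompositionStabilizer D := by
  classical
  intro hle
  -- the size of the support is constant on the non-zero singular vectors
  have hconst : ∀ u x : ι → F, u ≠ 0 → Q u = 0 → x ≠ 0 → Q x = 0 →
      (fsupp Q D x).card = (fsupp Q D u).card := by
    intro u x hu0 hu hx0 hx
    obtain ⟨g, hg, c, hc⟩ := Cfsg.Agent.Lib.Helper1.OmMLeaf.exists_omega_map Q hQ (by omega) hu0 hu hx0 hx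
    obtain ⟨σ, hσ⟩ := hle hg
    have hc0 : c ≠ 0 := by
      rintro rfl
      rw [zero_smul] at hc
      exact hx0 hc
    rw [hc, fsupp_smul Q D hc0, fsupp_map Q hg hσ, Finset.card_map]
  have hcard := Cfsg.Agent.Lib.Helper1.OmMLeaf.mdec_card_gen hD
  have hk : 2 ≤ k := by omega
  -- a non-zero vector of `D 0`
  have hpos : 0 < finrank F (D 0) := by rw [hD.finrank_eq]; omega
  obtain ⟨a, ha, ha0⟩ : ∃ a ∈ D 0, a ≠ 0 := by
    rw [Module.finrank_pos_iff] at hpos
    obtain ⟨⟨a, ha⟩, ha0⟩ := exists_ne (0 : D 0)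
    exact ⟨a, ha, fun h => ha0 (Subtype.ext h)⟩
  -- a non-zero vector of `D 1` orthogonal to it
  obtain ⟨b, hb, hb0, hab⟩ : ∃ b ∈ D 1, b ≠ 0 ∧ polar ⇑Q a b = 0 := by
    let φ : D 1 →ₗ[F] F := (polarBilin Q a).comp (D 1).subtype
    have h1 := LinearMap.finrank_range_add_finrank_ker φ
    have h2 : finrank F (LinearMap.range φ) ≤ 1 := by
      have := Submodule.finrank_le (LinearMap.range φ)
      rwa [Module.finrank_self] at this
    rw [hD.finrank_eq] at h1
    have h3 : 0 < finrank F (LinearMap.ker φ) := by omega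
    have hne : LinearMap.ker φ ≠ ⊥ := by
      intro h
      rw [h, finrank_bot] at h3
      omega
    obtain ⟨⟨b, hb⟩, hbk, hb0⟩ := Submodule.exists_mem_ne_zero_of_ne_bot hne
    refine ⟨b, hb, fun h => hb0 ?_, ?_⟩
    · apply Subtype.ext
      exact h
    · have := LinearMap.mem_ker.mp hbk
      simpa [φ] using this
  have hQa : Q a = 0 := hts 0 a ha
  have hQb : Q b = 0 := hts 1 b hb
  have hQab : Q (a + b) = 0 := by
    have h := hab
    unfold polar at h
    rw [hQa, hQb] at h
    simpa using h
  -- the support of `a` has at most one element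
  have h1 : (fsupp Q D a).card ≤ 1 := by
    have hsub : fsupp Q D a ⊆ {1} := by
      intro i hi
      rw [mem_fsupp] at hi
      obtain ⟨x, hx, hne⟩ := hi
      rw [Finset.mem_singleton]
      by_contra h1
      have h0 : i = 0 := by
        fin_cases i
        · rfl
        · exact absurd rfl h1
      subst h0
      exact hne (polar_zero_of_ts Q (hts 0) ha hx)
    calc (fsupp Q D a).card ≤ ({1} : Finset (Fin 2)).card := Finset.card_le_card hsub
      _ = 1 := Finset.card_singleton 1
  -- the support of `a + b` has two elements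
  have h0mem : (0 : Fin 2) ∈ fsupp Q D (a + b) := by
    rw [mem_fsupp]
    obtain ⟨x, hx, hne⟩ := exists_polar_ne_zero_pair Q hQ hD hts (i := 1) (j := 0) (by decide) hb hb0
    refine ⟨x, hx, ?_⟩
    rw [polar_add_left, polar_zero_of_ts Q (hts 0) ha hx, zero_add]
    exact hne
  have h1mem : (1 : Fin 2) ∈ fsupp Q D (a + b) := by
    rw [mem_fsupp]
    obtain ⟨x, hx, hne⟩ := exists_polar_ne_zero_pair Q hQ hD hts (i := 0) (j := 1) (by decide) ha ha0
    refine ⟨x, hx, ?_⟩
    rw [polar_add_left, polar_zero_of_ts Q (hts 1) hb hx, add_zero]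
    exact hne
  have h2 : 2 ≤ (fsupp Q D (a + b)).card := by
    have hsub : ({0, 1} : Finset (Fin 2)) ⊆ fsupp Q D (a + b) := by
      intro i hi
      rw [Finset.mem_insert, Finset.mem_singleton] at hi
      rcases hi with rfl | rfl
      · exact h0mem
      · exact h1mem
    calc 2 = ({0, 1} : Finset (Fin 2)).card := by decide
      _ ≤ _ := Finset.card_le_card hsub
  have hab0 : a + b ≠ 0 := by
    intro h0
    rw [h0] at h0mem
    rw [mem_fsupp] at h0mem
    obtain ⟨x, -, hne⟩ := h0mem
    apply hne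
    simp
  have h3 := hconst a (a + b) ha0 hQa hab0 hQab
  omega

end generic

end Cfsg.Agent.Lib.Helper5.OELeaf
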