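import Mathlib
import Cfsg.Prelude.Def_GeometricClasses
import Cfsg.Agent.Lib.Lead.OEQF
import Cfsg.Agent.Lib.Helper5.TensorGen
import Cfsg.Agent.Lib.Helper18.OET3

/-!
OMEGA-EVEN, OE-ROWS3 leaf R13c (planner lead, `notes/OmEven_rows3_leaves.lean`): `plus_factor_of_tsym`.
`V = F^3 ⊗ F^4`, `polar Q ~ f₁ ⊗ f₂`: in an orthogonal basis `w₀, w₁, w₂` of `f₁` the space `V` is the orthogonal sum of the three
spaces `w_i ⊗ F^4 ≅ α_i f₂`, so the type of `Q` is the cube of the type of `f₂`, i.e. the type of `f₂` (level set counting).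
-/

set_option autoImplicit false
set_option linter.unusedSectionVars false
set_option linter.unusedVariables false

namespace Cfsg.Agent.Lib.Helper5.OELeaf

open Cfsg Cfsg.Geo Matrix Module QuadraticMap Cfsg.Agent.Lib.Lead.OE
open Cfsg.Agent.Lib.Helper15.QuadType Cfsg.Agent.Lib.Helper5.TensorGen
open scoped Kronecker

section generic
variable {ι : Type} [Fintype ι] [DecidableEq ι] {F : Type*} [Field F] [Fintype F]
  (Q : QuadraticForm F (ι → F))

/-- the type does not change under non-zero scalars -/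
lemma hasType_smul13 {ε : ℤ} {n : ℕ} {W : Type*} {q : W → F} (h : HasType ε n q) {a : F} (ha : a ≠ 0) :
    HasType ε n (fun w => a * q w) := by
  have key : ∀ c : F, Nat.card {v : W // a * q v = c} = Nat.card {v : W // q v = a⁻¹ * c} := by
    intro c
    apply Nat.card_congr
    refine Equiv.subtypeEquivRight ?_
    intro v
    constructor
    · intro h
      rw [← h, ← mul_assoc, inv_mul_cancel₀ ha, one_mul]
    · intro h
      rw [h, ← mul_assoc, mul_inv_cancel₀ ha, one_mul]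
  constructor
  · rw [key, mul_zero]
    exact h.1
  · intro c hc
    rw [key]
    exact h.2 _ (mul_ne_zero (inv_ne_zero ha) hc)

/-- an orthogonal family of three anisotropic vectors for a symmetric form on `F^3` -/
lemma exists_orth_triple13 (h2 : (2 : F) ≠ 0) {f₁ : (Fin 3 → F) → (Fin 3 → F) → F}
    (hf₁ : IsSymmetricForm f₁) :
    ∃ w : Fin 3 → (Fin 3 → F), (∀ i j, i ≠ j → f₁ (w i) (w j) = 0) ∧ ∀ i, f₁ (w i) (w i) ≠ 0 := by
  haveI : Invertible (2 : F) := invertibleOfNonzero h2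
  have hsymm : LinearMap.IsSymm (bilOf f₁ hf₁.bilinear) := ⟨fun x y => hf₁.symm x y⟩
  have hnd : (bilOf f₁ hf₁.bilinear).Nondegenerate := by
    refine ⟨fun x hx => ?_, fun y hy => ?_⟩
    · by_contra hne
      obtain ⟨z, hz⟩ := (hf₁.nondegenerate x hne).2
      exact hz (hx z)
    · by_contra hne
      obtain ⟨z, hz⟩ := (hf₁.nondegenerate y hne).1
      exact hz (hy z)
  obtain ⟨v, hv⟩ := LinearMap.BilinForm.exists_orthogonal_basis hsymm
  have hne := LinearMap.BilinForm.iIsOrtho.not_isOrtho_basis_self_of_nondegenerate hv hnd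
  have hn : finrank F (Fin 3 → F) = 3 := by simp
  refine ⟨fun i => v (Fin.cast hn.symm i), fun i j hij => ?_, fun i => hne _⟩
  have hcast : Fin.cast hn.symm i ≠ Fin.cast hn.symm j := fun h => hij (Fin.cast_injective _ h)
  exact hv hcast

variable {n₁ n₂ : ℕ} (e : ι ≃ Fin n₁ × Fin n₂) (P : GL ι F)

/-- the sum of the pure tensors `w i ⊗ y i` -/
noncomputable def psi13 (w : Fin n₁ → (Fin n₁ → F)) : (Fin n₁ → (Fin n₂ → F)) →ₗ[F] (ι → F) where
  toFun y := ∑ i, tau e P (w i) (y i)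
  map_add' y y' := by
    rw [← Finset.sum_add_distrib]
    refine Finset.sum_congr rfl fun i _ => ?_
    rw [Pi.add_apply, tau_add_right]
  map_smul' c y := by
    rw [RingHom.id_apply, Finset.smul_sum]
    refine Finset.sum_congr rfl fun i _ => ?_
    rw [Pi.smul_apply, tau_smul_right]

lemma psi13_apply (w : Fin n₁ → (Fin n₁ → F)) (y : Fin n₁ → (Fin n₂ → F)) :
    psi13 e P w y = ∑ i, tau e P (w i) (y i) := rfl

lemma polar_sum13 {J : Type*} (s : Finset J) (a b : J → (ι → F)) :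
    polar ⇑Q (∑ i ∈ s, a i) (∑ j ∈ s, b j) = ∑ i ∈ s, ∑ j ∈ s, polar ⇑Q (a i) (b j) := by
  have h : polar ⇑Q (∑ i ∈ s, a i) (∑ j ∈ s, b j) = polarBilin Q (∑ i ∈ s, a i) (∑ j ∈ s, b j) := rfl
  rw [h, map_sum (polarBilin Q) a s, LinearMap.sum_apply]
  refine Finset.sum_congr rfl fun i _ => ?_
  rw [map_sum]
  rfl

/-- the polar form on sums of pure tensors along an orthogonal family -/
lemma polar_psi13 (f₁ : (Fin n₁ → F) → (Fin n₁ → F) → F) (f₂ : (Fin n₂ → F) → (Fin n₂ → F) → F)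
    (hf₁ : IsBilinearForm f₁) (hf₂ : IsBilinearForm f₂) (c : F)
    (hform : ∀ x y : Fin n₁ × Fin n₂ → F,
      polar ⇑Q ((P : Matrix ι ι F) *ᵥ (x ∘ e)) ((P : Matrix ι ι F) *ᵥ (y ∘ e)) =
        c * formOfGram id (gramMatrix f₁ ⊗ₖ gramMatrix f₂) x y)
    (w : Fin n₁ → (Fin n₁ → F)) (horth : ∀ i j, i ≠ j → f₁ (w i) (w j) = 0)
    (y y' : Fin n₁ → (Fin n₂ → F)) :
    polar ⇑Q (psi13 e P w y) (psi13 e P w y') = ∑ i, c * f₁ (w i) (w i) * f₂ (y i) (y' i) := by
  rw [psi13_apply, psi13_apply, polar_sum13]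
  refine Finset.sum_congr rfl fun i _ => ?_
  rw [Finset.sum_eq_single i]
  · rw [form_tau e P (polar ⇑Q) f₁ hf₁ f₂ hf₂ c hform]
    ring
  · intro j _ hji
    rw [form_tau e P (polar ⇑Q) f₁ hf₁ f₂ hf₂ c hform, horth i j (Ne.symm hji)]
    ring
  · intro h
    exact absurd (Finset.mem_univ i) h

end generic

section main
variable {ι : Type} [Fintype ι] [DecidableEq ι] {F : Type*} [Field F] [Fintype F]
  (Q : QuadraticForm F (ι → F))

/-- the triples as functions on `Fin 3` -/
def e313 (X : Type*) : ((X × X) × X) ≃ (Fin 3 → X) where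
  toFun p := ![p.1.1, p.1.2, p.2]
  invFun y := ((y 0, y 1), y 2)
  left_inv p := rfl
  right_inv y := by
    funext i
    fin_cases i <;> rfl

/-- `⊤` is non-degenerate -/
lemma nd_top13 {κ : Type} [Fintype κ] [DecidableEq κ] (Q : QuadraticForm F (κ → F))
    (hQ : (polarBilin Q).Nondegenerate) : IsNondegenerateOn (polar ⇑Q) (⊤ : Submodule F (κ → F)) := by
  intro w _ hw
  have h3 : ∃ x, polar ⇑Q x w ≠ 0 := by
    by_contra hcon
    push Not at hcon
    apply hw
    exact hQ.2 w (fun x => by rw [polarBilin_apply_apply]; exact hcon x)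
  obtain ⟨x, hx⟩ := h3
  exact ⟨⟨x, Submodule.mem_top, hx⟩, ⟨x, Submodule.mem_top, by rwa [polar_comm]⟩⟩

/-- R13c. -/
theorem plus_factor_of_tsym (hQ : (polarBilin Q).Nondegenerate) (h2 : (2 : F) ≠ 0)
    (e : ι ≃ Fin 3 × Fin 4) (P : GL ι F) (f₁ : (Fin 3 → F) → (Fin 3 → F) → F)
    (f₂ : (Fin 4 → F) → (Fin 4 → F) → F) (hf₁ : IsSymmetricForm f₁) (hf₂ : IsSymmetricForm f₂)
    (hT : IsTensorFormStructure id (polar ⇑Q) f₁ f₂ e P) (hplus : IsPlusTypeOn ⇑Q ⊤) :
    IsPlusTypeOn (fun v : Fin 4 → F => f₂ v v) ⊤ := by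
  classical
  obtain ⟨c, hc, hform⟩ := hT
  obtain ⟨w, horth, hw⟩ := exists_orth_triple13 h2 hf₁
  -- the quadratic form of `f₂`
  let q₂ : QuadraticForm F (Fin 4 → F) := qOf f₂ hf₂.bilinear
  have hq₂nd : (polarBilin q₂).Nondegenerate := by
    refine ⟨fun x hx => ?_, fun y hy => ?_⟩
    · by_contra hne
      obtain ⟨z, hz⟩ := (hf₂.nondegenerate x hne).2
      have := hx z
      rw [polarBilin_apply_apply, polar_qOf f₂ hf₂.bilinear hf₂.symm] at this
      exact hz ((mul_eq_zero.mp this).resolve_left h2)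
    · by_contra hne
      obtain ⟨z, hz⟩ := (hf₂.nondegenerate y hne).1
      have := hy z
      rw [polarBilin_apply_apply, polar_qOf f₂ hf₂.bilinear hf₂.symm] at this
      exact hz ((mul_eq_zero.mp this).resolve_left h2)
  have hfin4 : finrank F (Fin 4 → F) = 2 * 2 := by simp
  obtain ⟨ε, hε, hty⟩ := hasType_of_nondeg q₂ hq₂nd 2 hfin4
  -- the value of `Q` on sums of pure tensors
  have hQpsi : ∀ y : Fin 3 → (Fin 4 → F),
      Q (psi13 e P w y) = ∑ i, (2⁻¹ * c * f₁ (w i) (w i)) * q₂ (y i) := by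
    intro y
    have h1 := polar_psi13 Q e P f₁ f₂ hf₁.bilinear hf₂.bilinear c hform w horth y y
    have h3 : polar ⇑Q (psi13 e P w y) (psi13 e P w y) = 2 * Q (psi13 e P w y) := by
      rw [QuadraticMap.polar_self]
      simp
    rw [h3] at h1
    have h4 : Q (psi13 e P w y) = 2⁻¹ * (2 * Q (psi13 e P w y)) := by
      rw [← mul_assoc, inv_mul_cancel₀ h2, one_mul]
    rw [h4, h1, Finset.mul_sum]
    refine Finset.sum_congr rfl fun i _ => ?_
    rw [qOf_apply]
    ring
  -- `psi13` is bijective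
  have hinj : Function.Injective (psi13 e P w) := by
    rw [← LinearMap.ker_eq_bot, LinearMap.ker_eq_bot']
    intro y hy
    funext i
    by_contra hne
    obtain ⟨z, hz⟩ := (hf₂.nondegenerate (y i) hne).2
    have h1 := polar_psi13 Q e P f₁ f₂ hf₁.bilinear hf₂.bilinear c hform w horth y (Pi.single i z)
    rw [hy] at h1
    have h0 : polar ⇑Q 0 (psi13 e P w (Pi.single i z)) = 0 := by simp [polar]
    rw [h0, Finset.sum_eq_single i] at h1
    · rw [Pi.single_eq_same] at h1
      have h5 := h1.symm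
      rcases mul_eq_zero.mp h5 with h6 | h6
      · rcases mul_eq_zero.mp h6 with h7 | h7
        · exact hc h7
        · exact hw i h7
      · exact hz h6
    · intro j _ hji
      rw [Pi.single_eq_of_ne hji, bf_zero_right f₂ hf₂.bilinear, mul_zero]
    · intro h
      exact absurd (Finset.mem_univ i) h
  have hcardι : Fintype.card ι = 12 := by
    rw [Fintype.card_congr e]
    simp
  have hfin : finrank F (Fin 3 → (Fin 4 → F)) = finrank F (ι → F) := by
    rw [Module.finrank_fintype_fun_eq_card, hcardι, Module.finrank_pi_fintype]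
    simp
  have hbij : Function.Bijective (psi13 e P w) :=
    ⟨hinj, (LinearMap.injective_iff_surjective_of_finrank_eq_finrank hfin).1 hinj⟩
  -- the type of `Q` is the cube of the type of `f₂`
  have ha : ∀ i, 2⁻¹ * c * f₁ (w i) (w i) ≠ 0 := fun i =>
    mul_ne_zero (mul_ne_zero (inv_ne_zero h2) hc) (hw i)
  have hprod := ((hasType_smul13 hty (ha 0)).prod (hasType_smul13 hty (ha 1))).prod
    (hasType_smul13 hty (ha 2))
  have htop : TypeOn Q ⊤ (ε * ε * ε) := by
    refine ⟨6, ?_, ?_⟩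
    · rw [finrank_top, Module.finrank_fintype_fun_eq_card, hcardι]
    · refine hprod.congr (((e313 (Fin 4 → F)).trans (Equiv.ofBijective _ hbij)).trans
        (Submodule.topEquiv (R := F) (M := ι → F)).symm.toEquiv) ?_
      intro p
      show Q (psi13 e P w ((e313 (Fin 4 → F)) p)) = _
      rw [hQpsi, Fin.sum_univ_three]
      rfl
  -- `Q` is of plus type
  have hev12 : Even (finrank F (⊤ : Submodule F (ι → F))) := by
    rw [finrank_top, Module.finrank_fintype_fun_eq_card, hcardι]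
    decide
  have h1 : TypeOn Q ⊤ 1 :=
    (Cfsg.Agent.Lib.Helper18.OELeaf.typeOn_one_iff_plus Q (nd_top13 Q hQ) hev12).2 hplus
  have hε1 : ε = 1 := by
    obtain ⟨m, hm, hT1⟩ := htop
    obtain ⟨m', hm', hT2⟩ := h1
    have hmm : m = m' := by omega
    subst hmm
    have h3 := hT1.unique hT2
    rcases hε with rfl | rfl
    · rfl
    · norm_num at h3
  -- back to `f₂`
  rw [hε1] at hty
  have hev4 : Even (finrank F (⊤ : Submodule F (Fin 4 → F))) := by
    rw [finrank_top, hfin4]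
    decide
  have h4 : TypeOn q₂ ⊤ 1 := by
    refine ⟨2, by rw [finrank_top, hfin4], ?_⟩
    exact hty.congr (Submodule.topEquiv (R := F) (M := Fin 4 → F)).symm.toEquiv (fun v => rfl)
  exact (Cfsg.Agent.Lib.Helper18.OELeaf.typeOn_one_iff_plus q₂ (nd_top13 q₂ hq₂nd) hev4).1 h4

end main

end Cfsg.Agent.Lib.Helper5.OELeaf
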