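import Mathlib
import Cfsg.Prelude.Def_GeometricClasses
import Cfsg.Agent.Lib.Lead.OEQF
import Cfsg.Agent.Lib.Helper9.TensSwap
import Cfsg.Agent.Lib.Helper7.AschForms
import Cfsg.Agent.Lib.Helper5.TensorGen

/-!
OMEGA-EVEN, OE-ROWS2 leaves (planner lead, `notes/OmEven_rows2_leaves.lean`):
`even_of_symplectic` (E4), `tsym_swap` (R13a), `minus_factor_of_tsym` (R13b).
-/

set_option autoImplicit false
set_option linter.unusedSectionVars false
set_option linter.unusedVariables false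

namespace Cfsg.Agent.Lib.Helper5.OELeaf

open Cfsg Cfsg.Geo Matrix Module QuadraticMap Cfsg.Agent.Lib.Lead.OE
open scoped Kronecker

section generic
variable {ι : Type} [Fintype ι] [DecidableEq ι] {F : Type*} [Field F] [Fintype F]
  (Q : QuadraticForm F (ι → F))

/-- E4.  A non-degenerate alternating form lives in even dimension. -/
theorem even_of_symplectic {k : ℕ} {f : (Fin k → F) → (Fin k → F) → F} (hf : IsSymplecticForm f) :
    Even k :=
  Cfsg.Agent.Lib.Helper7.AschLeaf.even_of_symplectic f hf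

/-- R13a (swap of the two tensor factors). -/
theorem tsym_swap {n₁ n₂ : ℕ} (e : ι ≃ Fin n₁ × Fin n₂) (P : GL ι F)
    (f₁ : (Fin n₁ → F) → (Fin n₁ → F) → F) (f₂ : (Fin n₂ → F) → (Fin n₂ → F) → F)
    (f : (ι → F) → (ι → F) → F) (hT : IsTensorFormStructure id f f₁ f₂ e P) :
    ∃ (e' : ι ≃ Fin n₂ × Fin n₁) (P' : GL ι F), IsTensorFormStructure id f f₂ f₁ e' P' ∧
      tensorProductSubgroup n₂ n₁ e' P' = tensorProductSubgroup n₁ n₂ e P :=
  ⟨e.trans (Equiv.prodComm (Fin n₁) (Fin n₂)), P,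
    Cfsg.Agent.Lib.Helper9.TensSwap.isTensorFormStructure_swap hT,
    (Cfsg.Agent.Lib.Helper9.TensSwap.tensorProductSubgroup_swap e P).symm⟩

/-- the coordinate vector of a family of vectors of the second factor -/
def zOf {n₁ n₂ : ℕ} (U : Submodule F (Fin n₂ → F)) (u : Fin n₁ → U) : Fin n₁ × Fin n₂ → F :=
  fun p => (u p.1 : Fin n₂ → F) p.2

/-- the embedding of `F^{n₁} ⊗ U` -/
noncomputable def psiT {n₁ n₂ : ℕ} (e : ι ≃ Fin n₁ × Fin n₂) (P : GL ι F)
    (U : Submodule F (Fin n₂ → F)) : (Fin n₁ → U) →ₗ[F] (ι → F) where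
  toFun u := (P : Matrix ι ι F) *ᵥ (zOf U u ∘ e)
  map_add' u u' := by
    rw [← Matrix.mulVec_add]
    congr 1
  map_smul' c u := by
    rw [RingHom.id_apply, ← Matrix.mulVec_smul]
    congr 1

lemma psiT_apply {n₁ n₂ : ℕ} (e : ι ≃ Fin n₁ × Fin n₂) (P : GL ι F)
    (U : Submodule F (Fin n₂ → F)) (u : Fin n₁ → U) :
    psiT e P U u = (P : Matrix ι ι F) *ᵥ (zOf U u ∘ e) := rfl

lemma psiT_injective {n₁ n₂ : ℕ} (e : ι ≃ Fin n₁ × Fin n₂) (P : GL ι F)
    (U : Submodule F (Fin n₂ → F)) : Function.Injective (psiT e P U) := by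
  intro u u' h
  rw [psiT_apply, psiT_apply] at h
  have h1 := Cfsg.Agent.Lib.Helper5.TensorGen.gl_mulVec_inj P h
  funext i
  apply Subtype.ext
  funext j
  have h2 := congrFun h1 (e.symm (i, j))
  simpa [zOf] using h2

lemma formOfGram_zOf {n₁ n₂ : ℕ} (G₁ : Matrix (Fin n₁) (Fin n₁) F) (G₂ : Matrix (Fin n₂) (Fin n₂) F)
    (U : Submodule F (Fin n₂ → F)) (u u' : Fin n₁ → U) :
    formOfGram id (G₁ ⊗ₖ G₂) (zOf U u) (zOf U u') =
      ∑ i, ∑ i', G₁ i i' * formOfGram id G₂ (u i : Fin n₂ → F) (u' i' : Fin n₂ → F) := by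
  unfold formOfGram zOf
  simp only [Fintype.sum_prod_type, Matrix.kroneckerMap_apply, id]
  refine Finset.sum_congr rfl fun i _ => ?_
  rw [Finset.sum_comm]
  refine Finset.sum_congr rfl fun i' _ => ?_
  rw [Finset.mul_sum]
  refine Finset.sum_congr rfl fun j _ => ?_
  rw [Finset.mul_sum]
  refine Finset.sum_congr rfl fun j' _ => ?_
  ring

/-- R13b.  If `f₂` (dimension 4) has a totally singular 2-space `U₂` then `F^3 ⊗ U₂` is a totally singular 6-space of `Q`. -/
theorem minus_factor_of_tsym (hQ : (polarBilin Q).Nondegenerate) (h2 : (2 : F) ≠ 0)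
    (e : ι ≃ Fin 3 × Fin 4) (P : GL ι F) (f₁ : (Fin 3 → F) → (Fin 3 → F) → F)
    (f₂ : (Fin 4 → F) → (Fin 4 → F) → F) (hf₁ : IsSymmetricForm f₁) (hf₂ : IsSymmetricForm f₂)
    (hT : IsTensorFormStructure id (polar ⇑Q) f₁ f₂ e P) (hminus : ¬ IsPlusTypeOn ⇑Q ⊤) :
    ¬ IsPlusTypeOn (fun v : Fin 4 → F => f₂ v v) ⊤ := by
  rintro ⟨U, -, hts, hdim⟩
  apply hminus
  have hfin4 : finrank F (⊤ : Submodule F (Fin 4 → F)) = 4 := by
    rw [finrank_top, Module.finrank_fintype_fun_eq_card, Fintype.card_fin]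
  rw [hfin4] at hdim
  -- `f₂` vanishes on `U`
  have hzero : ∀ x ∈ U, ∀ y ∈ U, f₂ x y = 0 := by
    intro x hx y hy
    have h1 := hts (x + y) (U.add_mem hx hy)
    have hx0 := hts x hx
    have hy0 := hts y hy
    simp only at h1 hx0 hy0
    rw [hf₂.bilinear.add_left, hf₂.bilinear.add_right, hf₂.bilinear.add_right, hx0, hy0,
      hf₂.symm y x] at h1
    have h3 : 2 * f₂ x y = 0 := by linear_combination h1
    exact (mul_eq_zero.mp h3).resolve_left h2
  obtain ⟨c, hc, hform⟩ := hT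
  refine ⟨LinearMap.range (psiT e P U), le_top, ?_, ?_⟩
  · rintro w ⟨u, rfl⟩
    have h1 : polar ⇑Q (psiT e P U u) (psiT e P U u) = 0 := by
      rw [psiT_apply, hform, formOfGram_zOf]
      rw [Finset.sum_eq_zero, mul_zero]
      intro i _
      apply Finset.sum_eq_zero
      intro i' _
      rw [← Cfsg.Agent.Lib.Helper5.TensorGen.bf_eq_formOfGram f₂ hf₂.bilinear,
        hzero _ (u i).2 _ (u i').2, mul_zero]
    have h3 : polar ⇑Q (psiT e P U u) (psiT e P U u) = 2 * Q (psiT e P U u) := by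
      rw [QuadraticMap.polar_self]
      simp
    rw [h3] at h1
    exact (mul_eq_zero.mp h1).resolve_left h2
  · rw [LinearMap.finrank_range_of_inj (psiT_injective e P U), Module.finrank_pi_fintype,
      finrank_top, Module.finrank_fintype_fun_eq_card, Fintype.card_congr e]
    simp only [Finset.sum_const, Finset.card_univ, Fintype.card_fin, smul_eq_mul,
      Fintype.card_prod]
    omega

end generic

end Cfsg.Agent.Lib.Helper5.OELeaf
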