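/-
helper5 (S2344 Part III, leaf CB `conj_ubarMat` of helper16's plan `notes/S2344_leavesIIIb.lean`,
same name and binders): the generic conjugation lemma for the opposite radical `ubarMat`.
-/
import Mathlib
import Cfsg.Agent.Lib.Helper16.OOEndConDefs

set_option autoImplicit false

namespace Cfsg.Agent.Lib.Helper5.OOEndCB

open Matrix Cfsg.Agent.Lib.Helper16.OOEnd Cfsg.Agent.Lib.Helper26.OOMin Cfsg.Agent.Lib.Helper27.OPMin

variable {F : Type*} [Field F] {m : ℕ}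

/-- the polar form of the odd quadratic form -/
def pol (n : ℕ) (u w : Ix n → F) : F :=
  Cfsg.quadFormOdd n F (u + w) - Cfsg.quadFormOdd n F u - Cfsg.quadFormOdd n F w

theorem pol_apply (n : ℕ) (w u : Ix n → F) :
    pol n w u = 2 * w (.inl ()) * u (.inl ()) +
      ∑ i, (w (.inr (.inl i)) * u (.inr (.inr i)) + w (.inr (.inr i)) * u (.inr (.inl i))) := by
  unfold pol Cfsg.quadFormOdd
  simp only [Pi.add_apply]
  have h : ∀ i : Fin n,
      (w (.inr (.inl i)) + u (.inr (.inl i))) * (w (.inr (.inr i)) + u (.inr (.inr i))) =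
      w (.inr (.inl i)) * w (.inr (.inr i)) + u (.inr (.inl i)) * u (.inr (.inr i)) +
      (w (.inr (.inl i)) * u (.inr (.inr i)) + w (.inr (.inr i)) * u (.inr (.inl i))) := by
    intro i; ring
  simp_rw [h]
  rw [Finset.sum_add_distrib, Finset.sum_add_distrib]
  ring

theorem pol_smul_right (n : ℕ) (c : F) (w u : Ix n → F) : pol n w (c • u) = c * pol n w u := by
  rw [pol_apply, pol_apply, mul_add, Finset.mul_sum]
  congr 1
  · simp only [Pi.smul_apply, smul_eq_mul]; ring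
  · refine Finset.sum_congr rfl fun i _ => ?_
    simp only [Pi.smul_apply, smul_eq_mul]; ring

theorem quadFormOdd_smul (n : ℕ) (c : F) (u : Ix n → F) :
    Cfsg.quadFormOdd n F (c • u) = c ^ 2 * Cfsg.quadFormOdd n F u := by
  unfold Cfsg.quadFormOdd
  rw [mul_add, Finset.mul_sum]
  congr 1
  · simp only [Pi.smul_apply, smul_eq_mul]; ring
  · refine Finset.sum_congr rfl fun i _ => ?_
    simp only [Pi.smul_apply, smul_eq_mul]; ring

theorem pol_mulVec (A : Matrix (Ix (m + 1)) (Ix (m + 1)) F)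
    (hA : ∀ u, Cfsg.quadFormOdd (m + 1) F (A *ᵥ u) = Cfsg.quadFormOdd (m + 1) F u)
    (u w : Ix (m + 1) → F) : pol (m + 1) (A *ᵥ u) (A *ᵥ w) = pol (m + 1) u w := by
  unfold pol
  rw [← mulVec_add, hA, hA, hA]

theorem pol_f0 (u : Ix (m + 1) → F) : pol (m + 1) u (f0 : Ix (m + 1) → F) = e0 ⬝ᵥ u := by
  rw [pol_apply]
  unfold f0 e0
  rw [single_dotProduct, one_mul, Pi.single_eq_of_ne (by simp), mul_zero, zero_add,
    Finset.sum_eq_single (0 : Fin (m + 1))]
  · rw [Pi.single_eq_same, mul_one, Pi.single_eq_of_ne (by simp), mul_zero, add_zero]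
  · intro i _ hi
    have h1 : (Sum.inr (Sum.inr i) : Ix (m + 1)) ≠ Sum.inr (Sum.inr 0) := by
      intro h; exact hi (Sum.inr_injective (Sum.inr_injective h))
    rw [Pi.single_eq_of_ne h1, Pi.single_eq_of_ne (by simp), mul_zero, mul_zero, add_zero]
  · intro h; exact absurd (Finset.mem_univ _) h

theorem pol_hat (z : Ix m → F) (u : Ix (m + 1) → F) : pol (m + 1) u (hat z) = hatJ z ⬝ᵥ u := by
  rw [pol_apply]
  unfold hat hatJ dotProduct
  rw [Fintype.sum_sum_type, Fintype.sum_sum_type, Finset.sum_add_distrib]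
  simp only [Finset.univ_unique, Finset.sum_singleton, Sum.elim_inl, Sum.elim_inr]
  have h1 : ∑ i : Fin (m + 1), u (Sum.inr (Sum.inl i)) * (Fin.cons 0 (cy z) : Fin (m + 1) → F) i =
      ∑ i : Fin (m + 1), (Fin.cons 0 (cy z) : Fin (m + 1) → F) i * u (Sum.inr (Sum.inl i)) :=
    Finset.sum_congr rfl fun i _ => mul_comm _ _
  have h2 : ∑ i : Fin (m + 1), u (Sum.inr (Sum.inr i)) * (Fin.cons 0 (cx z) : Fin (m + 1) → F) i =
      ∑ i : Fin (m + 1), (Fin.cons 0 (cx z) : Fin (m + 1) → F) i * u (Sum.inr (Sum.inr i)) :=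
    Finset.sum_congr rfl fun i _ => mul_comm _ _
  rw [h1, h2]
  ring

theorem quadFormOdd_hat (z : Ix m → F) : Cfsg.quadFormOdd (m + 1) F (hat z) = Qp z := by
  unfold Cfsg.quadFormOdd hat
  simp only [Sum.elim_inl, Sum.elim_inr]
  rw [Fin.sum_univ_succ]
  simp only [Fin.cons_zero, Fin.cons_succ, mul_zero, zero_add]
  rfl

/-- local copy of leaf CA's `ubarMat_mulVec` -/
theorem ubarMat_mulVec_aux (z : Ix m → F) (u : Ix (m + 1) → F) :
    ubarMat z *ᵥ u =
      u + (e0 ⬝ᵥ u) • hat z - (hatJ z ⬝ᵥ u) • f0 - (Qp z * (e0 ⬝ᵥ u)) • f0 := by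
  unfold ubarMat
  rw [sub_mulVec, sub_mulVec, add_mulVec, one_mulVec, smul_mulVec, vecMulVec_mulVec,
    vecMulVec_mulVec, vecMulVec_mulVec]
  simp only [op_smul_eq_smul, smul_smul]

/-- CB: the generic conjugation lemma. -/
theorem conj_ubarMat (A : Matrix (Ix (m + 1)) (Ix (m + 1)) F)
    (hA : ∀ u, Cfsg.quadFormOdd (m + 1) F (A *ᵥ u) = Cfsg.quadFormOdd (m + 1) F u) (l : Fˣ)
    (he : A *ᵥ e0 = (l : F) • e0) (hf : A *ᵥ f0 = ((l⁻¹ : Fˣ) : F) • f0) (z z' : Ix m → F)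
    (hz : A *ᵥ hat z = (l : F) • hat z') : A * ubarMat z = ubarMat z' * A := by
  have hl : (l : F) ≠ 0 := l.ne_zero
  have hlinv : ((l⁻¹ : Fˣ) : F) = (l : F)⁻¹ := Units.val_inv_eq_inv_val l
  rw [ext_iff_mulVec]
  intro u
  rw [← mulVec_mulVec, ← mulVec_mulVec, ubarMat_mulVec_aux, ubarMat_mulVec_aux, mulVec_sub,
    mulVec_sub, mulVec_add, mulVec_smul, mulVec_smul, mulVec_smul, hz, hf]
  -- the three scalar identities
  have hf0 : (f0 : Ix (m + 1) → F) = (l : F) • (A *ᵥ f0) := by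
    rw [hf, smul_smul, hlinv, mul_inv_cancel₀ hl, one_smul]
  have hhat : hat z' = ((l : F)⁻¹) • (A *ᵥ hat z) := by
    rw [hz, smul_smul, inv_mul_cancel₀ hl, one_smul]
  have h1 : e0 ⬝ᵥ (A *ᵥ u) = (l : F) * (e0 ⬝ᵥ u) := by
    rw [← pol_f0, ← pol_f0]
    conv_lhs => rw [hf0]
    rw [pol_smul_right, pol_mulVec A hA]
  have h2 : hatJ z' ⬝ᵥ (A *ᵥ u) = (l : F)⁻¹ * (hatJ z ⬝ᵥ u) := by
    rw [← pol_hat, ← pol_hat, hhat, pol_smul_right, pol_mulVec A hA]
  have h3 : Qp z' = ((l : F)⁻¹) ^ 2 * Qp z := by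
    rw [← quadFormOdd_hat, ← quadFormOdd_hat, hhat, quadFormOdd_smul, hA]
  rw [h1, h2, h3, hlinv]
  simp only [smul_smul]
  congr 1
  · congr 2
    · rw [mul_comm]
    · rw [mul_comm]
  · congr 1
    field_simp

end Cfsg.Agent.Lib.Helper5.OOEndCB
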