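/-
helper5 (S2344 Part III, leaf CD `ubarMat_std` of helper16's plan `notes/S2344_leavesIIIb.lean`,
same name and binders): the rank-one identity inside `Ω⁺_4`.
-/
import Mathlib
import Cfsg.Agent.Lib.Helper16.OOEndConDefs

set_option autoImplicit false

namespace Cfsg.Agent.Lib.Helper5.OOEndCD

open Matrix Cfsg.Agent.Lib.Helper16.OOEnd Cfsg.Agent.Lib.Helper26.OOMin Cfsg.Agent.Lib.Helper27.OPMin

variable {F : Type*} [Field F] {m : ℕ}

theorem embO_mul {n : ℕ} (A B : Matrix (Fin n ⊕ Fin n) (Fin n ⊕ Fin n) F) :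
    embO A * embO B = embO (A * B) := by
  unfold embO
  rw [fromBlocks_multiply]
  simp

theorem cons_zero_single (i : Fin m) (c : F) :
    (Fin.cons 0 (Pi.single i c : Fin m → F) : Fin (m + 1) → F) = Pi.single i.succ c := by
  funext j
  refine Fin.cases ?_ (fun k => ?_) j
  · rw [Fin.cons_zero, Pi.single_eq_of_ne (Fin.succ_ne_zero i).symm]
  · rw [Fin.cons_succ]
    by_cases h : k = i
    · subst h; rw [Pi.single_eq_same, Pi.single_eq_same]
    · rw [Pi.single_eq_of_ne h, Pi.single_eq_of_ne (fun h' => h (Fin.succ_injective _ h'))]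

theorem single_apply' {n : ℕ} (i j r c : Fin n) (x : F) :
    Matrix.single i j x r c = if r = i ∧ c = j then x else 0 := by
  rw [Matrix.single_apply]
  by_cases h1 : i = r <;> by_cases h2 : j = c
  · rw [if_pos ⟨h1, h2⟩, if_pos ⟨h1.symm, h2.symm⟩]
  · rw [if_neg (fun h => h2 h.2), if_neg (fun h => h2 h.2.symm)]
  · rw [if_neg (fun h => h1 h.1), if_neg (fun h => h1 h.1.symm)]
  · rw [if_neg (fun h => h1 h.1), if_neg (fun h => h1 h.1.symm)]

/-- the `2n × 2n` matrix of `ubar (b e_i - f_i)` -/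
theorem ubarMat_std_eq (i : Fin m) (b : F) :
    ubarMat (std i b) = embO (fromBlocks (1 + Matrix.single i.succ 0 b) 0
      (Matrix.single 0 i.succ 1 - Matrix.single i.succ 0 1 + Matrix.single 0 0 b)
      (1 - Matrix.single 0 i.succ b)) := by
  have hQ : Qp (std i b) = -b := by
    rw [Qp_eq]
    unfold std
    simp only [c0_mk, cx_mk, cy_mk]
    rw [single_dotProduct, Pi.single_eq_same]
    ring
  have hhat : hat (std i b) = Sum.elim (fun _ => 0)
      (Sum.elim (Pi.single i.succ b) (Pi.single i.succ (-1))) := by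
    unfold hat std
    simp only [c0_mk, cx_mk, cy_mk, cons_zero_single]
  have hhatJ : hatJ (std i b) = Sum.elim (fun _ => 0)
      (Sum.elim (Pi.single i.succ (-1)) (Pi.single i.succ b)) := by
    unfold hatJ std
    simp only [c0_mk, cx_mk, cy_mk, cons_zero_single, mul_zero]
  unfold ubarMat
  rw [hQ, hhat, hhatJ]
  unfold embO e0 f0
  ext r c
  rcases r with ⟨⟩ | r | r <;> rcases c with ⟨⟩ | c | c <;>
    simp [vecMulVec_apply, Matrix.one_apply, single_apply', Pi.single_apply, fromBlocks] <;>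
    (by_cases h1 : r = 0 <;> by_cases h2 : r = i.succ <;> by_cases h3 : c = 0 <;>
      by_cases h4 : c = i.succ <;> simp [h1, h2, h3, h4])

theorem radMatO_single (i : Fin m) :
    radMatO (Matrix.single i.succ 0 (1 : F)) =
      embO (fromBlocks 1 (Matrix.single i.succ 0 1 - Matrix.single 0 i.succ 1) 0 1) := by
  unfold radMatO radMat
  rw [transpose_single]

theorem leviMatO_transv (i : Fin m) (β : F) :
    leviMatO ((SpecialLinearGroup.transvection (zero_ne_succ i) β :
        SpecialLinearGroup (Fin (m + 1)) F) : Matrix (Fin (m + 1)) (Fin (m + 1)) F) =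
      embO (fromBlocks (1 + Matrix.single 0 i.succ β) 0 0 (1 - Matrix.single i.succ 0 β)) := by
  unfold leviMatO leviMat
  rw [SpecialLinearGroup.transvection_coe]
  have hinv : (1 + Matrix.single (0 : Fin (m + 1)) i.succ β)⁻¹ = 1 - Matrix.single 0 i.succ β := by
    apply Matrix.inv_eq_right_inv
    rw [mul_sub, mul_one, add_mul, one_mul,
      single_mul_single_of_ne _ _ _ _ (Fin.succ_ne_zero i)]
    abel
  rw [hinv, transpose_sub, transpose_one, transpose_single]

theorem dg2_coe (i : Fin m) (b : Fˣ) :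
    ((dg2 i b : SpecialLinearGroup (Fin (m + 1)) F) : Matrix (Fin (m + 1)) (Fin (m + 1)) F) =
      1 + Matrix.single 0 0 ((b : F) - 1) + Matrix.single i.succ i.succ (((b⁻¹ : Fˣ) : F) - 1) := by
  show Matrix.diagonal (Fin.cons (b : F) (fun k => if k = i then ((b⁻¹ : Fˣ) : F) else 1)) = _
  ext r c
  simp only [Matrix.diagonal_apply, Matrix.add_apply, Matrix.one_apply, single_apply']
  refine Fin.cases ?_ (fun k => ?_) r
  · by_cases h3 : c = 0
    · simp [h3, (Fin.succ_ne_zero i).symm]
    · simp [h3, Ne.symm h3, (Fin.succ_ne_zero i).symm]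
  · by_cases hk : k = i
    · subst hk
      by_cases h4 : c = k.succ
      · simp [h4, Fin.succ_ne_zero]
      · simp [h4, Ne.symm h4, Fin.succ_ne_zero]
    · have hk' : k.succ ≠ i.succ := fun h => hk (Fin.succ_injective _ h)
      by_cases h4 : c = k.succ
      · simp [h4, hk, hk', Fin.succ_ne_zero]
      · simp [Ne.symm h4, hk', Fin.succ_ne_zero]

theorem leviMatO_dg2 (i : Fin m) (b : Fˣ) :
    leviMatO ((dg2 i b : SpecialLinearGroup (Fin (m + 1)) F) :
        Matrix (Fin (m + 1)) (Fin (m + 1)) F) =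
      embO (fromBlocks
        (1 + Matrix.single 0 0 ((b : F) - 1) + Matrix.single i.succ i.succ (((b⁻¹ : Fˣ) : F) - 1))
        0 0
        (1 + Matrix.single 0 0 (((b⁻¹ : Fˣ) : F) - 1) + Matrix.single i.succ i.succ ((b : F) - 1))) := by
  unfold leviMatO leviMat
  rw [dg2_coe]
  have hb : (b : F) * ((b⁻¹ : Fˣ) : F) = 1 := by
    rw [← Units.val_mul, mul_inv_cancel, Units.val_one]
  have hb' : ((b⁻¹ : Fˣ) : F) * (b : F) = 1 := by rw [mul_comm, hb]
  have h0a : (0 : Fin (m + 1)) ≠ i.succ := zero_ne_succ i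
  have hinv : (1 + Matrix.single (0 : Fin (m + 1)) 0 ((b : F) - 1) +
      Matrix.single i.succ i.succ (((b⁻¹ : Fˣ) : F) - 1))⁻¹ =
      1 + Matrix.single 0 0 (((b⁻¹ : Fˣ) : F) - 1) + Matrix.single i.succ i.succ ((b : F) - 1) := by
    apply Matrix.inv_eq_right_inv
    simp only [mul_add, add_mul, mul_one, one_mul, single_mul_single_same,
      single_mul_single_of_ne _ _ _ _ h0a, single_mul_single_of_ne _ _ _ _ h0a.symm, add_zero]
    have e1 : ((b : F) - 1) * (((b⁻¹ : Fˣ) : F) - 1) = -(((b⁻¹ : Fˣ) : F) - 1) - ((b : F) - 1) := by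
      have : ((b : F) - 1) * (((b⁻¹ : Fˣ) : F) - 1) =
          (b : F) * ((b⁻¹ : Fˣ) : F) - (b : F) - ((b⁻¹ : Fˣ) : F) + 1 := by ring
      rw [this, hb]; ring
    have e2 : (((b⁻¹ : Fˣ) : F) - 1) * ((b : F) - 1) = -((b : F) - 1) - (((b⁻¹ : Fˣ) : F) - 1) := by
      rw [mul_comm, e1]; ring
    rw [e1, e2]
    ext r c
    simp only [Matrix.add_apply, Matrix.one_apply, single_apply']
    by_cases h1 : r = 0 <;> by_cases h2 : r = i.succ <;> by_cases h3 : c = 0 <;>
      by_cases h4 : c = i.succ <;> simp [h1, h2, h3, h4, h0a, h0a.symm] <;> ring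
  have htr : (1 + Matrix.single (0 : Fin (m + 1)) 0 (((b⁻¹ : Fˣ) : F) - 1) +
      Matrix.single i.succ i.succ ((b : F) - 1))ᵀ =
      1 + Matrix.single 0 0 (((b⁻¹ : Fˣ) : F) - 1) + Matrix.single i.succ i.succ ((b : F) - 1) := by
    rw [transpose_add, transpose_add, transpose_one, transpose_single, transpose_single]
  rw [hinv, htr]

set_option maxHeartbeats 1600000 in
/-- CD: the rank-one identity. -/
theorem ubarMat_std (i : Fin m) (b : Fˣ) :
    ubarMat (std i (b : F)) =
      radMatO (Matrix.single i.succ 0 (1 : F)) *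
          leviMatO ((SpecialLinearGroup.transvection (zero_ne_succ i) ((b⁻¹ : Fˣ) : F) :
            SpecialLinearGroup (Fin (m + 1)) F) : Matrix (Fin (m + 1)) (Fin (m + 1)) F) *
        wMatO 0 i.succ *
        (leviMatO ((dg2 i b : SpecialLinearGroup (Fin (m + 1)) F) :
            Matrix (Fin (m + 1)) (Fin (m + 1)) F) *
          (radMatO (Matrix.single i.succ 0 (1 : F)) *
            leviMatO ((SpecialLinearGroup.transvection (zero_ne_succ i) ((b⁻¹ : Fˣ) : F) :
              SpecialLinearGroup (Fin (m + 1)) F) : Matrix (Fin (m + 1)) (Fin (m + 1)) F))) := by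
  have h0a : (0 : Fin (m + 1)) ≠ i.succ := zero_ne_succ i
  have hb0 : (b : F) ≠ 0 := b.ne_zero
  rw [ubarMat_std_eq, radMatO_single, leviMatO_transv, leviMatO_dg2]
  unfold wMatO swapMat
  rw [Units.val_inv_eq_inv_val]
  simp only [embO_mul]
  congr 1
  simp only [fromBlocks_multiply]
  congr 1
  all_goals
    simp only [mul_add, add_mul, mul_sub, sub_mul, mul_one, one_mul, mul_zero, zero_mul, add_zero,
      zero_add, sub_zero, zero_sub, neg_mul, mul_neg, neg_zero, single_mul_single_same,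
      single_mul_single_of_ne _ _ _ _ h0a, single_mul_single_of_ne _ _ _ _ h0a.symm]
    ext r c
    simp only [Matrix.add_apply, Matrix.sub_apply, Matrix.neg_apply, Matrix.one_apply,
      Matrix.zero_apply, single_apply']
    by_cases h1 : r = 0 <;> by_cases h2 : r = i.succ <;> by_cases h3 : c = 0 <;>
      by_cases h4 : c = i.succ <;> simp [h1, h2, h3, h4, h0a, h0a.symm] <;>
      (try field_simp) <;> (try ring)

end Cfsg.Agent.Lib.Helper5.OOEndCD
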