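/-
helper5 (S2344, leaf ST4 `stage_O` of helper26's plan `notes/S2344_leaves.lean`, same name and
binders): the stage lemma, assembled from `stage_O_of` and the leaves H2 (helper24), ST3 (helper19),
ST6 (helper17).
-/
import Mathlib
import Cfsg.Agent.Lib.Helper5.OOMinST4Core
import Cfsg.Agent.Lib.Helper24.OOMinH
import Cfsg.Agent.Lib.Helper19.OOMinST3
import Cfsg.Agent.Lib.Helper17.OOMinST6

set_option autoImplicit false
set_option linter.unusedSectionVars false
set_option linter.unusedVariables false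

namespace Cfsg.Agent.Lib.Helper5.OOMin

open Matrix Module Cfsg.Agent.Lib.Helper27.OPMin Cfsg.Agent.Lib.Helper16.SLMin
  Cfsg.Agent.Lib.Helper26.OOMin

section ST

variable {F : Type*} [Field F] [Fintype F] [DecidableEq F] {n : ℕ} {H : Type*} [Group H]
  {M : Type*} [AddCommGroup M] [Module ℂ M] [FiniteDimensional ℂ M]
  (D : SiegelB F n H) (ρ : Representation ℂ H M)

/-- ST4 (the stage lemma; assembly = copy of `Helper5/OPMinStage.lean` with ST3, ST5, ST6, H2). -/
theorem stage_O (hn : 3 ≤ n) (hq : 3 < Fintype.card F) (hchar : (2 : F) ≠ 0)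
    (hmq : ∀ a b : Fin n → F, LinearIndependent F ![a, b] →
      finrank ℂ ↥(wt ρ D.toSiegel.radv (ofM (wedge a b))) = Fintype.card F)
    (htriv : ∀ g : SpecialLinearGroup (Fin n) F, ∀ m ∈ wt ρ D.toSiegel.radv 0,
      ρ (D.levi g) m = m) : False :=
  stage_O_of D ρ
    (fun v i j hij => Cfsg.Agent.Lib.Helper24.OOMin.card_mul_finrank_wt_inf_shoFix D ρ hchar v i j hij)
    (fun a b i j hab hia hib hj hij t δ hδ hmq' =>
      Cfsg.Agent.Lib.Helper19.OOMin.levi_transvection_fix_Wd_O D ρ hq hchar a b i j hab hia hib hj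
        hij t δ hδ hmq')
    (fun i₀ a b i j hab hi₀a hi₀b hia hib hj hij hne t h1 =>
      Cfsg.Agent.Lib.Helper17.OOMin.levi_transvection_fix_V0_O D ρ hq i₀ a b i j hab hi₀a hi₀b hia
        hib hj hij hne t h1)
    hn hmq htriv

end ST

end Cfsg.Agent.Lib.Helper5.OOMin
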