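import Mathlib
import Cfsg.Prelude.Def_ClassicalGeometry
import Cfsg.Prelude.Def_GeometricClasses
import Cfsg.Agent.Lib.Helper5.Orth
import Cfsg.Agent.Lib.Helper5.TMCalc

/-!
Tools for quadratic forms on `F^n` in odd characteristic, used for the maximality of the
orthogonal similitude group in `SL_n(F)`: nonsingular vectors in subspaces of large dimension,
values represented, hyperbolic pairs, sums of singular vectors, products of two reflections,
Witt's lemma for nonsingular vectors.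
-/

set_option autoImplicit false
set_option linter.unusedSectionVars false
set_option linter.unusedVariables false
set_option linter.unusedSimpArgs false

noncomputable section

namespace Cfsg.Agent.Lib.Helper5.OSL
open Cfsg Matrix QuadraticMap Module Cfsg.Agent.Lib.Helper5 Cfsg.Agent.Lib.Helper5.SpMax
  Cfsg.Agent.Lib.Helper5.TMCalc

variable {F : Type*} [Field F] {n : ℕ}

lemma two_ne_zero_of_odd [Fintype F] (hodd : Odd (Fintype.card F)) : (2 : F) ≠ 0 := by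
  intro h2
  have hchar : CharP F 2 := CharTwo.of_one_ne_zero_of_two_eq_zero one_ne_zero h2
  have := FiniteField.even_card_of_char_two (F := F) (ringChar.eq_iff.mpr hchar)
  rw [Nat.odd_iff] at hodd
  omega

lemma exists_sq_comb [Fintype F] (hodd : Odd (Fintype.card F)) (κ₁ κ₂ κ : F) (h1 : κ₁ ≠ 0)
    (h2 : κ₂ ≠ 0) : ∃ α β : F, α * α * κ₁ + β * β * κ₂ = κ := by
  have hf0 : ∀ c : F, c ≠ 0 →
      (Polynomial.C c * Polynomial.X ^ 2 : Polynomial F).degree = 2 := by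
    intro c hc
    rw [Polynomial.degree_C_mul_X_pow 2 hc]; rfl
  have hg : (Polynomial.C κ₂ * Polynomial.X ^ 2 - Polynomial.C κ : Polynomial F).degree = 2 := by
    rw [Polynomial.degree_sub_C (by rw [hf0 κ₂ h2]; norm_num), hf0 κ₂ h2]
  obtain ⟨a, b, hab⟩ := FiniteField.exists_root_sum_quadratic (hf0 κ₁ h1) hg (Nat.odd_iff.mp hodd)
  refine ⟨a, b, ?_⟩
  simp only [Polynomial.eval_mul, Polynomial.eval_C, Polynomial.eval_pow, Polynomial.eval_X,
    Polynomial.eval_sub] at hab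
  linear_combination hab

lemma mem_SL_iff (g : GL (Fin n) F) :
    g ∈ Cfsg.Geo.specialLinear (Fin n) F ↔ (g : Matrix (Fin n) (Fin n) F).det = 1 := by
  change g ∈ (Matrix.GeneralLinearGroup.det : GL (Fin n) F →* Fˣ).ker ↔ _
  rw [MonoidHom.mem_ker]
  constructor
  · intro h
    have h1 := congrArg Units.val h
    simpa using h1
  · intro h
    apply Units.ext
    simpa using h

lemma mem_qsim_iff (Q : (Fin n → F) → F) (g : GL (Fin n) F) :
    g ∈ Cfsg.Geo.quadSimilarityGroup Q ↔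
      ∃ c : Fˣ, ∀ v, Q ((g : Matrix (Fin n) (Fin n) F) *ᵥ v) = (c : F) * Q v := Iff.rfl

lemma TM_add_center {M : Subgroup (GL (Fin n) F)} {s : (Fin n → F) →ₗ[F] F} {a b : Fin n → F}
    (h : TM M s a) (h' : TM M s b) : TM M s (a + b) := by
  obtain ⟨h0, t, ht, htv⟩ := h
  obtain ⟨h0', t', ht', htv'⟩ := h'
  refine ⟨by rw [map_add, h0, h0', add_zero], t * t', M.mul_mem ht ht', fun v => ?_⟩
  rw [Units.val_mul, ← Matrix.mulVec_mulVec, htv', htv, map_add, map_smul, h0', smul_eq_mul,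
    mul_zero, add_zero, smul_add]
  abel

variable (Qf : QuadraticForm F (Fin n → F))

lemma Q_add (x y : Fin n → F) : Qf (x + y) = Qf x + Qf y + polar Qf x y :=
  QuadraticMap.map_add Qf x y

lemma Q_sub (x y : Fin n → F) : Qf (x - y) = Qf x + Qf y - polar Qf x y := by
  rw [sub_eq_add_neg, Q_add, QuadraticMap.map_neg, polar_neg_right]; ring

lemma Q_smul (a : F) (x : Fin n → F) : Qf (a • x) = a * a * Qf x := by
  rw [QuadraticMap.map_smul, smul_eq_mul]

lemma pself (x : Fin n → F) : polar Qf x x = 2 * Qf x := by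
  rw [polar_self, two_nsmul, two_mul]

/-- the functional `x ↦ polar Q a x` -/
def bL (a : Fin n → F) : (Fin n → F) →ₗ[F] F := polarBilin Qf a

@[simp] lemma bL_apply (a x : Fin n → F) : bL Qf a x = polar Qf a x := rfl

lemma bL_add (a a' : Fin n → F) : bL Qf (a + a') = bL Qf a + bL Qf a' := by
  apply LinearMap.ext; intro x
  rw [LinearMap.add_apply, bL_apply, bL_apply, bL_apply, polar_add_left]

lemma bL_smul (c : F) (a : Fin n → F) : bL Qf (c • a) = c • bL Qf a := by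
  apply LinearMap.ext; intro x
  rw [LinearMap.smul_apply, bL_apply, bL_apply, polar_smul_left]

lemma bL_neg (a : Fin n → F) : bL Qf (-a) = -bL Qf a := by
  apply LinearMap.ext; intro x
  rw [LinearMap.neg_apply, bL_apply, bL_apply, polar_neg_left]

lemma exists_repr (hnd : (polarBilin Qf).Nondegenerate) (s : (Fin n → F) →ₗ[F] F) :
    ∃ p, ∀ x, s x = polar Qf p x := by
  refine ⟨(LinearMap.BilinForm.toDual (polarBilin Qf) hnd).symm s, fun x => ?_⟩
  have := LinearMap.BilinForm.apply_toDual_symm_apply (B := polarBilin Qf) (hB := hnd) s x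
  rw [← this]
  rfl

lemma exists_polar_ne (hnd : (polarBilin Qf).Nondegenerate) (x : Fin n → F) (hx : x ≠ 0) :
    ∃ y, polar Qf x y ≠ 0 := by
  by_contra hcon
  push Not at hcon
  exact hx (hnd.1 x (fun y => hcon y))

lemma exists_both_ne (hnd : (polarBilin Qf).Nondegenerate) (x y : Fin n → F) (hx : x ≠ 0)
    (hy : y ≠ 0) : ∃ z, polar Qf x z ≠ 0 ∧ polar Qf y z ≠ 0 := by
  obtain ⟨z₁, h1⟩ := exists_polar_ne Qf hnd x hx
  obtain ⟨z₂, h2⟩ := exists_polar_ne Qf hnd y hy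
  by_cases h3 : polar Qf y z₁ = 0
  · by_cases h4 : polar Qf x z₂ = 0
    · refine ⟨z₁ + z₂, ?_, ?_⟩
      · rw [polar_add_right, h4, add_zero]; exact h1
      · rw [polar_add_right, h3, zero_add]; exact h2
    · exact ⟨z₂, h4, h2⟩
  · exact ⟨z₁, h1, h3⟩

lemma polar_isom {h : GL (Fin n) F}
    (hQ : ∀ v, Qf ((h : Matrix (Fin n) (Fin n) F) *ᵥ v) = Qf v) (x y : Fin n → F) :
    polar Qf ((h : Matrix (Fin n) (Fin n) F) *ᵥ x) ((h : Matrix (Fin n) (Fin n) F) *ᵥ y) =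
      polar Qf x y := by
  unfold QuadraticMap.polar
  rw [← Matrix.mulVec_add, hQ, hQ, hQ]

/-- a subspace of dimension more than `n/2` contains a nonsingular vector -/
lemma exists_ns_sub (hnd : (polarBilin Qf).Nondegenerate) (U : Submodule F (Fin n → F))
    (hU : n < 2 * finrank F U) : ∃ x ∈ U, Qf x ≠ 0 := by
  by_contra hcon
  push Not at hcon
  have hle : U ≤ LinearMap.BilinForm.orthogonal (polarBilin Qf) U := by
    intro x hx
    rw [LinearMap.BilinForm.mem_orthogonal_iff]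
    intro y hy
    change polarBilin Qf y x = 0
    rw [polarBilin_apply_apply, polar, hcon _ (U.add_mem hy hx), hcon y hy, hcon x hx]
    ring
  have h1 := Submodule.finrank_mono hle
  rw [LinearMap.BilinForm.finrank_orthogonal hnd, Module.finrank_fin_fun] at h1
  omega

lemma finrank_iInf_ker_ge {k : ℕ} (ℓ : Fin k → ((Fin n → F) →ₗ[F] F)) :
    n ≤ finrank F (↥(⨅ i, LinearMap.ker (ℓ i))) + k := by
  have h1 := LinearMap.finrank_range_add_finrank_ker (LinearMap.pi ℓ)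
  rw [LinearMap.ker_pi, Module.finrank_fin_fun] at h1
  have h2 : finrank F (LinearMap.range (LinearMap.pi ℓ)) ≤ k := by
    have := Submodule.finrank_le (LinearMap.range (LinearMap.pi ℓ))
    rwa [Module.finrank_fin_fun] at this
  omega

lemma exists_ns (hnd : (polarBilin Qf).Nondegenerate) {k : ℕ}
    (ℓ : Fin k → ((Fin n → F) →ₗ[F] F)) (hk : 2 * k < n) :
    ∃ x, Qf x ≠ 0 ∧ ∀ i, ℓ i x = 0 := by
  have h1 := finrank_iInf_ker_ge ℓ
  obtain ⟨x, hx, hQ⟩ := exists_ns_sub Qf hnd (⨅ i, LinearMap.ker (ℓ i)) (by omega)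
  refine ⟨x, hQ, fun i => ?_⟩
  have := (Submodule.mem_iInf _).mp hx i
  exact LinearMap.mem_ker.mp this

lemma exists_ns_ne (hnd : (polarBilin Qf).Nondegenerate) (h2 : (2 : F) ≠ 0) {k : ℕ}
    (ℓ : Fin k → ((Fin n → F) →ₗ[F] F)) (φ : (Fin n → F) →ₗ[F] F) (y : Fin n → F)
    (hy : ∀ i, ℓ i y = 0) (hφ : φ y ≠ 0) (hk : 2 * (k + 1) < n) :
    ∃ x, Qf x ≠ 0 ∧ (∀ i, ℓ i x = 0) ∧ φ x ≠ 0 := by
  obtain ⟨z, hz, hzl⟩ := exists_ns Qf hnd
    (Fin.cons φ ℓ : Fin (k + 1) → ((Fin n → F) →ₗ[F] F)) (by omega)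
  have hz0 : φ z = 0 := by simpa using hzl 0
  have hzi : ∀ i, ℓ i z = 0 := fun i => by simpa using hzl i.succ
  by_cases hQy : Qf y = 0
  · by_cases h1 : Qf (y + z) = 0
    · refine ⟨y - z, ?_, ?_, ?_⟩
      · intro h3
        have h4 : Qf (y + z) + Qf (y - z) = 2 * Qf y + 2 * Qf z := by
          rw [Q_add, Q_sub]; ring
        rw [h1, h3, hQy] at h4
        apply hz
        have h5 : 2 * Qf z = 0 := by linear_combination -h4
        exact (mul_eq_zero.mp h5).resolve_left h2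
      · intro i; rw [map_sub, hy, hzi, sub_zero]
      · rw [map_sub, hz0, sub_zero]; exact hφ
    · refine ⟨y + z, h1, ?_, ?_⟩
      · intro i; rw [map_add, hy, hzi, add_zero]
      · rw [map_add, hz0, add_zero]; exact hφ
  · exact ⟨y, hQy, hy, hφ⟩

lemma exists_value [Fintype F] (hodd : Odd (Fintype.card F))
    (hnd : (polarBilin Qf).Nondegenerate) {k : ℕ}
    (ℓ : Fin k → ((Fin n → F) →ₗ[F] F)) (hk : 2 * (k + 1) < n) (κ : F) :
    ∃ c, Qf c = κ ∧ ∀ i, ℓ i c = 0 := by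
  obtain ⟨x₁, hx₁, hl₁⟩ := exists_ns Qf hnd ℓ (by omega)
  obtain ⟨x₂, hx₂, hl₂⟩ := exists_ns Qf hnd
    (Fin.cons (bL Qf x₁) ℓ : Fin (k + 1) → ((Fin n → F) →ₗ[F] F)) (by omega)
  have h12 : polar Qf x₁ x₂ = 0 := by simpa using hl₂ 0
  have hl₂' : ∀ i, ℓ i x₂ = 0 := fun i => by simpa using hl₂ i.succ
  obtain ⟨α, β, hαβ⟩ := exists_sq_comb hodd (Qf x₁) (Qf x₂) κ hx₁ hx₂
  refine ⟨α • x₁ + β • x₂, ?_, fun i => ?_⟩
  · rw [Q_add, Q_smul, Q_smul, polar_smul_left, polar_smul_right, h12]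
    simp only [smul_eq_mul, mul_zero, add_zero]
    exact hαβ
  · rw [map_add, map_smul, map_smul, hl₁, hl₂']; simp

lemma exists_hyp [Fintype F] (hodd : Odd (Fintype.card F))
    (hnd : (polarBilin Qf).Nondegenerate) (h2 : (2 : F) ≠ 0) {k : ℕ}
    (ℓ : Fin k → ((Fin n → F) →ₗ[F] F)) (hk : 2 * (k + 2) < n) :
    ∃ e f, Qf e = 0 ∧ Qf f = 0 ∧ polar Qf e f = 1 ∧ (∀ i, ℓ i e = 0) ∧ (∀ i, ℓ i f = 0) := by
  obtain ⟨x₃, hx₃, hl₃⟩ := exists_ns Qf hnd ℓ (by omega)
  obtain ⟨y, hy, hly⟩ := exists_value Qf hodd hnd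
    (Fin.cons (bL Qf x₃) ℓ : Fin (k + 1) → ((Fin n → F) →ₗ[F] F)) (by omega) (-(Qf x₃))
  have h3y : polar Qf x₃ y = 0 := by simpa using hly 0
  have hly' : ∀ i, ℓ i y = 0 := fun i => by simpa using hly i.succ
  have he : Qf (y + x₃) = 0 := by rw [Q_add, hy, polar_comm, h3y]; ring
  obtain ⟨f₀, hf₀⟩ : ∃ f₀, f₀ = (2 * Qf x₃)⁻¹ • x₃ := ⟨_, rfl⟩
  have hef₀ : polar Qf (y + x₃) f₀ = 1 := by
    rw [hf₀, polar_smul_right, polar_add_left, polar_comm Qf y x₃, h3y, pself, smul_eq_mul,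
      zero_add]
    field_simp
  have hlf₀ : ∀ i, ℓ i f₀ = 0 := fun i => by rw [hf₀, map_smul, hl₃, smul_zero]
  refine ⟨y + x₃, f₀ - Qf f₀ • (y + x₃), he, ?_, ?_, ?_, ?_⟩
  · rw [Q_sub, Q_smul, he, polar_smul_right, polar_comm, hef₀]; simp
  · rw [polar_sub_right, hef₀, polar_smul_right, pself, he]; simp
  · intro i; rw [map_add, hly', hl₃, add_zero]
  · intro i; rw [map_sub, map_smul, map_add, hly', hl₃, hlf₀]; simp

lemma sum_of_singular [Fintype F] (hodd : Odd (Fintype.card F))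
    (hnd : (polarBilin Qf).Nondegenerate) (h2 : (2 : F) ≠ 0) {k : ℕ}
    (ℓ : Fin k → ((Fin n → F) →ₗ[F] F)) (hk : 2 * (k + 3) < n) (y : Fin n → F)
    (hy : ∀ i, ℓ i y = 0) :
    ∃ z₁ z₂ z₃, Qf z₁ = 0 ∧ Qf z₂ = 0 ∧ Qf z₃ = 0 ∧ (∀ i, ℓ i z₁ = 0) ∧ (∀ i, ℓ i z₂ = 0) ∧
      (∀ i, ℓ i z₃ = 0) ∧ y = z₁ + z₂ + z₃ := by
  obtain ⟨e, f, he, hf, hef, hle, hlf⟩ := exists_hyp Qf hodd hnd h2
    (Fin.cons (bL Qf y) ℓ : Fin (k + 1) → ((Fin n → F) →ₗ[F] F)) (by omega)
  have hye : polar Qf y e = 0 := by simpa using hle 0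
  have hyf : polar Qf y f = 0 := by simpa using hlf 0
  have hle' : ∀ i, ℓ i e = 0 := fun i => by simpa using hle i.succ
  have hlf' : ∀ i, ℓ i f = 0 := fun i => by simpa using hlf i.succ
  refine ⟨y + e - Qf y • f, -e, Qf y • f, ?_, ?_, ?_, ?_, ?_, ?_, ?_⟩
  · rw [Q_sub, Q_add, Q_smul, he, hf, hye, polar_smul_right, polar_add_left, hyf, hef]; simp
  · rw [QuadraticMap.map_neg, he]
  · rw [Q_smul, hf, mul_zero]
  · intro i; rw [map_sub, map_add, map_smul, hy, hle', hlf']; simp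
  · intro i; rw [map_neg, hle', neg_zero]
  · intro i; rw [map_smul, hlf', smul_zero]
  · abel

/-- products of two reflections, as elements of the similitude group inside `SL` -/
lemma exists_pair (u v : Fin n → F) (hu : Qf u ≠ 0) (hv : Qf v ≠ 0) :
    ∃ σ : GL (Fin n) F,
      σ ∈ Cfsg.Geo.quadSimilarityGroup (⇑Qf) ⊓ Cfsg.Geo.specialLinear (Fin n) F ∧
      (∀ x, Qf ((σ : Matrix (Fin n) (Fin n) F) *ᵥ x) = Qf x) ∧
      ∀ x, (σ : Matrix (Fin n) (Fin n) F) *ᵥ x =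
        Cfsg.reflectionMatrix (⇑Qf) u *ᵥ (Cfsg.reflectionMatrix (⇑Qf) v *ᵥ x) := by
  have hdet : (Cfsg.reflectionMatrix (⇑Qf) u * Cfsg.reflectionMatrix (⇑Qf) v).det = 1 := by
    rw [Matrix.det_mul, reflection_det Qf u hu, reflection_det Qf v hv]; ring
  obtain ⟨σ, hσ⟩ : ∃ σ : GL (Fin n) F, (σ : Matrix (Fin n) (Fin n) F) =
      Cfsg.reflectionMatrix (⇑Qf) u * Cfsg.reflectionMatrix (⇑Qf) v :=
    ⟨Matrix.GeneralLinearGroup.mkOfDetNeZero _ (by rw [hdet]; exact one_ne_zero), rfl⟩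
  have hx : ∀ x, (σ : Matrix (Fin n) (Fin n) F) *ᵥ x =
      Cfsg.reflectionMatrix (⇑Qf) u *ᵥ (Cfsg.reflectionMatrix (⇑Qf) v *ᵥ x) := by
    intro x
    rw [hσ, Matrix.mulVec_mulVec]
  have hQ : ∀ x, Qf ((σ : Matrix (Fin n) (Fin n) F) *ᵥ x) = Qf x := by
    intro x
    rw [hx, reflection_preserves Qf u hu, reflection_preserves Qf v hv]
  refine ⟨σ, Subgroup.mem_inf.mpr ⟨?_, ?_⟩, hQ, hx⟩
  · rw [mem_qsim_iff]
    refine ⟨1, fun x => ?_⟩
    rw [hQ, Units.val_one, one_mul]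
  · rw [mem_SL_iff, hσ, hdet]

lemma pair_formula (u v : Fin n → F) (huv : polar Qf u v = 0) (x : Fin n → F) :
    Cfsg.reflectionMatrix (⇑Qf) u *ᵥ (Cfsg.reflectionMatrix (⇑Qf) v *ᵥ x) =
      x - ((Qf u)⁻¹ * polar Qf u x) • u - ((Qf v)⁻¹ * polar Qf v x) • v := by
  rw [reflectionMatrix_mulVec, reflectionMatrix_mulVec, polar_sub_right, polar_smul_right, huv,
    smul_zero, sub_zero]
  abel

/-- Witt's lemma for nonsingular vectors, relative to a vector `p` orthogonal to both, inside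
`SO(Q)` -/
lemma witt_ns (hnd : (polarBilin Qf).Nondegenerate) (h2 : (2 : F) ≠ 0) (hn : 5 ≤ n)
    (p x y : Fin n → F) (hxy : Qf x = Qf y) (hx : Qf x ≠ 0)
    (hpx : polar Qf p x = 0) (hpy : polar Qf p y = 0) :
    ∃ h : GL (Fin n) F,
      h ∈ Cfsg.Geo.quadSimilarityGroup (⇑Qf) ⊓ Cfsg.Geo.specialLinear (Fin n) F ∧
      (∀ v, Qf ((h : Matrix (Fin n) (Fin n) F) *ᵥ v) = Qf v) ∧
      (h : Matrix (Fin n) (Fin n) F) *ᵥ x = y ∧ (h : Matrix (Fin n) (Fin n) F) *ᵥ p = p := by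
  by_cases h1 : Qf (x - y) = 0
  · have h3 : Qf (x + y) ≠ 0 := by
      intro h4
      have h5 : Qf (x + y) + Qf (x - y) = 2 * Qf x + 2 * Qf y := by
        rw [Q_add, Q_sub]; ring
      rw [h4, h1, ← hxy] at h5
      have h6 : (2 * 2) * Qf x = 0 := by linear_combination -h5
      exact hx ((mul_eq_zero.mp h6).resolve_left (mul_ne_zero h2 h2))
    have hy : Qf y ≠ 0 := hxy ▸ hx
    obtain ⟨σ, hσH, hσQ, hσx⟩ := exists_pair Qf y (x + y) hy h3
    refine ⟨σ, hσH, hσQ, ?_, ?_⟩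
    · rw [hσx, reflectionMatrix_mulVec, reflectionMatrix_mulVec]
      have hc : (Qf (x + y))⁻¹ * polar Qf (x + y) x = 1 := by
        have : polar Qf (x + y) x = Qf (x + y) := by
          rw [polar_add_left, pself, Q_add, polar_comm Qf y x, ← hxy]; ring
        rw [this, inv_mul_cancel₀ h3]
      rw [hc, one_smul]
      have h6 : x - (x + y) = -y := by abel
      rw [h6, polar_neg_right, pself]
      have hc2 : (Qf y)⁻¹ * -(2 * Qf y) = -2 := by field_simp
      rw [hc2]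
      module
    · rw [hσx, reflectionMatrix_mulVec, reflectionMatrix_mulVec]
      have h7 : polar Qf (x + y) p = 0 := by
        rw [polar_add_left, polar_comm Qf x p, polar_comm Qf y p, hpx, hpy, add_zero]
      rw [h7, mul_zero, zero_smul, sub_zero, polar_comm Qf y p, hpy, mul_zero, zero_smul,
        sub_zero]
  · obtain ⟨w, hw, hlw⟩ := exists_ns Qf hnd ![bL Qf p, bL Qf y] (by omega)
    have hwp : polar Qf p w = 0 := by simpa using hlw 0
    have hwy : polar Qf y w = 0 := by simpa using hlw 1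
    obtain ⟨σ, hσH, hσQ, hσx⟩ := exists_pair Qf w (x - y) hw h1
    refine ⟨σ, hσH, hσQ, ?_, ?_⟩
    · rw [hσx, reflectionMatrix_mulVec, reflectionMatrix_mulVec]
      have hc : (Qf (x - y))⁻¹ * polar Qf (x - y) x = 1 := by
        have : polar Qf (x - y) x = Qf (x - y) := by
          rw [polar_sub_left, pself, Q_sub, polar_comm Qf y x, ← hxy]; ring
        rw [this, inv_mul_cancel₀ h1]
      rw [hc, one_smul]
      have h6 : x - (x - y) = y := by abel
      rw [h6, polar_comm Qf w y, hwy, mul_zero, zero_smul, sub_zero]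
    · rw [hσx, reflectionMatrix_mulVec, reflectionMatrix_mulVec]
      have h7 : polar Qf (x - y) p = 0 := by
        rw [polar_sub_left, polar_comm Qf x p, polar_comm Qf y p, hpx, hpy, sub_zero]
      rw [h7, mul_zero, zero_smul, sub_zero, polar_comm Qf w p, hwp, mul_zero, zero_smul,
        sub_zero]

end Cfsg.Agent.Lib.Helper5.OSL
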