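import Mathlib
import Cfsg.Agent.Lib.Helper5.OSLBasic

/-!
Overgroups of the orthogonal similitude group in `SL_n(F)` (odd characteristic):
a subgroup `M ≥ H` containing an element outside the similitude group contains a transvection
(the square of a product of two reflection-involutions for `Q` and for a conjugate form), and
then all transvections.
-/

set_option autoImplicit false
set_option linter.unusedSectionVars false
set_option linter.unusedVariables false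
set_option linter.unusedSimpArgs false

noncomputable section

namespace Cfsg.Agent.Lib.Helper5.OSL
open Cfsg Matrix QuadraticMap Module Cfsg.Agent.Lib.Helper5 Cfsg.Agent.Lib.Helper5.SpMax
  Cfsg.Agent.Lib.Helper5.TMCalc

variable {F : Type*} [Field F] {n : ℕ}
variable (Qf : QuadraticForm F (Fin n → F))

/-- the transvection `x ↦ x + polar Q a x • c` lies in `M` -/
def TT (M : Subgroup (GL (Fin n) F)) (a c : Fin n → F) : Prop := TM M (bL Qf a) c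

section Closure
variable {M : Subgroup (GL (Fin n) F)} {a a' c c' : Fin n → F}

lemma TT_add_left (h : TT Qf M a c) (h' : TT Qf M a' c) : TT Qf M (a + a') c := by
  unfold TT at *
  rw [bL_add]
  exact TM_add h h'

lemma TT_neg_left (h : TT Qf M a c) : TT Qf M (-a) c := by
  unfold TT at *
  rw [bL_neg]
  exact TM_neg h

lemma TT_add_right (h : TT Qf M a c) (h' : TT Qf M a c') : TT Qf M a (c + c') :=
  TM_add_center h h'

lemma TT_neg_right (h : TT Qf M a c) : TT Qf M a (-c) := by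
  unfold TT at *
  have h1 : TM M ((-1 : F) • bL Qf a) c := by
    have := TM_neg h
    rwa [← neg_one_smul F (bL Qf a)] at this
  have h2 := TM_smul_center h1
  rwa [neg_one_smul] at h2

lemma TT_conj {h : GL (Fin n) F} (hM : h ∈ M)
    (hQ : ∀ v, Qf ((h : Matrix (Fin n) (Fin n) F) *ᵥ v) = Qf v) (hT : TT Qf M a c) :
    TT Qf M ((h : Matrix (Fin n) (Fin n) F) *ᵥ a) ((h : Matrix (Fin n) (Fin n) F) *ᵥ c) := by
  unfold TT at *
  have h1 := TM_conj hM hT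
  refine TM_of_eq (fun v => ?_) h1
  rw [LinearMap.comp_apply, Matrix.toLin'_apply, bL_apply, bL_apply,
    ← polar_isom Qf hQ a (((h⁻¹ : GL (Fin n) F) : Matrix (Fin n) (Fin n) F) *ᵥ v),
    mul_inv_mulVec]

end Closure

section Phase2
variable [Fintype F] {M : Subgroup (GL (Fin n) F)}

lemma exists_ns_center (hnd : (polarBilin Qf).Nondegenerate) (h2 : (2 : F) ≠ 0) (hn : 13 ≤ n)
    (hHM : Cfsg.Geo.quadSimilarityGroup (⇑Qf) ⊓ Cfsg.Geo.specialLinear (Fin n) F ≤ M)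
    {a₀ c₀ : Fin n → F} (ha₀ : Qf a₀ ≠ 0) (hc₀ : c₀ ≠ 0) (hT : TT Qf M a₀ c₀) :
    ∃ c₁, Qf c₁ ≠ 0 ∧ TT Qf M a₀ c₁ := by
  by_cases hc : Qf c₀ = 0
  · have hac : polar Qf a₀ c₀ = 0 := hT.1
    obtain ⟨y₀, hy₀⟩ := exists_polar_ne Qf hnd c₀ hc₀
    obtain ⟨y, hy⟩ : ∃ y, y = y₀ - ((2 * Qf a₀)⁻¹ * polar Qf a₀ y₀) • a₀ := ⟨_, rfl⟩
    have hay : polar Qf a₀ y = 0 := by
      rw [hy, polar_sub_right, polar_smul_right, pself, smul_eq_mul]
      field_simp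
      ring
    have hcy : polar Qf c₀ y ≠ 0 := by
      rw [hy, polar_sub_right, polar_smul_right, polar_comm Qf c₀ a₀, hac, smul_zero, sub_zero]
      exact hy₀
    obtain ⟨w, hw, hlw, hcw⟩ := exists_ns_ne Qf hnd h2 ![bL Qf a₀] (bL Qf c₀) y
      (Fin.forall_fin_one.mpr (by simpa using hay)) (by simpa using hcy) (by omega)
    have haw : polar Qf a₀ w = 0 := by simpa using hlw 0
    have hcw' : polar Qf c₀ w ≠ 0 := by simpa using hcw
    obtain ⟨w', hw', hlw'⟩ := exists_ns Qf hnd ![bL Qf a₀, bL Qf c₀] (by omega)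
    have haw' : polar Qf a₀ w' = 0 := by simpa using hlw' 0
    have hcw'' : polar Qf c₀ w' = 0 := by simpa using hlw' 1
    obtain ⟨σ, hσH, hσQ, hσx⟩ := exists_pair Qf w w' hw hw'
    have hT2 := TT_conj Qf (hHM hσH) hσQ hT
    have hσa : (σ : Matrix (Fin n) (Fin n) F) *ᵥ a₀ = a₀ := by
      rw [hσx, reflectionMatrix_mulVec, reflectionMatrix_mulVec, polar_comm Qf w' a₀, haw',
        mul_zero, zero_smul, sub_zero, polar_comm Qf w a₀, haw, mul_zero, zero_smul, sub_zero]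
    have hσc : (σ : Matrix (Fin n) (Fin n) F) *ᵥ c₀ =
        c₀ - ((Qf w)⁻¹ * polar Qf w c₀) • w := by
      rw [hσx, reflectionMatrix_mulVec, reflectionMatrix_mulVec, polar_comm Qf w' c₀, hcw'',
        mul_zero, zero_smul, sub_zero]
    rw [hσa, hσc] at hT2
    have hT3 := TT_add_right Qf (TT_neg_right Qf hT2) hT
    have h5 : -(c₀ - ((Qf w)⁻¹ * polar Qf w c₀) • w) + c₀ =
        ((Qf w)⁻¹ * polar Qf w c₀) • w := by abel
    rw [h5] at hT3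
    refine ⟨_, ?_, hT3⟩
    rw [Q_smul]
    have hμ : (Qf w)⁻¹ * polar Qf w c₀ ≠ 0 :=
      mul_ne_zero (inv_ne_zero hw) (by rw [polar_comm]; exact hcw')
    exact mul_ne_zero (mul_ne_zero hμ hμ) hw
  · exact ⟨c₀, hc, hT⟩

lemma all_center (hodd : Odd (Fintype.card F)) (hnd : (polarBilin Qf).Nondegenerate)
    (h2 : (2 : F) ≠ 0) (hn : 13 ≤ n)
    (hHM : Cfsg.Geo.quadSimilarityGroup (⇑Qf) ⊓ Cfsg.Geo.specialLinear (Fin n) F ≤ M)
    {a₀ c₁ : Fin n → F} (ha₀ : Qf a₀ ≠ 0) (hc₁ : Qf c₁ ≠ 0) (hT : TT Qf M a₀ c₁) :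
    ∀ c, polar Qf a₀ c = 0 → TT Qf M a₀ c := by
  have hac₁ : polar Qf a₀ c₁ = 0 := hT.1
  have hlev : ∀ c, Qf c = Qf c₁ → polar Qf a₀ c = 0 → TT Qf M a₀ c := by
    intro c hQc hac
    obtain ⟨h, hH, hQ, hx, hp⟩ := witt_ns Qf hnd h2 (by omega) a₀ c₁ c hQc.symm hc₁ hac₁ hac
    have := TT_conj Qf (hHM hH) hQ hT
    rwa [hx, hp] at this
  have hsing : ∀ z, Qf z = 0 → polar Qf a₀ z = 0 → TT Qf M a₀ z := by
    intro z hz haz
    obtain ⟨c, hQc, hlc⟩ := exists_value Qf hodd hnd ![bL Qf a₀, bL Qf z] (by omega) (Qf c₁)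
    have hac : polar Qf a₀ c = 0 := by simpa using hlc 0
    have hzc : polar Qf z c = 0 := by simpa using hlc 1
    have h1 := hlev c hQc hac
    have h2' := hlev (c + z) (by rw [Q_add, hQc, hz, polar_comm, hzc]; ring)
      (by rw [polar_add_right, hac, haz, add_zero])
    have h3 := TT_add_right Qf h2' (TT_neg_right Qf h1)
    have h4 : c + z + -c = z := by abel
    rwa [h4] at h3
  intro c hac
  obtain ⟨z₁, z₂, z₃, hz₁, hz₂, hz₃, hl₁, hl₂, hl₃, hsum⟩ := sum_of_singular Qf hodd hnd h2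
    ![bL Qf a₀] (by omega) c (Fin.forall_fin_one.mpr (by simpa using hac))
  rw [hsum]
  exact TT_add_right Qf (TT_add_right Qf (hsing z₁ hz₁ (by simpa using hl₁ 0))
    (hsing z₂ hz₂ (by simpa using hl₂ 0))) (hsing z₃ hz₃ (by simpa using hl₃ 0))

lemma all_of_value (hodd : Odd (Fintype.card F)) (hnd : (polarBilin Qf).Nondegenerate)
    (h2 : (2 : F) ≠ 0) (hn : 13 ≤ n)
    (hHM : Cfsg.Geo.quadSimilarityGroup (⇑Qf) ⊓ Cfsg.Geo.specialLinear (Fin n) F ≤ M)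
    {a₀ c₁ : Fin n → F} (ha₀ : Qf a₀ ≠ 0) (hc₁ : Qf c₁ ≠ 0) (hT : TT Qf M a₀ c₁) :
    ∀ a c, Qf a = Qf a₀ → polar Qf a c = 0 → TT Qf M a c := by
  intro a c hQa hac
  obtain ⟨h, hH, hQ, hx, -⟩ := witt_ns Qf hnd h2 (by omega) 0 a₀ a hQa.symm ha₀
    (polar_zero_left Qf _) (polar_zero_left Qf _)
  have h1 : polar Qf a₀ (((h⁻¹ : GL (Fin n) F) : Matrix (Fin n) (Fin n) F) *ᵥ c) = 0 := by
    rw [← polar_isom Qf hQ a₀ (((h⁻¹ : GL (Fin n) F) : Matrix (Fin n) (Fin n) F) *ᵥ c), hx,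
      mul_inv_mulVec]
    exact hac
  have h3 := TT_conj Qf (hHM hH) hQ
    (all_center Qf hodd hnd h2 hn hHM ha₀ hc₁ hT _ h1)
  rwa [hx, mul_inv_mulVec] at h3

lemma all_TT (hodd : Odd (Fintype.card F)) (hnd : (polarBilin Qf).Nondegenerate)
    (h2 : (2 : F) ≠ 0) (hn : 13 ≤ n)
    (hHM : Cfsg.Geo.quadSimilarityGroup (⇑Qf) ⊓ Cfsg.Geo.specialLinear (Fin n) F ≤ M)
    {a₀ c₀ : Fin n → F} (ha₀ : Qf a₀ ≠ 0) (hc₀ : c₀ ≠ 0) (hT : TT Qf M a₀ c₀) :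
    ∀ a c, polar Qf a c = 0 → TT Qf M a c := by
  obtain ⟨c₁, hc₁, hT₁⟩ := exists_ns_center Qf hnd h2 hn hHM ha₀ hc₀ hT
  have hval := all_of_value Qf hodd hnd h2 hn hHM ha₀ hc₁ hT₁
  have hsing : ∀ c z, Qf z = 0 → polar Qf z c = 0 → TT Qf M z c := by
    intro c z hz hzc
    obtain ⟨a, hQa, hla⟩ := exists_value Qf hodd hnd ![bL Qf c, bL Qf z] (by omega) (Qf a₀)
    have hca : polar Qf c a = 0 := by simpa using hla 0
    have hza : polar Qf z a = 0 := by simpa using hla 1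
    have h1 := hval a c hQa (by rw [polar_comm]; exact hca)
    have h2' := hval (a + z) c (by rw [Q_add, hQa, hz, polar_comm, hza]; ring)
      (by rw [polar_add_left, polar_comm Qf a c, hca, hzc, add_zero])
    have h3 := TT_add_left Qf h2' (TT_neg_left Qf h1)
    have h4 : a + z + -a = z := by abel
    rwa [h4] at h3
  intro a c hac
  obtain ⟨z₁, z₂, z₃, hz₁, hz₂, hz₃, hl₁, hl₂, hl₃, hsum⟩ := sum_of_singular Qf hodd hnd h2
    ![bL Qf c] (by omega) a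
    (Fin.forall_fin_one.mpr (by rw [polar_comm] at hac; simpa using hac))
  rw [hsum]
  exact TT_add_left Qf (TT_add_left Qf
    (hsing c z₁ hz₁ (by rw [polar_comm]; simpa using hl₁ 0))
    (hsing c z₂ hz₂ (by rw [polar_comm]; simpa using hl₂ 0)))
    (hsing c z₃ hz₃ (by rw [polar_comm]; simpa using hl₃ 0))

lemma all_TM (hodd : Odd (Fintype.card F)) (hnd : (polarBilin Qf).Nondegenerate)
    (h2 : (2 : F) ≠ 0) (hn : 13 ≤ n)
    (hHM : Cfsg.Geo.quadSimilarityGroup (⇑Qf) ⊓ Cfsg.Geo.specialLinear (Fin n) F ≤ M)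
    {a₀ c₀ : Fin n → F} (ha₀ : Qf a₀ ≠ 0) (hc₀ : c₀ ≠ 0) (hT : TT Qf M a₀ c₀) :
    ∀ (a : Fin n → F) (s : (Fin n → F) →ₗ[F] F), s a = 0 → TM M s a := by
  intro a s hsa
  obtain ⟨p, hp⟩ := exists_repr Qf hnd s
  have h1 := all_TT Qf hodd hnd h2 hn hHM ha₀ hc₀ hT p a (by rw [← hp]; exact hsa)
  exact TM_of_eq (fun v => by rw [bL_apply, hp]) h1

end Phase2

section Phase1
variable (g : GL (Fin n) F)

/-- the transported form `Q ∘ g⁻¹` -/
def Qg : QuadraticForm F (Fin n → F) :=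
  Qf.comp (Matrix.toLin' ((g⁻¹ : GL (Fin n) F) : Matrix (Fin n) (Fin n) F))

lemma Qg_apply (x : Fin n → F) :
    Qg Qf g x = Qf (((g⁻¹ : GL (Fin n) F) : Matrix (Fin n) (Fin n) F) *ᵥ x) := by
  unfold Qg
  rw [QuadraticMap.comp_apply, Matrix.toLin'_apply]

lemma polar_Qg (x y : Fin n → F) :
    polar (Qg Qf g) x y = polar Qf (((g⁻¹ : GL (Fin n) F) : Matrix (Fin n) (Fin n) F) *ᵥ x)
      (((g⁻¹ : GL (Fin n) F) : Matrix (Fin n) (Fin n) F) *ᵥ y) := by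
  unfold QuadraticMap.polar
  rw [Qg_apply, Qg_apply, Qg_apply, Matrix.mulVec_add]

lemma Qg_nondeg (hnd : (polarBilin Qf).Nondegenerate) :
    (polarBilin (Qg Qf g)).Nondegenerate := by
  refine ⟨?_, ?_⟩
  · intro x hx
    have h1 : ((g⁻¹ : GL (Fin n) F) : Matrix (Fin n) (Fin n) F) *ᵥ x = 0 := by
      apply hnd.1
      intro y
      have := hx ((g : Matrix (Fin n) (Fin n) F) *ᵥ y)
      rw [polarBilin_apply_apply, polar_Qg, inv_mul_mulVec] at this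
      exact this
    have h := mul_inv_mulVec g x
    rw [h1, Matrix.mulVec_zero] at h
    exact h.symm
  · intro y hy
    have h1 : ((g⁻¹ : GL (Fin n) F) : Matrix (Fin n) (Fin n) F) *ᵥ y = 0 := by
      apply hnd.2
      intro x
      have := hy ((g : Matrix (Fin n) (Fin n) F) *ᵥ x)
      rw [polarBilin_apply_apply, polar_Qg, inv_mul_mulVec] at this
      exact this
    have h := mul_inv_mulVec g y
    rw [h1, Matrix.mulVec_zero] at h
    exact h.symm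

lemma exists_perp_ne (hnd : (polarBilin Qf).Nondegenerate) (h2 : (2 : F) ≠ 0) (hn : 1 ≤ n)
    (hg : g ∉ Cfsg.Geo.quadSimilarityGroup (⇑Qf)) :
    ∃ x y, polar Qf x y = 0 ∧ polar (Qg Qf g) x y ≠ 0 := by
  by_contra hcon
  push Not at hcon
  apply hg
  have hA : ∀ x : Fin n → F, ∃ lam : F, ∀ y, polar (Qg Qf g) x y = lam * polar Qf x y := by
    intro x
    by_cases hx : x = 0
    · refine ⟨0, fun y => ?_⟩
      rw [hx, polar_zero_left, zero_mul]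
    · obtain ⟨y₀, hy₀⟩ := exists_polar_ne Qf hnd x hx
      refine ⟨polar (Qg Qf g) x y₀ / polar Qf x y₀, fun y => ?_⟩
      have h1 : polar Qf x (y - (polar Qf x y / polar Qf x y₀) • y₀) = 0 := by
        rw [polar_sub_right, polar_smul_right, smul_eq_mul, div_mul_cancel₀ _ hy₀, sub_self]
      have h3 := hcon _ _ h1
      rw [polar_sub_right, polar_smul_right, smul_eq_mul, sub_eq_zero] at h3
      rw [h3]
      ring
  choose lam hlam using hA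
  have hB1 : ∀ x y, polar Qf x y ≠ 0 → lam x = lam y := by
    intro x y hxy
    have h1 := hlam x y
    have h3 := hlam y x
    rw [polar_comm (Qg Qf g) y x, polar_comm Qf y x, h1] at h3
    exact mul_right_cancel₀ hxy h3
  have hB : ∀ x y, x ≠ 0 → y ≠ 0 → lam x = lam y := by
    intro x y hx hy
    obtain ⟨z, hxz, hyz⟩ := exists_both_ne Qf hnd x y hx hy
    rw [hB1 x z hxz, hB1 y z hyz]
  obtain ⟨x₀, hx₀, -⟩ := exists_ns Qf hnd (![] : Fin 0 → ((Fin n → F) →ₗ[F] F)) (by omega)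
  have hx₀0 : x₀ ≠ 0 := by
    rintro rfl
    exact hx₀ (QuadraticMap.map_zero Qf)
  have hC : ∀ x, Qg Qf g x = lam x₀ * Qf x := by
    intro x
    by_cases hx : x = 0
    · rw [hx, QuadraticMap.map_zero, QuadraticMap.map_zero, mul_zero]
    · have h1 := hlam x x
      rw [pself, pself, hB x x₀ hx hx₀0] at h1
      have h4 : 2 * (Qg Qf g x - lam x₀ * Qf x) = 0 := by linear_combination h1
      have h5 := (mul_eq_zero.mp h4).resolve_left h2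
      linear_combination h5
  have hlam0 : lam x₀ ≠ 0 := by
    intro h0
    have h1 := hC ((g : Matrix (Fin n) (Fin n) F) *ᵥ x₀)
    rw [Qg_apply, inv_mul_mulVec, h0, zero_mul] at h1
    exact hx₀ h1
  have hinv : g⁻¹ ∈ Cfsg.Geo.quadSimilarityGroup (⇑Qf) := by
    rw [mem_qsim_iff]
    refine ⟨Units.mk0 _ hlam0, fun v => ?_⟩
    rw [Units.val_mk0, ← Qg_apply, hC]
  have := (Cfsg.Geo.quadSimilarityGroup (⇑Qf)).inv_mem hinv
  rwa [inv_inv] at this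

lemma exists_uu' (hnd : (polarBilin Qf).Nondegenerate) (h2 : (2 : F) ≠ 0) (hn : 5 ≤ n)
    (hg : g ∉ Cfsg.Geo.quadSimilarityGroup (⇑Qf)) :
    ∃ u u', Qf u ≠ 0 ∧ Qg Qf g u' ≠ 0 ∧ polar Qf u u' = 0 ∧ polar (Qg Qf g) u u' ≠ 0 := by
  obtain ⟨x, y, hxy, hxy'⟩ := exists_perp_ne Qf g hnd h2 (by omega) hg
  obtain ⟨u', hu', hl, hne⟩ := exists_ns_ne (Qg Qf g) (Qg_nondeg Qf g hnd) h2 ![bL Qf x]
    (bL (Qg Qf g) x) y (Fin.forall_fin_one.mpr (by simpa using hxy)) (by simpa using hxy')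
    (by omega)
  have hxu' : polar Qf x u' = 0 := by simpa using hl 0
  have hxu'' : polar (Qg Qf g) x u' ≠ 0 := by simpa using hne
  obtain ⟨u, hu, hl2, hne2⟩ := exists_ns_ne Qf hnd h2 ![bL Qf u'] (bL (Qg Qf g) u') x
    (Fin.forall_fin_one.mpr (by rw [polar_comm] at hxu'; simpa using hxu'))
    (by rw [polar_comm] at hxu''; simpa using hxu'') (by omega)
  refine ⟨u, u', hu, hu', ?_, ?_⟩
  · have h3 : polar Qf u' u = 0 := by simpa using hl2 0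
    rw [polar_comm]; exact h3
  · have h3 : polar (Qg Qf g) u' u ≠ 0 := by simpa using hne2
    rwa [polar_comm] at h3

lemma conj_formula (u' v' : Fin n → F) (h : polar (Qg Qf g) u' v' = 0) (x : Fin n → F) :
    (g : Matrix (Fin n) (Fin n) F) *ᵥ
      (Cfsg.reflectionMatrix (⇑Qf) (((g⁻¹ : GL (Fin n) F) : Matrix (Fin n) (Fin n) F) *ᵥ u') *ᵥ
        (Cfsg.reflectionMatrix (⇑Qf)
          (((g⁻¹ : GL (Fin n) F) : Matrix (Fin n) (Fin n) F) *ᵥ v') *ᵥ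
          (((g⁻¹ : GL (Fin n) F) : Matrix (Fin n) (Fin n) F) *ᵥ x))) =
      x - ((Qg Qf g u')⁻¹ * polar (Qg Qf g) u' x) • u' -
        ((Qg Qf g v')⁻¹ * polar (Qg Qf g) v' x) • v' := by
  rw [pair_formula Qf _ _ (by rw [← polar_Qg]; exact h), Matrix.mulVec_sub, Matrix.mulVec_sub,
    Matrix.mulVec_smul, Matrix.mulVec_smul, mul_inv_mulVec, mul_inv_mulVec, mul_inv_mulVec,
    ← Qg_apply, ← Qg_apply, ← polar_Qg, ← polar_Qg]

lemma core_calc (A B : Matrix (Fin n) (Fin n) F) (u v u' v' : Fin n → F)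
    (α₁ α₂ γ₁ γ₂ : (Fin n → F) →ₗ[F] F)
    (hσ : ∀ x, A *ᵥ x = x - α₁ x • u - α₂ x • v)
    (hτ : ∀ x, B *ᵥ x = x - γ₁ x • u' - γ₂ x • v')
    (a1u : α₁ u = 2) (a1v : α₁ v = 0) (a2u : α₂ u = 0) (a2v : α₂ v = 2)
    (a1u' : α₁ u' = 0) (a1v' : α₁ v' = 0) (a2u' : α₂ u' = 0) (a2v' : α₂ v' = 0)
    (g1u' : γ₁ u' = 2) (g1v' : γ₁ v' = 0) (g2u' : γ₂ u' = 0) (g2v' : γ₂ v' = 2)
    (g1v : γ₁ v = 0) (g2v : γ₂ v = 0) (g2u : γ₂ u = 0) (x : Fin n → F) :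
    B *ᵥ (A *ᵥ (B *ᵥ (A *ᵥ x))) = x - (γ₁ u * α₁ x) • u' := by
  simp only [hσ, hτ, map_sub, map_smul, smul_eq_mul, a1u, a1v, a2u, a2v, a1u', a1v', a2u', a2v',
    g1u', g1v', g2u', g2v', g1v, g2v, g2u, mul_zero, sub_zero]
  module

lemma exists_first (hnd : (polarBilin Qf).Nondegenerate) (h2 : (2 : F) ≠ 0) (hn : 13 ≤ n)
    {M : Subgroup (GL (Fin n) F)}
    (hHM : Cfsg.Geo.quadSimilarityGroup (⇑Qf) ⊓ Cfsg.Geo.specialLinear (Fin n) F ≤ M)
    {g : GL (Fin n) F} (hgM : g ∈ M) (hg : g ∉ Cfsg.Geo.quadSimilarityGroup (⇑Qf)) :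
    ∃ a₀ c₀, Qf a₀ ≠ 0 ∧ c₀ ≠ 0 ∧ TT Qf M a₀ c₀ := by
  obtain ⟨u, u', hu, hu', huu', huu''⟩ := exists_uu' Qf g hnd h2 (by omega) hg
  have hnd' := Qg_nondeg Qf g hnd
  obtain ⟨v, hv, hlv⟩ := exists_ns Qf hnd ![bL Qf u, bL Qf u', bL (Qg Qf g) u'] (by omega)
  have huv : polar Qf u v = 0 := by simpa using hlv 0
  have hu'v : polar Qf u' v = 0 := by simpa using hlv 1
  have hu'v' : polar (Qg Qf g) u' v = 0 := by simpa using hlv 2
  obtain ⟨v', hv', hlv'⟩ := exists_ns (Qg Qf g) hnd'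
    ![bL Qf u, bL Qf v, bL (Qg Qf g) u, bL (Qg Qf g) v, bL (Qg Qf g) u'] (by omega)
  have k1 : polar Qf u v' = 0 := by simpa using hlv' 0
  have k2 : polar Qf v v' = 0 := by simpa using hlv' 1
  have k3 : polar (Qg Qf g) u v' = 0 := by simpa using hlv' 2
  have k4 : polar (Qg Qf g) v v' = 0 := by simpa using hlv' 3
  have k5 : polar (Qg Qf g) u' v' = 0 := by simpa using hlv' 4
  obtain ⟨σ, hσH, -, hσx⟩ := exists_pair Qf u v hu hv
  have ha : Qf (((g⁻¹ : GL (Fin n) F) : Matrix (Fin n) (Fin n) F) *ᵥ u') ≠ 0 := by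
    rw [← Qg_apply]; exact hu'
  have hb : Qf (((g⁻¹ : GL (Fin n) F) : Matrix (Fin n) (Fin n) F) *ᵥ v') ≠ 0 := by
    rw [← Qg_apply]; exact hv'
  obtain ⟨τ₀, hτH, -, hτx⟩ := exists_pair Qf _ _ ha hb
  have hσM : σ ∈ M := hHM hσH
  have hτM : g * τ₀ * g⁻¹ ∈ M := M.mul_mem (M.mul_mem hgM (hHM hτH)) (M.inv_mem hgM)
  obtain ⟨α₁, hα₁⟩ : ∃ α₁ : (Fin n → F) →ₗ[F] F, α₁ = (Qf u)⁻¹ • bL Qf u := ⟨_, rfl⟩
  obtain ⟨α₂, hα₂⟩ : ∃ α₂ : (Fin n → F) →ₗ[F] F, α₂ = (Qf v)⁻¹ • bL Qf v := ⟨_, rfl⟩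
  obtain ⟨γ₁, hγ₁⟩ : ∃ γ₁ : (Fin n → F) →ₗ[F] F,
    γ₁ = (Qg Qf g u')⁻¹ • bL (Qg Qf g) u' := ⟨_, rfl⟩
  obtain ⟨γ₂, hγ₂⟩ : ∃ γ₂ : (Fin n → F) →ₗ[F] F,
    γ₂ = (Qg Qf g v')⁻¹ • bL (Qg Qf g) v' := ⟨_, rfl⟩
  have hα₁x : ∀ x, α₁ x = (Qf u)⁻¹ * polar Qf u x := fun x => by
    rw [hα₁, LinearMap.smul_apply, bL_apply, smul_eq_mul]
  have hα₂x : ∀ x, α₂ x = (Qf v)⁻¹ * polar Qf v x := fun x => by
    rw [hα₂, LinearMap.smul_apply, bL_apply, smul_eq_mul]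
  have hγ₁x : ∀ x, γ₁ x = (Qg Qf g u')⁻¹ * polar (Qg Qf g) u' x := fun x => by
    rw [hγ₁, LinearMap.smul_apply, bL_apply, smul_eq_mul]
  have hγ₂x : ∀ x, γ₂ x = (Qg Qf g v')⁻¹ * polar (Qg Qf g) v' x := fun x => by
    rw [hγ₂, LinearMap.smul_apply, bL_apply, smul_eq_mul]
  have hσf : ∀ x, (σ : Matrix (Fin n) (Fin n) F) *ᵥ x = x - α₁ x • u - α₂ x • v := by
    intro x
    rw [hσx, pair_formula Qf u v huv, hα₁x, hα₂x]
  have hτf : ∀ x, ((g * τ₀ * g⁻¹ : GL (Fin n) F) : Matrix (Fin n) (Fin n) F) *ᵥ x =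
      x - γ₁ x • u' - γ₂ x • v' := by
    intro x
    rw [Units.val_mul, Units.val_mul, ← Matrix.mulVec_mulVec, ← Matrix.mulVec_mulVec, hτx,
      conj_formula Qf g u' v' k5, hγ₁x, hγ₂x]
  have two_of : ∀ (Q' : QuadraticForm F (Fin n → F)) (w : Fin n → F), Q' w ≠ 0 →
      (Q' w)⁻¹ * polar Q' w w = 2 := by
    intro Q' w hw
    rw [pself]
    field_simp
  have key := core_calc (σ : Matrix (Fin n) (Fin n) F)
    ((g * τ₀ * g⁻¹ : GL (Fin n) F) : Matrix (Fin n) (Fin n) F) u v u' v' α₁ α₂ γ₁ γ₂ hσf hτf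
    (by rw [hα₁x, two_of Qf u hu]) (by rw [hα₁x, huv, mul_zero])
    (by rw [hα₂x, polar_comm, huv, mul_zero]) (by rw [hα₂x, two_of Qf v hv])
    (by rw [hα₁x, huu', mul_zero]) (by rw [hα₁x, k1, mul_zero])
    (by rw [hα₂x, polar_comm, hu'v, mul_zero]) (by rw [hα₂x, k2, mul_zero])
    (by rw [hγ₁x, two_of _ u' hu']) (by rw [hγ₁x, k5, mul_zero])
    (by rw [hγ₂x, polar_comm, k5, mul_zero]) (by rw [hγ₂x, two_of _ v' hv'])
    (by rw [hγ₁x, hu'v', mul_zero]) (by rw [hγ₂x, polar_comm, k4, mul_zero])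
    (by rw [hγ₂x, polar_comm, k3, mul_zero])
  have hγu : γ₁ u ≠ 0 := by
    rw [hγ₁x]
    exact mul_ne_zero (inv_ne_zero hu') (by rw [polar_comm]; exact huu'')
  have hκ : -(γ₁ u) * (Qf u)⁻¹ ≠ 0 := mul_ne_zero (neg_ne_zero.mpr hγu) (inv_ne_zero hu)
  refine ⟨(-(γ₁ u) * (Qf u)⁻¹) • u, u', ?_, ?_, ?_⟩
  · rw [Q_smul]
    exact mul_ne_zero (mul_ne_zero hκ hκ) hu
  · rintro rfl
    exact hu' (QuadraticMap.map_zero _)
  · unfold TT
    refine ⟨?_, (g * τ₀ * g⁻¹) * σ * (g * τ₀ * g⁻¹) * σ,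
      M.mul_mem (M.mul_mem (M.mul_mem hτM hσM) hτM) hσM, fun x => ?_⟩
    · rw [bL_apply, polar_smul_left, huu', smul_zero]
    · rw [Units.val_mul, Units.val_mul, Units.val_mul, ← Matrix.mulVec_mulVec,
        ← Matrix.mulVec_mulVec, ← Matrix.mulVec_mulVec, key x, bL_apply, polar_smul_left, hα₁x,
        smul_eq_mul]
      module

end Phase1

end Cfsg.Agent.Lib.Helper5.OSL
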