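import Mathlib
import Cfsg.Agent.Lib.Helper11.Om3Tools
import Cfsg.Agent.Lib.Helper5.Om3DI
import Cfsg.Agent.Lib.Helper5.Om3C2a
import Cfsg.Agent.Lib.Helper15.Om3QR
import Cfsg.Agent.Lib.Helper27.Om3GC

/-! helper5: leaf OLk (`relIndex_ge_of_mid`) of market "OM3" (S2144, planner helper11), in `_of`
form: the statement of leaf COV (`covering`, for index types in `Type`) is a hypothesis.
`|D̃_x| = 3^m`: by DI either `D̃_x ∖ <x>` meets two `Q`-classes (COV twice with `ι = Unit`: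
`t ≥ 2·3^(m-1)`) or `D̃_x` is totally singular (C2a + COV with `ι = Fin 2`: `t ≥ 2·3^(m-1) + 2`);
then `o_x ≥ t · 3^m` (stab_bound + QR). -/

set_option autoImplicit false

open Cfsg.Agent.Lib.Helper11.Om3 MulAction
open scoped Pointwise

namespace Cfsg.Agent.Lib.Helper5.Om3Leaf

variable {F V G : Type*} [Field F] [AddCommGroup V] [Module F V] [Group G] [DistribMulAction G V]
  (S : Setting F V G)

include S in
/-- removing the line `<x>` from a subspace through `x` -/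
theorem card_sub_line [Finite V] (U : Submodule F V) {x : V} (hx0 : x ≠ 0) (hxU : x ∈ U) :
    Nat.card {w : V // w ∈ U ∧ ¬ ∃ a : F, w = a • x} + 3 = Nat.card U := by
  have h := Cfsg.Agent.Lib.Helper27.Om3Leaf.card_split (fun w : V => w ∈ U)
    (fun w => ∃ a : F, w = a • x)
  have e1 : Nat.card {w : V // (∃ a : F, w = a • x) ∧ w ∈ U} =
      Nat.card {w : V // ∃ a : F, w = a • x} :=
    Nat.card_congr (Equiv.subtypeEquivRight (fun w => by
      constructor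
      · exact fun h => h.1
      · rintro ⟨a, rfl⟩
        exact ⟨⟨a, rfl⟩, U.smul_mem a hxU⟩))
  have e2 : Nat.card {w : V // (¬ ∃ a : F, w = a • x) ∧ w ∈ U} =
      Nat.card {w : V // w ∈ U ∧ ¬ ∃ a : F, w = a • x} :=
    Nat.card_congr (Equiv.subtypeEquivRight (fun w => and_comm))
  rw [e1, e2, Cfsg.Agent.Lib.Helper27.Om3Leaf.card_line S hx0] at h
  have e3 : Nat.card {w : V // w ∈ U} = Nat.card U := rfl
  omega

/-- two different `Q`-classes of `U ∖ <x>` -/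
theorem card_two_classes_le [Finite V] (U : Submodule F V) (x : V) {c c' : F} (hcc : c ≠ c') :
    Nat.card {w : V // w ∈ U ∧ (¬ ∃ a : F, w = a • x) ∧ S.Q w = c} +
      Nat.card {w : V // w ∈ U ∧ (¬ ∃ a : F, w = a • x) ∧ S.Q w = c'} ≤
      Nat.card {w : V // w ∈ U ∧ ¬ ∃ a : F, w = a • x} := by
  have h := Cfsg.Agent.Lib.Helper27.Om3Leaf.card_split
    (fun w : V => w ∈ U ∧ ¬ ∃ a : F, w = a • x) (fun w => S.Q w = c)
  have e1 : Nat.card {w : V // S.Q w = c ∧ (w ∈ U ∧ ¬ ∃ a : F, w = a • x)} =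
      Nat.card {w : V // w ∈ U ∧ (¬ ∃ a : F, w = a • x) ∧ S.Q w = c} :=
    Nat.card_congr (Equiv.subtypeEquivRight (fun w => by tauto))
  have e2 : Nat.card {w : V // w ∈ U ∧ (¬ ∃ a : F, w = a • x) ∧ S.Q w = c'} ≤
      Nat.card {w : V // ¬ S.Q w = c ∧ (w ∈ U ∧ ¬ ∃ a : F, w = a • x)} := by
    apply Nat.card_le_card_of_injective
      (fun w : {w : V // w ∈ U ∧ (¬ ∃ a : F, w = a • x) ∧ S.Q w = c'} =>
        (⟨w.1, by rw [w.2.2.2]; exact hcc.symm, w.2.1, w.2.2.1⟩ :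
          {w : V // ¬ S.Q w = c ∧ (w ∈ U ∧ ¬ ∃ a : F, w = a • x)}))
    intro w w' hww
    have h3 := congrArg Subtype.val hww
    exact Subtype.ext h3
  rw [e1] at h
  omega

/-- one `Q`-class of `U ∖ <x>` -/
theorem card_class_le [Finite V] (U : Submodule F V) (x : V) (c : F) :
    Nat.card {w : V // w ∈ U ∧ (¬ ∃ a : F, w = a • x) ∧ S.Q w = c} ≤
      Nat.card {w : V // w ∈ U ∧ ¬ ∃ a : F, w = a • x} := by
  apply Nat.card_le_card_of_injective
    (fun w : {w : V // w ∈ U ∧ (¬ ∃ a : F, w = a • x) ∧ S.Q w = c} =>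
      (⟨w.1, w.2.1, w.2.2.1⟩ : {w : V // w ∈ U ∧ ¬ ∃ a : F, w = a • x}))
  intro w w' hww
  have h3 := congrArg Subtype.val hww
  exact Subtype.ext h3

theorem olk_arith1 (a t s N N' : ℕ) (ha : 2 ≤ a) (hs : s + 3 ≤ 3 * a)
    (hN : 3 * (a * a) ≤ N + 3 * a) (hN' : 3 * (a * a) ≤ N' + 3 * a) (hc : N + N' ≤ s * t) :
    2 * a ≤ t := by
  have h1 : (s + 3) * t ≤ 3 * a * t := Nat.mul_le_mul_right t hs
  obtain ⟨b, rfl⟩ : ∃ b, a = b + 1 := ⟨a - 1, by omega⟩
  have h2 : 3 * b * (2 * b + 2) ≤ 3 * b * t := by nlinarith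
  have h3 := Nat.le_of_mul_le_mul_left h2 (by omega)
  omega

theorem olk_arith2 (a t s N : ℕ) (ha : 2 ≤ a) (hs : s + 3 ≤ 3 * a)
    (hN : N + 3 = 3 * (a * a)) (hc : 2 * N ≤ s * t) : 2 * a + 2 ≤ t := by
  have h1 : (s + 3) * t ≤ 3 * a * t := Nat.mul_le_mul_right t hs
  obtain ⟨b, rfl⟩ : ∃ b, a = b + 1 := ⟨a - 1, by omega⟩
  have h2 : 3 * b * (2 * b + 4) ≤ 3 * b * t := by nlinarith
  have h3 := Nat.le_of_mul_le_mul_left h2 (by omega)
  omega

/-- OLk, with the statement of COV (index types in `Type`) as a hypothesis -/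
theorem relIndex_ge_of_mid_of [Finite V] [Finite G] {m : ℕ} (hV : Nat.card V = 3 ^ (2 * m + 1))
    (hs : Nat.card {v : V // S.Q v = 0} = 3 ^ (2 * m))
    (h1 : Nat.card {v : V // S.Q v = 1} = 3 ^ (2 * m) + 3 ^ m) (hm : 3 ≤ m)
    (H : Subgroup G) {x : V} (hx0 : x ≠ 0) (hx : S.Q x = 0)
    (h : Nat.card (S.Dt H hx) = 3 ^ m)
    (hCOV : ∀ (U : Submodule F V) (_ : x ∈ U) (_ : ∀ u ∈ U, S.B x u = 0)
      {ι : Type} [Finite ι] (g : ι → G) (_ : ∀ i, g i • x = x) {u0 : V}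
      (_ : ∀ i, u0 ∈ g i • (U : Set V)) (_ : ¬ ∃ a : F, u0 = a • x)
      (_ : Function.Injective (fun i => g i • (U : Set V))),
      Nat.card ι * Nat.card {w : V // S.B x w = 0 ∧ (¬ ∃ a : F, w = a • x) ∧ S.Q w = S.Q u0} ≤
        Nat.card {w : V // w ∈ U ∧ (¬ ∃ a : F, w = a • x) ∧ S.Q w = S.Q u0} *
          (stabilizer G (U : Set V)).relIndex (stabilizer G x)) :
    3 ^ m * (3 ^ m - 1) ≤ 2 * H.relIndex (stabilizer G x) := by
  classical
  obtain ⟨k, rfl⟩ : ∃ k, m = k + 1 := ⟨m - 1, by omega⟩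
  set a : ℕ := 3 ^ k with ha
  have ha9 : 9 ≤ a := by
    have : 3 ^ 2 ≤ 3 ^ k := Nat.pow_le_pow_right (by norm_num) (by omega)
    omega
  have e1 : 3 ^ (k + 1) = 3 * a := by rw [pow_succ]; omega
  have e2 : 3 ^ (2 * (k + 1) + 1) = 27 * (a * a) := by
    have : 2 * (k + 1) + 1 = k + k + 3 := by ring
    rw [this, pow_add, pow_add]
    ring
  have e3 : 3 ^ (2 * (k + 1) - 1) = 3 * (a * a) := by
    have : 2 * (k + 1) - 1 = k + k + 1 := by omega
    rw [this, pow_add, pow_add]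
    ring
  rw [e1] at h ⊢
  set U := S.Dt H hx with hUdef
  have hxU : x ∈ U := S.self_mem_Dt H hx
  have hU : ∀ u ∈ U, S.B x u = 0 := S.Dt_le_perp hx
  have hinv : ∀ p ∈ H, p • x = x → ∀ u ∈ U, p • u ∈ U := fun p hp hpx u hu =>
    S.smul_mem_Dt hx hp hpx hu
  have hSB := S.stab_bound H hx U hxU hU hinv
  have hQR := Cfsg.Agent.Lib.Helper15.Om3Leaf.relIndex_Qs S H hx0 hx
  rw [hV, e2, h] at hQR
  have hr : H.relIndex (S.Qs hx) = 3 * a := by
    have h1 : (9 * a) * H.relIndex (S.Qs hx) = (9 * a) * (3 * a) := by nlinarith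
    exact Nat.eq_of_mul_eq_mul_left (by omega) h1
  rw [hr] at hSB
  set t := (stabilizer G (U : Set V)).relIndex (stabilizer G x) with ht
  suffices hsuff : 3 * a - 1 ≤ 2 * t by
    calc 3 * a * (3 * a - 1) ≤ 3 * a * (2 * t) := Nat.mul_le_mul_left _ hsuff
      _ = 2 * (t * (3 * a)) := by ring
      _ ≤ _ := Nat.mul_le_mul_left _ hSB
  have htot := card_sub_line S U hx0 hxU
  rw [h] at htot
  have hc27 : 27 ≤ Nat.card U := by rw [h]; omega
  rcases ts_or_two_classes S hx U hxU hU hc27 with hts | ⟨u, huU, u', hu'U, hux, hu'x, hQ⟩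
  · -- totally singular
    obtain ⟨u0, hu0U, hu0x⟩ : ∃ u0 ∈ U, ¬ ∃ a : F, u0 = a • x := by
      by_contra hcon
      have hempty : Nat.card {w : V // w ∈ U ∧ ¬ ∃ a : F, w = a • x} = 0 := by
        rw [Nat.card_eq_zero]
        left
        exact ⟨fun w => hcon ⟨w.1, w.2.1, w.2.2⟩⟩
      omega
    obtain ⟨g, hgx, hgu, hginj⟩ := exists_moves_two S hV hs hm hx0 hx U hxU hts hc27 hu0U hu0x
    have hc := hCOV U hxU hU g hgx (u0 := u0)
      (fun i => ⟨u0, hu0U, hgu i⟩) hu0x hginj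
    rw [hts u0 hu0U, Nat.card_fin,
      Cfsg.Agent.Lib.Helper27.Om3Leaf.card_class_zero S hV hs (by omega) hx0 hx, e3] at hc
    have hle := card_class_le S U x 0
    have hN : 3 * (a * a) - 3 + 3 = 3 * (a * a) := by
      have : 9 ≤ a * a := by nlinarith
      omega
    have hc' : 2 * (3 * (a * a) - 3) ≤
        Nat.card {w : V // w ∈ U ∧ ¬ ∃ a : F, w = a • x} * t :=
      hc.trans (Nat.mul_le_mul_right t hle)
    have := olk_arith2 a t _ _ (by omega) (by omega) hN hc'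
    omega
  · -- two classes
    have hone : (1 : G) • (U : Set V) = (U : Set V) := one_smul _ _
    have hcu := hCOV U hxU hU (fun _ : Unit => (1 : G)) (fun _ => one_smul _ _) (u0 := u)
      (fun _ => by rw [hone]; exact huU) hux (fun _ _ _ => Subsingleton.elim _ _)
    have hcu' := hCOV U hxU hU (fun _ : Unit => (1 : G)) (fun _ => one_smul _ _) (u0 := u')
      (fun _ => by rw [hone]; exact hu'U) hu'x (fun _ _ _ => Subsingleton.elim _ _)
    rw [Nat.card_unique, one_mul] at hcu hcu'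
    have hg := Cfsg.Agent.Lib.Helper27.Om3Leaf.card_class_ge S hV hs h1 (by omega) hx0 hx (S.Q u)
    have hg' := Cfsg.Agent.Lib.Helper27.Om3Leaf.card_class_ge S hV hs h1 (by omega) hx0 hx (S.Q u')
    rw [e3, e1] at hg hg'
    have h2 := card_two_classes_le S U x hQ
    have hsum : Nat.card {w : V // S.B x w = 0 ∧ (¬ ∃ a : F, w = a • x) ∧ S.Q w = S.Q u} +
        Nat.card {w : V // S.B x w = 0 ∧ (¬ ∃ a : F, w = a • x) ∧ S.Q w = S.Q u'} ≤
        Nat.card {w : V // w ∈ U ∧ ¬ ∃ a : F, w = a • x} * t := by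
      calc _ ≤ Nat.card {w : V // w ∈ U ∧ (¬ ∃ a : F, w = a • x) ∧ S.Q w = S.Q u} * t +
            Nat.card {w : V // w ∈ U ∧ (¬ ∃ a : F, w = a • x) ∧ S.Q w = S.Q u'} * t :=
            Nat.add_le_add hcu hcu'
        _ = (Nat.card {w : V // w ∈ U ∧ (¬ ∃ a : F, w = a • x) ∧ S.Q w = S.Q u} +
            Nat.card {w : V // w ∈ U ∧ (¬ ∃ a : F, w = a • x) ∧ S.Q w = S.Q u'}) * t := by ring
        _ ≤ _ := Nat.mul_le_mul_right t h2
    have := olk_arith1 a t _ _ _ (by omega) (by omega) (by omega) (by omega) hsum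
    omega

end Cfsg.Agent.Lib.Helper5.Om3Leaf
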