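import Mathlib
import Cfsg.Agent.Lib.Helper9.OqTools

/-!
S2143 market "OQ", wave 1, leaf GA1 (planner helper9).
-/

set_option autoImplicit false

open Cfsg.Agent.Lib.Helper9.Oq

namespace Cfsg.Agent.Lib.Helper5.OqLeaf

/-- GA1.  `Q ⊴ P`; if `|P : H ⊓ P| < 2 |Q : H ⊓ Q|` then `(H ⊓ P) Q = P`.
[`|P : H⊓P| = |P : (H⊓P)Q| · |Q : H⊓Q|`.] -/
theorem exists_mul_mem_of_relIndex_lt {G : Type*} [Group G] [Finite G] (H P Q : Subgroup G)
    (hQP : Q ≤ P) (hnorm : P ≤ Subgroup.normalizer (Q : Set G))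
    (h : H.relIndex P < 2 * H.relIndex Q) : ∀ p ∈ P, ∃ s ∈ Q, p * s ∈ H := by
  classical
  set H' : Subgroup ↥P := H.subgroupOf P with hH'
  set Q' : Subgroup ↥P := Q.subgroupOf P with hQ'
  haveI hQn : Q'.Normal := (Subgroup.normal_subgroupOf_iff_le_normalizer hQP).2 hnorm
  set M' : Subgroup ↥P := H' ⊔ Q' with hM'
  have ha := Subgroup.relIndex_mul_relIndex (H' ⊓ Q') H' M' inf_le_left le_sup_left
  have hb := Subgroup.relIndex_mul_relIndex (H' ⊓ Q') Q' M' inf_le_right le_sup_right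
  have hc : Q'.relIndex M' = (H' ⊓ Q').relIndex H' := by
    rw [hM', Subgroup.relIndex_sup_right, Subgroup.inf_relIndex_left]
  have hB : (H' ⊓ Q').relIndex Q' = H'.relIndex Q' := Subgroup.inf_relIndex_right _ _
  have hA0 : (H' ⊓ Q').relIndex H' ≠ 0 := Subgroup.index_ne_zero_of_finite
  have hx : H'.relIndex M' = H'.relIndex Q' := by
    rw [hc, hB] at hb
    have : (H' ⊓ Q').relIndex H' * H'.relIndex M' = (H' ⊓ Q').relIndex H' * H'.relIndex Q' := by
      rw [ha, ← hb, mul_comm]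
    exact Nat.eq_of_mul_eq_mul_left (Nat.pos_of_ne_zero hA0) this
  have hidx : H'.index = H'.relIndex Q' * M'.index := by
    rw [← hx]; exact (Subgroup.relIndex_mul_index le_sup_left).symm
  have h1 : H.relIndex P = H'.index := rfl
  have h2 : H.relIndex Q = H'.relIndex Q' := (Subgroup.relIndex_subgroupOf hQP).symm
  rw [h1, h2, hidx] at h
  have hB0 : 0 < H'.relIndex Q' := Nat.pos_of_ne_zero Subgroup.index_ne_zero_of_finite
  have hM0 : M'.index ≠ 0 := Subgroup.index_ne_zero_of_finite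
  have hM1 : M'.index = 1 := by
    have : M'.index < 2 := by
      by_contra hge
      rw [not_lt] at hge
      have := Nat.mul_le_mul_left (H'.relIndex Q') hge
      rw [mul_comm _ 2] at this
      omega
    omega
  have hMtop : M' = ⊤ := Subgroup.index_eq_one.1 hM1
  intro p hp
  have hmem : (⟨p, hp⟩ : ↥P) ∈ M' := by rw [hMtop]; exact Subgroup.mem_top _
  have hset : ((⟨p, hp⟩ : ↥P)) ∈ ((H' ⊔ Q' : Subgroup ↥P) : Set ↥P) := hmem
  rw [Subgroup.mul_normal] at hset
  obtain ⟨a, ha', b, hb', hab⟩ := hset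
  refine ⟨(b : G)⁻¹, Q.inv_mem (Subgroup.mem_subgroupOf.1 hb'), ?_⟩
  have hab' : (a : G) * (b : G) = p := congrArg (fun z : ↥P => (z : G)) hab
  have : p * (b : G)⁻¹ = (a : G) := by rw [← hab']; group
  rw [this]
  exact Subgroup.mem_subgroupOf.1 ha'

end Cfsg.Agent.Lib.Helper5.OqLeaf
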