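import Mathlib
import Cfsg.Prelude.Def_Classical
import Cfsg.Prelude.Def_ClassicalGeometry
import Cfsg.Prelude.Def_SporadicB
import Cfsg.Agent.Lib.Helper25.CDConj

set_option autoImplicit false
set_option linter.unusedSectionVars false
set_option linter.unusedVariables false
set_option linter.unusedSimpArgs false

/-!
# Orthogonal transvections over the field with two elements

For a quadratic form `Q` on `(ZMod 2)^ι` with nondegenerate polar form (and `|ι| ≠ 4`), the
isometries `g` with `g - 1` of rank one are exactly the orthogonal transvections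
`x ↦ x + f(x, v) v`, `Q v = 1`, and they form a generating conjugacy class of 3-transpositions.
Built on helper25's Cartan–Dieudonné library.
-/

namespace Cfsg.Agent.Lib.Helper5.OrthTrans2
open Module QuadraticMap Matrix Cfsg.Agent.Lib.Helper25.CD

variable {ι : Type} [Fintype ι] [DecidableEq ι]

lemma zmod2_cases (c : ZMod 2) : c = 0 ∨ c = 1 := by
  fin_cases c
  · left; rfl
  · right; rfl

lemma mat_ext {F : Type*} [Field F] {A B : Matrix ι ι F} (h : ∀ x, A *ᵥ x = B *ᵥ x) : A = B := by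
  apply Matrix.toLin'.injective
  apply LinearMap.ext
  intro x
  rw [Matrix.toLin'_apply, Matrix.toLin'_apply]
  exact h x

lemma rank_one_form {F : Type*} [Field F] (N : Matrix ι ι F) (hr : N.rank = 1) :
    ∃ (a : ι → F) (φ : (ι → F) →ₗ[F] F), a ≠ 0 ∧ ∀ x, N *ᵥ x = φ x • a := by
  have hr' : Module.finrank F (LinearMap.range (Matrix.toLin' N)) = 1 := hr
  obtain ⟨⟨a, haR⟩, ha0, hspan⟩ := finrank_eq_one_iff'.mp hr'
  have ha : a ≠ 0 := fun h => ha0 (Subtype.ext h)
  obtain ⟨i, hi⟩ : ∃ i, a i ≠ 0 := by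
    by_contra hcon
    push Not at hcon
    exact ha (funext hcon)
  refine ⟨a, (a i)⁻¹ • (LinearMap.proj i ∘ₗ Matrix.toLin' N), ha, fun x => ?_⟩
  obtain ⟨c, hc⟩ := hspan ⟨Matrix.toLin' N x, LinearMap.mem_range_self _ x⟩
  have hc' : c • a = N *ᵥ x := by
    have h1 := congrArg Subtype.val hc
    simpa [Matrix.toLin'_apply] using h1
  have h2 : (N *ᵥ x) i = c * a i := by rw [← hc']; rfl
  simp only [LinearMap.smul_apply, LinearMap.comp_apply, LinearMap.proj_apply,
    Matrix.toLin'_apply, smul_eq_mul]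
  rw [h2, ← hc']
  congr 1
  field_simp

lemma rank_zero_imp {F : Type*} [Field F] (N : Matrix ι ι F) (hr : N.rank = 0) : N = 0 := by
  have hr' : Module.finrank F (LinearMap.range N.mulVecLin) = 0 := hr
  have h1 : LinearMap.range N.mulVecLin = ⊥ := Submodule.finrank_eq_zero.mp hr'
  apply mat_ext
  intro x
  have h2 : N.mulVecLin x ∈ LinearMap.range N.mulVecLin := LinearMap.mem_range_self _ x
  rw [h1, Submodule.mem_bot] at h2
  rw [Matrix.zero_mulVec]
  exact h2

section main
variable (Q : QuadraticForm (ZMod 2) (ι → ZMod 2))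

lemma Q_eq_one {v : ι → ZMod 2} (hv : Q v ≠ 0) : Q v = 1 := (zmod2_cases _).resolve_left hv

lemma toOG_reflM_apply {v : ι → ZMod 2} (hv : Q v ≠ 0) (x : ι → ZMod 2) :
    toOG Q (reflM Q v) x = x + polar Q v x • v := by
  rw [toOG_reflM, reflE_apply2, Q_eq_one Q hv, inv_one, one_mul]

lemma sub_one_mulVec (g : ↥(Cfsg.isometryGroup (ZMod 2) ⇑Q)) (x : ι → ZMod 2) :
    (((g : GL ι (ZMod 2)) : Matrix ι ι (ZMod 2)) - 1) *ᵥ x = toOG Q g x - x := by
  rw [Matrix.sub_mulVec, Matrix.one_mulVec, toOG_apply]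

/-- orthogonal transvections have `g - 1` of rank one -/
lemma rank_reflM (hQ : (polarBilin Q).Nondegenerate) {v : ι → ZMod 2} (hv : Q v ≠ 0) :
    (((reflM Q v : GL ι (ZMod 2)) : Matrix ι ι (ZMod 2)) - 1).rank = 1 := by
  have hv0 : v ≠ 0 := by
    rintro rfl
    exact hv (QuadraticMap.map_zero Q)
  have hM : ((reflM Q v : GL ι (ZMod 2)) : Matrix ι ι (ZMod 2)) - 1
      = Matrix.vecMulVec v (Cfsg.polarVec ⇑Q v) := by
    apply mat_ext
    intro x
    rw [sub_one_mulVec, toOG_reflM_apply Q hv, Matrix.vecMulVec_mulVec, polarVec_dot,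
      add_sub_cancel_left, op_smul_eq_smul]
  have h1 : (((reflM Q v : GL ι (ZMod 2)) : Matrix ι ι (ZMod 2)) - 1).rank ≤ 1 := by
    rw [hM]; exact Matrix.rank_vecMulVec_le _ _
  have h2 : (((reflM Q v : GL ι (ZMod 2)) : Matrix ι ι (ZMod 2)) - 1).rank ≠ 0 := by
    intro h0
    have h3 := rank_zero_imp _ h0
    obtain ⟨x, hx⟩ : ∃ x, polar Q v x ≠ 0 := by
      by_contra hcon
      push Not at hcon
      apply hv0
      apply hQ.1
      intro y
      rw [polarBilin_apply_apply]
      exact hcon y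
    have h5 := sub_one_mulVec Q (reflM Q v) x
    rw [h3, Matrix.zero_mulVec, toOG_reflM_apply Q hv, add_sub_cancel_left] at h5
    rcases smul_eq_zero.mp h5.symm with h | h
    · exact hx h
    · exact hv0 h
  omega

/-- isometries with `g - 1` of rank one are orthogonal transvections -/
lemma exists_reflM_of_rank (hQ : (polarBilin Q).Nondegenerate)
    (g : ↥(Cfsg.isometryGroup (ZMod 2) ⇑Q))
    (hr : (((g : GL ι (ZMod 2)) : Matrix ι ι (ZMod 2)) - 1).rank = 1) :
    ∃ v, Q v ≠ 0 ∧ g = reflM Q v := by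
  obtain ⟨a, φ, ha, hN⟩ := rank_one_form _ hr
  have hg : ∀ x, toOG Q g x = x + φ x • a := by
    intro x
    have h1 := hN x
    rw [sub_one_mulVec] at h1
    rw [← h1]; abel
  have hiso : ∀ x, Q (toOG Q g x) = Q x := toOG_mem_OG Q g
  have hkey : ∀ x, φ x * (φ x * Q a + polar Q x a) = 0 := by
    intro x
    have h1 := hiso x
    rw [hg x, Q_add Q, QuadraticMap.map_smul, polar_smul_right, smul_eq_mul, smul_eq_mul] at h1
    linear_combination h1
  obtain ⟨x₀, hx₀⟩ : ∃ x₀, φ x₀ ≠ 0 := by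
    by_contra hcon
    push Not at hcon
    have h0 : ((g : GL ι (ZMod 2)) : Matrix ι ι (ZMod 2)) - 1 = 0 := by
      apply mat_ext; intro x; rw [hN x, hcon x, zero_smul, Matrix.zero_mulVec]
    rw [h0, Matrix.rank_zero] at hr
    exact zero_ne_one hr
  have hx₀1 : φ x₀ = 1 := (zmod2_cases _).resolve_left hx₀
  have h1 : ∀ x, φ x = 1 → polar Q x a = Q a := by
    intro x hx
    have h := hkey x
    rw [hx, one_mul, one_mul] at h
    have h2 : Q a + Q a = 0 := CharTwo.add_self_eq_zero _
    linear_combination h - h2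
  have h0 : ∀ x, φ x = 0 → polar Q x a = 0 := by
    intro x hx
    have h2 := h1 (x₀ + x) (by rw [map_add, hx, add_zero, hx₀1])
    rw [polar_add_left, h1 x₀ hx₀1] at h2
    linear_combination h2
  have hpol : ∀ x, polar Q x a = φ x * Q a := by
    intro x
    rcases zmod2_cases (φ x) with h | h
    · rw [h0 x h, h, zero_mul]
    · rw [h1 x h, h, one_mul]
  have hQa : Q a ≠ 0 := by
    intro hQa
    apply ha
    apply hQ.1
    intro y
    rw [polarBilin_apply_apply, polar_comm, hpol, hQa, mul_zero]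
  have hQa1 := Q_eq_one Q hQa
  refine ⟨a, hQa, ?_⟩
  apply toOG_injective
  apply LinearEquiv.ext
  intro x
  rw [hg x, toOG_reflM_apply Q hQa, polar_comm, hpol, hQa1, mul_one]

/-- the rank one isometries are the reflections of helper25's library -/
lemma rank_one_set_eq (hQ : (polarBilin Q).Nondegenerate) :
    {g : ↥(Cfsg.isometryGroup (ZMod 2) ⇑Q) |
      (((g : GL ι (ZMod 2)) : Matrix ι ι (ZMod 2)) - 1).rank = 1} = reflSet Q := by
  ext g
  rw [Set.mem_setOf_eq, mem_reflSet_iff]
  constructor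
  · exact exists_reflM_of_rank Q hQ g
  · rintro ⟨v, hv, rfl⟩
    exact rank_reflM Q hQ hv

theorem main [Nonempty ι] (hQ : (polarBilin Q).Nondegenerate) (hcard : Fintype.card ι ≠ 4) :
    Cfsg.IsThreeTranspositionClass {g : ↥(Cfsg.isometryGroup (ZMod 2) ⇑Q) |
      (((g : GL ι (ZMod 2)) : Matrix ι ι (ZMod 2)) - 1).rank = 1} := by
  have hex : Fintype.card (ZMod 2) ≠ 2 ∨ Fintype.card ι ≠ 4 := Or.inr hcard
  rw [rank_one_set_eq Q hQ]
  refine ⟨⟨?_, ?_⟩, ?_, ?_⟩
  · intro d hd
    obtain ⟨v, hv, rfl⟩ := (mem_reflSet_iff Q d).1 hd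
    have : Fact (Nat.Prime 2) := ⟨Nat.prime_two⟩
    apply orderOf_eq_prime
    · rw [pow_two]; exact reflM_mul_self Q v
    · intro h1
      have h2 := rank_reflM Q hQ hv
      rw [h1] at h2
      simp at h2
  · intro d hd e he
    obtain ⟨u, hu, rfl⟩ := (mem_reflSet_iff Q d).1 hd
    obtain ⟨v, hv, rfl⟩ := (mem_reflSet_iff Q e).1 he
    have hdd := reflM_mul_self Q u
    have hee := reflM_mul_self Q v
    have hdinv : (reflM Q u)⁻¹ = reflM Q u := inv_eq_of_mul_eq_one_right hdd
    have heinv : (reflM Q v)⁻¹ = reflM Q v := inv_eq_of_mul_eq_one_right hee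
    have h1 := conj_reflM Q (reflM Q v) u
    have h2 := conj_reflM Q (reflM Q u) v
    have h3 : ((reflM Q v : GL ι (ZMod 2)) : Matrix ι ι (ZMod 2)) *ᵥ u = u + polar Q v u • v := by
      rw [← toOG_apply]; exact toOG_reflM_apply Q hv u
    have h4 : ((reflM Q u : GL ι (ZMod 2)) : Matrix ι ι (ZMod 2)) *ᵥ v = v + polar Q u v • u := by
      rw [← toOG_apply]; exact toOG_reflM_apply Q hu v
    rw [h3, heinv] at h1
    rw [h4, hdinv] at h2
    rcases zmod2_cases (polar Q u v) with hb | hb
    · left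
      rw [polar_comm, hb, zero_smul, add_zero] at h1
      have h6 : (reflM Q u * reflM Q v) ^ 2 = reflM Q u * (reflM Q v * reflM Q u * reflM Q v) := by
        rw [pow_two]; simp only [mul_assoc]
      rw [h6, h1]
      exact hdd
    · right
      rw [polar_comm, hb, one_smul] at h1
      rw [hb, one_smul, add_comm v u] at h2
      have h8 : reflM Q u * reflM Q v * reflM Q u = reflM Q v * reflM Q u * reflM Q v :=
        h2.trans h1.symm
      have h9 : (reflM Q u * reflM Q v) ^ 3
          = (reflM Q u * reflM Q v * reflM Q u) * (reflM Q v * reflM Q u * reflM Q v) := by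
        rw [pow_succ, pow_two]; simp only [mul_assoc]
      rw [h9, h8]
      have h10 : reflM Q v * reflM Q u * reflM Q v * (reflM Q v * reflM Q u * reflM Q v)
          = reflM Q v * reflM Q u * (reflM Q v * reflM Q v) * (reflM Q u * reflM Q v) := by
        simp only [mul_assoc]
      rw [h10, hee, mul_one]
      have h11 : reflM Q v * reflM Q u * (reflM Q u * reflM Q v)
          = reflM Q v * (reflM Q u * reflM Q u) * reflM Q v := by simp only [mul_assoc]
      rw [h11, hdd, mul_one, hee]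
  · obtain ⟨v₀, hv₀⟩ := exists_nonsing Q hQ
    refine ⟨reflM Q v₀, reflM_mem Q hv₀, ?_⟩
    ext g
    change _ ↔ IsConj (reflM Q v₀) g
    constructor
    · intro hg
      obtain ⟨k, hk⟩ := reflSet_conj_all Q hQ hex _ (reflM_mem Q hv₀) g hg
      exact isConj_iff.mpr ⟨k, hk⟩
    · intro hg
      obtain ⟨c, hc⟩ := isConj_iff.mp hg
      rw [← hc]
      exact reflSet_conj Q _ (reflM_mem Q hv₀) c
  · exact reflSet_closure Q hQ hex

end main

end Cfsg.Agent.Lib.Helper5.OrthTrans2
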