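/-
helper5: S4640-UC (leaves UC1 + UC2 of helper24's plan `notes/S4640_leaves.lean`): for `N` normal of
`p`-power index and `b` a `G`-stable block of `N` covered by the block `B` of `G`:
 (UC1) every irreducible character of `G` over a member of `b` lies in `B`
       (helper23 `existsUnique_covering_block`);
 (UC2) every irreducible constituent of the restriction of a member of `B` lies in `b`
       (helper6 `Fong.coverSet_closed` / `Fong.mem_of_coverSet`; `StabilizesBlock` gives `conjUnion N b = b`).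
-/
import Mathlib
import Cfsg.Agent.Lib.Helper6.Fong
import Cfsg.Agent.Lib.Helper6.FongGen
import Cfsg.Agent.Lib.Helper6.SubsectionCount

set_option autoImplicit false

namespace Cfsg.Agent.Lib.Helper5.PIUC

open Cfsg Cfsg.Agent.CharLib Cfsg.Agent.Lib.Helper24 Cfsg.Agent.Lib.Helper23 Cfsg.Agent.Lib.Helper6

universe u

variable {G : Type u} [Group G] [Fintype G] {p : ℕ} [hpp : Fact p.Prime] {M : Ideal AlgInt}
  (N : Subgroup G) [hN : N.Normal] [Fintype N]

omit [Fintype G] [Fintype N] in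
/-- A block of `N` stabilized by every element of `G` equals the union of its conjugates. -/
theorem conjUnion_eq_of_stab (b : Set (IrrCharacter N)) (hstab : ∀ g : G, StabilizesBlock N b g) :
    conjUnion N b = b := by
  apply Fong.conjUnion_eq_of_inv N b
  intro g θ hθ θ' hθ'
  obtain ⟨θ'', hθ'', hconj⟩ := (hstab g⁻¹).2 θ hθ
  have e : θ' = θ'' := by
    apply Subtype.ext
    funext n
    rw [hθ' n]
    refine (hconj ⟨g * n * g⁻¹, hN.conj_mem n n.2 g⟩ n ?_).symm
    show (n : G) = g⁻¹ * (g * (n : G) * g⁻¹) * g⁻¹⁻¹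
    group
  rw [e]
  exact hθ''

/-- (UC1) every irreducible character of `G` over a member of `b` lies in `B`. -/
theorem mem_block_of_over (hM : IsPModular p M) (hNi : ∃ k : ℕ, N.index = p ^ k)
    (b : Set (IrrCharacter N)) (hb : IsPBlock M b) (hstab : ∀ g : G, StabilizesBlock N b g)
    (B : Set (IrrCharacter G)) (hB : IsPBlock M B)
    (hcov : ∃ χ ∈ B, ∃ θ ∈ b, classInner (fun n : N => (χ : G → ℂ) n) (θ : N → ℂ) ≠ 0)
    (χ' : IrrCharacter G) (θ : IrrCharacter N) (hθ : θ ∈ b)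
    (h : classInner (fun n : N => (χ' : G → ℂ) n) (θ : N → ℂ) ≠ 0) : χ' ∈ B := by
  have hp : M.IsPrime := isPrime_of_isPModular hM
  obtain ⟨B₀, _, huniq⟩ := existsUnique_covering_block (N := N) p hM hNi b hb
  have h1 : B = B₀ := huniq B ⟨hB, hcov⟩
  have h2 : blockOf M (χ' : G → ℂ) = B₀ :=
    huniq _ ⟨⟨χ', rfl⟩, χ', mem_blockOf_self χ', θ, hθ, h⟩
  rw [h1, ← h2]
  exact mem_blockOf_self χ'

/-- (UC2) every irreducible constituent of the restriction of a member of `B` lies in `b`. -/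
theorem mem_of_under_block (hM : IsPModular p M)
    (b : Set (IrrCharacter N)) (hb : IsPBlock M b) (hstab : ∀ g : G, StabilizesBlock N b g)
    (B : Set (IrrCharacter G)) (hB : IsPBlock M B)
    (hcov : ∃ χ ∈ B, ∃ θ ∈ b, classInner (fun n : N => (χ : G → ℂ) n) (θ : N → ℂ) ≠ 0)
    (χ : IrrCharacter G) (hχ : χ ∈ B) (θ' : IrrCharacter N)
    (h : classInner (fun n : N => (χ : G → ℂ) n) (θ' : N → ℂ) ≠ 0) : θ' ∈ b := by
  have hp : M.IsPrime := isPrime_of_isPModular hM
  have hcu : conjUnion N b = b := conjUnion_eq_of_stab N b hstab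
  obtain ⟨χ₀, hχ₀, θ₀, hθ₀, hover⟩ := hcov
  have h0 : χ₀ ∈ Fong.coverSet N b := ⟨θ₀, hθ₀, hover⟩
  obtain ⟨χ₁, rfl⟩ := hB
  have hs : SameBlock M (χ₀ : G → ℂ) (χ : G → ℂ) := sameBlock_trans (sameBlock_symm hχ₀) hχ
  have h1 := Fong.coverSet_closed N hM hb hcu h0 hs
  exact Fong.mem_of_coverSet N hM hb hcu h1 θ' h

end Cfsg.Agent.Lib.Helper5.PIUC
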