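import Cfsg.Agent.Lib.Helper5.NSMax
import Cfsg.Agent.Lib.Helper25.OrthSwap
import Cfsg.Agent.Lib.Helper25.OmegaFam

set_option autoImplicit false
set_option linter.unusedSectionVars false
set_option linter.unusedVariables false
set_option linter.unusedSimpArgs false

namespace Cfsg.Agent.Lib.Helper5.PairMax

open Module QuadraticMap Matrix Cfsg.Agent.Lib.Helper25.CD Cfsg.Agent.Lib.Helper25.Spin
  Cfsg.Agent.Lib.Helper25.Fam Cfsg.Agent.Lib.Helper25.Siegel
  Cfsg.Agent.Lib.Helper25.PS Cfsg.Agent.Lib.Helper25.OGeom Cfsg.Agent.Lib.Helper15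
  Cfsg.Agent.Lib.Helper5.TSMax Cfsg.Agent.Lib.Helper5.NSMax
open scoped commutatorElement

section general

variable {F : Type*} [Field F] {V : Type*} [AddCommGroup V] [Module F V] [FiniteDimensional F V]
  (Q : QuadraticForm F V)

theorem pz {U : Submodule F V} (hU : ∀ u ∈ U, Q u = 0) {x y : V} (hx : x ∈ U) (hy : y ∈ U) :
    polar Q x y = 0 :=
  Cfsg.Agent.Lib.Helper25.MaxTS.TS.polar_eq_zero (Q := Q) hU hx hy

theorem pair_injective (hQ : (polarBilin Q).Nondegenerate) {U U' : Submodule F V}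
    (hU' : ∀ u ∈ U', Q u = 0) (hsup : U ⊔ U' = ⊤) :
    Function.Injective ((polarBilin Q).domRestrict₁₂ U' U) := by
  rw [← LinearMap.ker_eq_bot, LinearMap.ker_eq_bot']
  intro b hb
  have hb0 : (b : V) = 0 := by
    apply hQ.1 (b : V)
    intro y
    have hy : y ∈ U ⊔ U' := by rw [hsup]; exact Submodule.mem_top
    obtain ⟨p, hp, p', hp', rfl⟩ := Submodule.mem_sup.1 hy
    have h1 : polar Q (b : V) p = 0 := by
      have := LinearMap.congr_fun hb ⟨p, hp⟩
      rw [LinearMap.domRestrict₁₂_apply, polarBilin_apply_apply] at this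
      simpa using this
    rw [map_add, polarBilin_apply_apply, polarBilin_apply_apply, h1, pz Q hU' b.2 hp', add_zero]
  exact Subtype.ext hb0

theorem exists_dual_vec (hQ : (polarBilin Q).Nondegenerate) {U U' : Submodule F V}
    (hU' : ∀ u ∈ U', Q u = 0) (hsup : U ⊔ U' = ⊤) (hrk : finrank F U' = finrank F U)
    {P : Submodule F V} {y : V} (hPU : P ≤ U) (hyU : y ∈ U) (hyP : y ∉ P) :
    ∃ b ∈ U', (∀ p ∈ P, polar Q b p = 0) ∧ polar Q b y = 1 := by
  obtain ⟨f, hfy, hPf⟩ := Submodule.exists_le_ker_of_notMem hyP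
  have hinj := pair_injective Q hQ hU' hsup
  have hsurj : Function.Surjective ((polarBilin Q).domRestrict₁₂ U' U) := by
    refine (LinearMap.injective_iff_surjective_of_finrank_eq_finrank ?_).1 hinj
    rw [hrk]
    exact Subspace.dual_finrank_eq.symm
  obtain ⟨b, hb⟩ := hsurj (((f y)⁻¹ • f).domRestrict U)
  have hb' : ∀ x (hx : x ∈ U), polar Q (b : V) x = (f y)⁻¹ * f x := by
    intro x hx
    have := LinearMap.congr_fun hb ⟨x, hx⟩
    rw [LinearMap.domRestrict₁₂_apply, polarBilin_apply_apply] at this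
    simpa using this
  refine ⟨b, b.2, fun p hp => ?_, ?_⟩
  · rw [hb' p (hPU hp), LinearMap.mem_ker.1 (hPf hp), mul_zero]
  · rw [hb' y hyU, inv_mul_cancel₀ hfy]

theorem egen_map {ρ : V ≃ₗ[F] V} (hρ : ∀ x, Q (ρ x) = Q x) (u y x : V) :
    ρ (egen Q u y x) = egen Q (ρ u) (ρ y) (ρ x) := by
  unfold egen
  simp only [map_add, map_sub, map_smul, polar_of_iso Q hρ, hρ]

theorem exists_std (hQ : (polarBilin Q).Nondegenerate) {U U' : Submodule F V}
    (hU : ∀ u ∈ U, Q u = 0) (hU' : ∀ u ∈ U', Q u = 0) (hc : IsCompl U U') {m : ℕ}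
    (hUm : finrank F U = m) (hU'm : finrank F U' = m) :
    ∃ Φ : V ≃ₗ[F] (Fin m ⊕ Fin m → F), (∀ x, Q x = Cfsg.quadFormPlus m F (Φ x)) ∧
      (∀ x, x ∈ U ↔ ∀ i, Φ x (Sum.inr i) = 0) ∧ (∀ x, x ∈ U' ↔ ∀ i, Φ x (Sum.inl i) = 0) := by
  classical
  have hsup : U ⊔ U' = ⊤ := hc.sup_eq_top
  have hinj := pair_injective Q hQ hU' hsup
  have hbij : Function.Bijective ((polarBilin Q).domRestrict₁₂ U' U) :=
    ⟨hinj, (LinearMap.injective_iff_surjective_of_finrank_eq_finrank (by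
      rw [hU'm, ← hUm]; exact Subspace.dual_finrank_eq.symm)).1 hinj⟩
  obtain ⟨ψ, hψ⟩ : ∃ ψ : U' ≃ₗ[F] (U →ₗ[F] F),
      ∀ (b : U') (x : U), ψ b x = polar Q (b : V) (x : V) :=
    ⟨LinearEquiv.ofBijective _ hbij, fun b x => by
      rw [LinearEquiv.ofBijective_apply, LinearMap.domRestrict₁₂_apply, polarBilin_apply_apply]⟩
  obtain ⟨bU⟩ : Nonempty (Basis (Fin m) F U) := ⟨Module.finBasisOfFinrankEq F U hUm⟩
  obtain ⟨bU', hbU'⟩ : ∃ bU' : Basis (Fin m) F U', ∀ j, ψ (bU' j) = bU.dualBasis j :=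
    ⟨bU.dualBasis.map ψ.symm, fun j => by rw [Basis.map_apply, LinearEquiv.apply_symm_apply]⟩
  have hpair : ∀ (u : U) (u' : U'),
      polar Q (u' : V) (u : V) = ∑ j, bU'.repr u' j * bU.repr u j := by
    intro u u'
    rw [← hψ]
    conv_lhs => rw [← bU'.sum_repr u']
    rw [map_sum, LinearMap.sum_apply]
    refine Finset.sum_congr rfl fun j _ => ?_
    rw [map_smul, LinearMap.smul_apply, smul_eq_mul, hbU', Basis.dualBasis_apply]
  obtain ⟨P, hP⟩ : ∃ P : (U × U') ≃ₗ[F] V, ∀ z, P z = (z.1 : V) + (z.2 : V) :=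
    ⟨Submodule.prodEquivOfIsCompl U U' hc, fun z => Submodule.coe_prodEquivOfIsCompl' U U' hc z⟩
  obtain ⟨Φ, hΦl, hΦr⟩ : ∃ Φ : V ≃ₗ[F] (Fin m ⊕ Fin m → F),
      (∀ z i, Φ (P z) (Sum.inl i) = bU.repr z.1 i) ∧
      (∀ z i, Φ (P z) (Sum.inr i) = bU'.repr z.2 i) := by
    refine ⟨P.symm.trans ((bU.equivFun.prodCongr bU'.equivFun).trans
      (LinearEquiv.sumArrowLequivProdArrow (Fin m) (Fin m) F F).symm), fun z i => ?_,
      fun z i => ?_⟩
    · simp
    · simp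
  refine ⟨Φ, fun x => ?_, fun x => ?_, fun x => ?_⟩
  · obtain ⟨z, rfl⟩ := P.surjective x
    unfold Cfsg.quadFormPlus
    simp only [hΦl, hΦr]
    rw [hP, Cfsg.Agent.Lib.Helper25.MaxTS.Q_add, hU _ z.1.2, hU' _ z.2.2, zero_add, zero_add,
      polar_comm, hpair]
    exact Finset.sum_congr rfl fun j _ => mul_comm _ _
  · obtain ⟨z, rfl⟩ := P.surjective x
    simp only [hΦr]
    rw [hP]
    constructor
    · intro hx i
      have h1 : (z.2 : V) ∈ U := by
        have := U.sub_mem hx z.1.2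
        rwa [add_sub_cancel_left] at this
      have h2 : (z.2 : V) ∈ U ⊓ U' := ⟨h1, z.2.2⟩
      rw [hc.inf_eq_bot, Submodule.mem_bot] at h2
      have h3 : z.2 = 0 := Subtype.ext h2
      rw [h3, map_zero]
      rfl
    · intro h
      have h3 : z.2 = 0 := by
        apply bU'.repr.injective
        ext i
        rw [h i, map_zero]
        rfl
      rw [h3, Submodule.coe_zero, add_zero]
      exact z.1.2
  · obtain ⟨z, rfl⟩ := P.surjective x
    simp only [hΦl]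
    rw [hP]
    constructor
    · intro hx i
      have h1 : (z.1 : V) ∈ U' := by
        have := U'.sub_mem hx z.2.2
        rwa [add_sub_cancel_right] at this
      have h2 : (z.1 : V) ∈ U ⊓ U' := ⟨z.1.2, h1⟩
      rw [hc.inf_eq_bot, Submodule.mem_bot] at h2
      have h3 : z.1 = 0 := Subtype.ext h2
      rw [h3, map_zero]
      rfl
    · intro h
      have h3 : z.1 = 0 := by
        apply bU.repr.injective
        ext i
        rw [h i, map_zero]
        rfl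
      rw [h3, Submodule.coe_zero, zero_add]
      exact z.2.2


theorem inter_large (hQ : (polarBilin Q).Nondegenerate) {Y Y' U : Submodule F V}
    (hY : ∀ u ∈ Y, Q u = 0) (hYsup : Y ⊔ Y' = ⊤) (hYrk : finrank F Y' = finrank F Y)
    (hU : finrank F U = finrank F Y)
    (hstab : ∀ y ∈ Y, ∀ y' ∈ Y', polar Q y y' = 0 → ∀ x ∈ U, siegF Q y y' 1 x ∈ U)
    (hne : U ≠ Y) : finrank F Y ≤ finrank F (U ⊓ Y' : Submodule F V) + 2 := by
  have hnle : ¬ U ≤ Y := fun hle => hne (Submodule.eq_of_le_of_finrank_eq hle hU)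
  obtain ⟨x, hxU, hxY⟩ := SetLike.not_le_iff_exists.1 hnle
  have hx : x ∈ Y ⊔ Y' := by rw [hYsup]; exact Submodule.mem_top
  obtain ⟨p, hp, p', hp', hpp⟩ := Submodule.mem_sup.1 hx
  have hp'0 : p' ≠ 0 := by
    rintro rfl
    apply hxY
    rw [← hpp, add_zero]
    exact hp
  obtain ⟨y0, hy0, -, hy0p⟩ := exists_dual_vec Q hQ hY (by rw [sup_comm]; exact hYsup) hYrk.symm
    (P := ⊥) bot_le hp' (by simpa using hp'0)
  have hy0x : polar Q y0 x = 1 := by
    rw [← hpp, polar_add_right, pz Q hY hy0 hp, zero_add, hy0p]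
  have hle : Y' ⊓ Cfsg.Agent.Lib.Helper25.MaxTS.perp Q (Submodule.span F {y0}) ⊓
      Cfsg.Agent.Lib.Helper25.MaxTS.perp Q (Submodule.span F {x}) ≤ U ⊓ Y' := by
    intro y' hy'
    obtain ⟨⟨hy'Y', hy'1⟩, hy'2⟩ := hy'
    have hy'1' : polar Q y0 y' = 0 := Cfsg.Agent.Lib.Helper25.MaxTS.mem_perp_span.1 hy'1
    have hy'2' : polar Q x y' = 0 := Cfsg.Agent.Lib.Helper25.MaxTS.mem_perp_span.1 hy'2
    refine ⟨?_, hy'Y'⟩
    have h1 := hstab y0 hy0 y' hy'Y' hy'1' x hxU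
    unfold siegF at h1
    rw [hy0x, polar_comm Q y' x, hy'2'] at h1
    simp only [one_smul, zero_smul, sub_zero] at h1
    have := U.sub_mem h1 hxU
    rwa [add_sub_cancel_left] at this
  have h1 := finrank_inf_perp_ge Q hQ Y' y0
  have h2 := finrank_inf_perp_ge Q hQ
    (Y' ⊓ Cfsg.Agent.Lib.Helper25.MaxTS.perp Q (Submodule.span F {y0})) x
  have h3 := Submodule.finrank_mono hle
  omega

theorem eq_of_sieg_stab (hQ : (polarBilin Q).Nondegenerate) {Y Y' U : Submodule F V}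
    (hY : ∀ u ∈ Y, Q u = 0) (hY' : ∀ u ∈ Y', Q u = 0) (hYsup : Y ⊔ Y' = ⊤)
    (hYdisj : Y ⊓ Y' = ⊥) (hYrk : finrank F Y' = finrank F Y)
    (hU : finrank F U = finrank F Y) (h5 : 5 ≤ finrank F Y)
    (hstab : ∀ y ∈ Y, ∀ y' ∈ Y', polar Q y y' = 0 → ∀ c, ∀ x ∈ U, siegF Q y y' c x ∈ U) :
    U = Y ∨ U = Y' := by
  by_contra hcon
  push Not at hcon
  obtain ⟨h1, h2⟩ := hcon
  have hA := inter_large Q hQ hY hYsup hYrk hU
    (fun y hy y' hy' h x hx => hstab y hy y' hy' h 1 x hx) h1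
  have hB := inter_large Q hQ hY' (by rw [sup_comm]; exact hYsup) hYrk.symm
    (hU.trans hYrk.symm) (fun y' hy' y hy h x hx => by
      have := hstab y hy y' hy' (by rw [polar_comm]; exact h) (-1) x hx
      have e : siegF Q y' y 1 x = siegF Q y y' (-1) x := by
        unfold siegF
        module
      rw [e]
      exact this) h2
  have h3 := Submodule.finrank_sup_add_finrank_inf_eq (U ⊓ Y) (U ⊓ Y')
  have h4 : finrank F ((U ⊓ Y) ⊔ (U ⊓ Y') : Submodule F V) ≤ finrank F U :=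
    Submodule.finrank_mono (sup_le inf_le_left inf_le_left)
  have h5' : finrank F ((U ⊓ Y) ⊓ (U ⊓ Y') : Submodule F V) = 0 := by
    have : (U ⊓ Y) ⊓ (U ⊓ Y') = ⊥ := by
      apply le_bot_iff.1
      rw [← hYdisj]
      exact inf_le_inf inf_le_right inf_le_right
    rw [this]
    exact finrank_bot F V
  omega

end general

section matrix

variable {ι : Type} [Fintype ι] [DecidableEq ι] {F : Type*} [Field F] [Fintype F]
  (Q : QuadraticForm F (ι → F))

theorem exists_conj {κ : Type} [Fintype κ] [DecidableEq κ] (Φ : (ι → F) ≃ₗ[F] (κ → F))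
    (N : Matrix κ κ F) (hN : N * N = 1) (q : (κ → F) → F) (hΦ : ∀ x, Q x = q (Φ x))
    (hq : ∀ v, q (N *ᵥ v) = q v) :
    ∃ g : ↥(Cfsg.isometryGroup F ⇑Q), g * g = 1 ∧ ∀ x, toOG Q g x = Φ.symm (N *ᵥ Φ x) := by
  have hNN : ∀ v, N *ᵥ (N *ᵥ v) = v := by
    intro v
    rw [Matrix.mulVec_mulVec, hN, Matrix.one_mulVec]
  obtain ⟨f, hf⟩ : ∃ f : (ι → F) →ₗ[F] (ι → F), ∀ x, f x = Φ.symm (N *ᵥ Φ x) :=
    ⟨Φ.symm.toLinearMap ∘ₗ N.mulVecLin ∘ₗ Φ.toLinearMap, fun x => by simp⟩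
  have hff : ∀ x, f (f x) = x := by
    intro x
    rw [hf, hf, LinearEquiv.apply_symm_apply, hNN, LinearEquiv.symm_apply_apply]
  obtain ⟨ρ, hρf⟩ : ∃ ρ : (ι → F) ≃ₗ[F] (ι → F), ∀ x, ρ x = f x :=
    ⟨LinearEquiv.ofLinearMap f f (LinearMap.ext hff) (LinearMap.ext hff), fun x => rfl⟩
  have hρ : ρ ∈ OG Q := mem_OG.2 (fun x => by
    rw [hρf, hf, hΦ, LinearEquiv.apply_symm_apply, hq, ← hΦ])
  refine ⟨ofOG Q ρ hρ, ?_, fun x => ?_⟩
  · apply toOG_injective Q
    rw [map_mul, toOG_ofOG, map_one]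
    ext1 x
    rw [LinearEquiv.mul_apply, hρf, hρf, hff]
    rfl
  · rw [toOG_ofOG, hρf, hf]

theorem exists_swap (hQ : (polarBilin Q).Nondegenerate) {U U' : Submodule F (ι → F)}
    (hU : ∀ u ∈ U, Q u = 0) (hU' : ∀ u ∈ U', Q u = 0) (hc : IsCompl U U') {k : ℕ}
    (hUm : finrank F U = k + k) (hU'm : finrank F U' = k + k) :
    ∃ s ∈ Cfsg.Omega F ⇑Q, (∀ x ∈ U, toOG Q s x ∈ U') ∧ (∀ x ∈ U', toOG Q s x ∈ U) := by
  obtain ⟨Φ, hΦQ, hΦU, hΦU'⟩ := exists_std Q hQ hU hU' hc hUm hU'm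
  obtain ⟨gA, hgA2, hgA⟩ := exists_conj Q Φ (Cfsg.Agent.Lib.Helper25.OrthDet.MA k)
    (Cfsg.Agent.Lib.Helper25.OrthDet.MA_sq k) _ hΦQ (Cfsg.Agent.Lib.Helper25.OrthDet.MA_iso k)
  obtain ⟨gT, hgT2, hgT⟩ := exists_conj Q Φ (Cfsg.Agent.Lib.Helper25.OrthDet.MT k)
    (Cfsg.Agent.Lib.Helper25.OrthDet.MT_sq k) _ hΦQ (Cfsg.Agent.Lib.Helper25.OrthDet.MT_iso k)
  have hAinv : gA⁻¹ = gA := inv_eq_of_mul_eq_one_right hgA2
  have hTinv : gT⁻¹ = gT := inv_eq_of_mul_eq_one_right hgT2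
  have hs : ∀ x, toOG Q ⁅gA, gT⁆ x = Φ.symm (Φ x ∘ Sum.swap) := by
    intro x
    rw [commutatorElement_def, hAinv, hTinv, map_mul, map_mul, map_mul, LinearEquiv.mul_apply,
      LinearEquiv.mul_apply, LinearEquiv.mul_apply]
    simp only [hgA, hgT, LinearEquiv.apply_symm_apply]
    rw [← Cfsg.Agent.Lib.Helper25.OrthDet.swap_mulVec]
    simp only [Matrix.mulVec_mulVec, Matrix.mul_assoc]
  refine ⟨⁅gA, gT⁆, Subgroup.commutator_mem_commutator (Subgroup.mem_top _) (Subgroup.mem_top _),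
    fun x hx => ?_, fun x hx => ?_⟩
  · rw [hΦU', hs]
    intro i
    rw [LinearEquiv.apply_symm_apply]
    exact (hΦU x).1 hx i
  · rw [hΦU, hs]
    intro i
    rw [LinearEquiv.apply_symm_apply]
    exact (hΦU' x).1 hx i

/-- `y` lies in the root module of `u` relative to `M`. -/
def InA (M : Subgroup ↥(Cfsg.isometryGroup F ⇑Q)) (u y : ι → F) : Prop :=
  ∀ c : F, ∃ g ∈ M, ∀ x, toOG Q g x = egen Q u (c • y) x

/-- The data of a complementary pair of totally singular subspaces with Levi factor and swap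
inside `M`. -/
structure Setup (M : Subgroup ↥(Cfsg.isometryGroup F ⇑Q)) (U U' : Submodule F (ι → F)) :
    Prop where
  nd : (polarBilin Q).Nondegenerate
  card : 7 ≤ Fintype.card ι
  tsU : ∀ u ∈ U, Q u = 0
  tsU' : ∀ u ∈ U', Q u = 0
  disj : U ⊓ U' = ⊥
  sup : U ⊔ U' = ⊤
  rk : finrank F U' = finrank F U
  levi : ∀ g ∈ Cfsg.Omega F ⇑Q, (∀ x ∈ U, toOG Q g x ∈ U) → (∀ x ∈ U', toOG Q g x ∈ U') → g ∈ M
  le : M ≤ Cfsg.Omega F ⇑Q
  swap : ∃ s ∈ M, (∀ x ∈ U, toOG Q s x ∈ U') ∧ (∀ x ∈ U', toOG Q s x ∈ U)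

variable {Q}

theorem InA.add {M : Subgroup ↥(Cfsg.isometryGroup F ⇑Q)} {u y y' : ι → F} (hu : Q u = 0)
    (huy : polar Q u y = 0) (huy' : polar Q u y' = 0) (h : InA Q M u y) (h' : InA Q M u y') :
    InA Q M u (y + y') := by
  intro c
  obtain ⟨g, hg, hgx⟩ := h c
  obtain ⟨g', hg', hgx'⟩ := h' c
  refine ⟨g * g', M.mul_mem hg hg', fun x => ?_⟩
  rw [map_mul, LinearEquiv.mul_apply, hgx, hgx',
    egen_add Q hu (by rw [polar_smul_right, huy, smul_zero])
      (by rw [polar_smul_right, huy', smul_zero]), smul_add]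

theorem InA.smul {M : Subgroup ↥(Cfsg.isometryGroup F ⇑Q)} {u y : ι → F} (h : InA Q M u y)
    (d : F) : InA Q M u (d • y) := by
  intro c
  obtain ⟨g, hg, hgx⟩ := h (c * d)
  exact ⟨g, hg, fun x => by rw [hgx, mul_smul]⟩

theorem InA.of_sieg {M : Subgroup ↥(Cfsg.isometryGroup F ⇑Q)} {u w : ι → F} (hu : Q u = 0)
    (hw : Q w = 0) (huw : polar Q u w = 0) (h : ∀ c, siegG Q u w c hu hw huw ∈ M) :
    InA Q M u w := by
  intro c
  exact ⟨_, h c, fun x => by rw [toOG_siegG, egen_sing Q hw]⟩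

theorem InA.conj {M : Subgroup ↥(Cfsg.isometryGroup F ⇑Q)} {u y : ι → F}
    {m : ↥(Cfsg.isometryGroup F ⇑Q)} (hm : m ∈ M) (h : InA Q M u y) :
    InA Q M (toOG Q m u) (toOG Q m y) := by
  intro c
  obtain ⟨g, hg, hgx⟩ := h c
  refine ⟨m * g * m⁻¹, M.mul_mem (M.mul_mem hm hg) (M.inv_mem hm), fun x => ?_⟩
  have e : toOG Q m ((toOG Q m)⁻¹ x) = x := by
    rw [← LinearEquiv.mul_apply, mul_inv_cancel]
    rfl
  rw [map_mul, map_mul, LinearEquiv.mul_apply, LinearEquiv.mul_apply, hgx,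
    egen_map Q (toOG_mem_OG Q m), map_smul, map_inv, e]


section setup

variable {M : Subgroup ↥(Cfsg.isometryGroup F ⇑Q)} {U U' : Submodule F (ι → F)}

theorem Setup.symm (hS : Setup Q M U U') : Setup Q M U' U :=
  ⟨hS.nd, hS.card, hS.tsU', hS.tsU, by rw [inf_comm]; exact hS.disj,
    by rw [sup_comm]; exact hS.sup, hS.rk.symm, fun g hg h1 h2 => hS.levi g hg h2 h1, hS.le, by
      obtain ⟨s, hs, h1, h2⟩ := hS.swap
      exact ⟨s, hs, h2, h1⟩⟩

theorem Setup.dual (hS : Setup Q M U U') {P : Submodule F (ι → F)} {y : ι → F} (hPU : P ≤ U)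
    (hyU : y ∈ U) (hyP : y ∉ P) : ∃ b ∈ U', (∀ p ∈ P, polar Q b p = 0) ∧ polar Q b y = 1 :=
  exists_dual_vec Q hS.nd hS.tsU' hS.sup hS.rk hPU hyU hyP

theorem Setup.sieg_mem (hS : Setup Q M U U') {a b : ι → F} (ha : a ∈ U) (hb : b ∈ U')
    (hab : polar Q a b = 0) (c : F) :
    siegG Q a b c (hS.tsU a ha) (hS.tsU' b hb) hab ∈ M := by
  apply hS.levi _ (siegG_mem_omega Q hS.nd hS.card a b c _ _ _)
  · intro x hx
    rw [toOG_siegG]
    exact siegF_mem_of_left Q (W := U) hS.tsU ha b c hx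
  · intro x hx
    rw [toOG_siegG]
    unfold siegF
    rw [polar_comm Q b x, pz Q hS.tsU' hx hb, zero_smul, sub_zero]
    exact U'.add_mem hx (U'.smul_mem _ (U'.smul_mem _ hb))

theorem Setup.inA_right (hS : Setup Q M U U') {u b : ι → F} (hu : u ∈ U) (hb : b ∈ U')
    (hub : polar Q u b = 0) : InA Q M u b :=
  InA.of_sieg (hS.tsU u hu) (hS.tsU' b hb) hub (fun c => hS.sieg_mem hu hb hub c)

/-- Claim 1: one root element inside `U` off the point gives all of them. -/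
theorem Setup.inA_all (hS : Setup Q M U U') {u y : ι → F} (hu : u ∈ U) (hy : y ∈ U)
    (hyu : y ∉ Submodule.span F {u}) (h : InA Q M u y) : ∀ a ∈ U, InA Q M u a := by
  obtain ⟨b, hb, hbP, hby⟩ := hS.dual (P := Submodule.span F {u})
    (Submodule.span_le.2 (Set.singleton_subset_iff.2 hu)) hy hyu
  have hbu : polar Q b u = 0 := hbP u (Submodule.mem_span_singleton_self u)
  have hQu : Q u = 0 := hS.tsU u hu
  have key : ∀ a0 ∈ U, polar Q b a0 = 0 → InA Q M u a0 := by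
    intro a0 ha0 hba0
    have ha0b : polar Q a0 b = 0 := by rw [polar_comm]; exact hba0
    have hl := hS.sieg_mem ha0 hb ha0b 1
    have h1 := InA.conj hl h
    rw [toOG_siegG, toOG_siegG] at h1
    have e1 : siegF Q a0 b 1 u = u := by
      unfold siegF
      rw [pz Q hS.tsU ha0 hu, hbu]
      simp
    have e2 : siegF Q a0 b 1 y = y - a0 := by
      unfold siegF
      rw [pz Q hS.tsU ha0 hy, hby]
      module
    rw [e1, e2] at h1
    have h2 := InA.add hQu (pz Q hS.tsU hu hy)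
      (by rw [polar_smul_right, polar_sub_right, pz Q hS.tsU hu hy, pz Q hS.tsU hu ha0]; simp)
      h (h1.smul (-1))
    have e3 : y + (-1 : F) • (y - a0) = a0 := by module
    rwa [e3] at h2
  intro a ha
  have e : a = (a - polar Q b a • y) + polar Q b a • y := by module
  rw [e]
  refine InA.add hQu ?_ ?_ (key _ (U.sub_mem ha (U.smul_mem _ hy)) ?_) (h.smul _)
  · exact pz Q hS.tsU hu (U.sub_mem ha (U.smul_mem _ hy))
  · exact pz Q hS.tsU hu (U.smul_mem _ hy)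
  · rw [polar_sub_right, polar_smul_right, hby]
    simp

theorem Setup.good (hS : Setup Q M U U') {u : ι → F} (hu : u ∈ U) (hu0 : u ≠ 0)
    (h : ∀ a ∈ U, InA Q M u a) : Good Q M (mk' Q u hu0 (hS.tsU u hu)) := by
  have hQu : Q u = 0 := hS.tsU u hu
  unfold Good X
  rw [Subgroup.closure_le]
  rintro g ⟨u1, hu1P, hu10, v, c, hv, hu1v, hg⟩
  rw [mk'_val] at hu1P
  obtain ⟨t, rfl⟩ := Submodule.mem_span_singleton.1 hu1P
  have ht0 : t ≠ 0 := by
    rintro rfl
    exact hu10 (zero_smul _ _)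
  have huv : polar Q u v = 0 := by
    rw [polar_smul_left, smul_eq_mul] at hu1v
    exact (mul_eq_zero.1 hu1v).resolve_left ht0
  have hQtu : Q (t • u) = 0 := by rw [QuadraticMap.map_smul, hQu, smul_zero]
  rw [eq_siegG_of_coe Q hQtu hv hu1v hg, siegG_smul_left Q t c hQu hv huv hQtu hu1v]
  have hvtop : v ∈ U ⊔ U' := by rw [hS.sup]; exact Submodule.mem_top
  obtain ⟨a, ha, b, hb, rfl⟩ := Submodule.mem_sup.1 hvtop
  have hua : polar Q u a = 0 := pz Q hS.tsU hu ha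
  have hub : polar Q u b = 0 := by
    rw [polar_add_right, hua, zero_add] at huv
    exact huv
  have hin : InA Q M u (a + b) := InA.add hQu hua hub (h a ha) (hS.inA_right hu hb hub)
  obtain ⟨g', hg'M, hg'⟩ := hin (t * c)
  have e : g' = siegG Q u (a + b) (t * c) hQu hv huv := by
    apply toOG_injective Q
    ext1 x
    rw [hg', toOG_siegG, egen_sing Q hv]
  rw [← e]
  exact hg'M

theorem Setup.eq_omega_of_good (hS : Setup Q M U U') {u : ι → F} (hu : u ∈ U) (hu0 : u ≠ 0)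
    (hg : Good Q M (mk' Q u hu0 (hS.tsU u hu))) : M = Cfsg.Omega F ⇑Q := by
  have hQ := hS.nd
  have hn := hS.card
  have hQu : Q u = 0 := hS.tsU u hu
  obtain ⟨s, hsM, hsU, -⟩ := hS.swap
  apply eq_omega_of_all_good Q hQ hn M hS.le
  have hg1 := good_smul Q hsM hg
  rw [smul_mk'] at hg1
  obtain ⟨w, hw⟩ : ∃ w, w = toOG Q s u := ⟨_, rfl⟩
  have hwU' : w ∈ U' := by rw [hw]; exact hsU u hu
  have hw0 : w ≠ 0 := by
    rw [hw]
    intro h
    exact hu0 ((toOG Q s).injective (by rw [h, map_zero]))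
  have hQw : Q w = 0 := hS.tsU' w hwU'
  have hgw : Good Q M (mk' Q w hw0 hQw) := by
    subst hw
    exact hg1
  by_cases huw : polar Q u w = 0
  swap
  · exact all_good_of_opposite Q hQ (by omega) M hg hgw (by rw [ort_mk']; exact huw)
  obtain ⟨a, ha, -, haw⟩ := hS.symm.dual (P := ⊥) bot_le hwU' (by simpa using hw0)
  have hua : u ∉ Submodule.span F {a} := by
    intro h
    obtain ⟨t, rfl⟩ := Submodule.mem_span_singleton.1 h
    rw [polar_smul_left, haw, smul_eq_mul, mul_one] at huw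
    apply hu0
    rw [huw, zero_smul]
  obtain ⟨b, hb, hbP, hbu⟩ := hS.dual (P := Submodule.span F {a})
    (Submodule.span_le.2 (Set.singleton_subset_iff.2 ha)) hu hua
  have hba : polar Q b a = 0 := hbP a (Submodule.mem_span_singleton_self a)
  have hab : polar Q a b = 0 := by rw [polar_comm]; exact hba
  have hl := hS.sieg_mem ha hb hab 1
  have hg2 := good_smul Q hl hgw
  rw [smul_mk'] at hg2
  refine all_good_of_opposite Q hQ (by omega) M hg hg2 ?_
  rw [ort_mk', toOG_siegG]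
  unfold siegF
  rw [haw, pz Q hS.tsU' hb hwU']
  have e : w + (1 : F) • ((1 : F) • b - (0 : F) • a) = w + b := by module
  rw [e, polar_add_right, huw, zero_add, polar_comm Q u b, hbu]
  exact one_ne_zero

theorem Setup.eq_omega_of_star (hS : Setup Q M U U') {u y : ι → F} (hu : u ∈ U) (hu0 : u ≠ 0)
    (hy : y ∈ U) (hyu : y ∉ Submodule.span F {u}) (h : InA Q M u y) :
    M = Cfsg.Omega F ⇑Q :=
  hS.eq_omega_of_good hu hu0 (hS.good hu hu0 (hS.inA_all hu hy hyu h))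


/-- If `M ≠ Ω`, images under `m ∈ M` of vectors of `U'` orthogonal to `α` (with `m α ∈ U`) have
`U`-component in the span of `m α`. -/
theorem Setup.proj_mem_span (hS : Setup Q M U U') (hne : M ≠ Cfsg.Omega F ⇑Q)
    {m : ↥(Cfsg.isometryGroup F ⇑Q)} (hm : m ∈ M) {α x' : ι → F} (hα : α ∈ U) (hα0 : α ≠ 0)
    (hmα : toOG Q m α ∈ U) (hx' : x' ∈ U') (hαx' : polar Q α x' = 0) :
    ∃ t : F, ∃ p' ∈ U', toOG Q m x' = t • toOG Q m α + p' := by
  obtain ⟨a, ha⟩ : ∃ a, a = toOG Q m α := ⟨_, rfl⟩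
  obtain ⟨b, hb⟩ : ∃ b, b = toOG Q m x' := ⟨_, rfl⟩
  rw [← ha] at hmα
  rw [← ha, ← hb]
  have ha0 : a ≠ 0 := by
    rw [ha]
    intro h
    exact hα0 ((toOG Q m).injective (by rw [h, map_zero]))
  have hQa : Q a = 0 := hS.tsU a hmα
  have hab : polar Q a b = 0 := by rw [ha, hb, polar_toOG]; exact hαx'
  have hin : InA Q M a b := by
    have h0 : InA Q M α x' := hS.inA_right hα hx' hαx'
    have := InA.conj hm h0
    rwa [← ha, ← hb] at this
  have hbtop : b ∈ U ⊔ U' := by rw [hS.sup]; exact Submodule.mem_top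
  obtain ⟨p, hp, p', hp', hpp⟩ := Submodule.mem_sup.1 hbtop
  have hap : polar Q a p = 0 := pz Q hS.tsU hmα hp
  have hap' : polar Q a p' = 0 := by
    have h1 : polar Q a b = polar Q a p + polar Q a p' := by rw [← hpp, polar_add_right]
    rw [hab, hap, zero_add] at h1
    exact h1.symm
  have hinp' : InA Q M a p' := hS.inA_right hmα hp' hap'
  have hinp : InA Q M a p := by
    have h1 := InA.add hQa hab (by rw [polar_smul_right, hap', smul_zero]) hin (hinp'.smul (-1))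
    have e : b + (-1 : F) • p' = p := by rw [← hpp]; module
    rwa [e] at h1
  by_cases hps : p ∈ Submodule.span F {a}
  · obtain ⟨t, ht⟩ := Submodule.mem_span_singleton.1 hps
    exact ⟨t, p', hp', by rw [← hpp, ← ht]⟩
  · exact absurd (hS.eq_omega_of_star hmα ha0 hp hps hinp) hne

theorem Setup.map_mem_of_two (hS : Setup Q M U U') (hne : M ≠ Cfsg.Omega F ⇑Q)
    {m : ↥(Cfsg.isometryGroup F ⇑Q)} (hm : m ∈ M) {α β : ι → F} (hα : α ∈ U) (hβ : β ∈ U)
    (hα0 : α ≠ 0) (hβα : β ∉ Submodule.span F {α}) (hmα : toOG Q m α ∈ U)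
    (hmβ : toOG Q m β ∈ U) {x' : ι → F} (hx' : x' ∈ U') (h1 : polar Q α x' = 0)
    (h2 : polar Q β x' = 0) : toOG Q m x' ∈ U' := by
  have hβ0 : β ≠ 0 := by
    rintro rfl
    exact hβα (Submodule.zero_mem _)
  obtain ⟨t1, p1, hp1, e1⟩ := hS.proj_mem_span hne hm hα hα0 hmα hx' h1
  obtain ⟨t2, p2, hp2, e2⟩ := hS.proj_mem_span hne hm hβ hβ0 hmβ hx' h2
  have hd : t1 • toOG Q m α - t2 • toOG Q m β ∈ U ⊓ U' := by
    refine ⟨U.sub_mem (U.smul_mem _ hmα) (U.smul_mem _ hmβ), ?_⟩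
    have h3 : t1 • toOG Q m α + p1 = t2 • toOG Q m β + p2 := e1.symm.trans e2
    have h4 : t1 • toOG Q m α - t2 • toOG Q m β = p2 - p1 := by
      rw [sub_eq_sub_iff_add_eq_add, h3, add_comm]
    rw [h4]
    exact U'.sub_mem hp2 hp1
  rw [hS.disj, Submodule.mem_bot] at hd
  have h4 : toOG Q m (t1 • α - t2 • β) = 0 := by
    rw [map_sub, map_smul, map_smul]
    exact hd
  have h5 : t1 • α - t2 • β = 0 := (toOG Q m).injective (by rw [h4, map_zero])
  have ht2 : t2 = 0 := by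
    by_contra h
    apply hβα
    rw [Submodule.mem_span_singleton]
    refine ⟨t2⁻¹ * t1, ?_⟩
    have h6 : t2 • β = t1 • α := (sub_eq_zero.1 h5).symm
    rw [mul_smul, ← h6, smul_smul, inv_mul_cancel₀ h, one_smul]
  rw [e2, ht2, zero_smul, zero_add]
  exact hp2

theorem Setup.map_mem_of_three (hS : Setup Q M U U') (hne : M ≠ Cfsg.Omega F ⇑Q)
    {m : ↥(Cfsg.isometryGroup F ⇑Q)} (hm : m ∈ M) {W0 : Submodule F (ι → F)} (hW0 : W0 ≤ U)
    (hmW0 : ∀ α ∈ W0, toOG Q m α ∈ U) (h3 : 3 ≤ finrank F W0) :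
    ∀ x' ∈ U', toOG Q m x' ∈ U' := by
  obtain ⟨f, hli⟩ := exists_linearIndependent_of_le_finrank h3
  obtain ⟨v, hv⟩ : ∃ v : Fin 3 → (ι → F), ∀ i, v i = (f i : ι → F) := ⟨fun i => f i, fun i => rfl⟩
  have hli' : LinearIndependent F v := by
    have := hli.map' W0.subtype (Submodule.ker_subtype W0)
    have e : v = W0.subtype ∘ f := by
      funext i
      rw [hv]
      rfl
    rw [e]
    exact this
  have hvU : ∀ i, v i ∈ U := fun i => by rw [hv]; exact hW0 (f i).2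
  have hmv : ∀ i, toOG Q m (v i) ∈ U := fun i => by rw [hv]; exact hmW0 _ (f i).2
  have hv0 : ∀ i, v i ≠ 0 := fun i => hli'.ne_zero i
  have hnes : ∀ i j, i ≠ j → v j ∉ Submodule.span F {v i} := by
    intro i j hij h
    have h1 := hli'.notMem_span_image (s := {i}) (x := j) (by
      rw [Set.mem_singleton_iff]
      exact fun h => hij h.symm)
    rw [Set.image_singleton] at h1
    exact h1 h
  have two : ∀ i j, i ≠ j → ∀ x' ∈ U', polar Q (v i) x' = 0 → polar Q (v j) x' = 0 →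
      toOG Q m x' ∈ U' := fun i j hij x' hx' h1 h2 =>
    hS.map_mem_of_two hne hm (hvU i) (hvU j) (hv0 i) (hnes i j hij) (hmv i) (hmv j) hx' h1 h2
  -- dual vectors
  obtain ⟨c, hc, hcP, hc1⟩ := hS.dual (P := Submodule.span F (v '' {0, 2})) (y := v 1)
    (Submodule.span_le.2 (by rintro _ ⟨i, -, rfl⟩; exact hvU i)) (hvU 1)
    (hli'.notMem_span_image (by decide))
  obtain ⟨d, hd, hdP, hd0⟩ := hS.dual (P := Submodule.span F (v '' {1, 2})) (y := v 0)
    (Submodule.span_le.2 (by rintro _ ⟨i, -, rfl⟩; exact hvU i)) (hvU 0)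
    (hli'.notMem_span_image (by decide))
  have hc0 : polar Q c (v 0) = 0 := hcP _ (Submodule.subset_span ⟨0, by simp, rfl⟩)
  have hc2 : polar Q c (v 2) = 0 := hcP _ (Submodule.subset_span ⟨2, by simp, rfl⟩)
  have hd1 : polar Q d (v 1) = 0 := hdP _ (Submodule.subset_span ⟨1, by simp, rfl⟩)
  have hd2 : polar Q d (v 2) = 0 := hdP _ (Submodule.subset_span ⟨2, by simp, rfl⟩)
  have hmc : toOG Q m c ∈ U' := two 0 2 (by decide) c hc (by rw [polar_comm]; exact hc0)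
    (by rw [polar_comm]; exact hc2)
  have hmd : toOG Q m d ∈ U' := two 1 2 (by decide) d hd (by rw [polar_comm]; exact hd1)
    (by rw [polar_comm]; exact hd2)
  intro x' hx'
  obtain ⟨x0, hx0⟩ : ∃ x0, x0 = x' - polar Q (v 0) x' • d - polar Q (v 1) x' • c := ⟨_, rfl⟩
  have hx0U' : x0 ∈ U' := by
    rw [hx0]
    exact U'.sub_mem (U'.sub_mem hx' (U'.smul_mem _ hd)) (U'.smul_mem _ hc)
  have h0 : polar Q (v 0) x0 = 0 := by
    rw [hx0, polar_sub_right, polar_sub_right, polar_smul_right, polar_smul_right,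
      polar_comm Q (v 0) d, hd0, polar_comm Q (v 0) c, hc0]
    simp
  have h1 : polar Q (v 1) x0 = 0 := by
    rw [hx0, polar_sub_right, polar_sub_right, polar_smul_right, polar_smul_right,
      polar_comm Q (v 1) d, hd1, polar_comm Q (v 1) c, hc1]
    simp
  have hmx0 := two 0 1 (by decide) x0 hx0U' h0 h1
  have e : x' = x0 + polar Q (v 0) x' • d + polar Q (v 1) x' • c := by
    rw [hx0]
    module
  rw [e, map_add, map_add, map_smul, map_smul]
  exact U'.add_mem (U'.add_mem hmx0 (U'.smul_mem _ hmd)) (U'.smul_mem _ hmc)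


theorem Setup.root_stab (hS : Setup Q M U U') (hne : M ≠ Cfsg.Omega F ⇑Q)
    (h5 : 5 ≤ finrank F U) {r : ↥(Cfsg.isometryGroup F ⇑Q)} (hr : r ∈ M) {y y' : ι → F} {c : F}
    (hry : ∀ x, toOG Q r x = siegF Q y y' c x) : ∀ x' ∈ U', toOG Q r x' ∈ U' := by
  apply hS.map_mem_of_three hne hr
    (W0 := U ⊓ Cfsg.Agent.Lib.Helper25.MaxTS.perp Q (Submodule.span F {y}) ⊓
      Cfsg.Agent.Lib.Helper25.MaxTS.perp Q (Submodule.span F {y'}))
    (inf_le_left.trans inf_le_left)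
  · intro α hα
    obtain ⟨⟨hαU, h1⟩, h2⟩ := hα
    rw [hry, siegF_fix Q (Cfsg.Agent.Lib.Helper25.MaxTS.mem_perp_span.1 h1)
      (Cfsg.Agent.Lib.Helper25.MaxTS.mem_perp_span.1 h2)]
    exact hαU
  · have h1 := finrank_inf_perp_ge Q hS.nd U y
    have h2 := finrank_inf_perp_ge Q hS.nd
      (U ⊓ Cfsg.Agent.Lib.Helper25.MaxTS.perp Q (Submodule.span F {y})) y'
    omega

theorem map_eq_of_mem (g : (ι → F) ≃ₗ[F] (ι → F)) {W W' : Submodule F (ι → F)}
    (hfr : finrank F W = finrank F W') (h : ∀ x ∈ W, g x ∈ W') :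
    W.map (g : (ι → F) →ₗ[F] (ι → F)) = W' := by
  apply Submodule.eq_of_le_of_finrank_eq
  · rintro _ ⟨x, hx, rfl⟩
    exact h x hx
  · rw [finrank_map_equiv]
    exact hfr

/-- If `M ≠ Ω` then every element of `M` preserves or swaps the pair. -/
theorem Setup.mem_of_ne (hS : Setup Q M U U') (hne : M ≠ Cfsg.Omega F ⇑Q)
    (h5 : 5 ≤ finrank F U) {h : ↥(Cfsg.isometryGroup F ⇑Q)} (hh : h ∈ M) :
    (U.map (lm Q h) = U ∧ U'.map (lm Q h) = U') ∨ (U.map (lm Q h) = U' ∧ U'.map (lm Q h) = U) := by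
  obtain ⟨Y, hYdef⟩ : ∃ Y, Y = U.map (lm Q h) := ⟨_, rfl⟩
  obtain ⟨Y', hY'def⟩ : ∃ Y', Y' = U'.map (lm Q h) := ⟨_, rfl⟩
  rw [← hYdef, ← hY'def]
  have hiso : ∀ x, Q (toOG Q h x) = Q x := toOG_mem_OG Q h
  have hY : ∀ u ∈ Y, Q u = 0 := by
    rw [hYdef]
    rintro _ ⟨u, hu, rfl⟩
    show Q (toOG Q h u) = 0
    rw [hiso]
    exact hS.tsU u hu
  have hY' : ∀ u ∈ Y', Q u = 0 := by
    rw [hY'def]
    rintro _ ⟨u, hu, rfl⟩
    show Q (toOG Q h u) = 0
    rw [hiso]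
    exact hS.tsU' u hu
  have hYsup : Y ⊔ Y' = ⊤ := by
    rw [hYdef, hY'def, ← Submodule.map_sup, hS.sup, Submodule.map_top, LinearMap.range_eq_top]
    exact (toOG Q h).surjective
  have hYdisj : Y ⊓ Y' = ⊥ := by
    rw [hYdef, hY'def, ← map_inf_equiv, hS.disj, Submodule.map_bot]
  have hYfr : finrank F Y = finrank F U := by
    rw [hYdef]
    exact finrank_map_equiv (toOG Q h) U
  have hY'fr : finrank F Y' = finrank F U' := by
    rw [hY'def]
    exact finrank_map_equiv (toOG Q h) U'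
  have hroot : ∀ y ∈ Y, ∀ y' ∈ Y', polar Q y y' = 0 → ∀ c, ∃ r ∈ M,
      ∀ x, toOG Q r x = siegF Q y y' c x := by
    intro y hy y' hy' hyy' c
    rw [hYdef] at hy
    rw [hY'def] at hy'
    obtain ⟨α, hα, rfl⟩ := hy
    obtain ⟨α', hα', rfl⟩ := hy'
    have h0 : polar Q α α' = 0 := by
      have h1 : polar Q (toOG Q h α) (toOG Q h α') = 0 := hyy'
      rwa [polar_toOG] at h1
    refine ⟨h * siegG Q α α' c (hS.tsU α hα) (hS.tsU' α' hα') h0 * h⁻¹,
      M.mul_mem (M.mul_mem hh (hS.sieg_mem hα hα' h0 c)) (M.inv_mem hh), fun x => ?_⟩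
    rw [conj_siegG_eq, toOG_siegG]
    rfl
  have h5' : 5 ≤ finrank F U' := by rw [hS.rk]; exact h5
  have hstabU' : ∀ y ∈ Y, ∀ y' ∈ Y', polar Q y y' = 0 → ∀ c, ∀ x ∈ U',
      siegF Q y y' c x ∈ U' := by
    intro y hy y' hy' hyy' c x hx
    obtain ⟨r, hr, hrx⟩ := hroot y hy y' hy' hyy' c
    rw [← hrx]
    exact hS.root_stab hne h5 hr hrx x hx
  have hstabU : ∀ y ∈ Y, ∀ y' ∈ Y', polar Q y y' = 0 → ∀ c, ∀ x ∈ U,
      siegF Q y y' c x ∈ U := by
    intro y hy y' hy' hyy' c x hx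
    obtain ⟨r, hr, hrx⟩ := hroot y hy y' hy' hyy' c
    rw [← hrx]
    exact hS.symm.root_stab hne h5' hr hrx x hx
  have hUY := eq_of_sieg_stab Q hS.nd hY hY' hYsup hYdisj (hY'fr.trans (hS.rk.trans hYfr.symm))
    hYfr.symm (by rw [hYfr]; exact h5) hstabU
  have hU'Y := eq_of_sieg_stab Q hS.nd hY hY' hYsup hYdisj
    (hY'fr.trans (hS.rk.trans hYfr.symm)) (hS.rk.trans hYfr.symm) (by rw [hYfr]; exact h5) hstabU'
  have hUU' : U ≠ U' := by
    intro e
    have h1 : U ⊓ U' = U := by rw [← e, inf_idem]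
    rw [hS.disj] at h1
    rw [← h1, finrank_bot] at h5
    omega
  rcases hUY with h1 | h1 <;> rcases hU'Y with h2 | h2
  · exact absurd (h1.trans h2.symm) hUU'
  · left
    exact ⟨h1.symm, h2.symm⟩
  · right
    exact ⟨h2.symm, h1.symm⟩
  · exact absurd (h1.trans h2.symm) hUU'

end setup

variable (Q)

theorem mem_dec_iff (D : Fin 2 → Submodule F (ι → F)) (g : GL ι F) :
    g ∈ Cfsg.Geo.decompositionStabilizer D ↔
      ((D 0).map (Matrix.toLin' (g : Matrix ι ι F)) = D 0 ∧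
        (D 1).map (Matrix.toLin' (g : Matrix ι ι F)) = D 1) ∨
      ((D 0).map (Matrix.toLin' (g : Matrix ι ι F)) = D 1 ∧
        (D 1).map (Matrix.toLin' (g : Matrix ι ι F)) = D 0) := by
  have h2 : ∀ i : Fin 2, i = 0 ∨ i = 1 := by decide
  constructor
  · rintro ⟨σ, hσ⟩
    rcases h2 (σ 0) with h0 | h0
    · left
      have h1 : σ 1 = 1 := by
        rcases h2 (σ 1) with h1 | h1
        · exact absurd (σ.injective (h1.trans h0.symm)) (by decide)
        · exact h1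
      exact ⟨by rw [hσ 0, h0], by rw [hσ 1, h1]⟩
    · right
      have h1 : σ 1 = 0 := by
        rcases h2 (σ 1) with h1 | h1
        · exact h1
        · exact absurd (σ.injective (h1.trans h0.symm)) (by decide)
      exact ⟨by rw [hσ 0, h0], by rw [hσ 1, h1]⟩
  · rintro (⟨h0, h1⟩ | ⟨h0, h1⟩)
    · refine ⟨1, fun i => ?_⟩
      rcases h2 i with rfl | rfl
      · simpa using h0
      · simpa using h1
    · refine ⟨Equiv.swap 0 1, fun i => ?_⟩
      rcases h2 i with rfl | rfl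
      · simpa using h0
      · simpa using h1

/-- The stabiliser in `Ω` of a pair of complementary totally singular subspaces of even dimension
`k ≥ 5` is a maximal subgroup of `Ω`. -/
theorem isMaximalIn_pair (hQ : (polarBilin Q).Nondegenerate) (hcard : 7 ≤ Fintype.card ι)
    (D : Fin 2 → Submodule F (ι → F)) {k : ℕ} (h5 : 5 ≤ k + k)
    (hD : Cfsg.Geo.IsMDecomposition (k + k) D)
    (hts : ∀ i, Cfsg.Geo.IsTotallySingularQuad ⇑Q (D i)) :
    Cfsg.Geo.IsMaximalIn (Cfsg.Geo.omegaGL ⇑Q)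
      (Cfsg.Geo.decompositionStabilizer D ⊓ Cfsg.Geo.omegaGL ⇑Q) := by
  have hfr0 := hD.finrank_eq 0
  have hfr1 := hD.finrank_eq 1
  have hts0 : ∀ u ∈ D 0, Q u = 0 := hts 0
  have hts1 : ∀ u ∈ D 1, Q u = 0 := hts 1
  have hdisj : D 0 ⊓ D 1 = ⊥ :=
    ((iSupIndep_pair (i := (0 : Fin 2)) (j := 1) (by decide) (by decide)).1 hD.indep).eq_bot
  have hsup : D 0 ⊔ D 1 = ⊤ := by
    rw [← hD.iSup_eq_top]
    apply le_antisymm
    · exact sup_le (le_iSup D 0) (le_iSup D 1)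
    · apply iSup_le
      intro i
      fin_cases i
      · exact le_sup_left
      · exact le_sup_right
  have hc : IsCompl (D 0) (D 1) := IsCompl.of_eq hdisj hsup
  obtain ⟨s, hsΩ, hsU, hsU'⟩ := exists_swap Q hQ hts0 hts1 hc hfr0 hfr1
  obtain ⟨S, hSdef⟩ : ∃ S : Subgroup ↥(Cfsg.isometryGroup F ⇑Q),
      S = (Cfsg.Geo.decompositionStabilizer D).comap (Cfsg.isometryGroup F ⇑Q).subtype :=
    ⟨_, rfl⟩
  have hlin : ∀ g : ↥(Cfsg.isometryGroup F ⇑Q),
      Matrix.toLin' ((g : GL ι F) : Matrix ι ι F) = lm Q g := fun g =>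
    LinearMap.ext fun v => by
      rw [Matrix.toLin'_apply]
      rfl
  have hmemS : ∀ g : ↥(Cfsg.isometryGroup F ⇑Q), g ∈ S ↔
      ((D 0).map (lm Q g) = D 0 ∧ (D 1).map (lm Q g) = D 1) ∨
      ((D 0).map (lm Q g) = D 1 ∧ (D 1).map (lm Q g) = D 0) := by
    intro g
    rw [hSdef, Subgroup.mem_comap, mem_dec_iff,
      show ((Cfsg.isometryGroup F ⇑Q).subtype g : GL ι F) = (g : GL ι F) from rfl, hlin]
  have e1 : Cfsg.Geo.decompositionStabilizer D ⊓ Cfsg.Geo.omegaGL ⇑Q =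
      (S ⊓ Cfsg.Omega F ⇑Q).map (Cfsg.isometryGroup F ⇑Q).subtype := by
    rw [hSdef]
    ext x
    constructor
    · rintro ⟨hx1, g, hg, rfl⟩
      exact ⟨g, ⟨hx1, hg⟩, rfl⟩
    · rintro ⟨g, ⟨hg1, hg2⟩, rfl⟩
      exact ⟨hg1, g, hg2, rfl⟩
  rw [e1]
  have hfr01 : finrank F (D 0) = finrank F (D 1) := hfr0.trans hfr1.symm
  have hsS : s ∈ S := (hmemS s).2 (Or.inr ⟨map_eq_of_mem _ hfr01 hsU,
    map_eq_of_mem _ hfr01.symm hsU'⟩)
  have mkSetup : ∀ M : Subgroup ↥(Cfsg.isometryGroup F ⇑Q), S ⊓ Cfsg.Omega F ⇑Q ≤ M →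
      M ≤ Cfsg.Omega F ⇑Q → Setup Q M (D 0) (D 1) := fun M h1 h2 =>
    ⟨hQ, hcard, hts0, hts1, hdisj, hsup, hfr01.symm, fun g hg hg0 hg1 =>
      h1 ⟨(hmemS g).2 (Or.inl ⟨map_eq_of_mem _ rfl hg0, map_eq_of_mem _ rfl hg1⟩), hg⟩, h2,
      ⟨s, h1 ⟨hsS, hsΩ⟩, hsU, hsU'⟩⟩
  have hlt : S ⊓ Cfsg.Omega F ⇑Q < Cfsg.Omega F ⇑Q := by
    refine lt_of_le_of_ne inf_le_right (fun heq => ?_)
    have hpos : 0 < finrank F (D 0) := by omega
    obtain ⟨u0, hu0⟩ : ∃ u : D 0, u ≠ 0 := Module.finrank_pos_iff_exists_ne_zero.1 hpos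
    obtain ⟨u, hu, hu0'⟩ : ∃ u ∈ D 0, u ≠ 0 :=
      ⟨u0, u0.2, fun h => hu0 (Subtype.ext h)⟩
    have hlt : Submodule.span F {u} < D 0 := by
      apply lt_of_le_of_ne (Submodule.span_le.2 (Set.singleton_subset_iff.2 hu))
      intro e
      have h1 := finrank_span_singleton (K := F) hu0'
      rw [e] at h1
      omega
    obtain ⟨a, ha, hau⟩ := SetLike.exists_of_lt hlt
    obtain ⟨x', hx', hx'P, hx'a⟩ := exists_dual_vec Q hQ hts1 hsup hfr01.symm
      (P := Submodule.span F {u}) (Submodule.span_le.2 (Set.singleton_subset_iff.2 hu)) ha hau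
    have hx'u : polar Q x' u = 0 := hx'P u (Submodule.mem_span_singleton_self u)
    have hQu := hts0 u hu
    have hQa := hts0 a ha
    have hua : polar Q u a = 0 := pz Q hts0 hu ha
    have hg : siegG Q u a 1 hQu hQa hua ∈ S ⊓ Cfsg.Omega F ⇑Q := by
      rw [heq]
      exact siegG_mem_omega Q hQ hcard u a 1 hQu hQa hua
    have hgS := (hmemS _).1 hg.1
    have hgu : toOG Q (siegG Q u a 1 hQu hQa hua) u = u := by
      rw [toOG_siegG]
      exact siegF_fix Q (pself Q hQu) (by rw [polar_comm]; exact hua) 1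
    have hcontra : u ∈ D 1 → False := by
      intro hu1
      have h1 : u ∈ D 0 ⊓ D 1 := ⟨hu, hu1⟩
      rw [hdisj, Submodule.mem_bot] at h1
      exact hu0' h1
    rcases hgS with ⟨-, h1⟩ | ⟨h0, -⟩
    · have h2 : toOG Q (siegG Q u a 1 hQu hQa hua) x' ∈ D 1 := by
        rw [← h1]
        exact Submodule.mem_map_of_mem hx'
      rw [toOG_siegG] at h2
      unfold siegF at h2
      rw [polar_comm Q u x', hx'u, polar_comm Q a x', hx'a] at h2
      have e : x' + (1 : F) • ((0 : F) • a - (1 : F) • u) = x' - u := by module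
      rw [e] at h2
      apply hcontra
      have h3 := (D 1).sub_mem hx' h2
      rwa [sub_sub_cancel] at h3
    · have h2 : toOG Q (siegG Q u a 1 hQu hQa hua) u ∈ D 1 := by
        rw [← h0]
        exact Submodule.mem_map_of_mem hu
      rw [hgu] at h2
      exact hcontra h2
  refine isMaximalIn_map _ (Subgroup.subtype_injective _) hlt (fun M h1 h2 => ?_)
  by_cases hM : M = Cfsg.Omega F ⇑Q
  · exact Or.inr hM
  · left
    apply le_antisymm _ h1
    intro g hg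
    exact ⟨(hmemS g).2 ((mkSetup M h1 h2).mem_of_ne hM (by rw [hfr0]; exact h5) hg), h2 hg⟩

end matrix

end Cfsg.Agent.Lib.Helper5.PairMax
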