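/-
S4404 leaf KLA (`normal_five_or_central_three`): minimal normal subgroup analysis for an odd-order solvable
irreducible group of automorphisms of an elementary abelian group of order 16.
(helper5; statement frozen in `notes/S4404_leaves.lean`.)
-/
import Mathlib
import Cfsg.Prelude.Def_Transfer
import Cfsg.Prelude.Def_Solvable
import Cfsg.Prelude.Def_Local
import Cfsg.Agent.Lib.Helper13.R3Defs
import Cfsg.Agent.Lib.Helper13.R3KLDefs
import Cfsg.Agent.Lib.Helper1.MinNormal

set_option autoImplicit false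

namespace Cfsg.Agent.Lib.Helper5.R3KLA

open Pointwise Cfsg.Agent.Lib.Helper13.R3 Cfsg.Agent.Lib.Helper13.R3Leaves

universe u

section KL

variable {T : Type*} [CommGroup T] [Finite T]

/-- the fixed points of an automorphism, as a subgroup -/
def fixSub (b : MulAut T) : Subgroup T where
  carrier := {t | b t = t}
  one_mem' := map_one b
  mul_mem' := by
    intro x y hx hy
    show b (x * y) = x * y
    rw [map_mul, hx, hy]
  inv_mem' := by
    intro x hx
    show b x⁻¹ = x⁻¹
    rw [map_inv, hx]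

omit [Finite T] in
theorem mem_fixSub {b : MulAut T} {t : T} : t ∈ fixSub b ↔ b t = t := Iff.rfl

omit [Finite T] in
theorem fixSub_conj (d b : MulAut T) : fixSub (d * b * d⁻¹) = d • fixSub b := by
  ext t
  rw [Subgroup.mem_pointwise_smul_iff_inv_smul_mem, mem_fixSub, mem_fixSub, MulAut.smul_def,
    MulAut.mul_apply, MulAut.mul_apply]
  constructor
  · intro h
    have := congrArg (d⁻¹ : MulAut T) h
    rwa [MulAut.inv_apply_self] at this
  · intro h
    rw [h, MulAut.apply_inv_self]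

theorem card_smul_subgroup (d : MulAut T) (W : Subgroup T) : Nat.card (d • W : Subgroup T) = Nat.card W := by
  refine Nat.card_congr (Equiv.symm ?_)
  refine ⟨fun w => ⟨d w.1, ?_⟩, fun w => ⟨d⁻¹ w.1, ?_⟩, ?_, ?_⟩
  · rw [Subgroup.mem_pointwise_smul_iff_inv_smul_mem, MulAut.smul_def, MulAut.inv_apply_self]
    exact w.2
  · have := w.2
    rwa [Subgroup.mem_pointwise_smul_iff_inv_smul_mem, MulAut.smul_def] at this
  · intro w
    apply Subtype.ext
    simp
  · intro w
    apply Subtype.ext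
    simp

/-- `|T| ≡ |C_T(b)|` modulo `p` when `b ^ p = 1`. -/
theorem card_modEq_card_fixSub (p : ℕ) [hp : Fact p.Prime] (b : MulAut T) (hb : b ^ p = 1) :
    Nat.card T ≡ Nat.card (fixSub b) [MOD p] := by
  have hP : IsPGroup p (Subgroup.zpowers b) := by
    intro g
    refine ⟨1, ?_⟩
    obtain ⟨j, hj⟩ := Subgroup.mem_zpowers_iff.mp g.2
    apply Subtype.ext
    rw [pow_one, Subgroup.coe_pow, ← hj, Subgroup.coe_one, ← zpow_natCast, ← zpow_mul, mul_comm, zpow_mul,
      zpow_natCast, hb, one_zpow]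
  have h1 := hP.card_modEq_card_fixedPoints T
  have h2 : Nat.card (MulAction.fixedPoints (Subgroup.zpowers b) T) = Nat.card (fixSub b) := by
    apply Nat.card_congr
    apply Equiv.setCongr
    ext t
    constructor
    · intro h
      exact h ⟨b, Subgroup.mem_zpowers b⟩
    · intro h g
      have hle : Subgroup.zpowers b ≤ MulAction.stabilizer (MulAut T) t := by
        rw [Subgroup.zpowers_le]
        exact h
      exact hle g.2
  rwa [h2] at h1

theorem card_fixSub_dvd (hT : Nat.card T = 16) (b : MulAut T) :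
    ∃ k, k ≤ 4 ∧ Nat.card (fixSub b) = 2 ^ k := by
  have h1 : Nat.card (fixSub b) ∣ 2 ^ 4 := by
    have := Subgroup.card_subgroup_dvd_card (fixSub b)
    rw [hT] at this
    exact this
  exact (Nat.dvd_prime_pow Nat.prime_two).mp h1

omit [Finite T] in
theorem eq_one_of_fixSub_eq_top (b : MulAut T) (h : fixSub b = ⊤) : b = 1 := by
  apply MulEquiv.ext
  intro t
  have : t ∈ fixSub b := by rw [h]; exact Subgroup.mem_top t
  exact this

theorem card_fixSub_five (hT : Nat.card T = 16) (b : MulAut T) (hb : b ^ 5 = 1) (hb1 : b ≠ 1) :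
    fixSub b = ⊥ := by
  haveI : Fact (Nat.Prime 5) := ⟨by norm_num⟩
  have h1 := card_modEq_card_fixSub 5 b hb
  rw [hT] at h1
  obtain ⟨k, hk, hk2⟩ := card_fixSub_dvd hT b
  rw [hk2] at h1
  have h16 : Nat.card (fixSub b) ≠ 16 := by
    intro h
    apply hb1
    apply eq_one_of_fixSub_eq_top
    apply Subgroup.eq_top_of_card_eq
    rw [h, hT]
  rw [hk2] at h16
  apply Subgroup.eq_bot_of_card_eq
  rw [hk2]
  unfold Nat.ModEq at h1
  interval_cases k <;> simp_all

theorem card_fixSub_three (hT : Nat.card T = 16) (b : MulAut T) (hb : b ^ 3 = 1) (hb1 : b ≠ 1) :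
    fixSub b = ⊥ ∨ Nat.card (fixSub b) = 4 := by
  haveI : Fact (Nat.Prime 3) := ⟨by norm_num⟩
  have h1 := card_modEq_card_fixSub 3 b hb
  rw [hT] at h1
  obtain ⟨k, hk, hk2⟩ := card_fixSub_dvd hT b
  rw [hk2] at h1
  have h16 : Nat.card (fixSub b) ≠ 16 := by
    intro h
    apply hb1
    apply eq_one_of_fixSub_eq_top
    apply Subgroup.eq_top_of_card_eq
    rw [h, hT]
  rw [hk2] at h16
  unfold Nat.ModEq at h1
  interval_cases k
  · left
    apply Subgroup.eq_bot_of_card_eq
    rw [hk2]; norm_num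
  · simp at h1
  · right; rw [hk2]; norm_num
  · simp at h1
  · simp at h16

/-- two distinct fixed-point subgroups of order 4 of elements of an abelian group `A` without common fixed
points meet trivially -/
theorem inf_eq_bot_of_ne (A : Subgroup (MulAut T)) (hAc : ∀ a ∈ A, ∀ b ∈ A, a * b = b * a)
    (hfpA : ∀ t : T, (∀ a ∈ A, a t = t) → t = 1)
    (b b' : MulAut T) (hb : b ∈ A) (hb' : b' ∈ A) (h4 : Nat.card (fixSub b) = 4)
    (h4' : Nat.card (fixSub b') = 4) (hne : fixSub b ≠ fixSub b') : fixSub b ⊓ fixSub b' = ⊥ := by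
  have hWle : fixSub b ⊓ fixSub b' ≤ fixSub b := inf_le_left
  have hdvd : Nat.card ↥(fixSub b ⊓ fixSub b') ∣ 2 ^ 2 := by
    have := Subgroup.card_dvd_of_le hWle
    rwa [h4] at this
  have hne4 : Nat.card ↥(fixSub b ⊓ fixSub b') ≠ 4 := by
    intro h
    apply hne
    have e1 : fixSub b ⊓ fixSub b' = fixSub b := Subgroup.eq_of_le_of_card_ge hWle (by rw [h4, h])
    have e2 : fixSub b ⊓ fixSub b' = fixSub b' :=
      Subgroup.eq_of_le_of_card_ge inf_le_right (by rw [h4', h])
    rw [← e1]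
    exact e2
  have hinv : ∀ c ∈ A, ∀ w ∈ fixSub b ⊓ fixSub b', c w ∈ fixSub b ⊓ fixSub b' := by
    intro c hc w hw
    rw [Subgroup.mem_inf, mem_fixSub, mem_fixSub] at hw ⊢
    constructor
    · calc b (c w) = (b * c) w := rfl
        _ = (c * b) w := by rw [hAc b hb c hc]
        _ = c (b w) := rfl
        _ = c w := by rw [hw.1]
    · calc b' (c w) = (b' * c) w := rfl
        _ = (c * b') w := by rw [hAc b' hb' c hc]
        _ = c (b' w) := rfl
        _ = c w := by rw [hw.2]
  obtain ⟨k, hk, hk2⟩ := (Nat.dvd_prime_pow Nat.prime_two).mp hdvd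
  interval_cases k
  · apply Subgroup.eq_bot_of_card_eq
    rw [hk2]; norm_num
  · exfalso
    have h2 : Nat.card ↥(fixSub b ⊓ fixSub b') = 2 := by rw [hk2]; norm_num
    obtain ⟨y, hy, huniq⟩ := (Nat.card_eq_two_iff' (1 : ↥(fixSub b ⊓ fixSub b'))).mp h2
    apply hy
    apply Subtype.ext
    apply hfpA
    intro c hc
    have hcy : (⟨c y.1, hinv c hc y.1 y.2⟩ : ↥(fixSub b ⊓ fixSub b')) ≠ 1 := by
      intro h
      apply hy
      apply Subtype.ext
      have h' : c y.1 = 1 := congrArg Subtype.val h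
      have := (map_eq_one_iff c (MulEquiv.injective c)).mp h'
      exact this
    have := huniq _ hcy
    exact congrArg Subtype.val this
  · exfalso
    apply hne4
    rw [hk2]; norm_num

/-- Case II: an element `a ≠ 1` of `A` with a nontrivial fixed point is impossible. -/
theorem caseII_false (hT : Nat.card T = 16) (D : Subgroup (MulAut T)) (hodd : Odd (Nat.card D))
    (hirr : ∀ U : Subgroup T, (∀ d ∈ D, ∀ u ∈ U, d u ∈ U) → U = ⊥ ∨ U = ⊤)
    (A : Subgroup (MulAut T)) (hAn : ∀ d ∈ D, ∀ a ∈ A, d * a * d⁻¹ ∈ A)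
    (hAc : ∀ a ∈ A, ∀ b ∈ A, a * b = b * a) (hA3 : ∀ a ∈ A, a ^ 3 = 1)
    (hfpA : ∀ t : T, (∀ a ∈ A, a t = t) → t = 1)
    (a : MulAut T) (ha : a ∈ A) (ha1 : a ≠ 1) (hFa : fixSub a ≠ ⊥) : False := by
  have h4 : Nat.card (fixSub a) = 4 := (card_fixSub_three hT a (hA3 a ha) ha1).resolve_left hFa
  have hninv : ¬ ∀ d ∈ D, ∀ u ∈ fixSub a, d u ∈ fixSub a := by
    intro h
    rcases hirr _ h with h0 | h0
    · exact hFa h0
    · rw [h0, Subgroup.card_top, hT] at h4
      norm_num at h4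
  push Not at hninv
  obtain ⟨d₀, hd₀, u, hu, hdu⟩ := hninv
  have ha'A : d₀ * a * d₀⁻¹ ∈ A := hAn d₀ hd₀ a ha
  have hF'eq : fixSub (d₀ * a * d₀⁻¹) = d₀ • fixSub a := fixSub_conj d₀ a
  have h4' : Nat.card (fixSub (d₀ * a * d₀⁻¹)) = 4 := by rw [hF'eq, card_smul_subgroup, h4]
  have hne : fixSub a ≠ fixSub (d₀ * a * d₀⁻¹) := by
    intro h
    apply hdu
    rw [h, hF'eq, Subgroup.mem_pointwise_smul_iff_inv_smul_mem, MulAut.smul_def, MulAut.inv_apply_self]
    exact hu
  have hdisj : fixSub a ⊓ fixSub (d₀ * a * d₀⁻¹) = ⊥ :=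
    inf_eq_bot_of_ne A hAc hfpA a _ ha ha'A h4 h4' hne
  have hcompl : Subgroup.IsComplement' (fixSub a) (fixSub (d₀ * a * d₀⁻¹)) := by
    apply Subgroup.isComplement'_of_card_mul_and_disjoint
    · rw [h4, h4', hT]
    · rw [disjoint_iff]; exact hdisj
  -- invariance of fixed subgroups under `A`
  have hinvA : ∀ c ∈ A, ∀ b ∈ A, ∀ w ∈ fixSub c, b w ∈ fixSub c := by
    intro c hc b hb w hw
    rw [mem_fixSub] at hw ⊢
    calc c (b w) = (c * b) w := rfl
      _ = (b * c) w := by rw [hAc c hc b hb]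
      _ = b (c w) := rfl
      _ = b w := by rw [hw]
  have hkey : ∀ b ∈ A, Nat.card (fixSub b) = 4 →
      fixSub b = fixSub a ∨ fixSub b = fixSub (d₀ * a * d₀⁻¹) := by
    intro b hb hb4
    by_contra hcon
    push Not at hcon
    have e1 : fixSub a ⊓ fixSub b = ⊥ :=
      inf_eq_bot_of_ne A hAc hfpA a b ha hb h4 hb4 (Ne.symm hcon.1)
    have e2 : fixSub (d₀ * a * d₀⁻¹) ⊓ fixSub b = ⊥ :=
      inf_eq_bot_of_ne A hAc hfpA _ b ha'A hb h4' hb4 (Ne.symm hcon.2)
    have hnb : fixSub b ≠ ⊥ := by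
      intro h
      rw [h, Subgroup.card_bot] at hb4
      norm_num at hb4
    obtain ⟨s, hs1⟩ := Subgroup.ne_bot_iff_exists_ne_one.mp hnb
    obtain ⟨⟨f, f'⟩, hff⟩ := hcompl.2 s.1
    have hff' : f.1 * f'.1 = s.1 := hff
    have hbs : b s.1 = s.1 := s.2
    have hbf : b f.1 ∈ fixSub a := hinvA a ha b hb f.1 f.2
    have hbf' : b f'.1 ∈ fixSub (d₀ * a * d₀⁻¹) := hinvA _ ha'A b hb f'.1 f'.2
    have hpair : ((⟨b f.1, hbf⟩, ⟨b f'.1, hbf'⟩) : ↥(fixSub a) × ↥(fixSub (d₀ * a * d₀⁻¹))) = (f, f') := by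
      apply hcompl.1
      show b f.1 * b f'.1 = f.1 * f'.1
      rw [← map_mul, hff', hbs]
    have hf1 : b f.1 = f.1 := congrArg (fun x => (x.1 : T)) hpair
    have hf2 : b f'.1 = f'.1 := congrArg (fun x => (x.2 : T)) hpair
    have hf1' : f.1 = 1 := by
      have : f.1 ∈ fixSub a ⊓ fixSub b := ⟨f.2, hf1⟩
      rw [e1, Subgroup.mem_bot] at this
      exact this
    have hf2' : f'.1 = 1 := by
      have : f'.1 ∈ fixSub (d₀ * a * d₀⁻¹) ⊓ fixSub b := ⟨f'.2, hf2⟩
      rw [e2, Subgroup.mem_bot] at this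
      exact this
    apply hs1
    apply Subtype.ext
    rw [← hff', hf1', hf2', one_mul]
    rfl
  have hconj : ∀ d ∈ D, d • fixSub a = fixSub a ∨ d • fixSub a = fixSub (d₀ * a * d₀⁻¹) := by
    intro d hd
    have := hkey (d * a * d⁻¹) (hAn d hd a ha) (by rw [fixSub_conj, card_smul_subgroup, h4])
    rwa [fixSub_conj] at this
  have hconj' : ∀ d ∈ D, d • fixSub (d₀ * a * d₀⁻¹) = fixSub a ∨
      d • fixSub (d₀ * a * d₀⁻¹) = fixSub (d₀ * a * d₀⁻¹) := by
    intro d hd
    have := hconj (d * d₀) (D.mul_mem hd hd₀)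
    rwa [mul_smul, ← hF'eq] at this
  have hK2 : ((MulAction.stabilizer (MulAut T) (fixSub a)).subgroupOf D).index = 2 := by
    rw [Subgroup.index_eq_two_iff]
    refine ⟨⟨d₀, hd₀⟩, fun b => ?_⟩
    have hbK : b ∈ (MulAction.stabilizer (MulAut T) (fixSub a)).subgroupOf D ↔
        (b : MulAut T) • fixSub a = fixSub a := by
      rw [Subgroup.mem_subgroupOf, MulAction.mem_stabilizer_iff]
    have hbdK : b * ⟨d₀, hd₀⟩ ∈ (MulAction.stabilizer (MulAut T) (fixSub a)).subgroupOf D ↔
        (b : MulAut T) • fixSub (d₀ * a * d₀⁻¹) = fixSub a := by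
      rw [Subgroup.mem_subgroupOf, MulAction.mem_stabilizer_iff, Subgroup.coe_mul, mul_smul, ← hF'eq]
    rw [hbK, hbdK]
    by_cases hb : (b : MulAut T) • fixSub a = fixSub a
    · right
      refine ⟨hb, fun h => hne ?_⟩
      have : (b : MulAut T) • fixSub (d₀ * a * d₀⁻¹) = (b : MulAut T) • fixSub a := by rw [h, hb]
      exact (smul_left_cancel _ this).symm
    · left
      have h1 : (b : MulAut T) • fixSub a = fixSub (d₀ * a * d₀⁻¹) := (hconj b b.2).resolve_left hb
      refine ⟨?_, hb⟩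
      rcases hconj' b b.2 with h2 | h2
      · exact h2
      · exfalso
        apply hne
        have : (b : MulAut T) • fixSub a = (b : MulAut T) • fixSub (d₀ * a * d₀⁻¹) := by rw [h1, h2]
        exact smul_left_cancel _ this
  have h2dvd : 2 ∣ Nat.card D := by
    rw [← hK2]
    exact Subgroup.index_dvd_card _
  exact (Nat.not_even_iff_odd.mpr hodd) (even_iff_two_dvd.mpr h2dvd)

omit [Finite T] in
theorem norm_eq_one (x : MulAut T) (hx3 : x ^ 3 = 1) (hfp : ∀ t : T, x t = t → t = 1) (s : T) :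
    s * x s * x (x s) = 1 := by
  apply hfp
  have h3 : x (x (x s)) = s := by
    have : (x ^ 3) s = s := by rw [hx3]; rfl
    rw [pow_three] at this
    exact this
  rw [map_mul, map_mul, h3]
  ac_rfl

/-- Case I-a: two independent elements of `A`, all nonidentity elements of `A` fixed-point-free: impossible. -/
theorem caseIa_false (hT2 : ∀ t : T, t ^ 2 = 1) (hT : Nat.card T = 16)
    (A : Subgroup (MulAut T)) (hAc : ∀ a ∈ A, ∀ b ∈ A, a * b = b * a) (hA3 : ∀ a ∈ A, a ^ 3 = 1)
    (hfree : ∀ c ∈ A, c ≠ 1 → ∀ t : T, c t = t → t = 1)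
    (a b : MulAut T) (ha : a ∈ A) (hb : b ∈ A) (ha1 : a ≠ 1) (hb1 : b ≠ 1) (hba : b ≠ a)
    (hba2 : b ≠ a * a) : False := by
  have ha3 : a ^ 3 = 1 := hA3 a ha
  have hb3 : b ^ 3 = 1 := hA3 b hb
  have hab : a * b = b * a := hAc a ha b hb
  have hainv : a⁻¹ = a * a := by
    apply inv_eq_of_mul_eq_one_right
    rw [← pow_three, ha3]
  have hab1 : a * b ≠ 1 := by
    intro h
    apply hba2
    rw [← hainv]
    exact (inv_eq_of_mul_eq_one_right h).symm
  have habb1 : a * b * b ≠ 1 := by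
    intro h
    apply hba
    have h1 : b * b = a * a := by
      rw [← hainv]
      rw [mul_assoc] at h
      exact (inv_eq_of_mul_eq_one_right h).symm
    have hb4 : b = b * b * (b * b) := by
      have : b * b * (b * b) = b ^ 3 * b := by rw [pow_three]; simp only [mul_assoc]
      rw [this, hb3, one_mul]
    have ha4 : a = a * a * (a * a) := by
      have : a * a * (a * a) = a ^ 3 * a := by rw [pow_three]; simp only [mul_assoc]
      rw [this, ha3, one_mul]
    rw [hb4, h1, ← ha4]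
  have habA : a * b ∈ A := A.mul_mem ha hb
  have habbA : a * b * b ∈ A := A.mul_mem habA hb
  have hcomm : ∀ s : T, b (a s) = a (b s) := by
    intro s
    have := congrArg (fun f : MulAut T => f s) hab.symm
    exact this
  have hb3' : ∀ s : T, b (b (b s)) = s := by
    intro s
    have : (b ^ 3) s = s := by rw [hb3]; rfl
    rw [pow_three] at this
    exact this
  have hall : ∀ t : T, t = 1 := by
    intro t
    have h1 := norm_eq_one a ha3 (hfree a ha ha1) t
    have h5 := norm_eq_one a ha3 (hfree a ha ha1) (b t)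
    have h6 := norm_eq_one a ha3 (hfree a ha ha1) (b (b t))
    have h2 := norm_eq_one b hb3 (hfree b hb hb1) t
    have h3 := norm_eq_one (a * b) (hA3 _ habA) (hfree _ habA hab1) t
    have h4 := norm_eq_one (a * b * b) (hA3 _ habbA) (hfree _ habbA habb1) t
    have e3 : (a * b) ((a * b) t) = a (a (b (b t))) := by
      show a (b (a (b t))) = a (a (b (b t)))
      rw [hcomm]
    have e3' : (a * b) t = a (b t) := rfl
    have e4' : (a * b * b) t = a (b (b t)) := rfl
    have e4 : (a * b * b) ((a * b * b) t) = a (a (b t)) := by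
      show a (b (b (a (b (b t))))) = a (a (b t))
      rw [hcomm, hcomm, hb3']
    rw [e3, e3'] at h3
    rw [e4, e4'] at h4
    have key : t ^ 3 * ((t * a t * a (a t)) * (b t * a (b t) * a (a (b t))) *
        (b (b t) * a (b (b t)) * a (a (b (b t))))) =
        (t * a t * a (a t)) * (t * b t * b (b t)) * (t * a (b t) * a (a (b (b t)))) *
          (t * a (b (b t)) * a (a (b t))) := by
      rw [pow_three]
      generalize a t = u10
      generalize a u10 = u20
      generalize b t = u01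
      generalize a u01 = u11
      generalize a u11 = u21
      generalize b u01 = u02
      generalize a u02 = u12
      generalize a u12 = u22
      ac_rfl
    rw [h1, h5, h6, h2, h3, h4] at key
    simp only [mul_one] at key
    have h2' := hT2 t
    rw [pow_succ t 2, h2', one_mul] at key
    exact key
  have : Nat.card T ≤ 1 := by
    rw [Finite.card_le_one_iff_subsingleton]
    exact ⟨fun x y => by rw [hall x, hall y]⟩
  rw [hT] at this
  norm_num at this

/-- Case I-b: `A = {1, a, a * a}`: then `a` has order 3 and is central in the odd-order group `D`. -/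
theorem caseIb (D : Subgroup (MulAut T)) (hodd : Odd (Nat.card D))
    (A : Subgroup (MulAut T)) (hAn : ∀ d ∈ D, ∀ a ∈ A, d * a * d⁻¹ ∈ A)
    (a : MulAut T) (ha : a ∈ A) (ha1 : a ≠ 1) (ha3 : a ^ 3 = 1)
    (hall : ∀ b ∈ A, b = 1 ∨ b = a ∨ b = a * a) :
    orderOf a = 3 ∧ ∀ d ∈ D, d * a = a * d := by
  haveI : Fact (Nat.Prime 3) := ⟨by norm_num⟩
  refine ⟨orderOf_eq_prime ha3 ha1, ?_⟩
  intro d hd
  rcases hall _ (hAn d hd a ha) with h | h | h
  · exfalso
    apply ha1
    have e : a = d⁻¹ * (d * a * d⁻¹) * d := by group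
    rw [e, h]
    group
  · calc d * a = d * a * d⁻¹ * d := by group
      _ = a * d := by rw [h]
  · have e1 : d * a = a * a * d := by
      calc d * a = d * a * d⁻¹ * d := by group
        _ = a * a * d := by rw [h]
    have h2 : (d * d) * a = a * (d * d) := by
      calc d * d * a = d * (d * a) := by group
        _ = d * (a * a * d) := by rw [e1]
        _ = (d * a) * (a * d) := by group
        _ = (a * a * d) * (a * d) := by rw [e1]
        _ = a * a * (d * a) * d := by group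
        _ = a * a * (a * a * d) * d := by rw [e1]
        _ = a ^ 3 * a * (d * d) := by rw [pow_three]; simp only [mul_assoc]
        _ = a * (d * d) := by rw [ha3, one_mul]
    have hdo : Odd (orderOf d) := Odd.of_dvd_nat hodd (Subgroup.orderOf_dvd_natCard D hd)
    obtain ⟨k, hk⟩ := hdo
    have hdpow : (d * d) ^ (k + 1) = d := by
      rw [← pow_two, ← pow_mul]
      have : 2 * (k + 1) = orderOf d + 1 := by omega
      rw [this, pow_succ, pow_orderOf_eq_one, one_mul]
    have hc : Commute (d * d) a := h2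
    have := hc.pow_left (k + 1)
    rw [hdpow] at this
    exact this

/-- `r = 5`: a nontrivial subgroup of exponent 5 of `Aut T`, `|T| = 16`, has order 5. -/
theorem card_eq_five (hT : Nat.card T = 16) (A : Subgroup (MulAut T)) (hA1 : A ≠ ⊥)
    (hA5 : ∀ a ∈ A, a ^ 5 = 1) : Nat.card A = 5 := by
  haveI : Fact (Nat.Prime 5) := ⟨by norm_num⟩
  have hP : IsPGroup 5 A := fun g => ⟨1, by rw [pow_one]; exact Subtype.ext (by simpa using hA5 g g.2)⟩
  have hT1 : ∃ t₀ : T, t₀ ≠ 1 := by
    by_contra h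
    push Not at h
    have : Nat.card T ≤ 1 :=
      Finite.card_le_one_iff_subsingleton.mpr ⟨fun x y => by rw [h x, h y]⟩
    omega
  obtain ⟨t₀, ht₀⟩ := hT1
  have hinj : Function.Injective (fun a : A => (a : MulAut T) t₀) := by
    intro a b hab
    have hab' : (a : MulAut T) t₀ = (b : MulAut T) t₀ := hab
    by_contra hne
    have hc : ((b⁻¹ * a : A) : MulAut T) ≠ 1 := by
      intro h
      apply hne
      have h' : b⁻¹ * a = 1 := Subtype.ext h
      exact (inv_mul_eq_one.mp h').symm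
    have hfix := card_fixSub_five hT _ (hA5 _ (b⁻¹ * a).2) hc
    have hmem : t₀ ∈ fixSub ((b⁻¹ * a : A) : MulAut T) := by
      rw [mem_fixSub]
      show (b : MulAut T)⁻¹ ((a : MulAut T) t₀) = t₀
      rw [hab', MulAut.inv_apply_self]
    rw [hfix, Subgroup.mem_bot] at hmem
    exact ht₀ hmem
  haveI : Finite A := Finite.of_injective _ hinj
  obtain ⟨n, hn⟩ := IsPGroup.iff_card.mp hP
  have hle : Nat.card A ≤ 16 := by
    rw [← hT]
    exact Nat.card_le_card_of_injective _ hinj
  rcases n with _ | _ | n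
  · exfalso
    apply hA1
    apply Subgroup.card_eq_one.mp
    rw [hn]
    rfl
  · rw [hn]
    rfl
  · exfalso
    have h25 : 5 ^ n ≥ 1 := Nat.one_le_pow _ _ (by norm_num)
    rw [hn] at hle
    omega

/-- KLA with the hypotheses unbundled. -/
theorem normal_five_or_central_three_of (hT2 : ∀ t : T, t ^ 2 = 1) (hT : Nat.card T = 16)
    (D : Subgroup (MulAut T)) (hodd : Odd (Nat.card D)) (hsol : Group.IsSolvable D)
    (hD1 : D ≠ ⊥) (hirr : ∀ U : Subgroup T, (∀ d ∈ D, ∀ u ∈ U, d u ∈ U) → U = ⊥ ∨ U = ⊤) :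
    (∃ B : Subgroup (MulAut T), B ≤ D ∧ (∀ d ∈ D, ∀ b ∈ B, d * b * d⁻¹ ∈ B) ∧ Nat.card B = 5) ∨
    (∃ α : MulAut T, α ∈ D ∧ orderOf α = 3 ∧ (∀ d ∈ D, d * α = α * d) ∧
      ∀ t : T, α t = t → t = 1) := by
  haveI : Nontrivial ↥D := (Subgroup.nontrivial_iff_ne_bot D).mpr hD1
  haveI := hsol
  obtain ⟨N, hN⟩ := Cfsg.Agent.Lib.Helper1.exists_isMinNormal (G := ↥D)
  have hNc : IsMulCommutative N := hN.isMulCommutative
  obtain ⟨r, hr, hNr⟩ := hN.exists_prime_pow_eq_one
  obtain ⟨hNn, hN1, -⟩ := hN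
  obtain ⟨A, hA⟩ : ∃ A : Subgroup (MulAut T), A = N.map D.subtype := ⟨_, rfl⟩
  have hmemA : ∀ a, a ∈ A ↔ ∃ h : a ∈ D, (⟨a, h⟩ : ↥D) ∈ N := by
    intro a
    rw [hA]
    constructor
    · rintro ⟨x, hx, rfl⟩
      exact ⟨x.2, hx⟩
    · rintro ⟨h, hx⟩
      exact ⟨⟨a, h⟩, hx, rfl⟩
  have hAD : A ≤ D := by
    intro a ha
    exact ((hmemA a).mp ha).1
  have hAn : ∀ d ∈ D, ∀ a ∈ A, d * a * d⁻¹ ∈ A := by
    intro d hd a ha
    obtain ⟨h, hx⟩ := (hmemA a).mp ha
    rw [hmemA]
    refine ⟨D.mul_mem (D.mul_mem hd h) (D.inv_mem hd), ?_⟩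
    have := hNn.conj_mem ⟨a, h⟩ hx ⟨d, hd⟩
    exact this
  have hAc : ∀ a ∈ A, ∀ b ∈ A, a * b = b * a := by
    intro a ha b hb
    obtain ⟨h, hx⟩ := (hmemA a).mp ha
    obtain ⟨h', hx'⟩ := (hmemA b).mp hb
    have := hNc.is_comm.comm ⟨⟨a, h⟩, hx⟩ ⟨⟨b, h'⟩, hx'⟩
    exact congrArg (fun z : ↥N => ((z : ↥D) : MulAut T)) this
  have hAr : ∀ a ∈ A, a ^ r = 1 := by
    intro a ha
    obtain ⟨h, hx⟩ := (hmemA a).mp ha
    have := hNr ⟨a, h⟩ hx
    exact congrArg (fun z : ↥D => (z : MulAut T)) this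
  have hA1 : A ≠ ⊥ := by
    intro h
    apply hN1
    rw [eq_bot_iff]
    intro x hx
    have hxA : (x : MulAut T) ∈ A := (hmemA _).mpr ⟨x.2, hx⟩
    rw [h, Subgroup.mem_bot] at hxA
    rw [Subgroup.mem_bot]
    exact Subtype.ext hxA
  -- common fixed points
  let CA : Subgroup T :=
    { carrier := {t | ∀ a ∈ A, a t = t}
      one_mem' := fun a _ => map_one a
      mul_mem' := by
        intro x y hx hy a ha
        rw [map_mul, hx a ha, hy a ha]
      inv_mem' := by
        intro x hx a ha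
        rw [map_inv, hx a ha] }
  have hCAinv : ∀ d ∈ D, ∀ u ∈ CA, d u ∈ CA := by
    intro d hd u hu a ha
    have h1 : d⁻¹ * a * d⁻¹⁻¹ ∈ A := hAn d⁻¹ (D.inv_mem hd) a ha
    rw [inv_inv] at h1
    have h2 := hu _ h1
    have h3 : d⁻¹ (a (d u)) = u := h2
    have := congrArg d h3
    rwa [MulAut.apply_inv_self] at this
  have hfpA : ∀ t : T, (∀ a ∈ A, a t = t) → t = 1 := by
    intro t ht
    rcases hirr CA hCAinv with h | h
    · have : t ∈ CA := ht
      rw [h, Subgroup.mem_bot] at this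
      exact this
    · exfalso
      apply hA1
      rw [eq_bot_iff]
      intro a ha
      rw [Subgroup.mem_bot]
      apply MulEquiv.ext
      intro s
      have : s ∈ CA := by rw [h]; exact Subgroup.mem_top s
      exact this a ha
  -- `r ∣ 15`
  haveI : Fact r.Prime := ⟨hr⟩
  have hP : IsPGroup r A := fun g =>
    ⟨1, by rw [pow_one]; exact Subtype.ext (by simpa using hAr g g.2)⟩
  have hmod := hP.card_modEq_card_fixedPoints T
  have hfixed : Nat.card (MulAction.fixedPoints A T) = 1 := by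
    have : MulAction.fixedPoints A T = {1} := by
      ext t
      rw [MulAction.mem_fixedPoints, Set.mem_singleton_iff]
      constructor
      · intro h
        exact hfpA t (fun a ha => h ⟨a, ha⟩)
      · rintro rfl a
        exact map_one (a : MulAut T)
    rw [this]
    simp
  rw [hfixed, hT] at hmod
  have hdvd : r ∣ 15 := (Nat.modEq_iff_dvd' (by norm_num : 1 ≤ 16)).mp hmod.symm
  have h35 : r = 3 ∨ r = 5 := by
    have hle : r ≤ 15 := Nat.le_of_dvd (by norm_num) hdvd
    interval_cases r <;> first | omega | (norm_num at hr) | (norm_num at hdvd)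
  rcases h35 with rfl | rfl
  · -- `r = 3`
    right
    obtain ⟨⟨a₀, ha₀⟩, ha₀1'⟩ := (Subgroup.ne_bot_iff_exists_ne_one).mp hA1
    have ha₀1 : a₀ ≠ 1 := fun h => ha₀1' (Subtype.ext h)
    by_cases hex : ∃ a ∈ A, a ≠ 1 ∧ fixSub a ≠ ⊥
    · exfalso
      obtain ⟨a, ha, ha1, hFa⟩ := hex
      exact caseII_false hT D hodd hirr A hAn hAc hAr hfpA a ha ha1 hFa
    · push Not at hex
      have hfree : ∀ c ∈ A, c ≠ 1 → ∀ t : T, c t = t → t = 1 := by
        intro c hc hc1 t ht
        have : t ∈ fixSub c := ht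
        rw [hex c hc hc1, Subgroup.mem_bot] at this
        exact this
      by_cases hex2 : ∃ b ∈ A, b ≠ 1 ∧ b ≠ a₀ ∧ b ≠ a₀ * a₀
      · exfalso
        obtain ⟨b, hb, hb1, hba, hba2⟩ := hex2
        exact caseIa_false hT2 hT A hAc hAr hfree a₀ b ha₀ hb ha₀1 hb1 hba hba2
      · push Not at hex2
        have hall : ∀ b ∈ A, b = 1 ∨ b = a₀ ∨ b = a₀ * a₀ := by
          intro b hb
          by_cases hb1 : b = 1
          · exact Or.inl hb1
          · by_cases hba : b = a₀
            · exact Or.inr (Or.inl hba)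
            · exact Or.inr (Or.inr (hex2 b hb hb1 hba))
        obtain ⟨ho, hcent⟩ := caseIb D hodd A hAn a₀ ha₀ ha₀1 (hAr a₀ ha₀) hall
        exact ⟨a₀, hAD ha₀, ho, hcent, hfree a₀ ha₀ ha₀1⟩
  · -- `r = 5`
    left
    exact ⟨A, hAD, hAn, card_eq_five hT A hA1 hAr⟩

/-- KLA `normal_five_or_central_three`: minimal normal subgroup analysis. -/
theorem normal_five_or_central_three {D : Subgroup (MulAut T)} {S : Set (MulAut T)}
    (hc : KLCtx D S) :
    (∃ B : Subgroup (MulAut T), B ≤ D ∧ (∀ d ∈ D, ∀ b ∈ B, d * b * d⁻¹ ∈ B) ∧ Nat.card B = 5) ∨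
    (∃ α : MulAut T, α ∈ D ∧ orderOf α = 3 ∧ (∀ d ∈ D, d * α = α * d) ∧ ∀ t : T, α t = t → t = 1) := by
  have hD1 : D ≠ ⊥ := by
    obtain ⟨y, hy⟩ := hc.hne
    intro h
    have hyD : y ∈ D := by
      rw [← hc.hS]
      exact Subgroup.subset_closure hy
    rw [h, Subgroup.mem_bot] at hyD
    have h4 := (hc.hroot y hy).2
    rw [hyD] at h4
    have hbot : cSub T (1 : MulAut T) = ⊥ := by
      rw [eq_bot_iff]
      rintro v ⟨m, rfl⟩
      rw [Subgroup.mem_bot, cHom_apply, one_smul, div_self']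
    rw [hbot, Subgroup.card_bot] at h4
    norm_num at h4
  exact normal_five_or_central_three_of hc.hT2 hc.hT D hc.hodd hc.hsol hD1 hc.hirr

end KL

end Cfsg.Agent.Lib.Helper5.R3KLA
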