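/-
helper5 (planner): S4581 leaves: the frozen signatures of `notes/S4581_leaves.lean`, each re-proved
by the leaf module that landed it (generated by a script; doubles as the binder check).
Vocabulary in `Cfsg.Agent.Lib.Helper5.RODefs`.
-/
import Mathlib
import Cfsg.Prelude.Def_Blocks
import Cfsg.Agent.Lib.Helper6.Clifford
import Cfsg.Agent.Lib.Helper5.RODefs
import Cfsg.Agent.Lib.Helper1.ROFR
import Cfsg.Agent.Lib.Helper1.ROGTC2
import Cfsg.Agent.Lib.Helper1.ROT3B
import Cfsg.Agent.Lib.Helper1.ROT4C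
import Cfsg.Agent.Lib.Helper11.ROGTC1
import Cfsg.Agent.Lib.Helper11.RONQ
import Cfsg.Agent.Lib.Helper16.ROKQ1
import Cfsg.Agent.Lib.Helper16.ROT2C
import Cfsg.Agent.Lib.Helper19.ROCCG
import Cfsg.Agent.Lib.Helper19.ROCL2
import Cfsg.Agent.Lib.Helper2.ROT2TOP
import Cfsg.Agent.Lib.Helper20.ROREL
import Cfsg.Agent.Lib.Helper20.ROT2A
import Cfsg.Agent.Lib.Helper22.ROKERA
import Cfsg.Agent.Lib.Helper22.ROKERB
import Cfsg.Agent.Lib.Helper24.ROAQ
import Cfsg.Agent.Lib.Helper24.ROTOP
import Cfsg.Agent.Lib.Helper27.ROF8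
import Cfsg.Agent.Lib.Helper27.ROT4A
import Cfsg.Agent.Lib.Helper29.ROGT0
import Cfsg.Agent.Lib.Helper29.ROHS
import Cfsg.Agent.Lib.Helper29.ROSEP
import Cfsg.Agent.Lib.Helper4.ROCCN
import Cfsg.Agent.Lib.Helper4.ROKQ2
import Cfsg.Agent.Lib.Helper6.ROOD
import Cfsg.Agent.Lib.Helper6.ROT3A
import Cfsg.Agent.Lib.Helper9.ROF7
import Cfsg.Agent.Lib.Helper9.ROGT1

set_option autoImplicit false

namespace Cfsg.Agent.Lib.Helper5.ROLeaves

open Cfsg Cfsg.Agent.Lib.Helper6 Cfsg.Agent.Lib.Helper5.RO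

universe u

/-! ## A. kernels and quotients (used by T1) -/

/-- (KQ1) inflation: real odd-degree characters with `K` in the kernel = those of `X ⧸ K`. -/
theorem rcountKer_quotient {X : Type u} [Group X] [Finite X] (K : Subgroup X) [K.Normal] :
    rcountKer X (K : Set X) = rcount (X ⧸ K) := by
  exact Cfsg.Agent.Lib.Helper16.RO.rcountKer_quotient K

/-- (KQ2) the map `N_X(P) → N_{X/K}(PK/K)` is onto with kernel `K ∩ N_X(P)` (Frattini argument),
hence the count. -/
theorem rcountKer_normalizer_quotient {X : Type u} [Group X] [Finite X] (K : Subgroup X) [K.Normal]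
    (P : Sylow 2 X) :
    rcountKer ↥(Subgroup.normalizer ((P : Subgroup X) : Set X))
        {n | (n : X) ∈ K} =
      rcount ↥(Subgroup.normalizer
        (((P.mapSurjective (QuotientGroup.mk'_surjective K) : Sylow 2 (X ⧸ K)) :
          Subgroup (X ⧸ K)) : Set (X ⧸ K))) := by
  exact Cfsg.Agent.Lib.Helper4.RO.rcountKer_normalizer_quotient K P

/-- (KERA) a real odd-degree irreducible character of a subgroup `H` has every odd-order subgroup
`M` normalized by `H`... (here: `M ⊴ G`) in its kernel.  [Clifford: the constituents of `ξ_{M∩H}`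
form an orbit of odd size closed under complex conjugation, so one is real, so trivial (Burnside:
odd order).]  Use with `H = ⊤`-like transport for `G` itself via `ker_of_odd_normal`. -/
theorem ker_of_odd_normal_sub {G : Type u} [Group G] [Finite G] (H M : Subgroup G) [M.Normal]
    (hM : Odd (Nat.card M)) (ξ : IrrCharacter H)
    (hre : ∀ g : H, ((ξ : H → ℂ) g).im = 0) (hodd : Odd (charDegree (ξ : H → ℂ))) :
    ∀ n : H, (n : G) ∈ M → (ξ : H → ℂ) n = (ξ : H → ℂ) 1 := by
  exact Cfsg.Agent.Lib.Helper22.RO.ker_of_odd_normal_sub H M hM ξ hre hodd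

/-- (KERA) the same for the whole group. -/
theorem ker_of_odd_normal {G : Type u} [Group G] [Finite G] (M : Subgroup G) [M.Normal]
    (hM : Odd (Nat.card M)) (χ : IrrCharacter G)
    (hre : ∀ g : G, ((χ : G → ℂ) g).im = 0) (hodd : Odd (charDegree (χ : G → ℂ))) :
    ∀ m ∈ M, (χ : G → ℂ) m = (χ : G → ℂ) 1 := by
  exact Cfsg.Agent.Lib.Helper22.RO.ker_of_odd_normal M hM χ hre hodd

/-- (KERB) a real odd-degree irreducible character of `H ≥ Q`, `Q ⊴ G` a 2-group, has the
squares of `Q` in its kernel.  [Clifford: `ξ_Q = e Σ_Ω λ`, `λ` linear (odd degree, 2-group), `|Ω|`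
odd, conjugation fixes some `λ`, so all `λ ∈ Ω` are real linear, `λ(x²)=1`; the kernel is a
subgroup.] -/
theorem ker_of_sq_normal_two_sub {G : Type u} [Group G] [Finite G] (H Q : Subgroup G) [Q.Normal]
    (hQ : IsPGroup 2 Q) (hQH : Q ≤ H) (ξ : IrrCharacter H)
    (hre : ∀ g : H, ((ξ : H → ℂ) g).im = 0) (hodd : Odd (charDegree (ξ : H → ℂ))) :
    ∀ n : H, (n : G) ∈ sqSub Q → (ξ : H → ℂ) n = (ξ : H → ℂ) 1 := by
  exact Cfsg.Agent.Lib.Helper22.RO.ker_of_sq_normal_two_sub H Q hQ hQH ξ hre hodd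

/-- (KERB) the same for the whole group. -/
theorem ker_of_sq_normal_two {G : Type u} [Group G] [Finite G] (Q : Subgroup G) [Q.Normal]
    (hQ : IsPGroup 2 Q) (χ : IrrCharacter G)
    (hre : ∀ g : G, ((χ : G → ℂ) g).im = 0) (hodd : Odd (charDegree (χ : G → ℂ))) :
    ∀ k ∈ sqSub Q, (χ : G → ℂ) k = (χ : G → ℂ) 1 := by
  exact Cfsg.Agent.Lib.Helper22.RO.ker_of_sq_normal_two Q hQ χ hre hodd

/-- (TOP) trivial case `P ⊴ G`. -/
theorem rcount_normalizer_of_eq_top {G : Type u} [Group G] [Finite G] (P : Sylow 2 G)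
    (h : Subgroup.normalizer ((P : Subgroup G) : Set G) = ⊤) :
    rcount G = rcount ↥(Subgroup.normalizer ((P : Subgroup G) : Set G)) := by
  exact Cfsg.Agent.Lib.Helper24.RO.rcount_normalizer_of_eq_top P h

/-! ## B. group theory -/

/-- (GT0) a nontrivial finite solvable group has a nontrivial normal subgroup that is a 2-group or
has odd order. -/
theorem exists_normal_two_or_odd {G : Type u} [Group G] [Finite G] [Group.IsSolvable G]
    (hG : Nontrivial G) :
    ∃ N : Subgroup G, N.Normal ∧ N ≠ ⊥ ∧ (IsPGroup 2 N ∨ Odd (Nat.card N)) := by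
  exact Cfsg.Agent.Lib.Helper29.RO.exists_normal_two_or_odd hG

/-- (GTC1) Hall–Higman 1.2.3 for `p = 2` (helper12 `HallHigman.centralizer_pCore_le_pCore` +
helper25 `isPSolvable_of_isSolvable'`): if `G` is solvable with no nontrivial normal subgroup of odd
order, `V = O_2(G)` is a normal 2-subgroup containing its centralizer; it lies in every Sylow
2-subgroup. -/
theorem exists_normal_two_selfcentralizing {G : Type u} [Group G] [Finite G] [Group.IsSolvable G]
    (hA : ∀ M : Subgroup G, M.Normal → Odd (Nat.card M) → M = ⊥) (P : Sylow 2 G) :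
    ∃ V : Subgroup G, V.Normal ∧ IsPGroup 2 V ∧ V ≤ (P : Subgroup G) ∧
      Subgroup.centralizer (V : Set G) ≤ V := by
  exact Cfsg.Agent.Lib.Helper11.RO.exists_normal_two_selfcentralizing hA P

/-- (GTC2) a self-centralizing normal subgroup of order `≤ 2` is everything. -/
theorem two_lt_card_of_selfcentralizing {G : Type u} [Group G] [Finite G] (P : Sylow 2 G)
    (V : Subgroup G) [V.Normal] (hVP : V ≤ (P : Subgroup G))
    (hcent : Subgroup.centralizer (V : Set G) ≤ V) (hP : (P : Subgroup G) ≠ ⊤) :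
    2 < Nat.card V := by
  exact Cfsg.Agent.Lib.Helper1.RO.two_lt_card_of_selfcentralizing P V hVP hcent hP

/-- (GT1) `G` solvable, not a 2-group, all normal 2-subgroups of exponent `≤ 2`: there is a
nontrivial normal subgroup `N₀` with `N₀/N₀'` of odd order and `P ∩ N₀` of exponent `≤ 2`.
[`O = O_2(G)`; `A/O` = last nontrivial derived subgroup of `G/O` (abelian, odd order since
`O_2(G/O) = 1`); `X` = its preimage, `P ∩ X = O`; `N₀` = subgroup generated by the odd-order elements
of `X`.] -/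
theorem exists_odd_generated_normal {G : Type u} [Group G] [Finite G] [Group.IsSolvable G]
    (P : Sylow 2 G)
    (hB : ∀ Q : Subgroup G, Q.Normal → IsPGroup 2 Q → ∀ x ∈ Q, x ^ 2 = 1)
    (hP : (P : Subgroup G) ≠ ⊤) :
    ∃ N₀ : Subgroup G, N₀.Normal ∧ N₀ ≠ ⊥ ∧ Odd (Nat.card (Abelianization N₀)) ∧
      ∀ x ∈ (P : Subgroup G) ⊓ N₀, x ^ 2 = 1 := by
  exact Cfsg.Agent.Lib.Helper9.RO.exists_odd_generated_normal P hB hP

/-- (NQ) normalizers of Sylow subgroups in quotients (Frattini argument). -/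
theorem normalizer_mapSurjective {G : Type u} [Group G] [Finite G] (K : Subgroup G) [K.Normal]
    (P : Sylow 2 G) :
    Subgroup.normalizer (((P.mapSurjective (QuotientGroup.mk'_surjective K) : Sylow 2 (G ⧸ K)) :
        Subgroup (G ⧸ K)) : Set (G ⧸ K)) =
      (Subgroup.normalizer ((P : Subgroup G) : Set G)).map (QuotientGroup.mk' K) := by
  exact Cfsg.Agent.Lib.Helper11.RO.normalizer_mapSurjective K P

/-- (F7) two `P`-invariant functions on `V ⊴ G` that are `G`-conjugate are `N_G(P)`-conjugate. -/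
theorem exists_normalizer_conj {G : Type u} [Group G] [Finite G] (P : Sylow 2 G) (V : Subgroup G)
    [hV : V.Normal] (θ θ' : V → ℂ)
    (hθ : ∀ g ∈ (P : Subgroup G), Cfsg.Agent.Lib.Helper6.conjFun V g θ = θ)
    (hθ' : ∀ g ∈ (P : Subgroup G), Cfsg.Agent.Lib.Helper6.conjFun V g θ' = θ')
    (g : G) (hg : Cfsg.Agent.Lib.Helper6.conjFun V g θ = θ') :
    ∃ n ∈ Subgroup.normalizer ((P : Subgroup G) : Set G), Cfsg.Agent.Lib.Helper6.conjFun V n θ = θ' := by
  exact Cfsg.Agent.Lib.Helper9.RO.exists_normalizer_conj P V θ θ' hθ hθ' g hg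

/-! ## C. Clifford counting (T1, case `V = O_2(G)` elementary abelian) -/

/-- (CL2) weighted Clifford count.  For `χ` real of odd degree the `P`-invariant constituents of
`χ_V` form exactly one `N_G(P)`-orbit (odd orbit + (F7)); the same in `N_G(P)`; so both counts are
`Σ_{λ P-invariant} cntUnder(λ) / |N_G(P)-orbit of λ|`. -/
theorem rcount_eq_of_forall_cntUnder {G : Type u} [Group G] [Finite G] (P : Sylow 2 G)
    (V : Subgroup G) [hV : V.Normal] (hV2 : ∀ v ∈ V, v ^ 2 = 1) (hVP : V ≤ (P : Subgroup G))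
    (h : ∀ lam : V → ℂ, IsIrrCharacter V lam →
      (∀ g ∈ (P : Subgroup G), Cfsg.Agent.Lib.Helper6.conjFun V g lam = lam) →
      cntUnder G V lam =
        cntUnder ↥(Subgroup.normalizer ((P : Subgroup G) : Set G))
          (V.subgroupOf (Subgroup.normalizer ((P : Subgroup G) : Set G)))
          (fun w => lam ⟨((w : ↥(Subgroup.normalizer ((P : Subgroup G) : Set G))) : G),
            Subgroup.mem_subgroupOf.mp w.2⟩)) :
    rcount G = rcount ↥(Subgroup.normalizer ((P : Subgroup G) : Set G)) := by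
  exact Cfsg.Agent.Lib.Helper19.RO.rcount_eq_of_forall_cntUnder P V hV2 hVP h

/-- (CCG) Clifford correspondence, counted: `T` = stabilizer of the (real, linear) `lam`, of odd
index.  `ψ ↦ ψ^G` is a bijection `Irr(T|lam) → Irr(G|lam)`, multiplies degrees by `|G:T|` (odd),
and commutes with complex conjugation (`lam` real since `V` has exponent 2). -/
theorem cntUnder_eq_cntOver_stab {G : Type u} [Group G] [Finite G] (V : Subgroup G)
    [hV : V.Normal] (hV2 : ∀ v ∈ V, v ^ 2 = 1) (lam : V → ℂ) (hlam : IsIrrCharacter V lam)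
    (T : Subgroup G) (hT : ∀ g : G, g ∈ T ↔ Cfsg.Agent.Lib.Helper6.conjFun V g lam = lam) (hodd : Odd T.index)
    (hVT : V ≤ T) :
    cntUnder G V lam = cntOver ↥T (Subgroup.inclusion hVT) lam := by
  exact Cfsg.Agent.Lib.Helper19.RO.cntUnder_eq_cntOver_stab V hV2 lam hlam T hT hodd hVT

/-- (CCN) the same inside `N_G(P)`, transported: the stabilizer of `lam` in `N_G(P)` is
`T ∩ N_G(P) ≅ N_T(P)`. -/
theorem cntUnder_normalizer_eq {G : Type u} [Group G] [Finite G] (P : Sylow 2 G) (V : Subgroup G)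
    [hV : V.Normal] (hV2 : ∀ v ∈ V, v ^ 2 = 1) (hVP : V ≤ (P : Subgroup G)) (lam : V → ℂ)
    (hlam : IsIrrCharacter V lam) (T : Subgroup G)
    (hT : ∀ g : G, g ∈ T ↔ Cfsg.Agent.Lib.Helper6.conjFun V g lam = lam) (hPT : (P : Subgroup G) ≤ T) (hVT : V ≤ T)
    (hN : ∀ v : V, Subgroup.inclusion hVT v ∈
      Subgroup.normalizer (((P.subtype hPT : Sylow 2 ↥T) : Subgroup ↥T) : Set ↥T)) :
    cntUnder ↥(Subgroup.normalizer ((P : Subgroup G) : Set G))
        (V.subgroupOf (Subgroup.normalizer ((P : Subgroup G) : Set G)))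
        (fun w => lam ⟨((w : ↥(Subgroup.normalizer ((P : Subgroup G) : Set G))) : G),
          Subgroup.mem_subgroupOf.mp w.2⟩) =
      cntOver ↥(Subgroup.normalizer (((P.subtype hPT : Sylow 2 ↥T) : Subgroup ↥T) : Set ↥T))
        ((Subgroup.inclusion hVT).codRestrict _ hN) lam := by
  exact Cfsg.Agent.Lib.Helper4.RO.cntUnder_normalizer_eq P V hV2 hVP lam hlam T hT hPT hVT hN

/-- (REL) relative count from the absolute one.  `W` elementary abelian 2-group embedded as a
normal subgroup of `H` inside `P`, `lam ∈ Irr(W)` `H`-invariant, `K = ker lam`: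
`cntOver H lam = rcountKer H K − rcountKer H W` (for `lam ≠ 1`; Clifford: a character with `K` in
the kernel lies over `1_W` or over `lam`), `= rcount (H/K) − rcount (H/W)` by (KQ1), `= ` the same
for `N_H(P)` by `hq` and (KQ2); for `lam = 1`: `cntOver H 1 = rcountKer H W`.  `2 < |W|` makes
`K ≠ 1`. -/
theorem rel_count {H : Type u} [Group H] [Finite H] (P : Sylow 2 H) {W : Type u} [Group W]
    (ι : W →* H) (hι : Function.Injective ι) (hn : ι.range.Normal)
    (hWP : ι.range ≤ (P : Subgroup H)) (hW2 : ∀ w : W, w ^ 2 = 1) (hW : 2 < Nat.card W)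
    (lam : W → ℂ) (hlam : IsIrrCharacter W lam)
    (hinv : ∀ (h : H) (w w' : W), ι w' = h * ι w * h⁻¹ → lam w' = lam w)
    (hq : ∀ (L : Subgroup H) [L.Normal], L ≠ ⊥ → P1 (H ⧸ L))
    (hN : ∀ w, ι w ∈ Subgroup.normalizer ((P : Subgroup H) : Set H)) :
    cntOver H ι lam =
      cntOver ↥(Subgroup.normalizer ((P : Subgroup H) : Set H)) (ι.codRestrict _ hN) lam := by
  exact Cfsg.Agent.Lib.Helper20.RO.rel_count P ι hι hn hWP hW2 hW lam hlam hinv hq hN

/-! ## D. T3: all odd-degree characters real ⟹ `N_G(P) = P` -/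

/-- (AQ) the hypothesis passes to quotients (inflation). -/
theorem allOddReal_quotient {G : Type u} [Group G] [Finite G] (K : Subgroup G) [K.Normal]
    (h : AllOddReal G) : AllOddReal (G ⧸ K) := by
  exact Cfsg.Agent.Lib.Helper24.RO.allOddReal_quotient K h

/-- (OD) an odd-degree irreducible character over a `P`-invariant irreducible character of an
odd-order normal subgroup.  [`(θ^G)_P = |G:MP| θ(1) ρ_P`, so `Σ_χ [θ^G,χ][χ_P,1_P]` is odd, some
`[θ^G, χ]` is odd; `χ(1) = [χ_M,θ] |G:T_θ| θ(1)` with `P ≤ T_θ` and `θ(1) | |M|` odd.] -/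
theorem exists_odd_over_invariant {G : Type u} [Group G] [Finite G] (P : Sylow 2 G)
    (M : Subgroup G) [hM : M.Normal] (hMo : Odd (Nat.card M)) (θ : M → ℂ)
    (hθ : IsIrrCharacter M θ) (hinv : ∀ g ∈ (P : Subgroup G), Cfsg.Agent.Lib.Helper6.conjFun M g θ = θ) :
    ∃ χ : IrrCharacter G, Odd (charDegree (χ : G → ℂ)) ∧
      haveI := Fintype.ofFinite M
      classInner (resFun M (χ : G → ℂ)) θ ≠ 0 := by
  exact Cfsg.Agent.Lib.Helper6.RO.exists_odd_over_invariant P M hMo θ hθ hinv

/-- (T3A) step for an odd-order normal subgroup.  [`ih` + (NQ): `N_G(P) ≤ PM`, so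
`N_G(P) = P × C_M(P)`; if `C_M(P) ≠ 1` take `β ∈ Irr(C_M(P))` non-real (odd order, Burnside),
`θ = F(β)` (helper2 `RealNN5.exists_glauberman_map`): `P`-invariant, non-real; (OD) gives `χ` of odd
degree over `θ`, real by `hall`, so `θ̄ = θ^g`, so (F7) `θ̄ = θ^n` with `n ∈ N_G(P) = P·C_M(P)`, so
`θ̄ = θ`, contradiction.] -/
theorem normalizer_eq_of_odd_normal {G : Type u} [Group G] [Finite G] (P : Sylow 2 G)
    (M : Subgroup G) [M.Normal] (hM : Odd (Nat.card M)) (hall : AllOddReal G)
    (ih : SelfNorm (G ⧸ M)) :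
    Subgroup.normalizer ((P : Subgroup G) : Set G) = (P : Subgroup G) := by
  exact Cfsg.Agent.Lib.Helper6.RO.normalizer_eq_of_odd_normal P M hM hall ih

/-- (T3B) step for a normal 2-subgroup (pure group theory: `V ≤ P`, `N_G(P)/V ≤ N_{G/V}(P/V)`). -/
theorem normalizer_eq_of_two_normal {G : Type u} [Group G] [Finite G] (P : Sylow 2 G)
    (V : Subgroup G) [V.Normal] (hV : IsPGroup 2 V) (ih : SelfNorm (G ⧸ V)) :
    Subgroup.normalizer ((P : Subgroup G) : Set G) = (P : Subgroup G) := by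
  exact Cfsg.Agent.Lib.Helper1.RO.normalizer_eq_of_two_normal P V hV ih

/-! ## E. T4: all odd-degree characters real ⟹ `P/P'` elementary abelian -/

/-- (F8) an odd-degree irreducible character of `G` over an odd-degree irreducible character of a
subgroup of odd index (a constituent of `μ^G`, whose degree is odd). -/
theorem exists_odd_over_of_odd_index {G : Type u} [Group G] [Finite G] (H : Subgroup G)
    (hH : Odd H.index) (μ : IrrCharacter H) (hμ : Odd (charDegree (μ : H → ℂ))) :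
    ∃ χ : IrrCharacter G, Odd (charDegree (χ : G → ℂ)) ∧
      haveI := Fintype.ofFinite H
      classInner (resFun H (χ : G → ℂ)) (μ : H → ℂ) ≠ 0 := by
  exact Cfsg.Agent.Lib.Helper27.RO.exists_odd_over_of_odd_index H hH μ hμ

/-- (SEP) linear characters separate the elements of a finite group modulo its derived subgroup. -/
theorem exists_linear_ne_one {H : Type u} [Group H] [Finite H] (x : H) (hx : x ∉ commutator H) :
    ∃ μ : IrrCharacter H, (μ : H → ℂ) 1 = 1 ∧ (μ : H → ℂ) x ≠ 1 := by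
  exact Cfsg.Agent.Lib.Helper29.RO.exists_linear_ne_one x hx

/-- (T4A) step for a normal 2-subgroup `Q` with nontrivial squares.  [`ih` gives `x² ∈ P'·sqSub Q`;
and `sqSub Q ≤ P'`: else (SEP) a linear `μ` of `P` with `μ(y²) ≠ 1`, (F8) `χ` of odd degree over
`μ`, real by `hall`, (KERB) `y² ∈ ker χ`, so `μ(y²) = 1`.] -/
theorem sqComm_of_sq_normal_two {G : Type u} [Group G] [Finite G] (P : Sylow 2 G)
    (Q : Subgroup G) [Q.Normal] (hQ : IsPGroup 2 Q) (hall : AllOddReal G)
    (ih : AllSqComm (G ⧸ sqSub Q)) : SqComm (P : Subgroup G) := by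
  exact Cfsg.Agent.Lib.Helper27.RO.sqComm_of_sq_normal_two P Q hQ hall ih

/-- (T4C) step via the done row S4582 (`Cfsg.Agent.S4582.result`, transfer). -/
theorem sqComm_of_odd_generated {G : Type u} [Group G] [Finite G] (P : Sylow 2 G)
    (N₀ : Subgroup G) [N₀.Normal] (hodd : Odd (Nat.card (Abelianization N₀)))
    (hexp : ∀ x ∈ (P : Subgroup G) ⊓ N₀, x ^ 2 = 1) (ih : AllSqComm (G ⧸ N₀)) :
    SqComm (P : Subgroup G) := by
  exact Cfsg.Agent.Lib.Helper1.RO.sqComm_of_odd_generated P N₀ hodd hexp ih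

/-! ## F. T2: `P/P'` elementary abelian and `N_G(P) = P` ⟹ all odd-degree characters real -/

/-- (T2TOP) a 2-group with `P/P'` elementary abelian: odd degree ⟹ linear ⟹ real. -/
theorem allOddReal_of_top {G : Type u} [Group G] [Finite G] (P : Sylow 2 G)
    (hP : (P : Subgroup G) = ⊤) (hsq : SqComm (P : Subgroup G)) : AllOddReal G := by
  exact Cfsg.Agent.Lib.Helper2.RO.allOddReal_of_top P hP hsq

/-- (HQ1) `SqComm` passes to the image Sylow subgroup. -/
theorem sqComm_mapSurjective {G : Type u} [Group G] [Finite G] (K : Subgroup G) [K.Normal]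
    (P : Sylow 2 G) (hsq : SqComm (P : Subgroup G)) :
    SqComm ((P.mapSurjective (QuotientGroup.mk'_surjective K) : Sylow 2 (G ⧸ K)) :
      Subgroup (G ⧸ K)) := by
  exact Cfsg.Agent.Lib.Helper29.RO.sqComm_mapSurjective K P hsq

/-- (HS) the hypotheses of T2 pass to subgroups `T ≥ P`. -/
theorem sqComm_subtype {G : Type u} [Group G] [Finite G] (P : Sylow 2 G) (T : Subgroup G)
    (hPT : (P : Subgroup G) ≤ T) (hsq : SqComm (P : Subgroup G)) :
    SqComm ((P.subtype hPT : Sylow 2 ↥T) : Subgroup ↥T) := by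
  exact Cfsg.Agent.Lib.Helper29.RO.sqComm_subtype P T hPT hsq

theorem normalizer_subtype_eq {G : Type u} [Group G] [Finite G] (P : Sylow 2 G) (T : Subgroup G)
    (hPT : (P : Subgroup G) ≤ T)
    (hN : Subgroup.normalizer ((P : Subgroup G) : Set G) = (P : Subgroup G)) :
    Subgroup.normalizer (((P.subtype hPT : Sylow 2 ↥T) : Subgroup ↥T) : Set ↥T) =
      ((P.subtype hPT : Sylow 2 ↥T) : Subgroup ↥T) := by
  exact Cfsg.Agent.Lib.Helper29.RO.normalizer_subtype_eq P T hPT hN

/-- (T2A) step for an odd-order normal subgroup.  [`C_M(P) ≤ M ∩ N_G(P) = M ∩ P = 1`, so by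
helper2 `exists_glauberman_map` (onto the `P`-invariant characters, from a one-element set) the only
`P`-invariant irreducible character of `M` is `1_M`; an odd-degree `χ` has a `P`-invariant
constituent of `χ_M` (odd orbit), so `M ≤ ker χ`, so `χ` is inflated from `G/M`, real by `ih`.] -/
theorem allOddReal_of_odd_normal {G : Type u} [Group G] [Finite G] (P : Sylow 2 G)
    (M : Subgroup G) [M.Normal] (hM : Odd (Nat.card M))
    (hN : Subgroup.normalizer ((P : Subgroup G) : Set G) = (P : Subgroup G))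
    (ih : AllOddReal (G ⧸ M)) : AllOddReal G := by
  exact Cfsg.Agent.Lib.Helper20.RO.allOddReal_of_odd_normal P M hM hN ih

/-- (T2C) step for `V = O_2(G)` self-centralizing.  [`χ` of odd degree; `θ` a `P`-invariant
(linear) constituent of `χ_V`, `T` its stabilizer.  `T ≠ ⊤`: `χ = ψ^G` with `ψ ∈ Irr(T|θ)` of odd
degree, real by `ihs`, so `χ` real.  `T = ⊤`: `χ_V = χ(1)θ`; a linear constituent `μ` of `χ_P` has
`μ_V = θ` and `μ² = 1` (`hsq`), so `θ² = 1`; `K = ker θ ⊴ G` of index `≤ 2` in `V`; `K ≠ 1`: `χ` is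
inflated from `G/K`, real by `ihq`; `K = 1`: `|V| ≤ 2`, central, `G = C_G(V) ≤ V ≤ P`,
contradicting `hP`.] -/
theorem allOddReal_of_selfcentralizing {G : Type u} [Group G] [Finite G] (P : Sylow 2 G)
    (V : Subgroup G) [V.Normal] (hV : IsPGroup 2 V) (hVP : V ≤ (P : Subgroup G))
    (hcent : Subgroup.centralizer (V : Set G) ≤ V) (hsq : SqComm (P : Subgroup G))
    (hP : (P : Subgroup G) ≠ ⊤)
    (ihq : ∀ (K : Subgroup G) [K.Normal], K ≠ ⊥ → K ≤ V → AllOddReal (G ⧸ K))
    (ihs : ∀ T : Subgroup G, (P : Subgroup G) ≤ T → T ≠ ⊤ → AllOddReal ↥T) :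
    AllOddReal G := by
  exact Cfsg.Agent.Lib.Helper16.RO.allOddReal_of_selfcentralizing P V hV hVP hcent hsq hP ihq ihs

/-! ## G. the Frattini subgroup of a 2-group -/

/-- (FR) via the done rows S0012, S0013. -/
theorem commutator_eq_frattini_iff {G : Type u} [Group G] [Finite G] (P : Sylow 2 G) :
    commutator (P : Subgroup G) = frattini (P : Subgroup G) ↔ SqComm (P : Subgroup G) := by
  exact Cfsg.Agent.Lib.Helper1.RO.commutator_eq_frattini_iff P

end Cfsg.Agent.Lib.Helper5.ROLeaves
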