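/-
helper5: S4581 spine T1 (the count), against the leaves.
-/
import Mathlib
import Cfsg.Prelude.Def_Blocks
import Cfsg.Agent.Lib.Helper6.Clifford
import Cfsg.Agent.Lib.Helper25.RealPR1Core
import Cfsg.Agent.Lib.Helper5.RODefs
import Cfsg.Agent.Lib.Helper5.ROLeaves

set_option autoImplicit false

namespace Cfsg.Agent.Lib.Helper5.RO

open Cfsg Cfsg.Agent.Lib.Helper6 Cfsg.Agent.Lib.Helper5.ROLeaves
open Cfsg.Agent.Lib.Helper25.RealP

universe u

theorem card_quotient_lt {X : Type u} [Group X] [Finite X] (K : Subgroup X) [K.Normal]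
    (hK : K ≠ ⊥) : Nat.card (X ⧸ K) < Nat.card X := by
  have h1 := Subgroup.card_eq_card_quotient_mul_card_subgroup K
  have h2 : 1 < Nat.card K := (Subgroup.one_lt_card_iff_ne_bot K).mpr hK
  have h3 : 0 < Nat.card (X ⧸ K) := Nat.card_pos
  rw [h1]
  nlinarith

theorem normal_two_le_sylow {G : Type u} [Group G] [Finite G] (Q : Subgroup G) [hQ : Q.Normal]
    (hQ2 : IsPGroup 2 Q) (P : Sylow 2 G) : Q ≤ (P : Subgroup G) := by
  obtain ⟨P', hP'⟩ := hQ2.exists_le_sylow
  obtain ⟨g, hg⟩ := MulAction.exists_smul_eq G P' P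
  intro q hq
  have h1 : g⁻¹ * q * g ∈ (P' : Subgroup G) := hP' (by simpa using hQ.conj_mem q hq g⁻¹)
  rw [← hg]
  show q ∈ ((g • P' : Sylow 2 G) : Subgroup G)
  rw [Sylow.coe_subgroup_smul, Subgroup.mem_smul_pointwise_iff_exists]
  refine ⟨g⁻¹ * q * g, h1, ?_⟩
  simp [MulAut.smul_def, mul_assoc]

/-- quotient step -/
theorem step_quotient {G : Type u} [Group G] [Finite G] (P : Sylow 2 G) (K : Subgroup G)
    [K.Normal]
    (hG : ∀ χ : IrrCharacter G, (∀ g : G, ((χ : G → ℂ) g).im = 0) →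
      Odd (charDegree (χ : G → ℂ)) → ∀ k ∈ K, (χ : G → ℂ) k = (χ : G → ℂ) 1)
    (hN : ∀ ξ : IrrCharacter ↥(Subgroup.normalizer ((P : Subgroup G) : Set G)),
      (∀ g, ((ξ : ↥(Subgroup.normalizer ((P : Subgroup G) : Set G)) → ℂ) g).im = 0) →
      Odd (charDegree (ξ : ↥(Subgroup.normalizer ((P : Subgroup G) : Set G)) → ℂ)) →
      ∀ n : ↥(Subgroup.normalizer ((P : Subgroup G) : Set G)), (n : G) ∈ K →
        (ξ : ↥(Subgroup.normalizer ((P : Subgroup G) : Set G)) → ℂ) n =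
          (ξ : ↥(Subgroup.normalizer ((P : Subgroup G) : Set G)) → ℂ) 1)
    (ih : P1 (G ⧸ K)) :
    rcount G = rcount ↥(Subgroup.normalizer ((P : Subgroup G) : Set G)) := by
  have h1 : rcount G = rcountKer G (K : Set G) := by
    unfold rcount rcountKer
    exact Nat.card_congr (Equiv.subtypeEquivRight
      (fun χ => ⟨fun h => ⟨h, fun s hs => hG χ h.1 h.2 s hs⟩, fun h => h.1⟩))
  have h2 : rcount ↥(Subgroup.normalizer ((P : Subgroup G) : Set G)) =
      rcountKer ↥(Subgroup.normalizer ((P : Subgroup G) : Set G)) {n | (n : G) ∈ K} := by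
    unfold rcount rcountKer
    exact Nat.card_congr (Equiv.subtypeEquivRight
      (fun ξ => ⟨fun h => ⟨h, fun s hs => hN ξ h.1 h.2 s hs⟩, fun h => h.1⟩))
  rw [h1, h2, rcountKer_quotient, rcountKer_normalizer_quotient]
  exact ih _

theorem t1 : ∀ n : ℕ, ∀ (G : Type u) [Group G] [Finite G] [Group.IsSolvable G],
    Nat.card G = n → P1 G := by
  intro n
  induction n using Nat.strong_induction_on with
  | _ n IH =>
  intro G _ _ _ hn P
  -- case 0
  by_cases h0 : Subgroup.normalizer ((P : Subgroup G) : Set G) = ⊤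
  · exact rcount_normalizer_of_eq_top P h0
  -- case A
  by_cases hA : ∃ M : Subgroup G, M.Normal ∧ M ≠ ⊥ ∧ Odd (Nat.card M)
  · obtain ⟨M, hMn, hM1, hMo⟩ := hA
    haveI := hMn
    refine step_quotient P M (fun χ h1 h2 => ker_of_odd_normal M hMo χ h1 h2)
      (fun ξ h1 h2 => ker_of_odd_normal_sub _ M hMo ξ h1 h2) ?_
    exact IH _ (hn ▸ card_quotient_lt M hM1) (G ⧸ M) rfl
  -- case B
  by_cases hB : ∃ Q : Subgroup G, Q.Normal ∧ IsPGroup 2 Q ∧ ∃ x ∈ Q, x ^ 2 ≠ 1
  · obtain ⟨Q, hQn, hQ2, x, hxQ, hx⟩ := hB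
    haveI := hQn
    have hK1 : sqSub Q ≠ ⊥ := by
      intro h
      exact hx ((sqSub_eq_bot_iff Q).mp h x hxQ)
    have hQP : Q ≤ (P : Subgroup G) := normal_two_le_sylow Q hQ2 P
    refine step_quotient P (sqSub Q) (fun χ h1 h2 => ker_of_sq_normal_two Q hQ2 χ h1 h2)
      (fun ξ h1 h2 => ker_of_sq_normal_two_sub _ Q hQ2
        (hQP.trans Subgroup.le_normalizer) ξ h1 h2) ?_
    exact IH _ (hn ▸ card_quotient_lt (sqSub Q) hK1) (G ⧸ sqSub Q) rfl
  -- case C
  have hA' : ∀ M : Subgroup G, M.Normal → Odd (Nat.card M) → M = ⊥ := fun M hMn hMo => by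
    by_contra h
    exact hA ⟨M, hMn, h, hMo⟩
  have hB' : ∀ Q : Subgroup G, Q.Normal → IsPGroup 2 Q → ∀ x ∈ Q, x ^ 2 = 1 :=
    fun Q hQn hQ2 x hx => by
      by_contra h
      exact hB ⟨Q, hQn, hQ2, x, hx, h⟩
  obtain ⟨V, hVn, hV2g, hVP, hcent⟩ := exists_normal_two_selfcentralizing hA' P
  haveI := hVn
  have hP : (P : Subgroup G) ≠ ⊤ := by
    intro h
    apply h0
    rw [h]
    exact Subgroup.normalizer_eq_top _
  have hV2 : ∀ v ∈ V, v ^ 2 = 1 := hB' V hVn hV2g
  have hVcard := two_lt_card_of_selfcentralizing P V hVP hcent hP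
  apply rcount_eq_of_forall_cntUnder P V hV2 hVP
  intro lam hlam hinvP
  have hT : ∀ g : G, g ∈ stabFun V lam ↔ Cfsg.Agent.Lib.Helper6.conjFun V g lam = lam := fun g => Iff.rfl
  have hPT : (P : Subgroup G) ≤ stabFun V lam := fun g hg => hinvP g hg
  have hVT : V ≤ stabFun V lam := fun v hv =>
    Cfsg.Agent.Lib.Helper6.conjFun_of_mem V (Cfsg.Agent.CharLib.IsCharacter.isClassFunction
      (Cfsg.Agent.CharLib.IsIrrCharacter.isCharacter hlam)) hv
  have hodd : Odd (stabFun V lam).index := by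
    have h1 : (stabFun V lam).index ∣ (P : Subgroup G).index := Subgroup.index_dvd_of_le hPT
    have h2 : ¬ 2 ∣ (P : Subgroup G).index := P.not_dvd_index
    rw [← Nat.not_even_iff_odd, even_iff_two_dvd]
    exact fun h => h2 (h.trans h1)
  have hNv : ∀ v : V, Subgroup.inclusion hVT v ∈
      Subgroup.normalizer (((P.subtype hPT : Sylow 2 ↥(stabFun V lam)) :
        Subgroup ↥(stabFun V lam)) : Set ↥(stabFun V lam)) := by
    intro v
    apply Subgroup.le_normalizer
    show Subgroup.inclusion hVT v ∈ ((P.subtype hPT : Sylow 2 ↥(stabFun V lam)) :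
        Subgroup ↥(stabFun V lam))
    rw [Sylow.coe_subtype, Subgroup.mem_subgroupOf]
    exact hVP v.2
  rw [cntUnder_eq_cntOver_stab V hV2 lam hlam (stabFun V lam) hT hodd hVT,
    cntUnder_normalizer_eq P V hV2 hVP lam hlam (stabFun V lam) hT hPT hVT hNv]
  refine rel_count (P.subtype hPT) (Subgroup.inclusion hVT) (Subgroup.inclusion_injective hVT)
    ?_ ?_ ?_ hVcard lam hlam ?_ ?_ hNv
  · rw [Subgroup.inclusion_range]
    infer_instance
  · rw [Subgroup.inclusion_range, Sylow.coe_subtype]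
    intro t ht
    rw [Subgroup.mem_subgroupOf] at ht ⊢
    exact hVP ht
  · intro w
    apply Subtype.ext
    rw [Subgroup.coe_pow]
    exact hV2 w w.2
  · intro h w w' hww'
    have h1 : Cfsg.Agent.Lib.Helper6.conjFun V (h : G) lam = lam := h.2
    have h2 := congrFun h1 w
    rw [Cfsg.Agent.Lib.Helper6.conjFun_apply] at h2
    rw [← h2]
    congr 1
    apply Subtype.ext
    have := congrArg (fun t : ↥(stabFun V lam) => (t : G)) hww'
    simpa using this
  · intro L hL hL1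
    have hlt : Nat.card (↥(stabFun V lam) ⧸ L) < n := by
      have h1 := card_quotient_lt L hL1
      have h2 : Nat.card ↥(stabFun V lam) ≤ Nat.card G := Subgroup.card_le_card_group _
      omega
    exact IH _ hlt (↥(stabFun V lam) ⧸ L) rfl

end Cfsg.Agent.Lib.Helper5.RO
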