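/-
helper5: S4581 spines T2, T3, T4 against the leaves.
-/
import Mathlib
import Cfsg.Prelude.Def_Blocks
import Cfsg.Agent.Lib.Helper5.RODefs
import Cfsg.Agent.Lib.Helper5.ROLeaves
import Cfsg.Agent.Lib.Helper5.ROSpineT1

set_option autoImplicit false

namespace Cfsg.Agent.Lib.Helper5.RO

open Cfsg Cfsg.Agent.Lib.Helper6 Cfsg.Agent.Lib.Helper5.ROLeaves

universe u

/-- T3: all odd-degree characters real ⟹ Sylow 2-subgroups self-normalizing. -/
theorem t3 : ∀ n : ℕ, ∀ (G : Type u) [Group G] [Finite G] [Group.IsSolvable G],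
    Nat.card G = n → AllOddReal G → SelfNorm G := by
  intro n
  induction n using Nat.strong_induction_on with
  | _ n IH =>
  intro G _ _ _ hn hall P
  by_cases hG : Nontrivial G
  · obtain ⟨N, hNn, hN1, hN⟩ := exists_normal_two_or_odd hG
    haveI := hNn
    have ih : SelfNorm (G ⧸ N) :=
      IH _ (hn ▸ card_quotient_lt N hN1) (G ⧸ N) rfl (allOddReal_quotient N hall)
    rcases hN with h2 | ho
    · exact normalizer_eq_of_two_normal P N h2 ih
    · exact normalizer_eq_of_odd_normal P N ho hall ih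
  · rw [not_nontrivial_iff_subsingleton] at hG
    exact Subsingleton.elim _ _

/-- T4: all odd-degree characters real ⟹ `P/P'` elementary abelian. -/
theorem t4 : ∀ n : ℕ, ∀ (G : Type u) [Group G] [Finite G] [Group.IsSolvable G],
    Nat.card G = n → AllOddReal G → AllSqComm G := by
  intro n
  induction n using Nat.strong_induction_on with
  | _ n IH =>
  intro G _ _ _ hn hall P
  by_cases hB : ∃ Q : Subgroup G, Q.Normal ∧ IsPGroup 2 Q ∧ ∃ x ∈ Q, x ^ 2 ≠ 1
  · obtain ⟨Q, hQn, hQ2, x, hxQ, hx⟩ := hB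
    haveI := hQn
    have hK1 : sqSub Q ≠ ⊥ := fun h => hx ((sqSub_eq_bot_iff Q).mp h x hxQ)
    exact sqComm_of_sq_normal_two P Q hQ2 hall
      (IH _ (hn ▸ card_quotient_lt (sqSub Q) hK1) (G ⧸ sqSub Q) rfl
        (allOddReal_quotient (sqSub Q) hall))
  have hB' : ∀ Q : Subgroup G, Q.Normal → IsPGroup 2 Q → ∀ x ∈ Q, x ^ 2 = 1 :=
    fun Q hQn hQ2 x hx => by
      by_contra h
      exact hB ⟨Q, hQn, hQ2, x, hx, h⟩
  by_cases hP : (P : Subgroup G) = ⊤
  · intro x hx
    have h2 : IsPGroup 2 (⊤ : Subgroup G) := hP ▸ P.2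
    rw [hB' ⊤ inferInstance h2 x (Subgroup.mem_top x)]
    exact Subgroup.one_mem _
  · obtain ⟨N₀, hN₀n, hN₀1, hodd, hexp⟩ := exists_odd_generated_normal P hB' hP
    haveI := hN₀n
    exact sqComm_of_odd_generated P N₀ hodd hexp
      (IH _ (hn ▸ card_quotient_lt N₀ hN₀1) (G ⧸ N₀) rfl (allOddReal_quotient N₀ hall))

/-- the normalizer hypothesis passes to quotients -/
theorem normalizer_mapSurjective_eq {G : Type u} [Group G] [Finite G] (K : Subgroup G) [K.Normal]
    (P : Sylow 2 G)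
    (hN : Subgroup.normalizer ((P : Subgroup G) : Set G) = (P : Subgroup G)) :
    Subgroup.normalizer (((P.mapSurjective (QuotientGroup.mk'_surjective K) : Sylow 2 (G ⧸ K)) :
        Subgroup (G ⧸ K)) : Set (G ⧸ K)) =
      ((P.mapSurjective (QuotientGroup.mk'_surjective K) : Sylow 2 (G ⧸ K)) :
        Subgroup (G ⧸ K)) := by
  rw [normalizer_mapSurjective, hN]
  rfl

/-- T2: `P/P'` elementary abelian and `N_G(P) = P` ⟹ all odd-degree characters real. -/
theorem t2 : ∀ n : ℕ, ∀ (G : Type u) [Group G] [Finite G] [Group.IsSolvable G],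
    Nat.card G = n → T2 G := by
  intro n
  induction n using Nat.strong_induction_on with
  | _ n IH =>
  intro G _ _ _ hn P hsq hN
  by_cases hP : (P : Subgroup G) = ⊤
  · exact allOddReal_of_top P hP hsq
  have hquot : ∀ (K : Subgroup G) [K.Normal], K ≠ ⊥ → AllOddReal (G ⧸ K) := by
    intro K _ hK1
    exact IH _ (hn ▸ card_quotient_lt K hK1) (G ⧸ K) rfl
      (P.mapSurjective (QuotientGroup.mk'_surjective K)) (sqComm_mapSurjective K P hsq)
      (normalizer_mapSurjective_eq K P hN)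
  by_cases hA : ∃ M : Subgroup G, M.Normal ∧ M ≠ ⊥ ∧ Odd (Nat.card M)
  · obtain ⟨M, hMn, hM1, hMo⟩ := hA
    haveI := hMn
    exact allOddReal_of_odd_normal P M hMo hN (hquot M hM1)
  have hA' : ∀ M : Subgroup G, M.Normal → Odd (Nat.card M) → M = ⊥ := fun M hMn hMo => by
    by_contra h
    exact hA ⟨M, hMn, h, hMo⟩
  obtain ⟨V, hVn, hV2, hVP, hcent⟩ := exists_normal_two_selfcentralizing hA' P
  haveI := hVn
  refine allOddReal_of_selfcentralizing P V hV2 hVP hcent hsq hP
    (fun K _ hK1 _ => hquot K hK1) ?_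
  intro T hPT hT
  have hlt : Nat.card ↥T < n := by
    have h1 : Nat.card ↥T ≤ Nat.card G := Subgroup.card_le_card_group _
    have h2 : Nat.card ↥T ≠ Nat.card G := fun h => hT (Subgroup.eq_top_of_card_eq T h)
    omega
  exact IH _ hlt ↥T rfl (P.subtype hPT) (sqComm_subtype P T hPT hsq)
    (normalizer_subtype_eq P T hPT hN)

end Cfsg.Agent.Lib.Helper5.RO
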