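import Cfsg.Agent.Lib.Helper27.ReeCentJ
import Cfsg.Agent.Lib.Helper5.EvenCount

set_option autoImplicit false

/-!
# The number of elements of even order of the Ree group `²G₂(q)`

Work package WP-H of helper13's counting argument for S1158/S1159/S2357.
-/

namespace Cfsg.Agent.Lib.Helper5.ReeEven

open Cfsg Cfsg.Lie Matrix Cfsg.Agent.Lib.Helper7 Cfsg.Agent.Lib.Helper27.ReeCent

theorem no_prime (P q : ℕ) (hP : P.Prime) (hq : 4 ≤ q) (h : P * 2 = q * (q ^ 2 - 1)) : False := by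
  have hq2 : 15 ≤ q ^ 2 - 1 := by
    have : 16 ≤ q ^ 2 := by nlinarith
    omega
  obtain ⟨r, hr⟩ : ∃ r, r = q ^ 2 - 1 := ⟨_, rfl⟩
  rw [← hr] at h hq2
  have hdvd : P ∣ q * r := ⟨2, h.symm⟩
  have hP0 : 0 < P := hP.pos
  rcases (Nat.Prime.dvd_mul hP).mp hdvd with ⟨c, hc⟩ | ⟨c, hc⟩
  · have h2 : P * 2 = P * (c * r) := by rw [h, hc]; ring
    have h3 : 2 = c * r := Nat.eq_of_mul_eq_mul_left hP0 h2
    rcases Nat.eq_zero_or_pos c with h0 | h0
    · rw [h0] at h3; omega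
    · nlinarith
  · have h2 : P * 2 = P * (q * c) := by rw [h, hc]; ring
    have h3 : 2 = q * c := Nat.eq_of_mul_eq_mul_left hP0 h2
    rcases Nat.eq_zero_or_pos c with h0 | h0
    · rw [h0] at h3; omega
    · nlinarith

theorem arith (X N q P : ℕ) (hq : 4 ≤ q) (hP : P * 2 = q * (q ^ 2 - 1))
    (h : X * (2 * P) = q ^ 3 * (q - 1) * (q ^ 3 + 1) * N) :
    X = q ^ 2 * (q ^ 2 - q + 1) * N := by
  obtain ⟨r, rfl⟩ : ∃ r, q = r + 1 := ⟨q - 1, by omega⟩
  have e1 : (r + 1) ^ 2 - 1 = r ^ 2 + 2 * r := Nat.sub_eq_of_eq_add (by ring)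
  have e2 : (r + 1) ^ 2 - (r + 1) = r ^ 2 + r := Nat.sub_eq_of_eq_add (by ring)
  have e3 : r + 1 - 1 = r := Nat.add_sub_cancel r 1
  rw [e1] at hP
  rw [e3] at h
  rw [e2]
  have hpos : 0 < (r + 1) * (r ^ 2 + 2 * r) :=
    Nat.mul_pos (Nat.succ_pos r) (Nat.add_pos_right _ (by omega))
  apply Nat.eq_of_mul_eq_mul_right hpos
  have h2 : 2 * P = (r + 1) * (r ^ 2 + 2 * r) := by rw [← hP]; ring
  calc X * ((r + 1) * (r ^ 2 + 2 * r)) = X * (2 * P) := by rw [h2]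
    _ = (r + 1) ^ 3 * r * ((r + 1) ^ 3 + 1) * N := h
    _ = (r + 1) ^ 2 * (r ^ 2 + r + 1) * N * ((r + 1) * (r ^ 2 + 2 * r)) := by ring

variable {K : Type*} [Field K] [Fintype K] {m : ℕ}

/-- `PSL₂(K)` has trivial centre (`|K| ≥ 4` odd) -/
theorem center_psl2_trivial (hq : 4 ≤ Fintype.card K) (h2K : (2 : K) ≠ 0)
    (z : ProjectiveSpecialLinearGroup (Fin 2) K) (hz : ∀ x, x * z = z * x) : z = 1 := by
  have hsimp : IsSimpleGroup (ProjectiveSpecialLinearGroup (Fin 2) K) :=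
    Matrix.ProjectiveSpecialLinearGroup.rank_two_simple
      (by rw [Nat.card_eq_fintype_card]; exact hq)
  have hzc : z ∈ Subgroup.center (ProjectiveSpecialLinearGroup (Fin 2) K) := by
    rw [Subgroup.mem_center_iff]; intro x; exact hz x
  have hn : (Subgroup.center (ProjectiveSpecialLinearGroup (Fin 2) K)).Normal := inferInstance
  rcases hn.eq_bot_or_eq_top with h | h
  · rw [h, Subgroup.mem_bot] at hzc; exact hzc
  · exfalso
    have hp := @IsSimpleGroup.prime_card (ProjectiveSpecialLinearGroup (Fin 2) K)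
      (Group.commGroupOfCenterEqTop h) hsimp
    exact no_prime _ _ hp hq (Cfsg.Agent.Lib.Helper13.card_PSL2_mul_two h2K)

/-- **WP-H.** The number of elements of even order of `²G₂(q)`, `q = 3^(2m+1)`, `m ≥ 1`. -/
theorem card_even_elements (hK : Fintype.card K = 3 ^ (2 * m + 1)) (hm : 1 ≤ m) :
    Nat.card {g : ↥(twistedG2 K (3 ^ m)) // Even (orderOf g)} =
      (3 ^ (2 * m + 1)) ^ 2 * ((3 ^ (2 * m + 1)) ^ 2 - 3 ^ (2 * m + 1) + 1) *
        Nat.card {x : Matrix.ProjectiveSpecialLinearGroup (Fin 2) K // Odd (orderOf x)} := by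
  haveI : Fact (Nat.Prime 3) := ⟨Nat.prime_three⟩
  haveI : CharP K 3 := charP3_of_card hK
  have h3K : (3 : K) = 0 := by
    have := CharP.cast_eq_zero K 3
    exact_mod_cast this
  have h2K : (2 : K) ≠ 0 := by
    intro h
    have : (1 : K) = 0 := by linear_combination h3K - h
    exact one_ne_zero this
  obtain ⟨a₀, ha₀H, ha₀1, ha₀2⟩ := ReeSyl.exists_torus_involution hK
  obtain ⟨⟨e⟩, -⟩ := Cfsg.Agent.S1152.result hK a₀ ha₀H ha₀1 ha₀2
  have hq4 : 4 ≤ Fintype.card K := by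
    rw [hK]
    calc 4 ≤ 3 ^ 2 := by norm_num
      _ ≤ 3 ^ (2 * m + 1) := Nat.pow_le_pow_right (by norm_num) (by omega)
  have hPSL := Cfsg.Agent.Lib.Helper13.card_PSL2_mul_two (F := K) h2K
  have hG := Cfsg.Agent.S1069.result (m := m) hK
  have hcen := center_psl2_trivial (K := K) hq4 h2K
  have h := EvenCount.card_even_mul a₀ ha₀1 ha₀2
    (fun t ht1 ht2 => ree_involution_conj hK hm a₀ t ha₀1 ha₀2 ht1 ht2) e hcen
  rw [hG] at h
  rw [hK] at hPSL hq4
  exact arith _ _ _ _ hq4 hPSL h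

end Cfsg.Agent.Lib.Helper5.ReeEven
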