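/-
helper5: a small calculus for "the subgroup `G` of `SL ι k` contains the transvection
`1 + v φᵀ`" (`Has G v φ`), on top of helper25's `tvSL`.  Used for generation results
(`S2280`: `SL_n(F)` is generated by three conjugate regular unipotent elements).
-/
import Mathlib
import Cfsg.Agent.Lib.Helper25.SLRoot5
import Cfsg.Agent.Lib.Helper2.SLGen

set_option autoImplicit false

namespace Cfsg.Agent.Lib.Helper5.RegUni

open Matrix
open Cfsg.Agent.Lib.Helper25.SLRoot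

variable {ι : Type*} [Fintype ι] [DecidableEq ι] {k : Type*} [Field k]

/-- `G` contains the transvection `1 + v φᵀ`. -/
def Has (G : Subgroup (Matrix.SpecialLinearGroup ι k)) (v φ : ι → k) : Prop :=
  ∃ h : φ ⬝ᵥ v = 0, tvSL v φ h 1 ∈ G

theorem tvSL_ext {v v' φ φ' : ι → k} (h : φ ⬝ᵥ v = 0) (h' : φ' ⬝ᵥ v' = 0) (c c' : k)
    (e : c • vecMulVec v φ = c' • vecMulVec v' φ') : tvSL v φ h c = tvSL v' φ' h' c' := by
  apply Subtype.ext
  rw [tvSL_coe, tvSL_coe, e]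

variable {G : Subgroup (Matrix.SpecialLinearGroup ι k)}

theorem Has.of_eq {v v' φ φ' : ι → k} (H : Has G v φ) (h' : φ' ⬝ᵥ v' = 0)
    (e : vecMulVec v φ = vecMulVec v' φ') : Has G v' φ' := by
  obtain ⟨h, m⟩ := H
  refine ⟨h', ?_⟩
  rwa [← tvSL_ext h h' 1 1 (by rw [e])]

theorem Has.zero_vec (φ : ι → k) : Has G 0 φ := by
  refine ⟨by rw [dotProduct_zero], ?_⟩
  have : tvSL (0 : ι → k) φ (by rw [dotProduct_zero]) 1 = 1 := by
    apply Subtype.ext
    rw [tvSL_coe, Matrix.SpecialLinearGroup.coe_one]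
    ext i j
    simp [vecMulVec_apply]
  rw [this]
  exact G.one_mem

theorem Has.zero_cov (v : ι → k) : Has G v 0 := by
  refine ⟨by rw [zero_dotProduct], ?_⟩
  have : tvSL v (0 : ι → k) (by rw [zero_dotProduct]) 1 = 1 := by
    apply Subtype.ext
    rw [tvSL_coe, Matrix.SpecialLinearGroup.coe_one]
    ext i j
    simp [vecMulVec_apply]
  rw [this]
  exact G.one_mem

theorem Has.add_vec {v v' φ : ι → k} (H : Has G v φ) (H' : Has G v' φ) : Has G (v + v') φ := by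
  obtain ⟨h, m⟩ := H
  obtain ⟨h', m'⟩ := H'
  have hh : φ ⬝ᵥ (v + v') = 0 := by rw [dotProduct_add, h, h', add_zero]
  refine ⟨hh, ?_⟩
  have : tvSL (v + v') φ hh 1 = tvSL v φ h 1 * tvSL v' φ h' 1 := by
    apply Subtype.ext
    rw [Matrix.SpecialLinearGroup.coe_mul]
    show tvMat (v + v') φ 1 = tvMat v φ 1 * tvMat v' φ 1
    rw [tvMat_mul, h', mul_zero, zero_smul, add_zero]
    unfold tvMat
    rw [add_vecMulVec, smul_add, add_assoc]
  rw [this]
  exact G.mul_mem m m'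

theorem Has.add_cov {v φ φ' : ι → k} (H : Has G v φ) (H' : Has G v φ') : Has G v (φ + φ') := by
  obtain ⟨h, m⟩ := H
  obtain ⟨h', m'⟩ := H'
  have hh : (φ + φ') ⬝ᵥ v = 0 := by rw [add_dotProduct, h, h', add_zero]
  refine ⟨hh, ?_⟩
  have : tvSL v (φ + φ') hh 1 = tvSL v φ h 1 * tvSL v φ' h' 1 := by
    apply Subtype.ext
    rw [Matrix.SpecialLinearGroup.coe_mul]
    show tvMat v (φ + φ') 1 = tvMat v φ 1 * tvMat v φ' 1
    rw [tvMat_mul, h, mul_zero, zero_smul, add_zero]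
    unfold tvMat
    rw [vecMulVec_add, smul_add, add_assoc]
  rw [this]
  exact G.mul_mem m m'

theorem Has.neg_vec {v φ : ι → k} (H : Has G v φ) : Has G (-v) φ := by
  obtain ⟨h, m⟩ := H
  have hh : φ ⬝ᵥ (-v) = 0 := by rw [dotProduct_neg, h, neg_zero]
  refine ⟨hh, ?_⟩
  have : tvSL (-v) φ hh 1 = (tvSL v φ h 1)⁻¹ := by
    rw [tvSL_inv]
    apply tvSL_ext
    ext i j
    simp [vecMulVec_apply]
  rw [this]
  exact G.inv_mem m

theorem Has.smul_to_cov {v φ : ι → k} {c : k} (H : Has G (c • v) φ) : Has G v (c • φ) := by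
  obtain ⟨h, m⟩ := H
  have h0 : (c • φ) ⬝ᵥ v = 0 := by
    rw [smul_dotProduct]; rw [dotProduct_smul] at h; exact h
  exact Has.of_eq ⟨h, m⟩ h0 (by rw [smul_vecMulVec, vecMulVec_smul])

theorem Has.smul_to_vec {v φ : ι → k} {c : k} (H : Has G v (c • φ)) : Has G (c • v) φ := by
  obtain ⟨h, m⟩ := H
  have h0 : φ ⬝ᵥ (c • v) = 0 := by
    rw [dotProduct_smul]; rw [smul_dotProduct] at h; exact h
  exact Has.of_eq ⟨h, m⟩ h0 (by rw [smul_vecMulVec, vecMulVec_smul])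

theorem Has.neg_cov {v φ : ι → k} (H : Has G v φ) : Has G v (-φ) := by
  have h1 : Has G (-v) φ := H.neg_vec
  have h2 : Has G ((-1 : k) • v) φ := by rwa [neg_one_smul]
  have h3 := h2.smul_to_cov
  rwa [neg_one_smul] at h3

theorem Has.sub_vec {v v' φ : ι → k} (H : Has G v φ) (H' : Has G v' φ) : Has G (v - v') φ := by
  rw [sub_eq_add_neg]
  exact H.add_vec H'.neg_vec

theorem Has.sub_cov {v φ φ' : ι → k} (H : Has G v φ) (H' : Has G v φ') : Has G v (φ - φ') := by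
  rw [sub_eq_add_neg]
  exact H.add_cov H'.neg_cov

theorem Has.sum_cov {α : Type*} (s : Finset α) {v : ι → k} (f : α → ι → k)
    (H : ∀ a ∈ s, Has G v (f a)) : Has G v (∑ a ∈ s, f a) := by
  classical
  induction s using Finset.induction_on with
  | empty => rw [Finset.sum_empty]; exact Has.zero_cov v
  | insert a s ha ih =>
    rw [Finset.sum_insert ha]
    exact (H a (Finset.mem_insert_self _ _)).add_cov
      (ih fun b hb => H b (Finset.mem_insert_of_mem hb))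

theorem Has.sum_vec {α : Type*} (s : Finset α) {φ : ι → k} (f : α → ι → k)
    (H : ∀ a ∈ s, Has G (f a) φ) : Has G (∑ a ∈ s, f a) φ := by
  classical
  induction s using Finset.induction_on with
  | empty => rw [Finset.sum_empty]; exact Has.zero_vec φ
  | insert a s ha ih =>
    rw [Finset.sum_insert ha]
    exact (H a (Finset.mem_insert_self _ _)).add_vec
      (ih fun b hb => H b (Finset.mem_insert_of_mem hb))

/-- conjugation by `g ∈ G`: `g (1 + v φᵀ) g⁻¹ = 1 + (g v) (φ g⁻¹)ᵀ`. -/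
theorem Has.conj {v φ ω : ι → k} (H : Has G v φ) {g : Matrix.SpecialLinearGroup ι k} (hg : g ∈ G)
    (hω : ω ᵥ* (↑g : Matrix ι ι k) = φ) : Has G ((↑g : Matrix ι ι k) *ᵥ v) ω := by
  obtain ⟨h, m⟩ := H
  have hinv : φ ᵥ* (↑(g⁻¹) : Matrix ι ι k) = ω := by
    rw [← hω, vecMul_vecMul, coe_mul_coe_inv, vecMul_one]
  have h' : ω ⬝ᵥ ((↑g : Matrix ι ι k) *ᵥ v) = 0 := by
    rw [← hinv]; exact conj_dot h g
  refine ⟨h', ?_⟩
  have key := conj_tvSL h g 1
  have e : tvSL ((↑g : Matrix ι ι k) *ᵥ v) (φ ᵥ* (↑(g⁻¹) : Matrix ι ι k)) (conj_dot h g) 1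
      = tvSL ((↑g : Matrix ι ι k) *ᵥ v) ω h' 1 := tvSL_ext _ _ _ _ (by rw [hinv])
  rw [← e, ← key]
  exact G.mul_mem (G.mul_mem hg m) (G.inv_mem hg)

/-- conjugation by `g⁻¹`, `g ∈ G`. -/
theorem Has.conj_inv {v v' φ : ι → k} (H : Has G v φ) {g : Matrix.SpecialLinearGroup ι k}
    (hg : g ∈ G) (hv : (↑g : Matrix ι ι k) *ᵥ v' = v) :
    Has G v' (φ ᵥ* (↑g : Matrix ι ι k)) := by
  have hω : (φ ᵥ* (↑g : Matrix ι ι k)) ᵥ* (↑(g⁻¹) : Matrix ι ι k) = φ := by
    rw [vecMul_vecMul, coe_mul_coe_inv, vecMul_one]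
  have key := H.conj (G.inv_mem hg) hω
  have e : (↑(g⁻¹) : Matrix ι ι k) *ᵥ v = v' := by
    rw [← hv, mulVec_mulVec, coe_inv_mul_coe, one_mulVec]
  rwa [e] at key

/-- the commutator of `1 + v φᵀ` and `1 + w ψᵀ` when `ψ v = 0` is `1 + (φ w) v ψᵀ`. -/
theorem Has.comm {v φ w ψ : ι → k} (H : Has G v φ) (H' : Has G w ψ) (h2 : ψ ⬝ᵥ v = 0) :
    Has G ((φ ⬝ᵥ w) • v) ψ := by
  obtain ⟨hv, m⟩ := H
  obtain ⟨hw, m'⟩ := H'
  have h3 : ψ ⬝ᵥ ((φ ⬝ᵥ w) • v) = 0 := by rw [dotProduct_smul, h2, smul_zero]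
  refine ⟨h3, ?_⟩
  have key := tvSL_commutatorElement hv hw h2 1 1
  have e : tvSL v ψ h2 (1 * 1 * (φ ⬝ᵥ w)) = tvSL ((φ ⬝ᵥ w) • v) ψ h3 1 :=
    tvSL_ext _ _ _ _ (by rw [one_mul, one_mul, one_smul, smul_vecMulVec])
  rw [← e, ← key]
  exact G.mul_mem (G.mul_mem (G.mul_mem m m') (G.inv_mem m)) (G.inv_mem m')

theorem Has.transvection_mem {i j : ι} (hij : i ≠ j) (c : k) (H : Has G (c • bv i) (bv j)) :
    Matrix.SpecialLinearGroup.transvection hij c ∈ G := by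
  obtain ⟨h, m⟩ := H
  have : Matrix.SpecialLinearGroup.transvection hij c = tvSL (c • bv i) (bv j) h 1 := by
    apply Subtype.ext
    rw [tvSL_coe, Matrix.SpecialLinearGroup.transvection_coe, one_smul, smul_vecMulVec, tvMat_bv]
    rfl
  rw [this]
  exact m

theorem eq_top_of_has [Nontrivial ι]
    (H : ∀ i j : ι, i ≠ j → ∀ c : k, Has G (c • bv i) (bv j)) : G = ⊤ := by
  rw [eq_top_iff]
  intro A _
  exact Cfsg.Agent.Lib.Helper2.sl_transvection_induction (fun A => A ∈ G)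
    (fun i j h c => Has.transvection_mem h c (H i j h c)) (fun A B hA hB => G.mul_mem hA hB) A

/-- every covector is a combination of the basis covectors. -/
theorem eq_sum_bv (φ : ι → k) : φ = ∑ j, φ j • (bv j : ι → k) := by
  ext i
  rw [Finset.sum_apply]
  simp only [Pi.smul_apply, smul_eq_mul, bv, Pi.single_apply, mul_ite, mul_one, mul_zero]
  rw [Finset.sum_ite_eq]
  simp

end Cfsg.Agent.Lib.Helper5.RegUni
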