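/-
helper5: explicit `Fin 3` vector calculus for the `Has` predicate of `RegUniA`, a lemma on
additive subgroups of finite fields containing all cubes, and an abstract generation lemma
`gen3` for subgroups of `SL_3(F)` (used for `S2278`: `SL_3(F)` is generated by two conjugate
regular unipotent elements).
-/
import Mathlib
import Cfsg.Agent.Lib.Helper5.RegUniA

set_option autoImplicit false

namespace Cfsg.Agent.Lib.Helper5.RegUni3

open Matrix
open Cfsg.Agent.Lib.Helper25.SLRoot
open Cfsg.Agent.Lib.Helper5.RegUni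

variable {F : Type*} [Field F]

theorem mulVec3 (a b c d e f g h i x y z : F) :
    (!![a, b, c; d, e, f; g, h, i] : Matrix (Fin 3) (Fin 3) F) *ᵥ ![x, y, z] =
      ![a * x + b * y + c * z, d * x + e * y + f * z, g * x + h * y + i * z] := by
  ext j
  fin_cases j <;> simp [Matrix.mulVec, dotProduct, Fin.sum_univ_three]

theorem vecMul3 (a b c d e f g h i x y z : F) :
    ![x, y, z] ᵥ* (!![a, b, c; d, e, f; g, h, i] : Matrix (Fin 3) (Fin 3) F) =
      ![x * a + y * d + z * g, x * b + y * e + z * h, x * c + y * f + z * i] := by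
  ext j
  fin_cases j <;> simp [Matrix.vecMul, dotProduct, Fin.sum_univ_three]

theorem dot3 (a b c x y z : F) : ![a, b, c] ⬝ᵥ ![x, y, z] = a * x + b * y + c * z := by
  simp [dotProduct, Fin.sum_univ_three]

theorem vec3_congr {a b c x y z : F} (h1 : a = x) (h2 : b = y) (h3 : c = z) :
    ![a, b, c] = ![x, y, z] := by rw [h1, h2, h3]

theorem smul3 (t a b c : F) : t • ![a, b, c] = ![t * a, t * b, t * c] := by
  ext j
  fin_cases j <;> simp

theorem add3 (a b c x y z : F) : ![a, b, c] + ![x, y, z] = ![a + x, b + y, c + z] := by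
  ext j
  fin_cases j <;> simp

theorem sub3 (a b c x y z : F) : ![a, b, c] - ![x, y, z] = ![a - x, b - y, c - z] := by
  ext j
  fin_cases j <;> simp

theorem neg3 (a b c : F) : -![a, b, c] = ![-a, -b, -c] := by
  ext j
  fin_cases j <;> simp

theorem zero3 : (![0, 0, 0] : Fin 3 → F) = 0 := by
  ext j
  fin_cases j <;> simp

theorem bv0 : (bv (0 : Fin 3) : Fin 3 → F) = ![1, 0, 0] := by
  ext j
  fin_cases j <;> simp [bv]

theorem bv1 : (bv (1 : Fin 3) : Fin 3 → F) = ![0, 1, 0] := by
  ext j
  fin_cases j <;> simp [bv]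

theorem bv2 : (bv (2 : Fin 3) : Fin 3 → F) = ![0, 0, 1] := by
  ext j
  fin_cases j <;> simp [bv]

/-- the transvection `1 + v φᵀ` as an explicit `3 × 3` matrix. -/
theorem tv3 (x y z p q r : F) :
    (1 + (1 : F) • vecMulVec ![x, y, z] ![p, q, r] : Matrix (Fin 3) (Fin 3) F) =
      !![1 + x * p, x * q, x * r; y * p, 1 + y * q, y * r; z * p, z * q, 1 + z * r] := by
  ext i j
  fin_cases i <;> fin_cases j <;> simp [vecMulVec_apply]


variable {G : Subgroup (Matrix.SpecialLinearGroup (Fin 3) F)}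

/-- change the representation of a transvection `1 + v φᵀ` (only the matrix `v φᵀ` matters). -/
theorem cast3 {x y z p q r x' y' z' p' q' r' : F} (H : Has G ![x, y, z] ![p, q, r])
    (h00 : x * p = x' * p') (h01 : x * q = x' * q') (h02 : x * r = x' * r')
    (h10 : y * p = y' * p') (h11 : y * q = y' * q') (h12 : y * r = y' * r')
    (h20 : z * p = z' * p') (h21 : z * q = z' * q') (h22 : z * r = z' * r') :
    Has G ![x', y', z'] ![p', q', r'] := by
  obtain ⟨h0, hmem⟩ := H
  have h0' := h0
  rw [dot3] at h0'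
  refine Has.of_eq ⟨h0, hmem⟩ ?_ ?_
  · rw [dot3]
    linear_combination h0' - h00 - h11 - h22
  · ext i j
    fin_cases i <;> fin_cases j <;> simp [vecMulVec_apply] <;> assumption

theorem add_vec3 {x y z x' y' z' p q r : F} (H : Has G ![x, y, z] ![p, q, r])
    (H' : Has G ![x', y', z'] ![p, q, r]) : Has G ![x + x', y + y', z + z'] ![p, q, r] := by
  have := H.add_vec H'
  rwa [add3] at this

theorem sub_vec3 {x y z x' y' z' p q r : F} (H : Has G ![x, y, z] ![p, q, r])
    (H' : Has G ![x', y', z'] ![p, q, r]) : Has G ![x - x', y - y', z - z'] ![p, q, r] := by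
  have := H.sub_vec H'
  rwa [sub3] at this

theorem neg_vec3 {x y z p q r : F} (H : Has G ![x, y, z] ![p, q, r]) :
    Has G ![-x, -y, -z] ![p, q, r] := by
  have := H.neg_vec
  rwa [neg3] at this

theorem add_cov3 {x y z p q r p' q' r' : F} (H : Has G ![x, y, z] ![p, q, r])
    (H' : Has G ![x, y, z] ![p', q', r']) : Has G ![x, y, z] ![p + p', q + q', r + r'] := by
  have := H.add_cov H'
  rwa [add3] at this

theorem sub_cov3 {x y z p q r p' q' r' : F} (H : Has G ![x, y, z] ![p, q, r])
    (H' : Has G ![x, y, z] ![p', q', r']) : Has G ![x, y, z] ![p - p', q - q', r - r'] := by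
  have := H.sub_cov H'
  rwa [sub3] at this

theorem neg_cov3 {x y z p q r : F} (H : Has G ![x, y, z] ![p, q, r]) :
    Has G ![x, y, z] ![-p, -q, -r] := by
  have := H.neg_cov
  rwa [neg3] at this

theorem eq_top_of_has3
    (h01 : ∀ c : F, Has G ![c, 0, 0] ![0, 1, 0]) (h02 : ∀ c : F, Has G ![c, 0, 0] ![0, 0, 1])
    (h10 : ∀ c : F, Has G ![0, c, 0] ![1, 0, 0]) (h12 : ∀ c : F, Has G ![0, c, 0] ![0, 0, 1])
    (h20 : ∀ c : F, Has G ![0, 0, c] ![1, 0, 0]) (h21 : ∀ c : F, Has G ![0, 0, c] ![0, 1, 0]) :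
    G = ⊤ := by
  apply eq_top_of_has
  intro i j hij c
  have e0 : (c • bv (0 : Fin 3) : Fin 3 → F) = ![c, 0, 0] := by
    rw [bv0, smul3]; exact vec3_congr (by ring) (by ring) (by ring)
  have e1 : (c • bv (1 : Fin 3) : Fin 3 → F) = ![0, c, 0] := by
    rw [bv1, smul3]; exact vec3_congr (by ring) (by ring) (by ring)
  have e2 : (c • bv (2 : Fin 3) : Fin 3 → F) = ![0, 0, c] := by
    rw [bv2, smul3]; exact vec3_congr (by ring) (by ring) (by ring)
  fin_cases i <;> fin_cases j
  · exact absurd rfl hij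
  · show Has G (c • bv (0 : Fin 3)) (bv (1 : Fin 3))
    rw [e0, bv1]; exact h01 c
  · show Has G (c • bv (0 : Fin 3)) (bv (2 : Fin 3))
    rw [e0, bv2]; exact h02 c
  · show Has G (c • bv (1 : Fin 3)) (bv (0 : Fin 3))
    rw [e1, bv0]; exact h10 c
  · exact absurd rfl hij
  · show Has G (c • bv (1 : Fin 3)) (bv (2 : Fin 3))
    rw [e1, bv2]; exact h12 c
  · show Has G (c • bv (2 : Fin 3)) (bv (0 : Fin 3))
    rw [e2, bv0]; exact h20 c
  · show Has G (c • bv (2 : Fin 3)) (bv (1 : Fin 3))
    rw [e2, bv1]; exact h21 c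
  · exact absurd rfl hij

/-- an additive subgroup (given as a predicate) of a finite field of odd characteristic
containing all `y³ κ` (`κ ≠ 0`) is everything. -/
theorem additive_cubes [Finite F] (h2 : (2 : F) ≠ 0) (P : F → Prop)
    (hadd : ∀ x y, P x → P y → P (x + y)) (hneg : ∀ x, P x → P (-x))
    (κ : F) (hκ : κ ≠ 0) (hc : ∀ y : F, P (y ^ 3 * κ)) : ∀ x, P x := by
  have key : ∀ x : F, P (x * κ) := by
    by_cases h3 : (3 : F) = 0
    · have hadd3 : ∀ x y : F, (x + y) ^ 3 = x ^ 3 + y ^ 3 := by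
        intro x y
        linear_combination (x ^ 2 * y + x * y ^ 2) * h3
      have hinj : Function.Injective (fun x : F => x ^ 3) := by
        intro x y hxy
        have hxy' : x ^ 3 = y ^ 3 := hxy
        have h0 : (x - y) ^ 3 = 0 := by
          have := hadd3 (x - y) y
          rw [sub_add_cancel] at this
          linear_combination hxy' - this
        exact sub_eq_zero.1 ((pow_eq_zero_iff (n := 3) (by norm_num)).1 h0)
      have hsurj := Finite.injective_iff_surjective.1 hinj
      intro x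
      obtain ⟨y, hy⟩ := hsurj x
      have hy' : y ^ 3 = x := hy
      rw [← hy']
      exact hc y
    · have h6 : (6 : F) ≠ 0 := by
        have : (6 : F) = 2 * 3 := by norm_num
        rw [this]
        exact mul_ne_zero h2 h3
      intro x
      obtain ⟨z, hz⟩ : ∃ z : F, z = x / 6 := ⟨_, rfl⟩
      have hx : x = 6 * z := by rw [hz]; field_simp
      have e : x * κ = (z + 1) ^ 3 * κ + (z - 1) ^ 3 * κ + -(z ^ 3 * κ) + -(z ^ 3 * κ) := by
        rw [hx]; ring
      rw [e]
      exact hadd _ _ (hadd _ _ (hadd _ _ (hc _) (hc _)) (hneg _ (hc _))) (hneg _ (hc _))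
  intro x
  have := key (x / κ)
  have e : x / κ * κ = x := by field_simp
  rwa [e] at this

end Cfsg.Agent.Lib.Helper5.RegUni3
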