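/-
helper5: abstract generation lemma `gen3` for subgroups of `SL_3(F)`, `F` finite of odd
characteristic: a subgroup containing `u = [[0,a,b],[1,e,d],[0,1,l]]` (`b = 1 + l a ≠ 0`),
the torus element `diag(l,l,m)` (`l` a generator of `Fˣ`, `l³ ≠ 1`) and a root element
`1 + ν E₀₁` (`ν ≠ 0`) is everything.
-/
import Mathlib
import Cfsg.Agent.Lib.Helper5.RegUni3A

set_option autoImplicit false

namespace Cfsg.Agent.Lib.Helper5.RegUni3

open Matrix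
open Cfsg.Agent.Lib.Helper25.SLRoot
open Cfsg.Agent.Lib.Helper5.RegUni

variable {F : Type*} [Field F]

theorem gen3 [Finite F] (h2 : (2 : F) ≠ 0) {G : Subgroup (Matrix.SpecialLinearGroup (Fin 3) F)}
    {uS sS : Matrix.SpecialLinearGroup (Fin 3) F} (hu : uS ∈ G) (hs : sS ∈ G)
    {a b d e l m ν : F}
    (huM : (↑uS : Matrix (Fin 3) (Fin 3) F) = !![0, a, b; 1, e, d; 0, 1, l])
    (hsM : (↑sS : Matrix (Fin 3) (Fin 3) F) = !![l, 0, 0; 0, l, 0; 0, 0, m])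
    (hb : b = 1 + l * a) (hm : l ^ 2 * m = 1) (hb0 : b ≠ 0) (hl3 : l ^ 3 ≠ 1) (hν : ν ≠ 0)
    (hgen : ∀ y : F, y ≠ 0 → ∃ j : ℕ, y = l ^ j)
    (Hn : Has G ![ν, 0, 0] ![0, 1, 0]) : G = ⊤ := by
  subst hb
  have hl0 : l ≠ 0 := by
    intro h0
    rw [h0] at hm
    simp at hm
  have uV : ∀ x y z : F, (↑uS : Matrix (Fin 3) (Fin 3) F) *ᵥ ![x, y, z] =
      ![0 * x + a * y + (1 + l * a) * z, 1 * x + e * y + d * z, 0 * x + 1 * y + l * z] := by
    intro x y z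
    rw [huM, mulVec3]
  have uC : ∀ p q r : F, ![p, q, r] ᵥ* (↑uS : Matrix (Fin 3) (Fin 3) F) =
      ![p * 0 + q * 1 + r * 0, p * a + q * e + r * 1, p * (1 + l * a) + q * d + r * l] := by
    intro p q r
    rw [huM, vecMul3]
  have sV : ∀ x y z : F, (↑sS : Matrix (Fin 3) (Fin 3) F) *ᵥ ![x, y, z] =
      ![l * x + 0 * y + 0 * z, 0 * x + l * y + 0 * z, 0 * x + 0 * y + m * z] := by
    intro x y z
    rw [hsM, mulVec3]
  have sC : ∀ p q r : F, ![p, q, r] ᵥ* (↑sS : Matrix (Fin 3) (Fin 3) F) =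
      ![p * l + q * 0 + r * 0, p * 0 + q * l + r * 0, p * 0 + q * 0 + r * m] := by
    intro p q r
    rw [hsM, vecMul3]
  -- conjugating `X₀₁(γ)` by `u`
  have cu01 : ∀ γ : F, Has G ![γ, 0, 0] ![0, 1, 0] → Has G ![0, γ, 0] ![-l, 0, 1 + l * a] := by
    intro γ H
    have k := H.conj hu (ω := ![-l, 0, 1 + l * a])
      (by rw [uC]; exact vec3_congr (by ring) (by ring) (by ring))
    rw [uV] at k
    refine cast3 k ?_ ?_ ?_ ?_ ?_ ?_ ?_ ?_ ?_ <;> ring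
  have H2 := cu01 ν Hn
  have H3 : Has G ![0, ν, 0] ![-l, 0, (1 + l * a) * l ^ 3] := by
    have k := H2.conj hs (ω := ![-1, 0, (1 + l * a) * l ^ 2])
      (by rw [sC]; exact vec3_congr (by ring) (by ring) (by linear_combination (1 + l * a) * hm))
    rw [sV] at k
    refine cast3 k ?_ ?_ ?_ ?_ ?_ ?_ ?_ ?_ ?_ <;> ring
  have H4 : Has G ![0, ν * ((1 + l * a) * (l ^ 3 - 1)), 0] ![0, 0, 1] := by
    have k := sub_cov3 H3 H2
    refine cast3 k ?_ ?_ ?_ ?_ ?_ ?_ ?_ ?_ ?_ <;> ring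
  have hκ : ν * ((1 + l * a) * (l ^ 3 - 1)) ≠ 0 :=
    mul_ne_zero hν (mul_ne_zero hb0 (sub_ne_zero.2 hl3))
  -- the root subgroup `X₁₂`
  have X12 : ∀ γ : F, Has G ![0, γ, 0] ![0, 0, 1] := by
    have hstep : ∀ γ : F, Has G ![0, γ, 0] ![0, 0, 1] → Has G ![0, l ^ 3 * γ, 0] ![0, 0, 1] := by
      intro γ H
      have k := H.conj hs (ω := ![0, 0, l ^ 2])
        (by rw [sC]; exact vec3_congr (by ring) (by ring) (by linear_combination hm))
      rw [sV] at k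
      refine cast3 k ?_ ?_ ?_ ?_ ?_ ?_ ?_ ?_ ?_ <;> ring
    have hpow : ∀ j : ℕ, Has G ![0, (l ^ 3) ^ j * (ν * ((1 + l * a) * (l ^ 3 - 1))), 0]
        ![0, 0, 1] := by
      intro j
      induction j with
      | zero =>
        refine cast3 H4 ?_ ?_ ?_ ?_ ?_ ?_ ?_ ?_ ?_ <;> ring
      | succ j ih =>
        have k := hstep _ ih
        refine cast3 k ?_ ?_ ?_ ?_ ?_ ?_ ?_ ?_ ?_ <;> ring
    have hzero : Has G ![0, (0 : F), 0] ![0, 0, 1] := by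
      rw [zero3]; exact Has.zero_vec _
    apply additive_cubes h2 (fun γ => Has G ![0, γ, 0] ![0, 0, 1]) _ _
      (ν * ((1 + l * a) * (l ^ 3 - 1))) hκ
    · intro y
      by_cases hy : y = 0
      · subst hy
        refine cast3 hzero ?_ ?_ ?_ ?_ ?_ ?_ ?_ ?_ ?_ <;> ring
      · obtain ⟨j, hj⟩ := hgen y hy
        have k := hpow j
        have e : (l ^ 3) ^ j = y ^ 3 := by
          rw [hj, ← pow_mul, ← pow_mul, mul_comm]
        rw [e] at k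
        exact k
    · intro x y Hx Hy
      have k := add_vec3 Hx Hy
      refine cast3 k ?_ ?_ ?_ ?_ ?_ ?_ ?_ ?_ ?_ <;> ring
    · intro x Hx
      have k := neg_vec3 Hx
      refine cast3 k ?_ ?_ ?_ ?_ ?_ ?_ ?_ ?_ ?_ <;> ring
  -- `X₀₂`
  have X02 : ∀ γ : F, Has G ![γ, 0, 0] ![0, 0, 1] := by
    have X02' : ∀ γ : F, Has G ![γ * ν, 0, 0] ![0, 0, 1] := by
      intro γ
      have k := Hn.comm (X12 γ) (by rw [dot3]; ring)
      rw [dot3, smul3] at k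
      refine cast3 k ?_ ?_ ?_ ?_ ?_ ?_ ?_ ?_ ?_ <;> ring
    intro γ
    have k := X02' (γ / ν)
    have e : γ / ν * ν = γ := by field_simp
    rwa [e] at k
  -- `X₀₁`
  have X01 : ∀ γ : F, Has G ![γ, 0, 0] ![0, 1, 0] := by
    intro γ
    have k := (X12 γ).conj_inv hu (v' := ![γ, 0, 0])
      (by rw [uV]; exact vec3_congr (by ring) (by ring) (by ring))
    rw [uC] at k
    have k2 : Has G ![γ, 0, 0] ![0, 0, l] := by
      refine cast3 (X02 (γ * l)) ?_ ?_ ?_ ?_ ?_ ?_ ?_ ?_ ?_ <;> ring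
    have k3 := sub_cov3 k k2
    refine cast3 k3 ?_ ?_ ?_ ?_ ?_ ?_ ?_ ?_ ?_ <;> ring
  -- `X₁₀`
  have X10 : ∀ γ : F, Has G ![0, γ, 0] ![1, 0, 0] := by
    have X10' : ∀ γ : F, Has G ![0, l * γ, 0] ![1, 0, 0] := by
      intro γ
      have k := cu01 (-γ) (X01 (-γ))
      have k2 : Has G ![0, -γ, 0] ![0, 0, 1 + l * a] := by
        refine cast3 (X12 (-γ * (1 + l * a))) ?_ ?_ ?_ ?_ ?_ ?_ ?_ ?_ ?_ <;> ring
      have k3 := sub_cov3 k k2
      refine cast3 k3 ?_ ?_ ?_ ?_ ?_ ?_ ?_ ?_ ?_ <;> ring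
    intro γ
    have k := X10' (γ / l)
    have e : l * (γ / l) = γ := by field_simp
    rwa [e] at k
  -- `X₂₁`
  have X21 : ∀ γ : F, Has G ![0, 0, γ] ![0, 1, 0] := by
    intro γ
    have k := (X12 γ).conj hu (ω := ![1, 0, -a])
      (by rw [uC]; exact vec3_congr (by ring) (by ring) (by ring))
    rw [uV] at k
    have k1 : Has G ![0, e * γ, 0] ![1, 0, -a] := by
      have q1 := X10 (e * γ)
      have q2 : Has G ![0, e * γ, 0] ![0, 0, -a] := by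
        refine cast3 (X12 (e * γ * -a)) ?_ ?_ ?_ ?_ ?_ ?_ ?_ ?_ ?_ <;> ring
      have q3 := add_cov3 q1 q2
      refine cast3 q3 ?_ ?_ ?_ ?_ ?_ ?_ ?_ ?_ ?_ <;> ring
    have k2 : Has G ![a * γ, 0, γ] ![1, 0, -a] := by
      have q := sub_vec3 k k1
      refine cast3 q ?_ ?_ ?_ ?_ ?_ ?_ ?_ ?_ ?_ <;> ring
    have k3 := k2.comm (X01 1) (by rw [dot3]; ring)
    rw [dot3, smul3] at k3
    have k4 : Has G ![a * γ, 0, 0] ![0, 1, 0] := X01 (a * γ)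
    have k5 := sub_vec3 k3 k4
    refine cast3 k5 ?_ ?_ ?_ ?_ ?_ ?_ ?_ ?_ ?_ <;> ring
  -- `X₂₀`
  have X20 : ∀ γ : F, Has G ![0, 0, γ] ![1, 0, 0] := by
    intro γ
    have k := (X21 γ).comm (X10 1) (by rw [dot3]; ring)
    rw [dot3, smul3] at k
    refine cast3 k ?_ ?_ ?_ ?_ ?_ ?_ ?_ ?_ ?_ <;> ring
  exact eq_top_of_has3 X01 X02 X10 X12 X20 X21

end Cfsg.Agent.Lib.Helper5.RegUni3
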