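/-
helper5: `SL_3(F)`, `F` a finite field of odd characteristic, is generated by two conjugate
regular unipotent elements (explicit matrices; the quotient `u⁻¹ (g u g⁻¹)` is `s n` with
`s = diag(l, l, l⁻²)`, `n = 1 + ν E₀₁`).
-/
import Mathlib
import Cfsg.Agent.Lib.Helper5.RegUni3B

set_option autoImplicit false

namespace Cfsg.Agent.Lib.Helper5.RegUni3

open Matrix
open Cfsg.Agent.Lib.Helper25.SLRoot
open Cfsg.Agent.Lib.Helper5.RegUni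

variable {F : Type*} [Field F]

theorem cM_pow (l ν m : F) (k : ℕ) :
    (!![l, l * ν, 0; 0, l, 0; 0, 0, m] : Matrix (Fin 3) (Fin 3) F) ^ k =
      !![l ^ k, (k : F) * l ^ k * ν, 0; 0, l ^ k, 0; 0, 0, m ^ k] := by
  induction k with
  | zero =>
    ext i j
    fin_cases i <;> fin_cases j <;> simp
  | succ k ih =>
    rw [pow_succ, ih]
    ext i j
    fin_cases i <;> fin_cases j <;> simp [Matrix.mul_apply, Fin.sum_univ_three] <;> ring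

theorem odd_conj_identity {l a ν Λ : F} (hl0 : l ≠ 0) (hΛ : Λ ≠ 0) (hΛd : Λ = l ^ 2 + l + 1)
    (ha : a = (l ^ 2 - 5 * l + 1) / (l * Λ)) (hν : ν = (l - 1) ^ 3 / l ^ 2) :
    (!![l⁻¹, 0, a * (l - l⁻¹); 0, 1, l - l⁻¹; 0, 0, l] : Matrix (Fin 3) (Fin 3) F) *
      !![0, a, 1 + l * a; 1, 3 - l, 3 * l - l ^ 2 - 3 - a; 0, 1, l] =
    !![0, a, 1 + l * a; 1, 3 - l, 3 * l - l ^ 2 - 3 - a; 0, 1, l] *
      !![l, l * ν, 0; 0, l, 0; 0, 0, (l ^ 2)⁻¹] *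
      !![l⁻¹, 0, a * (l - l⁻¹); 0, 1, l - l⁻¹; 0, 0, l] := by
  subst ha hν
  ext i j
  fin_cases i <;> fin_cases j <;> simp [Matrix.mul_apply, Fin.sum_univ_three] <;>
    field_simp <;> (subst hΛd; ring)

theorem odd_cube (l a : F) :
    ((!![0, a, 1 + l * a; 1, 3 - l, 3 * l - l ^ 2 - 3 - a; 0, 1, l] :
      Matrix (Fin 3) (Fin 3) F) - 1) ^ 3 = 0 := by
  have e : (!![0, a, 1 + l * a; 1, 3 - l, 3 * l - l ^ 2 - 3 - a; 0, 1, l] :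
      Matrix (Fin 3) (Fin 3) F) - 1 =
      !![-1, a, 1 + l * a; 1, 2 - l, 3 * l - l ^ 2 - 3 - a; 0, 1, l - 1] := by
    ext i j
    fin_cases i <;> fin_cases j <;> simp <;> ring
  rw [e, pow_succ, pow_two]
  ext i j
  fin_cases i <;> fin_cases j <;> simp [Matrix.mul_apply, Fin.sum_univ_three] <;> ring

theorem odd_sq (l a : F) :
    ((!![0, a, 1 + l * a; 1, 3 - l, 3 * l - l ^ 2 - 3 - a; 0, 1, l] :
      Matrix (Fin 3) (Fin 3) F) - 1) ^ 2 ≠ 0 := by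
  intro h
  have h20 := congrFun (congrFun h 2) 0
  simp [pow_two, Matrix.mul_apply, Fin.sum_univ_three] at h20


theorem two_conj_odd [Fintype F] (h2 : (2 : F) ≠ 0) :
    ∃ u g : Matrix.SpecialLinearGroup (Fin 3) F,
      IsNilpotent ((u : Matrix (Fin 3) (Fin 3) F) - 1) ∧
      ((u : Matrix (Fin 3) (Fin 3) F) - 1) ^ (3 - 1) ≠ 0 ∧
      Subgroup.closure ({u, g * u * g⁻¹} : Set (Matrix.SpecialLinearGroup (Fin 3) F)) = ⊤ := by
  classical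
  obtain ⟨ζ, hζ⟩ := IsCyclic.exists_monoid_generator (α := Fˣ)
  obtain ⟨l, hl⟩ : ∃ l : F, l = (ζ : F) := ⟨_, rfl⟩
  have hl0 : l ≠ 0 := by rw [hl]; exact ζ.ne_zero
  have hgen : ∀ y : F, y ≠ 0 → ∃ j : ℕ, y = l ^ j := by
    intro y hy
    obtain ⟨j, hj⟩ := (Submonoid.mem_powers_iff _ _).1 (hζ (Units.mk0 y hy))
    refine ⟨j, ?_⟩
    rw [hl, ← Units.val_pow_eq_pow_val, hj, Units.val_mk0]
  have hl3 : l ^ 3 ≠ 1 := by
    intro h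
    obtain ⟨j, hj⟩ := hgen (-1) (neg_ne_zero.2 one_ne_zero)
    have h1 : (-1 : F) ^ 3 = 1 := by
      rw [hj, ← pow_mul, mul_comm, pow_mul, h, one_pow]
    have e : (-1 : F) ^ 3 = -1 := by ring
    rw [e] at h1
    apply h2
    linear_combination (-1 : F) * h1
  have hl1 : l ≠ 1 := by
    intro h
    apply hl3
    rw [h, one_pow]
  obtain ⟨Λ, hΛd⟩ : ∃ Λ : F, Λ = l ^ 2 + l + 1 := ⟨_, rfl⟩
  have hΛ : Λ ≠ 0 := by
    intro h
    apply hl3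
    rw [hΛd] at h
    linear_combination (l - 1) * h
  obtain ⟨a, ha⟩ : ∃ a : F, a = (l ^ 2 - 5 * l + 1) / (l * Λ) := ⟨_, rfl⟩
  obtain ⟨ν, hν⟩ : ∃ ν : F, ν = (l - 1) ^ 3 / l ^ 2 := ⟨_, rfl⟩
  have hν0 : ν ≠ 0 := by
    rw [hν]
    exact div_ne_zero (pow_ne_zero 3 (sub_ne_zero.2 hl1)) (pow_ne_zero 2 hl0)
  obtain ⟨uS, huS⟩ : ∃ uS : Matrix.SpecialLinearGroup (Fin 3) F,
      (↑uS : Matrix (Fin 3) (Fin 3) F) =
        !![0, a, 1 + l * a; 1, 3 - l, 3 * l - l ^ 2 - 3 - a; 0, 1, l] :=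
    ⟨⟨!![0, a, 1 + l * a; 1, 3 - l, 3 * l - l ^ 2 - 3 - a; 0, 1, l], by
      rw [Matrix.det_fin_three]; simp; ring⟩, rfl⟩
  obtain ⟨gS, hgS⟩ : ∃ gS : Matrix.SpecialLinearGroup (Fin 3) F,
      (↑gS : Matrix (Fin 3) (Fin 3) F) =
        !![l⁻¹, 0, a * (l - l⁻¹); 0, 1, l - l⁻¹; 0, 0, l] :=
    ⟨⟨!![l⁻¹, 0, a * (l - l⁻¹); 0, 1, l - l⁻¹; 0, 0, l], by
      rw [Matrix.det_fin_three]; simp; field_simp⟩, rfl⟩
  obtain ⟨cS, hcS⟩ : ∃ cS : Matrix.SpecialLinearGroup (Fin 3) F,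
      (↑cS : Matrix (Fin 3) (Fin 3) F) = !![l, l * ν, 0; 0, l, 0; 0, 0, (l ^ 2)⁻¹] :=
    ⟨⟨!![l, l * ν, 0; 0, l, 0; 0, 0, (l ^ 2)⁻¹], by
      rw [Matrix.det_fin_three]; simp; field_simp⟩, rfl⟩
  have hconj : gS * uS * gS⁻¹ = uS * cS := by
    rw [mul_inv_eq_iff_eq_mul]
    apply Subtype.ext
    rw [Matrix.SpecialLinearGroup.coe_mul, Matrix.SpecialLinearGroup.coe_mul,
      Matrix.SpecialLinearGroup.coe_mul, hgS, huS, hcS]
    exact odd_conj_identity hl0 hΛ hΛd ha hν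
  obtain ⟨G, hG⟩ : ∃ G : Subgroup (Matrix.SpecialLinearGroup (Fin 3) F),
      G = Subgroup.closure ({uS, gS * uS * gS⁻¹} : Set (Matrix.SpecialLinearGroup (Fin 3) F)) :=
    ⟨_, rfl⟩
  have hu : uS ∈ G := by rw [hG]; exact Subgroup.subset_closure (by simp)
  have hw : gS * uS * gS⁻¹ ∈ G := by rw [hG]; exact Subgroup.subset_closure (by simp)
  have hc : cS ∈ G := by
    have e : cS = uS⁻¹ * (gS * uS * gS⁻¹) := by rw [hconj]; group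
    rw [e]
    exact G.mul_mem (G.inv_mem hu) hw
  have hs : cS ^ Fintype.card F ∈ G := G.pow_mem hc _
  have hsM : (↑(cS ^ Fintype.card F) : Matrix (Fin 3) (Fin 3) F) =
      !![l, 0, 0; 0, l, 0; 0, 0, (l ^ 2)⁻¹] := by
    rw [Matrix.SpecialLinearGroup.coe_pow, hcS, cM_pow, FiniteField.pow_card,
      FiniteField.pow_card, Nat.cast_card_eq_zero, zero_mul, zero_mul]
  have hdot : ![0, 1, 0] ⬝ᵥ ![ν, 0, 0] = (0 : F) := by rw [dot3]; ring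
  have hn : tvSL ![ν, 0, 0] ![0, 1, 0] hdot 1 = (cS ^ Fintype.card F)⁻¹ * cS := by
    rw [eq_inv_mul_iff_mul_eq]
    apply Subtype.ext
    rw [Matrix.SpecialLinearGroup.coe_mul, hsM, tvSL_coe, tv3, hcS]
    ext i j
    fin_cases i <;> fin_cases j <;> simp [Matrix.mul_apply, Fin.sum_univ_three]
  have Hn : Has G ![ν, 0, 0] ![0, 1, 0] :=
    ⟨hdot, by rw [hn]; exact G.mul_mem (G.inv_mem hs) hc⟩
  have hb0 : 1 + l * a ≠ 0 := by
    have e : 1 + l * a = 2 * (l - 1) ^ 2 / Λ := by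
      rw [ha]; field_simp; rw [hΛd]; ring
    rw [e]
    exact div_ne_zero (mul_ne_zero h2 (pow_ne_zero 2 (sub_ne_zero.2 hl1))) hΛ
  refine ⟨uS, gS, ?_, ?_, ?_⟩
  · rw [huS]
    exact ⟨3, odd_cube l a⟩
  · rw [huS]
    exact odd_sq l a
  · rw [← hG]
    exact gen3 h2 hu hs huS hsM rfl (mul_inv_cancel₀ (pow_ne_zero 2 hl0)) hb0 hl3 hν0 hgen Hn

end Cfsg.Agent.Lib.Helper5.RegUni3
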