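/-
helper5: `SL_n(F)` (`n ≥ 3`, `F` a finite field) is generated by a lower regular unipotent
`w = 1 - Nᵀ`, an upper regular unipotent `u` and a long root element `1 + ζ E_{1n}`
(core of `S2280`).
-/
import Mathlib
import Cfsg.Agent.Lib.Helper5.RegUniA

set_option autoImplicit false

namespace Cfsg.Agent.Lib.Helper5.RegUni

open Matrix
open Cfsg.Agent.Lib.Helper25.SLRoot

variable {F : Type*} [Field F] {n : ℕ}

/-- the nilpotent shift: entries `[i + 1 = j]`. -/
def Nm (n : ℕ) (F : Type*) [Field F] : Matrix (Fin n) (Fin n) F :=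
  Matrix.of fun i j => if (i : ℕ) + 1 = (j : ℕ) then 1 else 0

theorem Nm_apply (i j : Fin n) :
    Nm n F i j = if (i : ℕ) + 1 = (j : ℕ) then 1 else 0 := rfl

theorem Nm_mulVec (x : Fin n → F) (i : Fin n) :
    (Nm n F *ᵥ x) i = if h : (i : ℕ) + 1 < n then x ⟨i + 1, h⟩ else 0 := by
  simp only [mulVec, dotProduct, Nm_apply]
  split_ifs with h
  · rw [Finset.sum_eq_single (⟨(i : ℕ) + 1, h⟩ : Fin n)]
    · simp
    · intro b _ hb
      rw [if_neg, zero_mul]
      intro e
      exact hb (Fin.ext e.symm)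
    · intro h'
      exact absurd (Finset.mem_univ _) h'
  · apply Finset.sum_eq_zero
    intro j _
    rw [if_neg, zero_mul]
    intro e
    exact h (by rw [e]; exact j.2)

theorem vecMul_Nm (x : Fin n → F) (j : Fin n) :
    (x ᵥ* Nm n F) j =
      if h : 0 < (j : ℕ) then x ⟨j - 1, lt_of_le_of_lt (Nat.sub_le _ _) j.2⟩ else 0 := by
  simp only [vecMul, dotProduct, Nm_apply]
  split_ifs with h
  · rw [Finset.sum_eq_single (⟨(j : ℕ) - 1, lt_of_le_of_lt (Nat.sub_le _ _) j.2⟩ : Fin n)]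
    · rw [if_pos (by show (j : ℕ) - 1 + 1 = j; omega), mul_one]
    · intro b _ hb
      rw [if_neg, mul_zero]
      intro e
      apply hb
      apply Fin.ext
      show (b : ℕ) = j - 1
      omega
    · intro h'
      exact absurd (Finset.mem_univ _) h'
  · apply Finset.sum_eq_zero
    intro i _
    rw [if_neg, mul_zero]
    omega

theorem Nm_pow_apply (k : ℕ) (i j : Fin n) :
    (Nm n F ^ k) i j = if (i : ℕ) + k = (j : ℕ) then 1 else 0 := by
  induction k generalizing j with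
  | zero =>
    rw [pow_zero, one_apply]
    simp only [add_zero, Fin.ext_iff]
  | succ k ih =>
    rw [pow_succ, mul_apply]
    simp only [ih, Nm_apply]
    split_ifs with h
    · have hlt : (i : ℕ) + k < n := by have := j.2; omega
      rw [Finset.sum_eq_single (⟨(i : ℕ) + k, hlt⟩ : Fin n)]
      · rw [if_pos rfl, if_pos (by show (i : ℕ) + k + 1 = j; omega), mul_one]
      · intro b _ hb
        rw [if_neg, zero_mul]
        intro e
        exact hb (Fin.ext e.symm)
      · intro h'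
        exact absurd (Finset.mem_univ _) h'
    · apply Finset.sum_eq_zero
      intro m _
      by_cases h1 : (i : ℕ) + k = m
      · rw [if_pos h1, if_neg (by omega), mul_zero]
      · rw [if_neg h1, zero_mul]

theorem Nm_pow_self : Nm n F ^ n = 0 := by
  ext i j
  rw [Nm_pow_apply, Matrix.zero_apply, if_neg]
  have := j.2
  omega

theorem Nm_pow_pred_ne (hn : 1 ≤ n) : Nm n F ^ (n - 1) ≠ 0 := by
  intro e
  have h := congrFun (congrFun e (⟨0, by omega⟩ : Fin n)) (⟨n - 1, by omega⟩ : Fin n)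
  rw [Nm_pow_apply, Matrix.zero_apply, if_pos (by show 0 + (n - 1) = n - 1; omega)] at h
  exact one_ne_zero h

theorem bv_vecMul_Nm (k : ℕ) (hk : k + 1 < n) :
    (bv (⟨k, by omega⟩ : Fin n) : Fin n → F) ᵥ* Nm n F = bv (⟨k + 1, hk⟩ : Fin n) := by
  ext j
  rw [vecMul_Nm]
  unfold bv
  simp only [Pi.single_apply, Fin.ext_iff]
  split_ifs <;> first | rfl | (exfalso; omega)

theorem Nm_mulVec_bv (k : ℕ) (hk : k + 1 < n) :
    Nm n F *ᵥ (bv (⟨k + 1, hk⟩ : Fin n) : Fin n → F) = bv (⟨k, by omega⟩ : Fin n) := by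
  ext j
  rw [Nm_mulVec]
  unfold bv
  simp only [Pi.single_apply, Fin.ext_iff]
  split_ifs <;> first | rfl | (exfalso; omega)

/-- the all-ones vector. -/
def ones (n : ℕ) (F : Type*) [Field F] : Fin n → F := fun _ => 1

/-- the lower regular unipotent matrix `1 - Nᵀ`. -/
def wM (n : ℕ) (F : Type*) [Field F] : Matrix (Fin n) (Fin n) F := 1 - (Nm n F)ᵀ

theorem wM_mulVec_bv (k : ℕ) (hk : k + 1 < n) :
    wM n F *ᵥ (bv (⟨k, by omega⟩ : Fin n) : Fin n → F) =
      bv (⟨k, by omega⟩ : Fin n) - bv (⟨k + 1, hk⟩ : Fin n) := by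
  unfold wM
  rw [sub_mulVec, one_mulVec, mulVec_transpose, bv_vecMul_Nm k hk]

theorem bv_vecMul_wM (k : ℕ) (hk : k + 1 < n) :
    (bv (⟨k + 1, hk⟩ : Fin n) : Fin n → F) ᵥ* wM n F =
      bv (⟨k + 1, hk⟩ : Fin n) - bv (⟨k, by omega⟩ : Fin n) := by
  unfold wM
  rw [vecMul_sub, vecMul_one, vecMul_transpose, Nm_mulVec_bv k hk]

theorem ones_vecMul_wM (hn : 1 ≤ n) :
    ones n F ᵥ* wM n F = bv (⟨n - 1, by omega⟩ : Fin n) := by
  unfold wM
  rw [vecMul_sub, vecMul_one, vecMul_transpose]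
  ext j
  rw [Pi.sub_apply, Nm_mulVec]
  unfold bv ones
  simp only [Pi.single_apply, Fin.ext_iff]
  have := j.2
  split_ifs <;> first | (exfalso; omega) | simp

theorem wM_mulVec_ones (hn : 1 ≤ n) :
    wM n F *ᵥ ones n F = bv (⟨0, by omega⟩ : Fin n) := by
  unfold wM
  rw [sub_mulVec, one_mulVec, mulVec_transpose]
  ext j
  rw [Pi.sub_apply, vecMul_Nm]
  unfold bv ones
  simp only [Pi.single_apply, Fin.ext_iff]
  split_ifs <;> first | (exfalso; omega) | simp

end Cfsg.Agent.Lib.Helper5.RegUni
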