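/-
helper5: core generation theorem for `S2280`: a subgroup `G` of `SL_n(F)` (`n ≥ 3`, `F` finite)
containing the lower regular unipotent `w = 1 - Nᵀ`, an element `u` with
`u e₀ = e₀`, `u e₁ = e₁ - e₀`, `e_l u = e_l`, and the long root element `1 + ζ E_{0 l}`
(`ζ` a generator of `Fˣ`) is everything.
-/
import Mathlib
import Cfsg.Agent.Lib.Helper5.RegUniB

set_option autoImplicit false

namespace Cfsg.Agent.Lib.Helper5.RegUni

open Matrix
open Cfsg.Agent.Lib.Helper25.SLRoot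

variable {F : Type*} [Field F] {n : ℕ}

theorem mk_ne {a b : ℕ} (ha : a < n) (hb : b < n) (h : a ≠ b) :
    (⟨a, ha⟩ : Fin n) ≠ ⟨b, hb⟩ := fun e => h (congrArg Fin.val e)

theorem ones_dot_bv (i : Fin n) : ones n F ⬝ᵥ (bv i : Fin n → F) = 1 := by
  rw [dot_bv]; rfl

theorem bv_dot_ones (i : Fin n) : (bv i : Fin n → F) ⬝ᵥ ones n F = 1 := by
  rw [bv_dot]; rfl

theorem core (hn : 3 ≤ n) [Finite F] {G : Subgroup (Matrix.SpecialLinearGroup (Fin n) F)}
    {u w : Matrix.SpecialLinearGroup (Fin n) F} (hu : u ∈ G) (hw : w ∈ G)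
    (U1 : (↑u : Matrix (Fin n) (Fin n) F) *ᵥ bv (⟨0, by omega⟩ : Fin n) = bv (⟨0, by omega⟩ : Fin n))
    (U2 : (↑u : Matrix (Fin n) (Fin n) F) *ᵥ bv (⟨1, by omega⟩ : Fin n) =
      bv (⟨1, by omega⟩ : Fin n) - bv (⟨0, by omega⟩ : Fin n))
    (U3 : (bv (⟨n - 1, by omega⟩ : Fin n) : Fin n → F) ᵥ* (↑u : Matrix (Fin n) (Fin n) F) =
      bv (⟨n - 1, by omega⟩ : Fin n))
    (hwM : (↑w : Matrix (Fin n) (Fin n) F) = wM n F)
    (ζ : Fˣ) (hζ : ∀ y : Fˣ, y ∈ Submonoid.powers ζ)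
    (A0 : Has G ((ζ : F) • (bv (⟨0, by omega⟩ : Fin n) : Fin n → F))
      (bv (⟨n - 1, by omega⟩ : Fin n))) : G = ⊤ := by
  have h0 : 0 < n := by omega
  have h1 : 1 < n := by omega
  have hl : n - 1 < n := by omega
  haveI : Nontrivial (Fin n) := Fin.nontrivial_iff_two_le.2 (by omega)
  have W2 : ones n F ᵥ* (↑w : Matrix (Fin n) (Fin n) F) = bv (⟨n - 1, hl⟩ : Fin n) := by
    rw [hwM]; exact ones_vecMul_wM (by omega)
  have W4 : ∀ γ : F, (↑w : Matrix (Fin n) (Fin n) F) *ᵥ (γ • ones n F) =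
      γ • bv (⟨0, h0⟩ : Fin n) := by
    intro γ
    rw [mulVec_smul, hwM, wM_mulVec_ones (by omega)]
  -- the loop step
  have loop : ∀ γ : F, Has G (γ • (bv (⟨0, h0⟩ : Fin n) : Fin n → F)) (bv (⟨n - 1, hl⟩ : Fin n)) →
      Has G (((ζ : F) * γ) • (bv (⟨0, h0⟩ : Fin n) : Fin n → F)) (bv (⟨n - 1, hl⟩ : Fin n)) := by
    intro γ Hγ
    have k1 := A0.conj hw W2
    rw [mulVec_smul, hwM, wM_mulVec_bv 0 (by omega)] at k1
    have hdot : (bv (⟨n - 1, hl⟩ : Fin n) : Fin n → F) ⬝ᵥ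
        ((ζ : F) • ((bv (⟨0, h0⟩ : Fin n) : Fin n → F) - bv (⟨0 + 1, by omega⟩ : Fin n))) = 0 := by
      rw [dotProduct_smul, dotProduct_sub, bv_dot_bv (mk_ne _ _ (by omega)),
        bv_dot_bv (mk_ne _ _ (by omega)), sub_zero, smul_zero]
    have k2 := k1.comm Hγ hdot
    rw [dotProduct_smul, ones_dot_bv, smul_eq_mul, mul_one] at k2
    have k3 := k2.conj hu U3
    have U2' : (↑u : Matrix (Fin n) (Fin n) F) *ᵥ bv (⟨0 + 1, by omega⟩ : Fin n) =
      bv (⟨0 + 1, by omega⟩ : Fin n) - bv (⟨0, h0⟩ : Fin n) := U2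
    rw [mulVec_smul, mulVec_smul, mulVec_sub, U1, U2'] at k3
    have k4 := k3.sub_vec k2
    have e : γ • (ζ : F) • ((bv (⟨0, h0⟩ : Fin n) : Fin n → F) -
        (bv (⟨0 + 1, by omega⟩ : Fin n) - bv (⟨0, h0⟩ : Fin n))) -
        γ • (ζ : F) • ((bv (⟨0, h0⟩ : Fin n) : Fin n → F) - bv (⟨0 + 1, by omega⟩ : Fin n)) =
        ((ζ : F) * γ) • (bv (⟨0, h0⟩ : Fin n) : Fin n → F) := by
      module
    rwa [e] at k4
  have hpow : ∀ m : ℕ, Has G (((ζ : F) ^ (m + 1)) • (bv (⟨0, h0⟩ : Fin n) : Fin n → F))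
      (bv (⟨n - 1, hl⟩ : Fin n)) := by
    intro m
    induction m with
    | zero => rw [zero_add, pow_one]; exact A0
    | succ m ih =>
      have := loop _ ih
      rwa [← pow_succ'] at this
  -- the full long root subgroup
  have A : ∀ γ : F, Has G (γ • (bv (⟨0, h0⟩ : Fin n) : Fin n → F)) (bv (⟨n - 1, hl⟩ : Fin n)) := by
    intro γ
    by_cases hγ : γ = 0
    · subst hγ
      rw [zero_smul]
      exact Has.zero_vec _
    · obtain ⟨m, hm⟩ := (Submonoid.mem_powers_iff _ _).1 (hζ (ζ⁻¹ * Units.mk0 γ hγ))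
      have : (ζ : F) ^ (m + 1) = γ := by
        rw [pow_succ', ← Units.val_pow_eq_pow_val, hm, Units.val_mul, Units.val_inv_eq_inv_val,
          Units.val_mk0, mul_inv_cancel_left₀ ζ.ne_zero]
      rw [← this]
      exact hpow m
  have A1 : Has G (bv (⟨0, h0⟩ : Fin n) : Fin n → F) (bv (⟨n - 1, hl⟩ : Fin n)) := by
    have := A 1
    rwa [one_smul] at this
  -- the last column
  have colB : ∀ (k : ℕ) (hk : k + 1 < n) (γ : F),
      Has G (γ • (bv (⟨k, by omega⟩ : Fin n) : Fin n → F)) (bv (⟨n - 1, hl⟩ : Fin n)) := by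
    intro k
    induction k with
    | zero => intro hk γ; exact A γ
    | succ k ih =>
      intro hk γ
      have IH := ih (by omega) γ
      have k1 := IH.conj hw W2
      rw [mulVec_smul, hwM, wM_mulVec_bv k (by omega)] at k1
      have hdot : (bv (⟨n - 1, hl⟩ : Fin n) : Fin n → F) ⬝ᵥ
          (γ • ((bv (⟨k, by omega⟩ : Fin n) : Fin n → F) - bv (⟨k + 1, by omega⟩ : Fin n))) = 0 := by
        rw [dotProduct_smul, dotProduct_sub, bv_dot_bv (mk_ne _ _ (by omega)),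
          bv_dot_bv (mk_ne _ _ (by omega)), sub_zero, smul_zero]
      have k2 := k1.comm A1 hdot
      rw [ones_dot_bv, one_smul] at k2
      have k3 := IH.sub_vec k2
      have e : γ • (bv (⟨k, by omega⟩ : Fin n) : Fin n → F) -
          γ • ((bv (⟨k, by omega⟩ : Fin n) : Fin n → F) - bv (⟨k + 1, by omega⟩ : Fin n)) =
          γ • (bv (⟨k + 1, by omega⟩ : Fin n) : Fin n → F) := by
        module
      rwa [e] at k3
  -- the first row
  have rowC : ∀ (d m : ℕ) (hm : m + d = n - 1) (hm1 : 1 ≤ m) (γ : F),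
      Has G (γ • (bv (⟨0, h0⟩ : Fin n) : Fin n → F)) (bv (⟨m, by omega⟩ : Fin n)) := by
    intro d
    induction d with
    | zero =>
      intro m hm hm1 γ
      have : (⟨m, by omega⟩ : Fin n) = ⟨n - 1, hl⟩ := Fin.ext (by show m = n - 1; omega)
      rw [this]
      exact A γ
    | succ d ih =>
      intro m hm hm1 γ
      have IH := ih (m + 1) (by omega) (by omega) γ
      have k1 := IH.conj_inv hw (W4 γ)
      rw [hwM, bv_vecMul_wM m (by omega)] at k1
      have hdot : ((bv (⟨m + 1, by omega⟩ : Fin n) : Fin n → F) - bv (⟨m, by omega⟩ : Fin n)) ⬝ᵥ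
          (bv (⟨0, h0⟩ : Fin n) : Fin n → F) = 0 := by
        rw [sub_dotProduct, bv_dot_bv (mk_ne _ _ (by omega)),
          bv_dot_bv (mk_ne _ _ (by omega)), sub_zero]
      have k2 := A1.comm k1 hdot
      rw [dotProduct_smul, bv_dot_ones, smul_eq_mul, mul_one] at k2
      have k3 := IH.sub_cov k2
      rwa [sub_sub_cancel] at k3
  -- all transvections with centre `e₀`
  have R1 : ∀ φ : Fin n → F, φ (⟨0, h0⟩ : Fin n) = 0 →
      Has G (bv (⟨0, h0⟩ : Fin n) : Fin n → F) φ := by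
    intro φ hφ
    have key : Has G (bv (⟨0, h0⟩ : Fin n) : Fin n → F) (∑ j, φ j • (bv j : Fin n → F)) := by
      apply Has.sum_cov
      intro j _
      by_cases hj : j = (⟨0, h0⟩ : Fin n)
      · rw [hj, hφ, zero_smul]
        exact Has.zero_cov _
      · have hj1 : 1 ≤ (j : ℕ) := by
          rcases j with ⟨j, hj'⟩
          have : j ≠ 0 := fun e => hj (Fin.ext e)
          show 1 ≤ j
          omega
        have hj2 : (j : ℕ) + (n - 1 - (j : ℕ)) = n - 1 := by have := j.2; omega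
        have := rowC (n - 1 - (j : ℕ)) (j : ℕ) hj2 hj1 (φ j)
        exact Has.smul_to_cov this
    rwa [← eq_sum_bv φ] at key
  -- all transvections with axis `e_l`
  have Rn : ∀ a : Fin n → F, a (⟨n - 1, hl⟩ : Fin n) = 0 →
      Has G a (bv (⟨n - 1, hl⟩ : Fin n)) := by
    intro a ha
    have key : Has G (∑ j, a j • (bv j : Fin n → F)) (bv (⟨n - 1, hl⟩ : Fin n)) := by
      apply Has.sum_vec
      intro j _
      by_cases hj : j = (⟨n - 1, hl⟩ : Fin n)
      · rw [hj, ha, zero_smul]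
        exact Has.zero_vec _
      · have hj1 : (j : ℕ) + 1 < n := by
          rcases j with ⟨j, hj'⟩
          have : j ≠ n - 1 := fun e => hj (Fin.ext e)
          show j + 1 < n
          omega
        exact colB (j : ℕ) hj1 (a j)
    rwa [← eq_sum_bv a] at key
  -- an element of `G` moving the axis `e_l` to `e₀`
  obtain ⟨hg0, hgm⟩ := R1 (ones n F - bv (⟨0, h0⟩ : Fin n)) (by
    rw [Pi.sub_apply, bv_self]; show (1 : F) - 1 = 0; rw [sub_self])
  have hgG : tvSL (bv (⟨0, h0⟩ : Fin n) : Fin n → F) (ones n F - bv (⟨0, h0⟩ : Fin n)) hg0 1 * w ∈ G :=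
    G.mul_mem hgm hw
  have hg1 : (bv (⟨0, h0⟩ : Fin n) : Fin n → F) ᵥ*
      (↑(tvSL (bv (⟨0, h0⟩ : Fin n) : Fin n → F) (ones n F - bv (⟨0, h0⟩ : Fin n)) hg0 1 * w) :
        Matrix (Fin n) (Fin n) F) = bv (⟨n - 1, hl⟩ : Fin n) := by
    rw [Matrix.SpecialLinearGroup.coe_mul, ← vecMul_vecMul, vecMul_tvSL, bv_dot_bv_self, mul_one,
      one_smul, add_sub_cancel, W2]
  -- the first column
  have C1 : ∀ b : Fin n → F, b (⟨0, h0⟩ : Fin n) = 0 →
      Has G b (bv (⟨0, h0⟩ : Fin n)) := by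
    intro b hb
    have hel := hg1
    generalize tvSL (bv (⟨0, h0⟩ : Fin n) : Fin n → F) (ones n F - bv (⟨0, h0⟩ : Fin n)) hg0 1 * w
      = g at hgG hel
    have hel' : (bv (⟨n - 1, hl⟩ : Fin n) : Fin n → F) ᵥ* (↑(g⁻¹) : Matrix (Fin n) (Fin n) F) =
        bv (⟨0, h0⟩ : Fin n) := by
      rw [← hel, vecMul_vecMul, coe_mul_coe_inv, vecMul_one]
    have ha : ((↑(g⁻¹) : Matrix (Fin n) (Fin n) F) *ᵥ b) (⟨n - 1, hl⟩ : Fin n) = 0 := by
      rw [← bv_dot (⟨n - 1, hl⟩ : Fin n) ((↑(g⁻¹) : Matrix (Fin n) (Fin n) F) *ᵥ b),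
        dotProduct_mulVec, hel', bv_dot]
      exact hb
    have k1 := (Rn _ ha).conj hgG hel
    rwa [mulVec_mulVec, coe_mul_coe_inv, one_mulVec] at k1
  -- everything
  apply eq_top_of_has
  intro i j hij c
  by_cases hi : i = (⟨0, h0⟩ : Fin n)
  · subst hi
    have hj1 : 1 ≤ (j : ℕ) := by
      rcases j with ⟨j, hj'⟩
      have : j ≠ 0 := fun e => hij (Fin.ext e.symm)
      show 1 ≤ j
      omega
    have hj2 : (j : ℕ) + (n - 1 - (j : ℕ)) = n - 1 := by have := j.2; omega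
    exact rowC (n - 1 - (j : ℕ)) (j : ℕ) hj2 hj1 c
  · have hci : (c • (bv i : Fin n → F)) (⟨0, h0⟩ : Fin n) = 0 := by
      rw [Pi.smul_apply, bv_ne hi, smul_zero]
    by_cases hj : j = (⟨0, h0⟩ : Fin n)
    · subst hj
      exact C1 _ hci
    · have k1 := C1 _ hci
      have k2 := R1 (bv j) (bv_ne hj)
      have hdot : (bv j : Fin n → F) ⬝ᵥ (c • (bv i : Fin n → F)) = 0 := by
        rw [dotProduct_smul, bv_dot_bv hij, smul_zero]
      have k3 := k1.comm k2 hdot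
      rwa [bv_dot_bv_self, one_smul] at k3

end Cfsg.Agent.Lib.Helper5.RegUni
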