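/-
helper5: `SL_3(F)`, `F` a finite field of characteristic `2`, is generated by two conjugate
regular unipotent elements (via `RegUniC.core`).
-/
import Mathlib
import Cfsg.Agent.Lib.Helper5.RegUni3A
import Cfsg.Agent.Lib.Helper5.RegUniC

set_option autoImplicit false

namespace Cfsg.Agent.Lib.Helper5.RegUni3

open Matrix
open Cfsg.Agent.Lib.Helper25.SLRoot
open Cfsg.Agent.Lib.Helper5.RegUni

variable {F : Type*} [Field F]

theorem wM_three : wM 3 F = !![1, 0, 0; -1, 1, 0; 0, -1, 1] := by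
  ext i j
  fin_cases i <;> fin_cases j <;> simp [wM, Nm_apply]

theorem even_cube (z : F) :
    ((!![1, 1, z; 0, 1, 1; 0, 0, 1] : Matrix (Fin 3) (Fin 3) F) - 1) ^ 3 = 0 := by
  have e : (!![1, 1, z; 0, 1, 1; 0, 0, 1] : Matrix (Fin 3) (Fin 3) F) - 1 =
      !![0, 1, z; 0, 0, 1; 0, 0, 0] := by
    ext i j
    fin_cases i <;> fin_cases j <;> simp
  rw [e, pow_succ, pow_two]
  ext i j
  fin_cases i <;> fin_cases j <;> simp [Matrix.mul_apply, Fin.sum_univ_three]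

theorem even_sq (z : F) :
    ((!![1, 1, z; 0, 1, 1; 0, 0, 1] : Matrix (Fin 3) (Fin 3) F) - 1) ^ 2 ≠ 0 := by
  intro h
  have h02 := congrFun (congrFun h 0) 2
  simp [pow_two, Matrix.mul_apply, Fin.sum_univ_three] at h02

theorem two_conj_even [Fintype F] (h2 : (2 : F) = 0) :
    ∃ u g : Matrix.SpecialLinearGroup (Fin 3) F,
      IsNilpotent ((u : Matrix (Fin 3) (Fin 3) F) - 1) ∧
      ((u : Matrix (Fin 3) (Fin 3) F) - 1) ^ (3 - 1) ≠ 0 ∧
      Subgroup.closure ({u, g * u * g⁻¹} : Set (Matrix.SpecialLinearGroup (Fin 3) F)) = ⊤ := by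
  classical
  obtain ⟨ζ, hζ⟩ := IsCyclic.exists_monoid_generator (α := Fˣ)
  obtain ⟨z, hz⟩ : ∃ z : F, z = (ζ : F) := ⟨_, rfl⟩
  obtain ⟨uS, huS⟩ : ∃ uS : Matrix.SpecialLinearGroup (Fin 3) F,
      (↑uS : Matrix (Fin 3) (Fin 3) F) = !![1, 1, z; 0, 1, 1; 0, 0, 1] :=
    ⟨⟨!![1, 1, z; 0, 1, 1; 0, 0, 1], by rw [Matrix.det_fin_three]; simp⟩, rfl⟩
  obtain ⟨gS, hgS⟩ : ∃ gS : Matrix.SpecialLinearGroup (Fin 3) F,
      (↑gS : Matrix (Fin 3) (Fin 3) F) = !![0, 0, 1; 0, 1, 0; 1, z, 0] :=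
    ⟨⟨!![0, 0, 1; 0, 1, 0; 1, z, 0], by
      rw [Matrix.det_fin_three]; simp; linear_combination (-1 : F) * h2⟩, rfl⟩
  have hid : (↑gS : Matrix (Fin 3) (Fin 3) F) * (↑uS : Matrix (Fin 3) (Fin 3) F) =
      wM 3 F * (↑gS : Matrix (Fin 3) (Fin 3) F) := by
    rw [hgS, huS, wM_three]
    ext i j
    fin_cases i <;> fin_cases j <;> simp [Matrix.mul_apply, Fin.sum_univ_three] <;>
      (first | ring1 | linear_combination h2 | linear_combination (-1 : F) * h2 |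
        linear_combination z * h2 | linear_combination (-z) * h2)
  obtain ⟨wS, hwS⟩ : ∃ wS : Matrix.SpecialLinearGroup (Fin 3) F, wS = gS * uS * gS⁻¹ :=
    ⟨_, rfl⟩
  have hwM : (↑wS : Matrix (Fin 3) (Fin 3) F) = wM 3 F := by
    rw [hwS, Matrix.SpecialLinearGroup.coe_mul, Matrix.SpecialLinearGroup.coe_mul, hid,
      mul_assoc, coe_mul_coe_inv, mul_one]
  obtain ⟨G, hG⟩ : ∃ G : Subgroup (Matrix.SpecialLinearGroup (Fin 3) F),
      G = Subgroup.closure ({uS, gS * uS * gS⁻¹} : Set (Matrix.SpecialLinearGroup (Fin 3) F)) :=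
    ⟨_, rfl⟩
  have hu : uS ∈ G := by rw [hG]; exact Subgroup.subset_closure (by simp)
  have hw : wS ∈ G := by rw [hG, hwS]; exact Subgroup.subset_closure (by simp)
  have U1 : (↑uS : Matrix (Fin 3) (Fin 3) F) *ᵥ bv (0 : Fin 3) = bv (0 : Fin 3) := by
    rw [bv0, huS, mulVec3]
    exact vec3_congr (by ring) (by ring) (by ring)
  have U2 : (↑uS : Matrix (Fin 3) (Fin 3) F) *ᵥ bv (1 : Fin 3) =
      bv (1 : Fin 3) - bv (0 : Fin 3) := by
    rw [bv0, bv1, huS, mulVec3, sub3]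
    exact vec3_congr (by linear_combination h2) (by ring) (by ring)
  have U3 : (bv (2 : Fin 3) : Fin 3 → F) ᵥ* (↑uS : Matrix (Fin 3) (Fin 3) F) =
      bv (2 : Fin 3) := by
    rw [bv2, huS, vecMul3]
    exact vec3_congr (by ring) (by ring) (by ring)
  have wV : ∀ x y t : F, (↑wS : Matrix (Fin 3) (Fin 3) F) *ᵥ ![x, y, t] =
      ![1 * x + 0 * y + 0 * t, -1 * x + 1 * y + 0 * t, 0 * x + -1 * y + 1 * t] := by
    intro x y t
    rw [hwM, wM_three, mulVec3]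
  have wC : ∀ p q r : F, ![p, q, r] ᵥ* (↑wS : Matrix (Fin 3) (Fin 3) F) =
      ![p * 1 + q * -1 + r * 0, p * 0 + q * 1 + r * -1, p * 0 + q * 0 + r * 1] := by
    intro p q r
    rw [hwM, wM_three, vecMul3]
  have d0 : ![0, 0, 1] ⬝ᵥ ![1, 0, 0] = (0 : F) := by rw [dot3]; ring
  have hsq : tvSL ![1, 0, 0] ![0, 0, 1] d0 1 = uS * uS := by
    apply Subtype.ext
    rw [Matrix.SpecialLinearGroup.coe_mul, tvSL_coe, tv3, huS]
    ext i j
    fin_cases i <;> fin_cases j <;> simp [Matrix.mul_apply, Fin.sum_univ_three] <;>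
      (first | ring1 | linear_combination h2 | linear_combination (-1 : F) * h2 |
        linear_combination z * h2 | linear_combination (-z) * h2)
  have H0 : Has G ![1, 0, 0] ![0, 0, 1] := ⟨d0, by rw [hsq]; exact G.mul_mem hu hu⟩
  have H1 : Has G ![1, -1, 0] ![1, 1, 1] := by
    have k := H0.conj hw (ω := ![1, 1, 1])
      (by rw [wC]; exact vec3_congr (by ring) (by ring) (by ring))
    rw [wV] at k
    refine cast3 k ?_ ?_ ?_ ?_ ?_ ?_ ?_ ?_ ?_ <;> ring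
  have X12 : Has G ![0, 1, 0] ![0, 0, 1] := by
    have k := H1.comm H0 (by rw [dot3]; ring)
    rw [dot3, smul3] at k
    have k2 := neg_vec3 (sub_vec3 k H0)
    refine cast3 k2 ?_ ?_ ?_ ?_ ?_ ?_ ?_ ?_ ?_ <;> ring
  have H3 : Has G ![1, 1, 1] ![0, -1, 1] := by
    have k := H0.conj_inv hw (v' := ![1, 1, 1])
      (by rw [wV]; exact vec3_congr (by ring) (by ring) (by ring))
    rw [wC] at k
    refine cast3 k ?_ ?_ ?_ ?_ ?_ ?_ ?_ ?_ ?_ <;> ring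
  have X01 : Has G ![1, 0, 0] ![0, 1, 0] := by
    have k := H0.comm H3 (by rw [dot3]; ring)
    rw [dot3, smul3] at k
    have k1 : Has G ![1, 0, 0] ![0, -1, 1] := by
      refine cast3 k ?_ ?_ ?_ ?_ ?_ ?_ ?_ ?_ ?_ <;> ring
    have k2 := neg_cov3 (sub_cov3 k1 H0)
    refine cast3 k2 ?_ ?_ ?_ ?_ ?_ ?_ ?_ ?_ ?_ <;> ring
  obtain ⟨h01, m01⟩ := X01
  obtain ⟨h12, m12⟩ := X12
  have d1 : ![0, 0, 1] ⬝ᵥ ![z - 1, 0, 0] = (0 : F) := by rw [dot3]; ring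
  have hf : tvSL ![z - 1, 0, 0] ![0, 0, 1] d1 1 *
      (tvSL ![1, 0, 0] ![0, 1, 0] h01 1 * tvSL ![0, 1, 0] ![0, 0, 1] h12 1) = uS := by
    apply Subtype.ext
    rw [Matrix.SpecialLinearGroup.coe_mul, Matrix.SpecialLinearGroup.coe_mul, tvSL_coe,
      tvSL_coe, tvSL_coe, tv3, tv3, tv3, huS]
    ext i j
    fin_cases i <;> fin_cases j <;> simp [Matrix.mul_apply, Fin.sum_univ_three]
  have Hz1 : Has G ![z - 1, 0, 0] ![0, 0, 1] :=
    ⟨d1, by
      rw [eq_mul_inv_of_mul_eq hf]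
      exact G.mul_mem hu (G.inv_mem (G.mul_mem m01 m12))⟩
  have Hz : Has G ![z, 0, 0] ![0, 0, 1] := by
    have k := add_vec3 Hz1 H0
    refine cast3 k ?_ ?_ ?_ ?_ ?_ ?_ ?_ ?_ ?_ <;> ring
  have A0 : Has G ((ζ : F) • (bv (0 : Fin 3) : Fin 3 → F)) (bv (2 : Fin 3)) := by
    rw [bv0, bv2, smul3, ← hz]
    refine cast3 Hz ?_ ?_ ?_ ?_ ?_ ?_ ?_ ?_ ?_ <;> ring
  refine ⟨uS, gS, ?_, ?_, ?_⟩
  · rw [huS]
    exact ⟨3, even_cube z⟩
  · rw [huS]
    exact even_sq z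
  · rw [← hG]
    exact core (n := 3) (by norm_num) hu hw U1 U2 U3 hwM ζ hζ A0

end Cfsg.Agent.Lib.Helper5.RegUni3
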