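/-
helper5: `SL_n(F)` (`n ≥ 3`, `F` finite) is generated by three conjugate regular unipotent
elements (`S2280`): `u = D⁻¹(1 - N)D`, `u (1 + ζ E_{0l})` and `w = 1 - Nᵀ`.
-/
import Mathlib
import Cfsg.Agent.Lib.Helper5.RegUniC

set_option autoImplicit false

namespace Cfsg.Agent.Lib.Helper5.RegUni

open Matrix
open Cfsg.Agent.Lib.Helper25.SLRoot

variable {F : Type*} [Field F] {n : ℕ}

/-- `diag(1,…,1,δ)`. -/
def dv (n : ℕ) (δ : F) : Fin n → F := fun i => if (i : ℕ) + 1 = n then δ else 1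

def Dm (n : ℕ) (δ : F) : Matrix (Fin n) (Fin n) F := diagonal (dv n δ)

theorem Dm_mul_Dm_inv {δ : F} (hδ : δ ≠ 0) : Dm n δ * Dm n δ⁻¹ = 1 := by
  unfold Dm
  rw [diagonal_mul_diagonal, ← diagonal_one]
  congr 1
  ext i
  unfold dv
  split_ifs
  · exact mul_inv_cancel₀ hδ
  · exact mul_one 1

theorem Dm_inv_mul_Dm {δ : F} (hδ : δ ≠ 0) : Dm n δ⁻¹ * Dm n δ = 1 := by
  have := Dm_mul_Dm_inv (n := n) (inv_ne_zero hδ)
  rwa [inv_inv] at this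

theorem det_Dm (hn : 1 ≤ n) (δ : F) : (Dm n δ).det = δ := by
  unfold Dm
  rw [det_diagonal, Finset.prod_eq_single (⟨n - 1, by omega⟩ : Fin n)]
  · unfold dv
    rw [if_pos]
    show n - 1 + 1 = n
    omega
  · intro b _ hb
    unfold dv
    rw [if_neg]
    intro e
    apply hb
    apply Fin.ext
    show (b : ℕ) = n - 1
    omega
  · intro h'
    exact absurd (Finset.mem_univ _) h'

/-- the upper regular unipotent `D⁻¹ (1 - N) D`. -/
def uM (n : ℕ) (δ : F) : Matrix (Fin n) (Fin n) F := Dm n δ⁻¹ * (1 - Nm n F) * Dm n δ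

theorem uM_apply {δ : F} (hδ : δ ≠ 0) (i j : Fin n) :
    uM n δ i j = if i = j then 1 else
      if (i : ℕ) + 1 = j then (if (j : ℕ) + 1 = n then -δ else -1) else 0 := by
  unfold uM Dm
  rw [mul_diagonal, diagonal_mul, Matrix.sub_apply, one_apply, Nm_apply]
  unfold dv
  have hj := j.2
  by_cases hij : i = j
  · subst hij
    have e1 : ¬ ((i : ℕ) + 1 = (i : ℕ)) := by omega
    simp only [if_true, e1, if_false, sub_zero, mul_one]
    split_ifs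
    · exact inv_mul_cancel₀ hδ
    · exact mul_one 1
  · by_cases h1 : (i : ℕ) + 1 = j
    · have e2 : ¬ ((i : ℕ) + 1 = n) := by omega
      rw [if_neg e2, if_neg hij, if_pos h1, if_neg hij, if_pos h1, zero_sub, one_mul]
      split_ifs <;> simp
    · simp only [hij, h1, if_false, sub_zero, mul_zero, zero_mul]

theorem uM_mulVec_bv0 {δ : F} (hδ : δ ≠ 0) (h0 : 0 < n) :
    uM n δ *ᵥ (bv (⟨0, h0⟩ : Fin n) : Fin n → F) = bv (⟨0, h0⟩ : Fin n) := by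
  unfold bv
  rw [mulVec_single_one]
  ext i
  rw [Matrix.col_apply, uM_apply hδ, Pi.single_apply]
  simp only [Fin.ext_iff]
  split_ifs <;> first | (exfalso; omega) | rfl

theorem uM_mulVec_bv1 {δ : F} (hδ : δ ≠ 0) (hn : 3 ≤ n) :
    uM n δ *ᵥ (bv (⟨1, by omega⟩ : Fin n) : Fin n → F) =
      bv (⟨1, by omega⟩ : Fin n) - bv (⟨0, by omega⟩ : Fin n) := by
  unfold bv
  rw [mulVec_single_one]
  ext i
  rw [Matrix.col_apply, uM_apply hδ, Pi.sub_apply, Pi.single_apply, Pi.single_apply]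
  simp only [Fin.ext_iff]
  split_ifs <;> first | (exfalso; omega) | simp

theorem bvl_vecMul_uM {δ : F} (hδ : δ ≠ 0) (hl : n - 1 < n) :
    (bv (⟨n - 1, hl⟩ : Fin n) : Fin n → F) ᵥ* uM n δ = bv (⟨n - 1, hl⟩ : Fin n) := by
  unfold bv
  rw [single_one_vecMul]
  ext j
  rw [Matrix.row_apply, uM_apply hδ, Pi.single_apply]
  simp only [Fin.ext_iff]
  have := j.2
  split_ifs <;> first | (exfalso; omega) | rfl

theorem bvl'_vecMul_uM {δ : F} (hδ : δ ≠ 0) (hn : 3 ≤ n) :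
    (bv (⟨n - 2, by omega⟩ : Fin n) : Fin n → F) ᵥ* uM n δ =
      bv (⟨n - 2, by omega⟩ : Fin n) - δ • bv (⟨n - 1, by omega⟩ : Fin n) := by
  unfold bv
  rw [single_one_vecMul]
  ext j
  rw [Matrix.row_apply, uM_apply hδ, Pi.sub_apply, Pi.smul_apply, Pi.single_apply, Pi.single_apply]
  simp only [Fin.ext_iff]
  have := j.2
  split_ifs <;> first | (exfalso; omega) | simp

theorem uM_det {δ : F} (hδ : δ ≠ 0) : (uM n δ).det = 1 := by
  rw [det_of_isUpperTriangular]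
  · apply Finset.prod_eq_one
    intro i _
    rw [uM_apply hδ, if_pos rfl]
  · intro i j hij
    have hij' : (j : ℕ) < (i : ℕ) := hij
    rw [uM_apply hδ, if_neg, if_neg]
    · omega
    · intro e
      rw [e] at hij'
      exact lt_irrefl _ hij'

theorem uM_sub_one {δ : F} (hδ : δ ≠ 0) :
    uM n δ - 1 = -(Dm n δ⁻¹ * Nm n F * Dm n δ) := by
  unfold uM
  rw [mul_sub, sub_mul, mul_one, Dm_inv_mul_Dm hδ]
  abel

theorem conj_pow {δ : F} (hδ : δ ≠ 0) (k : ℕ) :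
    (Dm n δ⁻¹ * Nm n F * Dm n δ) ^ k = Dm n δ⁻¹ * Nm n F ^ k * Dm n δ := by
  induction k with
  | zero => rw [pow_zero, pow_zero, mul_one, Dm_inv_mul_Dm hδ]
  | succ k ih =>
    rw [pow_succ, ih, pow_succ]
    simp only [mul_assoc]
    rw [← mul_assoc (Dm n δ) (Dm n δ⁻¹), Dm_mul_Dm_inv hδ, one_mul]

theorem uM_nilpotent {δ : F} (hδ : δ ≠ 0) : IsNilpotent (uM n δ - 1) := by
  refine ⟨n, ?_⟩
  rw [uM_sub_one hδ, neg_pow, conj_pow hδ, Nm_pow_self, mul_zero, zero_mul, mul_zero]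

theorem uM_pow_ne {δ : F} (hδ : δ ≠ 0) (hn : 1 ≤ n) : (uM n δ - 1) ^ (n - 1) ≠ 0 := by
  intro e
  rw [uM_sub_one hδ, neg_pow, conj_pow hδ, neg_one_pow_mul_eq_zero_iff] at e
  apply Nm_pow_pred_ne (F := F) hn
  have : Nm n F ^ (n - 1) =
      Dm n δ * (Dm n δ⁻¹ * Nm n F ^ (n - 1) * Dm n δ) * Dm n δ⁻¹ := by
    simp only [mul_assoc]
    rw [Dm_mul_Dm_inv hδ, mul_one, ← mul_assoc, Dm_mul_Dm_inv hδ, one_mul]
  rw [this, e, mul_zero, zero_mul]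

/-- the reversal permutation matrix. -/
def Jm (n : ℕ) (F : Type*) [Field F] : Matrix (Fin n) (Fin n) F :=
  (Fin.revPerm : Equiv.Perm (Fin n)).permMatrix F

theorem Jm_mul_Nm : Jm n F * Nm n F = (Nm n F)ᵀ * Jm n F := by
  unfold Jm Equiv.Perm.permMatrix
  rw [PEquiv.toMatrix_toPEquiv_mul, PEquiv.mul_toMatrix_toPEquiv]
  ext i j
  simp only [submatrix_apply, id, transpose_apply, Nm_apply, Fin.revPerm_symm, Fin.revPerm_apply,
    Fin.val_rev]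
  have := i.2
  have := j.2
  congr 1
  apply propext
  constructor <;> intro h <;> omega

theorem det_Jm_ne : (Jm n F).det ≠ 0 := by
  unfold Jm
  rw [det_permutation]
  rcases Int.units_eq_one_or (Equiv.Perm.sign (Fin.revPerm : Equiv.Perm (Fin n))) with h | h <;>
    rw [h] <;> simp

theorem hM_mul_uM {δ : F} (hδ : δ ≠ 0) :
    Jm n F * Dm n δ * uM n δ = wM n F * (Jm n F * Dm n δ) := by
  unfold uM wM
  calc Jm n F * Dm n δ * (Dm n δ⁻¹ * (1 - Nm n F) * Dm n δ)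
      = Jm n F * ((Dm n δ * Dm n δ⁻¹) * (1 - Nm n F)) * Dm n δ := by simp only [mul_assoc]
    _ = Jm n F * (1 - Nm n F) * Dm n δ := by rw [Dm_mul_Dm_inv hδ, one_mul]
    _ = (1 - (Nm n F)ᵀ) * Jm n F * Dm n δ := by rw [mul_sub, mul_one, Jm_mul_Nm, sub_mul (1 : Matrix (Fin n) (Fin n) F), one_mul]
    _ = (1 - (Nm n F)ᵀ) * (Jm n F * Dm n δ) := by rw [mul_assoc]

theorem three_conj_regular_unipotent [Fintype F] (n : ℕ) (hn : 3 ≤ n) :
    ∃ u g h : Matrix.SpecialLinearGroup (Fin n) F,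
      (IsNilpotent ((u : Matrix (Fin n) (Fin n) F) - 1) ∧
        ((u : Matrix (Fin n) (Fin n) F) - 1) ^ (n - 1) ≠ 0) ∧
      Subgroup.closure ({u, g * u * g⁻¹, h * u * h⁻¹} :
        Set (Matrix.SpecialLinearGroup (Fin n) F)) = ⊤ := by
  classical
  obtain ⟨ζ, hζ⟩ := IsCyclic.exists_monoid_generator (α := Fˣ)
  have h0 : 0 < n := by omega
  have hl : n - 1 < n := by omega
  have hl' : n - 2 < n := by omega
  obtain ⟨δ, hδdef⟩ : ∃ δ : F, δ = ((Jm n F).det)⁻¹ := ⟨_, rfl⟩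
  have hδ : δ ≠ 0 := by rw [hδdef]; exact inv_ne_zero det_Jm_ne
  obtain ⟨uS, huS⟩ : ∃ uS : Matrix.SpecialLinearGroup (Fin n) F,
      (↑uS : Matrix (Fin n) (Fin n) F) = uM n δ := ⟨⟨uM n δ, uM_det hδ⟩, rfl⟩
  obtain ⟨hS, hhS⟩ : ∃ hS : Matrix.SpecialLinearGroup (Fin n) F,
      (↑hS : Matrix (Fin n) (Fin n) F) = Jm n F * Dm n δ :=
    ⟨⟨Jm n F * Dm n δ, by
      rw [det_mul, det_Dm (by omega), hδdef, mul_inv_cancel₀ det_Jm_ne]⟩, rfl⟩
  obtain ⟨β, hβdef⟩ : ∃ β : F, β = -(ζ : F) * δ⁻¹ := ⟨_, rfl⟩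
  have hβδ : β * δ = -(ζ : F) := by
    rw [hβdef, mul_assoc, inv_mul_cancel₀ hδ, mul_one]
  have hgdot : (bv (⟨n - 2, hl'⟩ : Fin n) : Fin n → F) ⬝ᵥ (β • bv (⟨0, h0⟩ : Fin n)) = 0 := by
    rw [dotProduct_smul, bv_dot_bv (mk_ne _ _ (by omega)), smul_zero]
  obtain ⟨gS, hgS⟩ : ∃ gS : Matrix.SpecialLinearGroup (Fin n) F,
      gS = tvSL (β • (bv (⟨0, h0⟩ : Fin n) : Fin n → F)) (bv (⟨n - 2, hl'⟩ : Fin n)) hgdot 1 :=
    ⟨_, rfl⟩
  refine ⟨uS, gS, hS, ⟨?_, ?_⟩, ?_⟩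
  · rw [huS]; exact uM_nilpotent hδ
  · rw [huS]; exact uM_pow_ne hδ (by omega)
  have hu : uS ∈ Subgroup.closure ({uS, gS * uS * gS⁻¹, hS * uS * hS⁻¹} :
      Set (Matrix.SpecialLinearGroup (Fin n) F)) := Subgroup.subset_closure (by simp)
  have hu2 : gS * uS * gS⁻¹ ∈ Subgroup.closure ({uS, gS * uS * gS⁻¹, hS * uS * hS⁻¹} :
      Set (Matrix.SpecialLinearGroup (Fin n) F)) := Subgroup.subset_closure (by simp)
  have hw : hS * uS * hS⁻¹ ∈ Subgroup.closure ({uS, gS * uS * gS⁻¹, hS * uS * hS⁻¹} :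
      Set (Matrix.SpecialLinearGroup (Fin n) F)) := Subgroup.subset_closure (by simp)
  have U1 : (↑uS : Matrix (Fin n) (Fin n) F) *ᵥ bv (⟨0, h0⟩ : Fin n) = bv (⟨0, h0⟩ : Fin n) := by
    rw [huS]; exact uM_mulVec_bv0 hδ h0
  have U2 : (↑uS : Matrix (Fin n) (Fin n) F) *ᵥ bv (⟨1, by omega⟩ : Fin n) =
      bv (⟨1, by omega⟩ : Fin n) - bv (⟨0, h0⟩ : Fin n) := by
    rw [huS]; exact uM_mulVec_bv1 hδ hn
  have U3 : (bv (⟨n - 1, hl⟩ : Fin n) : Fin n → F) ᵥ* (↑uS : Matrix (Fin n) (Fin n) F) =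
      bv (⟨n - 1, hl⟩ : Fin n) := by
    rw [huS]; exact bvl_vecMul_uM hδ hl
  have U4 : (bv (⟨n - 2, hl'⟩ : Fin n) : Fin n → F) ᵥ* (↑uS : Matrix (Fin n) (Fin n) F) =
      bv (⟨n - 2, hl'⟩ : Fin n) - δ • bv (⟨n - 1, hl⟩ : Fin n) := by
    rw [huS]; exact bvl'_vecMul_uM hδ hn
  have hwM : (↑(hS * uS * hS⁻¹) : Matrix (Fin n) (Fin n) F) = wM n F := by
    rw [Matrix.SpecialLinearGroup.coe_mul, Matrix.SpecialLinearGroup.coe_mul, huS, hhS,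
      hM_mul_uM hδ, ← hhS, mul_assoc, coe_mul_coe_inv, mul_one]
  have hA : (bv (⟨n - 1, hl⟩ : Fin n) : Fin n → F) ⬝ᵥ ((ζ : F) • bv (⟨0, h0⟩ : Fin n)) = 0 := by
    rw [dotProduct_smul, bv_dot_bv (mk_ne _ _ (by omega)), smul_zero]
  have key : uS⁻¹ * (gS * uS * gS⁻¹) =
      tvSL ((ζ : F) • (bv (⟨0, h0⟩ : Fin n) : Fin n → F)) (bv (⟨n - 1, hl⟩ : Fin n)) hA 1 := by
    have e1 : uS⁻¹ * (gS * uS * gS⁻¹) = (uS⁻¹ * gS * (uS⁻¹)⁻¹) * gS⁻¹ := by group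
    have hv : (↑(uS⁻¹) : Matrix (Fin n) (Fin n) F) *ᵥ (β • bv (⟨0, h0⟩ : Fin n)) =
        β • bv (⟨0, h0⟩ : Fin n) := by
      rw [mulVec_smul]
      congr 1
      conv_lhs => rw [← U1]
      rw [mulVec_mulVec, coe_inv_mul_coe, one_mulVec]
    rw [e1, hgS, conj_tvSL, tvSL_inv]
    apply Subtype.ext
    rw [Matrix.SpecialLinearGroup.coe_mul]
    show tvMat _ _ 1 * tvMat _ _ (-1) = tvMat _ _ 1
    rw [hv, inv_inv, U4, tvMat_mul]
    have hd : ((bv (⟨n - 2, hl'⟩ : Fin n) : Fin n → F) - δ • bv (⟨n - 1, hl⟩ : Fin n)) ⬝ᵥ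
        (β • bv (⟨0, h0⟩ : Fin n)) = 0 := by
      rw [dotProduct_smul, sub_dotProduct, smul_dotProduct, bv_dot_bv (mk_ne _ _ (by omega)),
        bv_dot_bv (mk_ne _ _ (by omega)), smul_zero, sub_zero, smul_zero]
    rw [hd, mul_zero, zero_smul, add_zero]
    unfold tvMat
    ext i j
    simp only [Matrix.add_apply, Matrix.smul_apply, vecMulVec_apply, Pi.smul_apply, Pi.sub_apply, smul_eq_mul]
    linear_combination (-((bv (⟨0, h0⟩ : Fin n) : Fin n → F) i *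
      (bv (⟨n - 1, hl⟩ : Fin n) : Fin n → F) j)) * hβδ
  have A0 : Has (Subgroup.closure ({uS, gS * uS * gS⁻¹, hS * uS * hS⁻¹} :
      Set (Matrix.SpecialLinearGroup (Fin n) F)))
      ((ζ : F) • (bv (⟨0, h0⟩ : Fin n) : Fin n → F)) (bv (⟨n - 1, hl⟩ : Fin n)) := by
    refine ⟨hA, ?_⟩
    rw [← key]
    exact Subgroup.mul_mem _ (Subgroup.inv_mem _ hu) hu2
  exact core hn hu hw U1 U2 U3 hwM ζ hζ A0

end Cfsg.Agent.Lib.Helper5.RegUni
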