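/-
helper5: tools for `S2279` (`SL_n(F)`, `n ≥ 4`, is generated by two conjugate regular unipotents):
* `core_noloop`: a subgroup of `SL_n(F)` (`n ≥ 3`) containing the lower regular unipotent `1 - Nᵀ`
  and the full long root group `1 + γ E_{0l}` is everything;
* `one_add_mul_pow`: powers of `1 + A P`;
* `quad_frob`: a matrix `A` over a finite field with `q` elements satisfying `A² = τ A - 1`,
  `τ² ≠ 4`, satisfies `A^(q²) = A`.
-/
import Mathlib
import Cfsg.Agent.Lib.Helper5.RegUniC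

set_option autoImplicit false

namespace Cfsg.Agent.Lib.Helper5.RegUni

open Matrix
open Cfsg.Agent.Lib.Helper25.SLRoot

section Core

variable {F : Type*} [Field F] {n : ℕ}

theorem core_noloop (hn : 3 ≤ n) {G : Subgroup (Matrix.SpecialLinearGroup (Fin n) F)}
    {w : Matrix.SpecialLinearGroup (Fin n) F} (hw : w ∈ G)
    (hwM : (↑w : Matrix (Fin n) (Fin n) F) = wM n F)
    (A : ∀ γ : F, Has G (γ • (bv (⟨0, by omega⟩ : Fin n) : Fin n → F))
      (bv (⟨n - 1, by omega⟩ : Fin n))) : G = ⊤ := by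
  have h0 : 0 < n := by omega
  have h1 : 1 < n := by omega
  have hl : n - 1 < n := by omega
  haveI : Nontrivial (Fin n) := Fin.nontrivial_iff_two_le.2 (by omega)
  have W2 : ones n F ᵥ* (↑w : Matrix (Fin n) (Fin n) F) = bv (⟨n - 1, hl⟩ : Fin n) := by
    rw [hwM]; exact ones_vecMul_wM (by omega)
  have W4 : ∀ γ : F, (↑w : Matrix (Fin n) (Fin n) F) *ᵥ (γ • ones n F) =
      γ • bv (⟨0, h0⟩ : Fin n) := by
    intro γ
    rw [mulVec_smul, hwM, wM_mulVec_ones (by omega)]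
  have A1 : Has G (bv (⟨0, h0⟩ : Fin n) : Fin n → F) (bv (⟨n - 1, hl⟩ : Fin n)) := by
    have := A 1
    rwa [one_smul] at this
  -- the last column
  have colB : ∀ (k : ℕ) (hk : k + 1 < n) (γ : F),
      Has G (γ • (bv (⟨k, by omega⟩ : Fin n) : Fin n → F)) (bv (⟨n - 1, hl⟩ : Fin n)) := by
    intro k
    induction k with
    | zero => intro hk γ; exact A γ
    | succ k ih =>
      intro hk γ
      have IH := ih (by omega) γ
      have k1 := IH.conj hw W2
      rw [mulVec_smul, hwM, wM_mulVec_bv k (by omega)] at k1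
      have hdot : (bv (⟨n - 1, hl⟩ : Fin n) : Fin n → F) ⬝ᵥ
          (γ • ((bv (⟨k, by omega⟩ : Fin n) : Fin n → F) - bv (⟨k + 1, by omega⟩ : Fin n))) = 0 := by
        rw [dotProduct_smul, dotProduct_sub, bv_dot_bv (mk_ne _ _ (by omega)),
          bv_dot_bv (mk_ne _ _ (by omega)), sub_zero, smul_zero]
      have k2 := k1.comm A1 hdot
      rw [ones_dot_bv, one_smul] at k2
      have k3 := IH.sub_vec k2
      have e : γ • (bv (⟨k, by omega⟩ : Fin n) : Fin n → F) -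
          γ • ((bv (⟨k, by omega⟩ : Fin n) : Fin n → F) - bv (⟨k + 1, by omega⟩ : Fin n)) =
          γ • (bv (⟨k + 1, by omega⟩ : Fin n) : Fin n → F) := by
        module
      rwa [e] at k3
  -- the first row
  have rowC : ∀ (d m : ℕ) (hm : m + d = n - 1) (hm1 : 1 ≤ m) (γ : F),
      Has G (γ • (bv (⟨0, h0⟩ : Fin n) : Fin n → F)) (bv (⟨m, by omega⟩ : Fin n)) := by
    intro d
    induction d with
    | zero =>
      intro m hm hm1 γ
      have : (⟨m, by omega⟩ : Fin n) = ⟨n - 1, hl⟩ := Fin.ext (by show m = n - 1; omega)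
      rw [this]
      exact A γ
    | succ d ih =>
      intro m hm hm1 γ
      have IH := ih (m + 1) (by omega) (by omega) γ
      have k1 := IH.conj_inv hw (W4 γ)
      rw [hwM, bv_vecMul_wM m (by omega)] at k1
      have hdot : ((bv (⟨m + 1, by omega⟩ : Fin n) : Fin n → F) - bv (⟨m, by omega⟩ : Fin n)) ⬝ᵥ
          (bv (⟨0, h0⟩ : Fin n) : Fin n → F) = 0 := by
        rw [sub_dotProduct, bv_dot_bv (mk_ne _ _ (by omega)),
          bv_dot_bv (mk_ne _ _ (by omega)), sub_zero]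
      have k2 := A1.comm k1 hdot
      rw [dotProduct_smul, bv_dot_ones, smul_eq_mul, mul_one] at k2
      have k3 := IH.sub_cov k2
      rwa [sub_sub_cancel] at k3
  -- all transvections with centre `e₀`
  have R1 : ∀ φ : Fin n → F, φ (⟨0, h0⟩ : Fin n) = 0 →
      Has G (bv (⟨0, h0⟩ : Fin n) : Fin n → F) φ := by
    intro φ hφ
    have key : Has G (bv (⟨0, h0⟩ : Fin n) : Fin n → F) (∑ j, φ j • (bv j : Fin n → F)) := by
      apply Has.sum_cov
      intro j _
      by_cases hj : j = (⟨0, h0⟩ : Fin n)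
      · rw [hj, hφ, zero_smul]
        exact Has.zero_cov _
      · have hj1 : 1 ≤ (j : ℕ) := by
          rcases j with ⟨j, hj'⟩
          have : j ≠ 0 := fun e => hj (Fin.ext e)
          show 1 ≤ j
          omega
        have hj2 : (j : ℕ) + (n - 1 - (j : ℕ)) = n - 1 := by have := j.2; omega
        have := rowC (n - 1 - (j : ℕ)) (j : ℕ) hj2 hj1 (φ j)
        exact Has.smul_to_cov this
    rwa [← eq_sum_bv φ] at key
  -- all transvections with axis `e_l`
  have Rn : ∀ a : Fin n → F, a (⟨n - 1, hl⟩ : Fin n) = 0 →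
      Has G a (bv (⟨n - 1, hl⟩ : Fin n)) := by
    intro a ha
    have key : Has G (∑ j, a j • (bv j : Fin n → F)) (bv (⟨n - 1, hl⟩ : Fin n)) := by
      apply Has.sum_vec
      intro j _
      by_cases hj : j = (⟨n - 1, hl⟩ : Fin n)
      · rw [hj, ha, zero_smul]
        exact Has.zero_vec _
      · have hj1 : (j : ℕ) + 1 < n := by
          rcases j with ⟨j, hj'⟩
          have : j ≠ n - 1 := fun e => hj (Fin.ext e)
          show j + 1 < n
          omega
        exact colB (j : ℕ) hj1 (a j)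
    rwa [← eq_sum_bv a] at key
  -- an element of `G` moving the axis `e_l` to `e₀`
  obtain ⟨hg0, hgm⟩ := R1 (ones n F - bv (⟨0, h0⟩ : Fin n)) (by
    rw [Pi.sub_apply, bv_self]; show (1 : F) - 1 = 0; rw [sub_self])
  have hgG : tvSL (bv (⟨0, h0⟩ : Fin n) : Fin n → F) (ones n F - bv (⟨0, h0⟩ : Fin n)) hg0 1 * w ∈ G :=
    G.mul_mem hgm hw
  have hg1 : (bv (⟨0, h0⟩ : Fin n) : Fin n → F) ᵥ*
      (↑(tvSL (bv (⟨0, h0⟩ : Fin n) : Fin n → F) (ones n F - bv (⟨0, h0⟩ : Fin n)) hg0 1 * w) :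
        Matrix (Fin n) (Fin n) F) = bv (⟨n - 1, hl⟩ : Fin n) := by
    rw [Matrix.SpecialLinearGroup.coe_mul, ← vecMul_vecMul, vecMul_tvSL, bv_dot_bv_self, mul_one,
      one_smul, add_sub_cancel, W2]
  -- the first column
  have C1 : ∀ b : Fin n → F, b (⟨0, h0⟩ : Fin n) = 0 →
      Has G b (bv (⟨0, h0⟩ : Fin n)) := by
    intro b hb
    have hel := hg1
    generalize tvSL (bv (⟨0, h0⟩ : Fin n) : Fin n → F) (ones n F - bv (⟨0, h0⟩ : Fin n)) hg0 1 * w
      = g at hgG hel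
    have hel' : (bv (⟨n - 1, hl⟩ : Fin n) : Fin n → F) ᵥ* (↑(g⁻¹) : Matrix (Fin n) (Fin n) F) =
        bv (⟨0, h0⟩ : Fin n) := by
      rw [← hel, vecMul_vecMul, coe_mul_coe_inv, vecMul_one]
    have ha : ((↑(g⁻¹) : Matrix (Fin n) (Fin n) F) *ᵥ b) (⟨n - 1, hl⟩ : Fin n) = 0 := by
      rw [← bv_dot (⟨n - 1, hl⟩ : Fin n) ((↑(g⁻¹) : Matrix (Fin n) (Fin n) F) *ᵥ b),
        dotProduct_mulVec, hel', bv_dot]
      exact hb
    have k1 := (Rn _ ha).conj hgG hel
    rwa [mulVec_mulVec, coe_mul_coe_inv, one_mulVec] at k1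
  -- everything
  apply eq_top_of_has
  intro i j hij c
  by_cases hi : i = (⟨0, h0⟩ : Fin n)
  · subst hi
    have hj1 : 1 ≤ (j : ℕ) := by
      rcases j with ⟨j, hj'⟩
      have : j ≠ 0 := fun e => hij (Fin.ext e.symm)
      show 1 ≤ j
      omega
    have hj2 : (j : ℕ) + (n - 1 - (j : ℕ)) = n - 1 := by have := j.2; omega
    exact rowC (n - 1 - (j : ℕ)) (j : ℕ) hj2 hj1 c
  · have hci : (c • (bv i : Fin n → F)) (⟨0, h0⟩ : Fin n) = 0 := by
      rw [Pi.smul_apply, bv_ne hi, smul_zero]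
    by_cases hj : j = (⟨0, h0⟩ : Fin n)
    · subst hj
      exact C1 _ hci
    · have k1 := C1 _ hci
      have k2 := R1 (bv j) (bv_ne hj)
      have hdot : (bv j : Fin n → F) ⬝ᵥ (c • (bv i : Fin n → F)) = 0 := by
        rw [dotProduct_smul, bv_dot_bv hij, smul_zero]
      have k3 := k1.comm k2 hdot
      rwa [bv_dot_bv_self, one_smul] at k3

end Core

section Pow

theorem one_add_mul_pow {m r : Type*} [Fintype m] [DecidableEq m] [Fintype r] [DecidableEq r]
    {R : Type*} [CommRing R] (A : Matrix m r R) (P : Matrix r m R) (k : ℕ) :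
    (1 + A * P) ^ k = 1 + A * (∑ j ∈ Finset.range k, (1 + P * A) ^ j) * P := by
  induction k with
  | zero => simp
  | succ k ih =>
    have hS : ∑ j ∈ Finset.range (k + 1), (1 + P * A) ^ j =
        (∑ j ∈ Finset.range k, (1 + P * A) ^ j) * (1 + P * A) + 1 := by
      rw [Finset.sum_range_succ', pow_zero, Finset.sum_mul]
      simp only [pow_succ]
    rw [pow_succ, ih, hS]
    simp only [Matrix.mul_add, Matrix.add_mul, Matrix.mul_one, Matrix.one_mul, Matrix.mul_assoc]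
    try abel

end Pow

section Frob

open Polynomial

theorem quad_frob_comm {F : Type*} [Field F] [Fintype F] {K : Type*} [CommRing K] [Algebra F K]
    (p : ℕ) [Fact p.Prime] [CharP K p] (f : ℕ) (hq : Fintype.card F = p ^ f)
    (a : K) (τ : F) (ha : a ^ 2 = algebraMap F K τ * a - 1)
    (hτ : IsUnit (algebraMap F K (τ ^ 2 - 4))) :
    a ^ (Fintype.card F ^ 2) = a := by
  obtain ⟨T, hT⟩ : ∃ T : K, T = algebraMap F K τ := ⟨_, rfl⟩
  rw [← hT] at ha
  have hTq : T ^ (p ^ f) = T := by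
    rw [hT, ← map_pow, ← hq, FiniteField.pow_card]
  have h2q : (2 : K) ^ (p ^ f) = 2 := by
    have : (2 : K) = algebraMap F K 2 := by rw [map_ofNat]
    rw [this, ← map_pow, ← hq, FiniteField.pow_card]
  have hm1q : (-1 : K) ^ (p ^ f) = -1 := by
    have : (-1 : K) = algebraMap F K (-1) := by rw [map_neg, map_one]
    rw [this, ← map_pow, ← hq, FiniteField.pow_card]
  have hD : algebraMap F K (τ ^ 2 - 4) = T ^ 2 - 4 := by
    rw [map_sub, map_pow, map_ofNat, hT]
  rw [hD] at hτ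
  obtain ⟨b, hb⟩ : ∃ b : K, b = a ^ (p ^ f) := ⟨_, rfl⟩
  have hb2 : b ^ 2 = T * b - 1 := by
    have e1 : b ^ 2 = (a ^ 2) ^ (p ^ f) := by
      rw [hb, ← pow_mul, ← pow_mul, mul_comm]
    rw [e1, ha, sub_pow_char_pow, mul_pow, hTq, one_pow, hb]
  obtain ⟨Δ, hΔ⟩ : ∃ Δ : K, Δ = 2 * a - T := ⟨_, rfl⟩
  have hΔ2 : Δ ^ 2 = T ^ 2 - 4 := by
    rw [hΔ]; linear_combination 4 * ha
  have hΔq : Δ ^ (p ^ f) = 2 * b - T := by
    rw [hΔ, sub_pow_char_pow, mul_pow, h2q, hTq, hb]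
  obtain ⟨E, hE⟩ : ∃ E : K, E = b - a := ⟨_, rfl⟩
  have hE2 : E ^ 2 = -Δ * E := by
    rw [hE, hΔ]; linear_combination hb2 - ha
  have hEq : E ^ (p ^ f) = a ^ (Fintype.card F ^ 2) - b := by
    rw [hE, sub_pow_char_pow, ← hb, hb, ← pow_mul, hq, pow_two]
  have hEpow : ∀ k : ℕ, E ^ (k + 1) = (-Δ) ^ k * E := by
    intro k
    induction k with
    | zero => rw [pow_zero, one_mul, zero_add, pow_one]
    | succ k ih =>
      rw [pow_succ, ih, pow_succ]
      linear_combination (-Δ) ^ k * hE2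
  have hqpos : 0 < p ^ f := by rw [← hq]; exact Fintype.card_pos
  have h6 : (-Δ) * E ^ (p ^ f) = (-Δ) ^ (p ^ f) * E := by
    obtain ⟨m, hm⟩ : ∃ m, p ^ f = m + 1 := ⟨p ^ f - 1, by omega⟩
    rw [hm, hEpow m, pow_succ]
    ring
  have h7 : (-Δ) ^ (p ^ f) = -(2 * b - T) := by
    rw [neg_pow, hm1q, hΔq]; ring
  have h8 : Δ * (E ^ (p ^ f) + E) = 0 := by
    have e1 : 2 * b - T = Δ + 2 * E := by rw [hΔ, hE]; ring
    rw [h7, e1] at h6
    linear_combination (-1 : K) * h6 + 2 * hE2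
  have h9 : E ^ (p ^ f) + E = 0 := by
    have h10 : (T ^ 2 - 4) * (E ^ (p ^ f) + E) = 0 := by
      rw [← hΔ2, pow_two, mul_assoc, h8, mul_zero]
    exact (IsUnit.mul_right_eq_zero hτ).1 h10
  rw [hEq, hE] at h9
  linear_combination h9

theorem quad_dvd {F : Type*} [Field F] [Fintype F] (τ : F) (hτ : τ ^ 2 - 4 ≠ 0) :
    (C 1 * X ^ 2 + C (-τ) * X + C 1 : F[X]) ∣ X ^ (Fintype.card F ^ 2) - X := by
  obtain ⟨g, hg⟩ : ∃ g : F[X], g = C 1 * X ^ 2 + C (-τ) * X + C 1 := ⟨_, rfl⟩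
  rw [← hg]
  have hdeg : g.degree = 2 := by
    rw [hg]
    exact degree_quadratic one_ne_zero
  rw [← AdjoinRoot.mk_eq_zero]
  haveI : Nontrivial (AdjoinRoot g) := AdjoinRoot.nontrivial g (by rw [hdeg]; norm_num)
  obtain ⟨p, hchar⟩ := CharP.exists F
  haveI := hchar
  haveI : Fact p.Prime := ⟨CharP.char_is_prime F p⟩
  haveI : CharP (AdjoinRoot g) p :=
    charP_of_injective_algebraMap (algebraMap F (AdjoinRoot g)).injective p
  obtain ⟨⟨m, hm⟩, _, hq⟩ := FiniteField.card F p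
  have ha : (AdjoinRoot.root g) ^ 2 =
      algebraMap F (AdjoinRoot g) τ * AdjoinRoot.root g - 1 := by
    have h0 := AdjoinRoot.eval₂_root g
    have h1 := congrArg (fun h : F[X] => h.eval₂ (AdjoinRoot.of g) (AdjoinRoot.root g)) hg
    simp only [eval₂_add, eval₂_mul, eval₂_pow, eval₂_X, eval₂_C] at h1
    rw [h0, map_neg, map_one] at h1
    rw [AdjoinRoot.algebraMap_eq]
    linear_combination (-1 : AdjoinRoot g) * h1
  have key := quad_frob_comm p m hq (AdjoinRoot.root g) τ ha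
    (IsUnit.map _ (isUnit_iff_ne_zero.2 hτ))
  rw [map_sub, map_pow, AdjoinRoot.mk_X, key, sub_self]

theorem quad_frob {F : Type*} [Field F] [Fintype F] {r : Type*} [Fintype r] [DecidableEq r]
    (A : Matrix r r F) (τ : F) (hA : A * A = τ • A - 1) (hτ : τ ^ 2 - 4 ≠ 0) :
    A ^ (Fintype.card F ^ 2) = A := by
  obtain ⟨h, hh⟩ := quad_dvd τ hτ
  have h1 := congrArg (Polynomial.aeval A) hh
  simp only [map_sub, map_pow, aeval_X, map_mul, map_add, aeval_C, map_neg, map_one,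
    Algebra.algebraMap_eq_smul_one] at h1
  have h2 : (1 : Matrix r r F) * A ^ 2 + -(τ • (1 : Matrix r r F)) * A + 1 = 0 := by
    rw [pow_two, hA, neg_mul, smul_mul_assoc, one_mul, one_mul]
    abel
  rw [h2, zero_mul] at h1
  exact sub_eq_zero.1 h1

end Frob

end Cfsg.Agent.Lib.Helper5.RegUni
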