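/-
helper5: the family of pairs of regular unipotents used for `S2279`:
`w = 1 - Nᵀ` and `x = w s t`, where `t = 1 + α E_{0l}` is a long root element and
`s = 1 + σ₁ e_aᵀ + σ₂ e_bᵀ` (`a = l - 2`, `b = l - 1`) is a bireflection acting on a plane as a
matrix with characteristic polynomial `X² - (α + 2) X + 1`, commuting with `t`.
The matrix `g0` conjugates `w` to `x`.
-/
import Mathlib
import Cfsg.Agent.Lib.Helper5.RegUniE

set_option autoImplicit false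

namespace Cfsg.Agent.Lib.Helper5.RegUni

open Matrix
open Cfsg.Agent.Lib.Helper25.SLRoot

section Gen

variable {ι : Type*} [Fintype ι] [DecidableEq ι] {F : Type*} [Field F]

theorem ext_bv {M M' : Matrix ι ι F} (h : ∀ j, M *ᵥ (bv j : ι → F) = M' *ᵥ bv j) : M = M' := by
  ext i j
  have h1 := congrFun (h j) i
  unfold bv at h1
  rw [mulVec_single_one, mulVec_single_one, Matrix.col_apply, Matrix.col_apply] at h1
  exact h1

theorem vmv_mulVec (a b v : ι → F) : vecMulVec a b *ᵥ v = (b ⬝ᵥ v) • a := by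
  rw [vecMulVec_mulVec, op_smul_eq_smul]

theorem tvSL_pow {v φ : ι → F} (h : φ ⬝ᵥ v = 0) (c : F) (k : ℕ) :
    tvSL v φ h c ^ k = tvSL v φ h ((k : F) * c) := by
  induction k with
  | zero => rw [pow_zero, Nat.cast_zero, zero_mul, tvSL_zero]
  | succ k ih => rw [pow_succ, ih, tvSL_mul, Nat.cast_succ, add_mul, one_mul]

theorem conj_sub_one_pow (g u : Matrix.SpecialLinearGroup ι F) (k : ℕ) :
    ((↑(g * u * g⁻¹) : Matrix ι ι F) - 1) ^ k =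
      (↑g : Matrix ι ι F) * ((↑u : Matrix ι ι F) - 1) ^ k * (↑(g⁻¹) : Matrix ι ι F) := by
  have h1 : (↑(g * u * g⁻¹) : Matrix ι ι F) - 1 =
      (↑g : Matrix ι ι F) * ((↑u : Matrix ι ι F) - 1) * (↑(g⁻¹) : Matrix ι ι F) := by
    rw [Matrix.SpecialLinearGroup.coe_mul, Matrix.SpecialLinearGroup.coe_mul, mul_sub, sub_mul,
      mul_one, coe_mul_coe_inv]
  induction k with
  | zero => rw [pow_zero, pow_zero, mul_one, coe_mul_coe_inv]
  | succ k ih =>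
    rw [pow_succ, ih, h1, pow_succ]
    simp only [mul_assoc]
    rw [← mul_assoc (↑(g⁻¹) : Matrix ι ι F) (↑g : Matrix ι ι F), coe_inv_mul_coe, one_mul]

theorem regunip_conj (g u : Matrix.SpecialLinearGroup ι F) (k : ℕ)
    (hnil : IsNilpotent ((↑u : Matrix ι ι F) - 1)) (hne : ((↑u : Matrix ι ι F) - 1) ^ k ≠ 0) :
    IsNilpotent ((↑(g * u * g⁻¹) : Matrix ι ι F) - 1) ∧
      ((↑(g * u * g⁻¹) : Matrix ι ι F) - 1) ^ k ≠ 0 := by
  constructor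
  · obtain ⟨m, hm⟩ := hnil
    exact ⟨m, by rw [conj_sub_one_pow, hm, mul_zero, zero_mul]⟩
  · intro e
    apply hne
    rw [conj_sub_one_pow] at e
    have h2 : ((↑u : Matrix ι ι F) - 1) ^ k = (↑(g⁻¹) : Matrix ι ι F) *
        ((↑g : Matrix ι ι F) * ((↑u : Matrix ι ι F) - 1) ^ k * (↑(g⁻¹) : Matrix ι ι F)) *
        (↑g : Matrix ι ι F) := by
      simp only [mul_assoc]
      rw [coe_inv_mul_coe, mul_one, ← mul_assoc, coe_inv_mul_coe, one_mul]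
    rw [h2, e, mul_zero, zero_mul]

/-! ### rank two updates -/

def Sig2 (a b : ι → F) : Matrix ι (Fin 2) F := Matrix.of fun i k => ![a, b] k i

def Pi2 (φ ψ : ι → F) : Matrix (Fin 2) ι F := Matrix.of fun k j => ![φ, ψ] k j

theorem Sig2_mul_Pi2 (a b φ ψ : ι → F) :
    Sig2 a b * Pi2 φ ψ = vecMulVec a φ + vecMulVec b ψ := by
  ext i j
  rw [Matrix.mul_apply, Fin.sum_univ_two]
  rfl

theorem Pi2_mul_Sig2 (a b φ ψ : ι → F) :
    Pi2 φ ψ * Sig2 a b = !![φ ⬝ᵥ a, φ ⬝ᵥ b; ψ ⬝ᵥ a, ψ ⬝ᵥ b] := by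
  ext k m
  rw [Matrix.mul_apply]
  fin_cases k <;> fin_cases m <;> rfl

/-- the rank two update `1 + a φᵀ + b ψᵀ`. -/
def upd2 (a b φ ψ : ι → F) : Matrix ι ι F := 1 + vecMulVec a φ + vecMulVec b ψ

theorem upd2_eq (a b φ ψ : ι → F) : upd2 a b φ ψ = 1 + Sig2 a b * Pi2 φ ψ := by
  unfold upd2
  rw [Sig2_mul_Pi2, add_assoc]

theorem upd2_mulVec (a b φ ψ v : ι → F) :
    upd2 a b φ ψ *ᵥ v = v + (φ ⬝ᵥ v) • a + (ψ ⬝ᵥ v) • b := by
  unfold upd2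
  rw [add_mulVec, add_mulVec, one_mulVec, vmv_mulVec, vmv_mulVec]

theorem vecMul_upd2 (a b φ ψ ω : ι → F) :
    ω ᵥ* upd2 a b φ ψ = ω + (ω ⬝ᵥ a) • φ + (ω ⬝ᵥ b) • ψ := by
  unfold upd2
  rw [vecMul_add, vecMul_add, vecMul_one, vecMul_vecMulVec, vecMul_vecMulVec]

theorem upd2_det (a b φ ψ : ι → F) :
    (upd2 a b φ ψ).det = (1 + φ ⬝ᵥ a) * (1 + ψ ⬝ᵥ b) - (φ ⬝ᵥ b) * (ψ ⬝ᵥ a) := by
  rw [upd2_eq, det_one_add_mul_comm, Pi2_mul_Sig2, det_fin_two]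
  simp

/-! ### the bireflection `s` -/

/-- `σ₁ = α e_a + e_b`. -/
def sg1 (α : F) (ia ib : ι) : ι → F := α • bv ia + bv ib

/-- `σ₂ = α e_a - e_0`. -/
def sg2 (α : F) (i0 ia : ι) : ι → F := α • bv ia - bv i0

theorem sg1_a (α : F) {ia ib : ι} (hab : ia ≠ ib) : sg1 α ia ib ia = α := by
  unfold sg1
  rw [Pi.add_apply, Pi.smul_apply, bv_self, bv_ne hab.symm, smul_eq_mul, mul_one, add_zero]

theorem sg1_b (α : F) {ia ib : ι} (hab : ia ≠ ib) : sg1 α ia ib ib = 1 := by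
  unfold sg1
  rw [Pi.add_apply, Pi.smul_apply, bv_ne hab, bv_self, smul_eq_mul, mul_zero, zero_add]

theorem sg2_a (α : F) {i0 ia : ι} (h0a : i0 ≠ ia) : sg2 α i0 ia ia = α := by
  unfold sg2
  rw [Pi.sub_apply, Pi.smul_apply, bv_self, bv_ne h0a, smul_eq_mul, mul_one, sub_zero]

theorem sg2_b (α : F) {i0 ia ib : ι} (h0b : i0 ≠ ib) (hab : ia ≠ ib) : sg2 α i0 ia ib = 0 := by
  unfold sg2
  rw [Pi.sub_apply, Pi.smul_apply, bv_ne hab, bv_ne h0b, smul_eq_mul, mul_zero, sub_zero]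

/-- the bireflection `s`. -/
def sMat (α : F) (i0 ia ib : ι) : Matrix ι ι F :=
  upd2 (sg1 α ia ib) (sg2 α i0 ia) (bv ia) (bv ib)

theorem sMat_mulVec (α : F) (i0 ia ib : ι) (v : ι → F) :
    sMat α i0 ia ib *ᵥ v = v + v ia • sg1 α ia ib + v ib • sg2 α i0 ia := by
  unfold sMat
  rw [upd2_mulVec, bv_dot, bv_dot]

theorem vecMul_sMat (α : F) (i0 ia ib : ι) (φ : ι → F) :
    φ ᵥ* sMat α i0 ia ib = φ + (φ ⬝ᵥ sg1 α ia ib) • bv ia + (φ ⬝ᵥ sg2 α i0 ia) • bv ib := by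
  unfold sMat
  rw [vecMul_upd2]

theorem sMat_gram (α : F) {i0 ia ib : ι} (h0a : i0 ≠ ia) (h0b : i0 ≠ ib) (hab : ia ≠ ib) :
    Pi2 (bv ia : ι → F) (bv ib : ι → F) * Sig2 (sg1 α ia ib) (sg2 α i0 ia) = !![α, α; 1, 0] := by
  rw [Pi2_mul_Sig2, bv_dot, bv_dot, bv_dot, bv_dot, sg1_a α hab, sg2_a α h0a, sg1_b α hab,
    sg2_b α h0b hab]

theorem sMat_det (α : F) {i0 ia ib : ι} (h0a : i0 ≠ ia) (h0b : i0 ≠ ib) (hab : ia ≠ ib) :
    (sMat α i0 ia ib).det = 1 := by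
  unfold sMat
  rw [upd2_det, bv_dot, bv_dot, bv_dot, bv_dot, sg1_a α hab, sg2_a α h0a, sg1_b α hab,
    sg2_b α h0b hab]
  ring

theorem A2_sq (α : F) :
    (1 + !![α, α; 1, 0] : Matrix (Fin 2) (Fin 2) F) * (1 + !![α, α; 1, 0]) =
      (α + 2) • (1 + !![α, α; 1, 0]) - 1 := by
  ext i j
  fin_cases i <;> fin_cases j <;> simp [Matrix.mul_apply, Fin.sum_univ_two] <;> ring

theorem sMat_pow_card [Fintype F] (α : F) {i0 ia ib : ι} (h0a : i0 ≠ ia) (h0b : i0 ≠ ib)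
    (hab : ia ≠ ib) (hα : α ≠ 0) (hα4 : α + 4 ≠ 0) :
    sMat α i0 ia ib ^ (Fintype.card F ^ 2) = sMat α i0 ia ib := by
  unfold sMat
  rw [upd2_eq, one_add_mul_pow, sMat_gram α h0a h0b hab]
  obtain ⟨A, hA⟩ : ∃ A : Matrix (Fin 2) (Fin 2) F, A = 1 + !![α, α; 1, 0] := ⟨_, rfl⟩
  rw [← hA]
  have hsq : A * A = (α + 2) • A - 1 := by rw [hA]; exact A2_sq α
  have hτ : (α + 2) ^ 2 - 4 ≠ 0 := by
    have e : (α + 2) ^ 2 - 4 = α * (α + 4) := by ring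
    rw [e]; exact mul_ne_zero hα hα4
  have hfrob := quad_frob A (α + 2) hsq hτ
  have hgeo := mul_geom_sum A (Fintype.card F ^ 2)
  rw [hfrob] at hgeo
  have hdet : IsUnit (A - 1).det := by
    rw [hA, add_sub_cancel_left, det_fin_two_of, isUnit_iff_ne_zero]
    simpa using hα
  have hS : ∑ j ∈ Finset.range (Fintype.card F ^ 2), A ^ j = 1 := by
    have h1 : (A - 1)⁻¹ * ((A - 1) * ∑ j ∈ Finset.range (Fintype.card F ^ 2), A ^ j) =
        (A - 1)⁻¹ * (A - 1) := by rw [hgeo]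
    rwa [← Matrix.mul_assoc, Matrix.nonsing_inv_mul _ hdet, Matrix.one_mul] at h1
  rw [hS, Matrix.mul_one]

theorem sMat_mulVec_bv0 (α : F) {i0 ia ib : ι} (h0a : i0 ≠ ia) (h0b : i0 ≠ ib) :
    sMat α i0 ia ib *ᵥ (bv i0 : ι → F) = bv i0 := by
  rw [sMat_mulVec, bv_ne h0a, bv_ne h0b, zero_smul, zero_smul, add_zero, add_zero]

theorem sMat_mulVec_sg1 (α : F) {i0 ia ib : ι} (hab : ia ≠ ib) :
    sMat α i0 ia ib *ᵥ sg1 α ia ib = (1 + α) • sg1 α ia ib + sg2 α i0 ia := by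
  rw [sMat_mulVec, sg1_a α hab, sg1_b α hab, one_smul, add_smul, one_smul]

theorem sMat_mulVec_sg2 (α : F) {i0 ia ib : ι} (h0a : i0 ≠ ia) (h0b : i0 ≠ ib) (hab : ia ≠ ib) :
    sMat α i0 ia ib *ᵥ sg2 α i0 ia = sg2 α i0 ia + α • sg1 α ia ib := by
  rw [sMat_mulVec, sg2_a α h0a, sg2_b α h0b hab, zero_smul, add_zero]

theorem bvl_vecMul_sMat (α : F) {i0 ia ib il : ι} (h0l : i0 ≠ il) (hal : ia ≠ il)
    (hbl : ib ≠ il) : (bv il : ι → F) ᵥ* sMat α i0 ia ib = bv il := by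
  rw [vecMul_sMat, bv_dot, bv_dot]
  have e1 : sg1 α ia ib il = 0 := by
    unfold sg1
    rw [Pi.add_apply, Pi.smul_apply, bv_ne hal, bv_ne hbl, smul_zero, add_zero]
  have e2 : sg2 α i0 ia il = 0 := by
    unfold sg2
    rw [Pi.sub_apply, Pi.smul_apply, bv_ne hal, bv_ne h0l, smul_zero, sub_zero]
  rw [e1, e2, zero_smul, zero_smul, add_zero, add_zero]

/-- the long root element `t`. -/
def tMat (α : F) (i0 il : ι) : Matrix ι ι F := 1 + α • vecMulVec (bv i0) (bv il)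

theorem tMat_mulVec (α : F) (i0 il : ι) (v : ι → F) :
    tMat α i0 il *ᵥ v = v + (α * v il) • bv i0 := by
  unfold tMat
  rw [add_mulVec, one_mulVec, smul_mulVec, vmv_mulVec, bv_dot, smul_smul]

theorem sMat_comm_tMat (α c : F) {i0 ia ib il : ι} (h0a : i0 ≠ ia) (h0b : i0 ≠ ib)
    (h0l : i0 ≠ il) (hal : ia ≠ il) (hbl : ib ≠ il) :
    sMat α i0 ia ib * tMat c i0 il = tMat c i0 il * sMat α i0 ia ib := by
  unfold tMat
  rw [Matrix.mul_add, Matrix.add_mul, Matrix.mul_one, Matrix.one_mul, Matrix.mul_smul,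
    Matrix.smul_mul, mul_vecMulVec, vecMulVec_mul, sMat_mulVec_bv0 α h0a h0b,
    bvl_vecMul_sMat α h0l hal hbl]

theorem cmat_mulVec (α : F) {i0 ia ib : ι} (h0a : i0 ≠ ia) (h0b : i0 ≠ ib) (il : ι)
    (v : ι → F) :
    (sMat α i0 ia ib * tMat α i0 il) *ᵥ v =
      v + v ia • sg1 α ia ib + v ib • sg2 α i0 ia + (α * v il) • bv i0 := by
  rw [← mulVec_mulVec, tMat_mulVec, mulVec_add, mulVec_smul, sMat_mulVec_bv0 α h0a h0b,
    sMat_mulVec]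

/-! ### the conjugating matrix -/

variable (F) in
/-- `ρ₁ = e_0 - e_a`. -/
def rh1 (i0 ia : ι) : ι → F := bv i0 - bv ia

/-- `ρ₂ = α e_b - α e_a`. -/
def rh2 (α : F) (ia ib : ι) : ι → F := α • bv ib - α • bv ia

/-- the unipotent part of the conjugating matrix. -/
def Rmat (α : F) (i0 ia ib il : ι) : Matrix ι ι F :=
  upd2 (rh1 F i0 ia) (rh2 α ia ib) (bv ib) (bv il)

theorem Rmat_mulVec (α : F) (i0 ia ib il : ι) (v : ι → F) :
    Rmat α i0 ia ib il *ᵥ v = v + v ib • rh1 F i0 ia + v il • rh2 α ia ib := by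
  unfold Rmat
  rw [upd2_mulVec, bv_dot, bv_dot]

theorem Rmat_det (α : F) {i0 ia ib il : ι} (h0b : i0 ≠ ib) (h0l : i0 ≠ il) (hab : ia ≠ ib)
    (hal : ia ≠ il) (hbl : ib ≠ il) : (Rmat α i0 ia ib il).det = 1 := by
  unfold Rmat
  rw [upd2_det, bv_dot, bv_dot, bv_dot, bv_dot]
  have e1 : rh1 F i0 ia ib = 0 := by
    unfold rh1
    rw [Pi.sub_apply, bv_ne h0b, bv_ne hab, sub_zero]
  have e2 : rh2 α ia ib il = 0 := by
    unfold rh2
    rw [Pi.sub_apply, Pi.smul_apply, Pi.smul_apply, bv_ne hbl, bv_ne hal, smul_zero, sub_zero]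
  have e3 : rh1 F i0 ia il = 0 := by
    unfold rh1
    rw [Pi.sub_apply, bv_ne h0l, bv_ne hal, sub_zero]
  rw [e1, e2, e3]
  ring

theorem perm_mulVec_bv (σ : Equiv.Perm ι) (m : ι) :
    (σ.permMatrix F) *ᵥ (bv (σ m) : ι → F) = bv m := by
  rw [Matrix.permMatrix_mulVec]
  ext i
  unfold bv
  rw [Function.comp_apply, Pi.single_apply, Pi.single_apply]
  simp only [EmbeddingLike.apply_eq_iff_eq]

end Gen

end Cfsg.Agent.Lib.Helper5.RegUni
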