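/-
helper5: `S2279`, the `Fin n` part: the lower regular unipotent `w = 1 - Nᵀ` is conjugate
(by `g0`) to `w s t`.
-/
import Mathlib
import Cfsg.Agent.Lib.Helper5.RegUniF

set_option autoImplicit false

namespace Cfsg.Agent.Lib.Helper5.RegUni

open Matrix
open Cfsg.Agent.Lib.Helper25.SLRoot

section FinN

variable {F : Type*} [Field F] {n : ℕ}

theorem wM_mulVec_apply (v : Fin n → F) (i : Fin n) :
    (wM n F *ᵥ v) i = v i - (if h : 0 < (i : ℕ) then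
      v ⟨i - 1, lt_of_le_of_lt (Nat.sub_le _ _) i.2⟩ else 0) := by
  unfold wM
  rw [sub_mulVec, one_mulVec, mulVec_transpose, Pi.sub_apply, vecMul_Nm]

theorem wM_mulVec_apply_succ (v : Fin n → F) (i j : Fin n) (h : (j : ℕ) + 1 = (i : ℕ)) :
    (wM n F *ᵥ v) i = v i - v j := by
  have e : (⟨(i : ℕ) - 1, lt_of_le_of_lt (Nat.sub_le _ _) i.2⟩ : Fin n) = j :=
    Fin.ext (by show (i : ℕ) - 1 = (j : ℕ); omega)
  rw [wM_mulVec_apply, dif_pos (by omega), e]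

theorem wM_mulVec_bv' (i j : Fin n) (h : (i : ℕ) + 1 = (j : ℕ)) :
    wM n F *ᵥ (bv i : Fin n → F) = bv i - bv j := by
  have h1 : (i : ℕ) + 1 < n := by rw [h]; exact j.2
  have e : (⟨(i : ℕ) + 1, h1⟩ : Fin n) = j := Fin.ext h
  have key := wM_mulVec_bv (F := F) (i : ℕ) h1
  rw [e] at key
  exact key

theorem wM_mulVec_bv_last (i : Fin n) (h : (i : ℕ) + 1 = n) :
    wM n F *ᵥ (bv i : Fin n → F) = bv i := by
  ext j
  rw [wM_mulVec_apply]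
  have hj := j.2
  split_ifs with hj0
  · rw [bv_ne (Fin.ne_of_val_ne (by show (i : ℕ) ≠ (j : ℕ) - 1; omega) :
      i ≠ ⟨(j : ℕ) - 1, lt_of_le_of_lt (Nat.sub_le _ _) j.2⟩), sub_zero]
  · rw [sub_zero]

theorem wM_det : (wM n F).det = 1 := by
  have e : wM n F = (1 - Nm n F)ᵀ := by
    unfold wM
    rw [transpose_sub, transpose_one]
  rw [e, det_transpose, det_of_isUpperTriangular]
  · apply Finset.prod_eq_one
    intro i _
    rw [Matrix.sub_apply, one_apply_eq, Nm_apply, if_neg (by omega), sub_zero]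
  · intro i j hij
    have hij' : (j : ℕ) < (i : ℕ) := hij
    have hne : i ≠ j := by
      intro e
      rw [e] at hij'
      exact lt_irrefl _ hij'
    rw [Matrix.sub_apply, one_apply_ne hne, Nm_apply, if_neg (by omega), sub_zero]

theorem wM_sub_one : wM n F - 1 = -(Nm n F)ᵀ := by
  unfold wM
  abel

theorem wM_nilpotent : IsNilpotent (wM n F - 1) := by
  refine ⟨n, ?_⟩
  rw [wM_sub_one, neg_pow, ← transpose_pow, Nm_pow_self, transpose_zero, mul_zero]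

theorem wM_pow_ne (hn : 1 ≤ n) : (wM n F - 1) ^ (n - 1) ≠ 0 := by
  intro e
  rw [wM_sub_one, neg_pow, neg_one_pow_mul_eq_zero_iff, ← transpose_pow] at e
  apply Nm_pow_pred_ne (F := F) hn
  have h := congrArg Matrix.transpose e
  rwa [transpose_transpose, transpose_zero] at h

/-! ### the four special indices -/

abbrev I0 (hn : 4 ≤ n) : Fin n := ⟨0, by omega⟩
abbrev Ia (hn : 4 ≤ n) : Fin n := ⟨n - 3, by omega⟩
abbrev Ib (hn : 4 ≤ n) : Fin n := ⟨n - 2, by omega⟩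
abbrev Il (hn : 4 ≤ n) : Fin n := ⟨n - 1, by omega⟩

theorem I0_ne_Ia (hn : 4 ≤ n) : I0 hn ≠ Ia hn := Fin.ne_of_val_ne (by show 0 ≠ n - 3; omega)
theorem I0_ne_Ib (hn : 4 ≤ n) : I0 hn ≠ Ib hn := Fin.ne_of_val_ne (by show 0 ≠ n - 2; omega)
theorem I0_ne_Il (hn : 4 ≤ n) : I0 hn ≠ Il hn := Fin.ne_of_val_ne (by show 0 ≠ n - 1; omega)
theorem Ia_ne_Ib (hn : 4 ≤ n) : Ia hn ≠ Ib hn := Fin.ne_of_val_ne (by show n - 3 ≠ n - 2; omega)
theorem Ia_ne_Il (hn : 4 ≤ n) : Ia hn ≠ Il hn := Fin.ne_of_val_ne (by show n - 3 ≠ n - 1; omega)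
theorem Ib_ne_Il (hn : 4 ≤ n) : Ib hn ≠ Il hn := Fin.ne_of_val_ne (by show n - 2 ≠ n - 1; omega)

/-- the conjugating matrix (up to sign). -/
def g0 (hn : 4 ≤ n) (α : F) : Matrix (Fin n) (Fin n) F :=
  Rmat α (I0 hn) (Ia hn) (Ib hn) (Il hn) * (Fin.cycleRange (Ib hn)).permMatrix F

theorem g0_mulVec_bv (hn : 4 ≤ n) (α : F) (m : Fin n) :
    g0 hn α *ᵥ (bv (Fin.cycleRange (Ib hn) m) : Fin n → F) =
      Rmat α (I0 hn) (Ia hn) (Ib hn) (Il hn) *ᵥ bv m := by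
  unfold g0
  rw [← mulVec_mulVec, perm_mulVec_bv]

theorem g0_bv0 (hn : 4 ≤ n) (α : F) :
    g0 hn α *ᵥ (bv (I0 hn) : Fin n → F) = bv (Ib hn) + bv (I0 hn) - bv (Ia hn) := by
  have e : Fin.cycleRange (Ib hn) (Ib hn) = I0 hn :=
    Fin.ext (by rw [Fin.coe_cycleRange_of_le le_rfl, if_pos rfl])
  have h := g0_mulVec_bv hn α (Ib hn)
  rw [e] at h
  rw [h, Rmat_mulVec, bv_self, bv_ne (Ib_ne_Il hn), one_smul, zero_smul, add_zero]
  unfold rh1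
  abel

theorem g0_bv_of_succ (hn : 4 ≤ n) (α : F) (i j : Fin n) (h : (i : ℕ) + 1 = (j : ℕ))
    (hj : (j : ℕ) ≤ n - 2) : g0 hn α *ᵥ (bv j : Fin n → F) = bv i := by
  have hlt : i < Ib hn := Fin.lt_def.mpr (by show (i : ℕ) < n - 2; omega)
  have e : Fin.cycleRange (Ib hn) i = j :=
    Fin.ext (by rw [Fin.coe_cycleRange_of_lt hlt, h])
  have h' := g0_mulVec_bv hn α i
  rw [e] at h'
  rw [h', Rmat_mulVec,
    bv_ne (Fin.ne_of_val_ne (by show (i : ℕ) ≠ n - 2; omega) : i ≠ Ib hn),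
    bv_ne (Fin.ne_of_val_ne (by show (i : ℕ) ≠ n - 1; omega) : i ≠ Il hn),
    zero_smul, zero_smul, add_zero, add_zero]

theorem g0_bvl (hn : 4 ≤ n) (α : F) :
    g0 hn α *ᵥ (bv (Il hn) : Fin n → F) = bv (Il hn) + α • bv (Ib hn) - α • bv (Ia hn) := by
  have e : Fin.cycleRange (Ib hn) (Il hn) = Il hn :=
    Fin.cycleRange_of_gt (Fin.lt_def.mpr (by show n - 2 < n - 1; omega))
  have h := g0_mulVec_bv hn α (Il hn)
  rw [e] at h
  rw [h, Rmat_mulVec, bv_ne (Ib_ne_Il hn).symm, bv_self, zero_smul, add_zero, one_smul]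
  unfold rh2
  abel

/-- the element `c = s t`. -/
def cMat (hn : 4 ≤ n) (α : F) : Matrix (Fin n) (Fin n) F :=
  sMat α (I0 hn) (Ia hn) (Ib hn) * tMat α (I0 hn) (Il hn)

theorem cMat_mulVec (hn : 4 ≤ n) (α : F) (v : Fin n → F) :
    cMat hn α *ᵥ v = v + v (Ia hn) • sg1 α (Ia hn) (Ib hn) + v (Ib hn) • sg2 α (I0 hn) (Ia hn) +
      (α * v (Il hn)) • bv (I0 hn) := by
  unfold cMat
  exact cmat_mulVec α (I0_ne_Ia hn) (I0_ne_Ib hn) (Il hn) v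

theorem g0_conj_col0 (hn : 4 ≤ n) (α : F) :
    g0 hn α *ᵥ (wM n F *ᵥ bv (I0 hn)) =
      wM n F *ᵥ (cMat hn α *ᵥ (g0 hn α *ᵥ bv (I0 hn))) := by
  have i1 : (1 : ℕ) < n := by omega
  have hc : cMat hn α *ᵥ ((bv (Ib hn) : Fin n → F) + bv (I0 hn) - bv (Ia hn)) =
      -bv (Ia hn) := by
    rw [cMat_mulVec]
    simp only [Pi.add_apply, Pi.sub_apply, bv_self, bv_ne (I0_ne_Ia hn), bv_ne (I0_ne_Ib hn),
      bv_ne (I0_ne_Il hn), bv_ne (Ia_ne_Ib hn), bv_ne (Ia_ne_Ib hn).symm, bv_ne (Ia_ne_Il hn),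
      bv_ne (Ib_ne_Il hn)]
    unfold sg1 sg2
    module
  rw [g0_bv0, hc, wM_mulVec_bv' (I0 hn) ⟨1, i1⟩ rfl, mulVec_sub, g0_bv0,
    g0_bv_of_succ hn α (I0 hn) ⟨1, i1⟩ rfl (by show 1 ≤ n - 2; omega), mulVec_neg,
    wM_mulVec_bv' (Ia hn) (Ib hn) (by show n - 3 + 1 = n - 2; omega)]
  abel

theorem g0_conj_mid (hn : 4 ≤ n) (α : F) (k : ℕ) (hk : k + 1 < n - 2) :
    g0 hn α *ᵥ (wM n F *ᵥ bv (⟨k + 1, by omega⟩ : Fin n)) =
      wM n F *ᵥ (cMat hn α *ᵥ (g0 hn α *ᵥ bv (⟨k + 1, by omega⟩ : Fin n))) := by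
  have i0 : k < n := by omega
  have i1 : k + 1 < n := by omega
  have i2 : k + 2 < n := by omega
  have ha : (⟨k, i0⟩ : Fin n) ≠ Ia hn := Fin.ne_of_val_ne (by show k ≠ n - 3; omega)
  have hb : (⟨k, i0⟩ : Fin n) ≠ Ib hn := Fin.ne_of_val_ne (by show k ≠ n - 2; omega)
  have hl : (⟨k, i0⟩ : Fin n) ≠ Il hn := Fin.ne_of_val_ne (by show k ≠ n - 1; omega)
  have hc : cMat hn α *ᵥ (bv (⟨k, i0⟩ : Fin n) : Fin n → F) = bv ⟨k, i0⟩ := by
    rw [cMat_mulVec, bv_ne ha, bv_ne hb, bv_ne hl, zero_smul, zero_smul, mul_zero, zero_smul,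
      add_zero, add_zero, add_zero]
  have hg1 : g0 hn α *ᵥ (bv (⟨k + 1, i1⟩ : Fin n) : Fin n → F) = bv ⟨k, i0⟩ :=
    g0_bv_of_succ hn α ⟨k, i0⟩ ⟨k + 1, i1⟩ rfl (by show k + 1 ≤ n - 2; omega)
  have hg2 : g0 hn α *ᵥ (bv (⟨k + 2, i2⟩ : Fin n) : Fin n → F) = bv ⟨k + 1, i1⟩ :=
    g0_bv_of_succ hn α ⟨k + 1, i1⟩ ⟨k + 2, i2⟩ rfl (by show k + 2 ≤ n - 2; omega)
  rw [hg1, hc, wM_mulVec_bv' ⟨k + 1, i1⟩ ⟨k + 2, i2⟩ rfl, mulVec_sub, hg1, hg2,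
    wM_mulVec_bv' ⟨k, i0⟩ ⟨k + 1, i1⟩ rfl]

theorem g0_conj_colb (hn : 4 ≤ n) (α : F) :
    g0 hn α *ᵥ (wM n F *ᵥ bv (Ib hn)) =
      wM n F *ᵥ (cMat hn α *ᵥ (g0 hn α *ᵥ bv (Ib hn))) := by
  have hgb : g0 hn α *ᵥ (bv (Ib hn) : Fin n → F) = bv (Ia hn) :=
    g0_bv_of_succ hn α (Ia hn) (Ib hn) (by show n - 3 + 1 = n - 2; omega) le_rfl
  have hc : cMat hn α *ᵥ (bv (Ia hn) : Fin n → F) = (1 + α) • bv (Ia hn) + bv (Ib hn) := by
    rw [cMat_mulVec]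
    simp only [bv_self, bv_ne (Ia_ne_Ib hn), bv_ne (Ia_ne_Il hn)]
    unfold sg1
    module
  have hwb : wM n F *ᵥ (bv (Ib hn) : Fin n → F) = bv (Ib hn) - bv (Il hn) :=
    wM_mulVec_bv' (Ib hn) (Il hn) (by show n - 2 + 1 = n - 1; omega)
  have hwa : wM n F *ᵥ (bv (Ia hn) : Fin n → F) = bv (Ia hn) - bv (Ib hn) :=
    wM_mulVec_bv' (Ia hn) (Ib hn) (by show n - 3 + 1 = n - 2; omega)
  rw [hgb, hc, hwb, mulVec_sub, hgb, g0_bvl, mulVec_add, mulVec_smul, hwa, hwb]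
  module

theorem g0_conj_coll (hn : 4 ≤ n) (α : F) :
    g0 hn α *ᵥ (wM n F *ᵥ bv (Il hn)) =
      wM n F *ᵥ (cMat hn α *ᵥ (g0 hn α *ᵥ bv (Il hn))) := by
  have hc : cMat hn α *ᵥ ((bv (Il hn) : Fin n → F) + α • bv (Ib hn) - α • bv (Ia hn)) =
      bv (Il hn) - α • bv (Ia hn) := by
    rw [cMat_mulVec]
    simp only [Pi.add_apply, Pi.sub_apply, Pi.smul_apply, smul_eq_mul, bv_self,
      bv_ne (Ia_ne_Ib hn), bv_ne (Ia_ne_Ib hn).symm, bv_ne (Ia_ne_Il hn),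
      bv_ne (Ia_ne_Il hn).symm, bv_ne (Ib_ne_Il hn), bv_ne (Ib_ne_Il hn).symm]
    unfold sg1 sg2
    module
  have hwl : wM n F *ᵥ (bv (Il hn) : Fin n → F) = bv (Il hn) :=
    wM_mulVec_bv_last (Il hn) (by show n - 1 + 1 = n; omega)
  have hwa : wM n F *ᵥ (bv (Ia hn) : Fin n → F) = bv (Ia hn) - bv (Ib hn) :=
    wM_mulVec_bv' (Ia hn) (Ib hn) (by show n - 3 + 1 = n - 2; omega)
  rw [g0_bvl, hc, hwl, g0_bvl, mulVec_sub, mulVec_smul, hwl, hwa]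
  module

theorem g0_conj (hn : 4 ≤ n) (α : F) :
    g0 hn α * wM n F =
      wM n F * (sMat α (I0 hn) (Ia hn) (Ib hn) * tMat α (I0 hn) (Il hn)) * g0 hn α := by
  have key : g0 hn α * wM n F = wM n F * cMat hn α * g0 hn α := by
    apply ext_bv
    intro j
    rw [← mulVec_mulVec, ← mulVec_mulVec, ← mulVec_mulVec]
    have hj := j.2
    have hcases : (j : ℕ) = 0 ∨ (∃ k, k + 1 < n - 2 ∧ (j : ℕ) = k + 1) ∨ (j : ℕ) = n - 2 ∨
        (j : ℕ) = n - 1 := by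
      by_cases h0 : (j : ℕ) = 0
      · exact Or.inl h0
      · by_cases h1 : (j : ℕ) < n - 2
        · exact Or.inr (Or.inl ⟨(j : ℕ) - 1, by omega, by omega⟩)
        · right; right; omega
    rcases hcases with h | ⟨k, hk, h⟩ | h | h
    · have ej : j = I0 hn := Fin.ext h
      rw [ej]
      exact g0_conj_col0 hn α
    · have ej : j = ⟨k + 1, by omega⟩ := Fin.ext h
      rw [ej]
      exact g0_conj_mid hn α k hk
    · have ej : j = Ib hn := Fin.ext h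
      rw [ej]
      exact g0_conj_colb hn α
    · have ej : j = Il hn := Fin.ext h
      rw [ej]
      exact g0_conj_coll hn α
  unfold cMat at key
  exact key

theorem g0_det (hn : 4 ≤ n) (α : F) : (g0 hn α).det = (-1) ^ (n - 2) := by
  unfold g0
  rw [det_mul, Rmat_det α (I0_ne_Ib hn) (I0_ne_Il hn) (Ia_ne_Ib hn) (Ia_ne_Il hn) (Ib_ne_Il hn),
    one_mul, det_permutation, Fin.sign_cycleRange]
  simp

theorem neg_g0_det (hn : 4 ≤ n) (α : F) : ((-1 : F) • g0 hn α).det = 1 := by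
  rw [det_smul, Fintype.card_fin, g0_det, ← pow_add]
  have e : n + (n - 2) = 2 * (n - 1) := by omega
  rw [e, pow_mul, neg_one_sq, one_pow]

end FinN

end Cfsg.Agent.Lib.Helper5.RegUni
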