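/-
helper5: `S2279`: `SL_n(F)` (`n ≥ 4`, `F` a finite field) is generated by two conjugate regular
unipotent elements `w` and `g w g⁻¹ = w s t`.
-/
import Mathlib
import Cfsg.Agent.Lib.Helper5.RegUniG

set_option autoImplicit false

namespace Cfsg.Agent.Lib.Helper5.RegUni

open Matrix
open Cfsg.Agent.Lib.Helper25.SLRoot

section Fld

variable {F : Type*} [Field F] [Fintype F]

theorem card_prime_of_gen_intCast (ζ : Fˣ) (hζ : ∀ x : Fˣ, x ∈ Submonoid.powers ζ) (m : ℤ)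
    (hm : (ζ : F) = (m : F)) : (Fintype.card F).Prime := by
  obtain ⟨p, hp⟩ := CharP.exists F
  haveI := hp
  haveI : Fact p.Prime := ⟨CharP.char_is_prime F p⟩
  have hsurj : Function.Surjective (ZMod.castHom (dvd_refl p) F) := by
    intro γ
    by_cases h0 : γ = 0
    · exact ⟨0, by rw [map_zero, h0]⟩
    · obtain ⟨k, hk⟩ := (Submonoid.mem_powers_iff _ _).mp (hζ (Units.mk0 γ h0))
      refine ⟨(m : ZMod p) ^ k, ?_⟩
      rw [map_pow, map_intCast, ← hm, ← Units.val_pow_eq_pow_val, hk, Units.val_mk0]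
  have hinj : Function.Injective (ZMod.castHom (dvd_refl p) F) := RingHom.injective _
  have hcard := Fintype.card_of_bijective ⟨hinj, hsurj⟩
  rw [ZMod.card] at hcard
  rw [← hcard]
  exact Fact.out

theorem exists_natCast_eq (hp : (Fintype.card F).Prime) (γ : F) : ∃ k : ℕ, (k : F) = γ := by
  haveI : Fact (Fintype.card F).Prime := ⟨hp⟩
  obtain ⟨e⟩ : Nonempty (ZMod (Fintype.card F) ≃+* F) := ⟨ZMod.ringEquivOfPrime F hp rfl⟩
  refine ⟨(e.symm γ).val, ?_⟩
  have h1 : (((e.symm γ).val : ℕ) : F) = e (((e.symm γ).val : ℕ) : ZMod (Fintype.card F)) :=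
    (map_natCast e _).symm
  rw [h1, ZMod.natCast_zmod_val, RingEquiv.apply_symm_apply]

end Fld

section Setup

variable {F : Type*} [Field F] {n : ℕ}

theorem pair_setup [Fintype F] (hn : 4 ≤ n) (α : F) (hα : α ≠ 0) (hα4 : α + 4 ≠ 0) :
    ∃ wS gS sS : Matrix.SpecialLinearGroup (Fin n) F,
      (↑wS : Matrix (Fin n) (Fin n) F) = wM n F ∧
      (↑sS : Matrix (Fin n) (Fin n) F) = sMat α (I0 hn) (Ia hn) (Ib hn) ∧
      sS ∈ Subgroup.closure ({wS, gS * wS * gS⁻¹} :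
        Set (Matrix.SpecialLinearGroup (Fin n) F)) ∧
      Has (Subgroup.closure ({wS, gS * wS * gS⁻¹} :
        Set (Matrix.SpecialLinearGroup (Fin n) F)))
        (α • (bv (I0 hn) : Fin n → F)) (bv (Il hn)) := by
  classical
  obtain ⟨wS, hwS⟩ : ∃ wS : Matrix.SpecialLinearGroup (Fin n) F,
      (↑wS : Matrix (Fin n) (Fin n) F) = wM n F := ⟨⟨wM n F, wM_det⟩, rfl⟩
  obtain ⟨sS, hsS⟩ : ∃ sS : Matrix.SpecialLinearGroup (Fin n) F,
      (↑sS : Matrix (Fin n) (Fin n) F) = sMat α (I0 hn) (Ia hn) (Ib hn) :=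
    ⟨⟨_, sMat_det α (I0_ne_Ia hn) (I0_ne_Ib hn) (Ia_ne_Ib hn)⟩, rfl⟩
  obtain ⟨gS, hgS⟩ : ∃ gS : Matrix.SpecialLinearGroup (Fin n) F,
      (↑gS : Matrix (Fin n) (Fin n) F) = (-1 : F) • g0 hn α := ⟨⟨_, neg_g0_det hn α⟩, rfl⟩
  have hdot : (bv (Il hn) : Fin n → F) ⬝ᵥ bv (I0 hn) = 0 := bv_dot_bv (I0_ne_Il hn)
  obtain ⟨tS, htS⟩ : ∃ tS : Matrix.SpecialLinearGroup (Fin n) F,
      tS = tvSL (bv (I0 hn)) (bv (Il hn)) hdot α := ⟨_, rfl⟩
  have htM : (↑tS : Matrix (Fin n) (Fin n) F) = tMat α (I0 hn) (Il hn) := by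
    rw [htS]; rfl
  have hcomm' : sS * tS = tS * sS := by
    apply Subtype.ext
    rw [Matrix.SpecialLinearGroup.coe_mul, Matrix.SpecialLinearGroup.coe_mul, hsS, htM]
    exact sMat_comm_tMat α α (I0_ne_Ia hn) (I0_ne_Ib hn) (I0_ne_Il hn) (Ia_ne_Il hn)
      (Ib_ne_Il hn)
  have hcomm : Commute sS tS := hcomm'
  have hkey : gS * wS = wS * (sS * tS) * gS := by
    apply Subtype.ext
    simp only [Matrix.SpecialLinearGroup.coe_mul]
    rw [hgS, hwS, hsS, htM, Matrix.smul_mul, Matrix.mul_smul, g0_conj hn α]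
  have hconj : gS * wS * gS⁻¹ = wS * (sS * tS) := by
    rw [hkey, mul_assoc, mul_inv_cancel, mul_one]
  refine ⟨wS, gS, sS, hwS, hsS, ?_⟩
  rw [hconj]
  obtain ⟨G, hG⟩ : ∃ G : Subgroup (Matrix.SpecialLinearGroup (Fin n) F),
      G = Subgroup.closure ({wS, wS * (sS * tS)} :
        Set (Matrix.SpecialLinearGroup (Fin n) F)) := ⟨_, rfl⟩
  rw [← hG]
  have hw : wS ∈ G := by rw [hG]; exact Subgroup.subset_closure (by simp)
  have hx : wS * (sS * tS) ∈ G := by rw [hG]; exact Subgroup.subset_closure (by simp)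
  have hc : sS * tS ∈ G := by
    have h1 := G.mul_mem (G.inv_mem hw) hx
    rwa [inv_mul_cancel_left] at h1
  have hq : (sS * tS) ^ (Fintype.card F ^ 2) = sS := by
    rw [hcomm.mul_pow]
    have h1 : sS ^ (Fintype.card F ^ 2) = sS := by
      apply Subtype.ext
      rw [Matrix.SpecialLinearGroup.coe_pow, hsS]
      exact sMat_pow_card α (I0_ne_Ia hn) (I0_ne_Ib hn) (Ia_ne_Ib hn) hα hα4
    have h2 : tS ^ (Fintype.card F ^ 2) = 1 := by
      rw [htS, tvSL_pow, Nat.cast_pow, Nat.cast_card_eq_zero, zero_pow (by norm_num), zero_mul,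
        tvSL_zero]
    rw [h1, h2, mul_one]
  have hs : sS ∈ G := by rw [← hq]; exact G.pow_mem hc _
  have ht : tS ∈ G := by
    have h1 := G.mul_mem (G.inv_mem hs) hc
    rwa [inv_mul_cancel_left] at h1
  refine ⟨hs, ?_⟩
  have hdot' : (bv (Il hn) : Fin n → F) ⬝ᵥ (α • bv (I0 hn)) = 0 := by
    rw [dotProduct_smul, hdot, smul_zero]
  refine ⟨hdot', ?_⟩
  have e : tvSL (α • (bv (I0 hn) : Fin n → F)) (bv (Il hn)) hdot' 1 = tS := by
    rw [htS]
    exact tvSL_ext _ _ _ _ (by rw [one_smul, smul_vecMulVec])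
  rw [e]
  exact ht

theorem gen_of_generator (hn : 4 ≤ n) {α : F}
    {G : Subgroup (Matrix.SpecialLinearGroup (Fin n) F)}
    {wS sS : Matrix.SpecialLinearGroup (Fin n) F} (hw : wS ∈ G)
    (hwM : (↑wS : Matrix (Fin n) (Fin n) F) = wM n F) (hs : sS ∈ G)
    (hsM : (↑sS : Matrix (Fin n) (Fin n) F) = sMat α (I0 hn) (Ia hn) (Ib hn))
    (ζ : Fˣ) (hζ : ∀ x : Fˣ, x ∈ Submonoid.powers ζ) (hαζ : α + 2 = (ζ : F))
    (hα : α ≠ 0) (hα1 : α + 1 ≠ 0)
    (H0 : Has G (α • (bv (I0 hn) : Fin n → F)) (bv (Il hn))) : G = ⊤ := by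
  have hsl : (bv (Il hn) : Fin n → F) ᵥ* sMat α (I0 hn) (Ia hn) (Ib hn) = bv (Il hn) :=
    bvl_vecMul_sMat α (I0_ne_Il hn) (Ia_ne_Il hn) (Ib_ne_Il hn)
  have T1 : ∀ v : Fin n → F, Has G v (bv (Il hn)) →
      Has G (sMat α (I0 hn) (Ia hn) (Ib hn) *ᵥ v) (bv (Il hn)) := by
    intro v H
    have h1 := H.conj hs (ω := bv (Il hn)) (by rw [hsM]; exact hsl)
    rwa [hsM] at h1
  have T2 : ∀ v v' : Fin n → F, Has G v (bv (Il hn)) →
      sMat α (I0 hn) (Ia hn) (Ib hn) *ᵥ v' = v → Has G v' (bv (Il hn)) := by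
    intro v v' H hv
    have h1 := H.conj_inv hs (v' := v') (by rw [hsM]; exact hv)
    rwa [hsM, hsl] at h1
  have T3 : ∀ v' v : Fin n → F, Has G v' (bv (Il hn)) → v' (Ib hn) = 0 →
      Has G v (bv (Il hn)) → Has G ((ones n F ⬝ᵥ v) • (wM n F *ᵥ v')) (bv (Il hn)) := by
    intro v' v H' hb H
    have hl0 : v' (Il hn) = 0 := by
      obtain ⟨h, -⟩ := H'
      rwa [bv_dot] at h
    have h1 : Has G ((↑wS : Matrix (Fin n) (Fin n) F) *ᵥ v') (ones n F) :=
      H'.conj hw (by rw [hwM]; exact ones_vecMul_wM (by omega))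
    rw [hwM] at h1
    have h2 : (bv (Il hn) : Fin n → F) ⬝ᵥ (wM n F *ᵥ v') = 0 := by
      rw [bv_dot, wM_mulVec_apply_succ v' (Il hn) (Ib hn) (by show n - 2 + 1 = n - 1; omega),
        hl0, hb, sub_zero]
    exact h1.comm H h2
  -- (B3)
  have B3 : ∀ k : ℕ, k ≤ n - 3 → ∃ v : Fin n → F, Has G v (bv (Il hn)) ∧
      (∀ j : Fin n, k < (j : ℕ) → v j = 0) ∧ (∀ j : Fin n, (j : ℕ) = k → v j ≠ 0) := by
    intro k
    induction k with
    | zero =>
      intro _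
      refine ⟨α • bv (I0 hn), H0, ?_, ?_⟩
      · intro j hj
        rw [Pi.smul_apply, bv_ne (Fin.ne_of_val_ne (by show 0 ≠ (j : ℕ); omega) : I0 hn ≠ j),
          smul_zero]
      · intro j hj
        have ej : j = I0 hn := Fin.ext hj
        rw [ej, Pi.smul_apply, bv_self, smul_eq_mul, mul_one]
        exact hα
    | succ k ih =>
      intro hk
      obtain ⟨v, Hv, hz, hnz⟩ := ih (by omega)
      have hvb : v (Ib hn) = 0 := hz _ (by show k < n - 2; omega)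
      have key := T3 v (α • bv (I0 hn)) Hv hvb H0
      have e1 : ones n F ⬝ᵥ (α • (bv (I0 hn) : Fin n → F)) = α := by
        rw [dotProduct_smul, ones_dot_bv, smul_eq_mul, mul_one]
      rw [e1] at key
      refine ⟨α • (wM n F *ᵥ v), key, ?_, ?_⟩
      · intro j hj
        have hj2 := j.2
        have hjlt : (j : ℕ) - 1 < n := by omega
        rw [Pi.smul_apply, wM_mulVec_apply_succ v j ⟨(j : ℕ) - 1, hjlt⟩
          (by show (j : ℕ) - 1 + 1 = (j : ℕ); omega),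
          hz j (by omega), hz ⟨(j : ℕ) - 1, hjlt⟩ (by show k < (j : ℕ) - 1; omega), sub_zero,
          smul_zero]
      · intro j hj
        have hj2 := j.2
        have hjlt : (j : ℕ) - 1 < n := by omega
        rw [Pi.smul_apply, wM_mulVec_apply_succ v j ⟨(j : ℕ) - 1, hjlt⟩
          (by show (j : ℕ) - 1 + 1 = (j : ℕ); omega),
          hz j (by omega), zero_sub, smul_eq_mul]
        exact mul_ne_zero hα (neg_ne_zero.mpr
          (hnz ⟨(j : ℕ) - 1, hjlt⟩ (by show (j : ℕ) - 1 = k; omega)))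
  -- (B4)
  obtain ⟨v, Hv, hz, hnz⟩ := B3 (n - 3) le_rfl
  obtain ⟨β, hβdef⟩ : ∃ β : F, β = v (Ia hn) := ⟨_, rfl⟩
  have hβ : β ≠ 0 := by rw [hβdef]; exact hnz (Ia hn) rfl
  have hvb : v (Ib hn) = 0 := hz _ (by show n - 3 < n - 2; omega)
  have B4 : Has G (β • sg1 α (Ia hn) (Ib hn)) (bv (Il hn)) := by
    have h1 := (T1 v Hv).sub_vec Hv
    rwa [sMat_mulVec, hvb, zero_smul, add_zero, add_sub_cancel_left, ← hβdef] at h1
  -- (B5)
  have step : ∀ γ : F, Has G (γ • sg1 α (Ia hn) (Ib hn)) (bv (Il hn)) →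
      Has G (((α + 2) * γ) • sg1 α (Ia hn) (Ib hn)) (bv (Il hn)) := by
    intro γ H
    have h1 := T1 _ H
    rw [mulVec_smul, sMat_mulVec_sg1 α (Ia_ne_Ib hn)] at h1
    have h2 : Has G (γ • (sg1 α (Ia hn) (Ib hn) - sg2 α (I0 hn) (Ia hn))) (bv (Il hn)) := by
      apply T2 _ _ H
      rw [mulVec_smul, mulVec_sub, sMat_mulVec_sg1 α (Ia_ne_Ib hn),
        sMat_mulVec_sg2 α (I0_ne_Ia hn) (I0_ne_Ib hn) (Ia_ne_Ib hn)]
      module
    have h3 := h1.add_vec h2
    have e : γ • ((1 + α) • sg1 α (Ia hn) (Ib hn) + sg2 α (I0 hn) (Ia hn)) +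
        γ • (sg1 α (Ia hn) (Ib hn) - sg2 α (I0 hn) (Ia hn)) =
        ((α + 2) * γ) • sg1 α (Ia hn) (Ib hn) := by module
    rwa [e] at h3
  have pw : ∀ k : ℕ, Has G (((ζ : F) ^ k * β) • sg1 α (Ia hn) (Ib hn)) (bv (Il hn)) := by
    intro k
    induction k with
    | zero => rw [pow_zero, one_mul]; exact B4
    | succ k ih =>
      have h1 := step _ ih
      have e : (α + 2) * ((ζ : F) ^ k * β) = (ζ : F) ^ (k + 1) * β := by rw [hαζ]; ring
      rwa [e] at h1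
  have B5 : ∀ γ : F, Has G (γ • sg1 α (Ia hn) (Ib hn)) (bv (Il hn)) := by
    intro γ
    by_cases hγ : γ = 0
    · rw [hγ, zero_smul]; exact Has.zero_vec _
    · obtain ⟨k, hk⟩ := (Submonoid.mem_powers_iff _ _).mp
        (hζ (Units.mk0 (γ * β⁻¹) (mul_ne_zero hγ (inv_ne_zero hβ))))
      have e : (ζ : F) ^ k * β = γ := by
        have h1 : (ζ : F) ^ k = γ * β⁻¹ := by
          rw [← Units.val_pow_eq_pow_val, hk, Units.val_mk0]
        rw [h1, mul_assoc, inv_mul_cancel₀ hβ, mul_one]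
      rw [← e]; exact pw k
  -- (B6)
  have hκ : ones n F ⬝ᵥ sg1 α (Ia hn) (Ib hn) = α + 1 := by
    unfold sg1
    rw [dotProduct_add, dotProduct_smul, ones_dot_bv, ones_dot_bv, smul_eq_mul, mul_one]
  have W : ∀ v' : Fin n → F, Has G v' (bv (Il hn)) → v' (Ib hn) = 0 → ∀ γ : F,
      Has G (γ • (wM n F *ᵥ v')) (bv (Il hn)) := by
    intro v' H' hb γ
    have h1 := T3 v' _ H' hb (B5 (γ * (α + 1)⁻¹))
    rwa [dotProduct_smul, hκ, smul_eq_mul, mul_assoc, inv_mul_cancel₀ hα1, mul_one] at h1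
  have D : ∀ (k : ℕ) (hk : k + 2 < n) (γ : F),
      Has G (γ • ((bv (⟨k, by omega⟩ : Fin n) : Fin n → F) - bv (⟨k + 1, by omega⟩ : Fin n)))
        (bv (Il hn)) := by
    intro k
    induction k with
    | zero =>
      intro hk γ
      have h1 := W _ H0 (by rw [Pi.smul_apply, bv_ne (I0_ne_Ib hn), smul_zero]) (γ * α⁻¹)
      rw [mulVec_smul, wM_mulVec_bv' (I0 hn) (⟨0 + 1, by omega⟩ : Fin n) rfl, smul_smul,
        mul_assoc, inv_mul_cancel₀ hα, mul_one] at h1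
      exact h1
    | succ k ih =>
      intro hk γ
      have hk' : k + 2 < n := by omega
      have i0 : k < n := by omega
      have i1 : k + 1 < n := by omega
      have i2 : k + 1 + 1 < n := by omega
      have hD : Has G ((bv (⟨k, i0⟩ : Fin n) : Fin n → F) - bv (⟨k + 1, i1⟩ : Fin n))
          (bv (Il hn)) := by
        have h1 := ih hk' 1
        rwa [one_smul] at h1
      have hb : (((bv (⟨k, i0⟩ : Fin n) : Fin n → F) - bv (⟨k + 1, i1⟩ : Fin n) : Fin n → F))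
          (Ib hn) = 0 := by
        rw [Pi.sub_apply,
          bv_ne (Fin.ne_of_val_ne (by show k ≠ n - 2; omega) : (⟨k, i0⟩ : Fin n) ≠ Ib hn),
          bv_ne (Fin.ne_of_val_ne (by show k + 1 ≠ n - 2; omega) :
            (⟨k + 1, i1⟩ : Fin n) ≠ Ib hn), sub_zero]
      have h1 := W _ hD hb γ
      rw [mulVec_sub, wM_mulVec_bv' ⟨k, i0⟩ ⟨k + 1, i1⟩ rfl,
        wM_mulVec_bv' ⟨k + 1, i1⟩ ⟨k + 1 + 1, i2⟩ rfl] at h1
      have h2 : Has G (γ • ((bv (⟨k, i0⟩ : Fin n) : Fin n → F) - bv (⟨k + 1, i1⟩ : Fin n)) -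
          γ • (((bv (⟨k, i0⟩ : Fin n) : Fin n → F) - bv (⟨k + 1, i1⟩ : Fin n)) -
            (bv (⟨k + 1, i1⟩ : Fin n) - bv (⟨k + 1 + 1, i2⟩ : Fin n)))) (bv (Il hn)) :=
        (ih hk' γ).sub_vec h1
      have e : γ • ((bv (⟨k, i0⟩ : Fin n) : Fin n → F) - bv (⟨k + 1, i1⟩ : Fin n)) -
          γ • (((bv (⟨k, i0⟩ : Fin n) : Fin n → F) - bv (⟨k + 1, i1⟩ : Fin n)) -
            (bv (⟨k + 1, i1⟩ : Fin n) - bv (⟨k + 1 + 1, i2⟩ : Fin n))) =
          γ • ((bv (⟨k + 1, i1⟩ : Fin n) : Fin n → F) - bv (⟨k + 1 + 1, i2⟩ : Fin n)) := by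
        module
      rw [e] at h2
      exact h2
  -- (B7)
  have E : ∀ (j : ℕ) (hj : j + 1 < n) (γ : F),
      Has G (γ • ((bv (I0 hn) : Fin n → F) - bv (⟨j, by omega⟩ : Fin n))) (bv (Il hn)) := by
    intro j
    induction j with
    | zero =>
      intro hj γ
      have e : ((bv (I0 hn) : Fin n → F) - bv (⟨0, by omega⟩ : Fin n)) = 0 := sub_self _
      rw [e, smul_zero]
      exact Has.zero_vec _
    | succ j ih =>
      intro hj γ
      have hj' : j + 1 < n := by omega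
      have i0 : j < n := by omega
      have h1 : Has G (γ • ((bv (I0 hn) : Fin n → F) - bv (⟨j, i0⟩ : Fin n)) +
          γ • ((bv (⟨j, i0⟩ : Fin n) : Fin n → F) - bv (⟨j + 1, hj'⟩ : Fin n))) (bv (Il hn)) :=
        (ih hj' γ).add_vec (D j (by omega) γ)
      have e : γ • ((bv (I0 hn) : Fin n → F) - bv (⟨j, i0⟩ : Fin n)) +
          γ • ((bv (⟨j, i0⟩ : Fin n) : Fin n → F) - bv (⟨j + 1, hj'⟩ : Fin n)) =
          γ • ((bv (I0 hn) : Fin n → F) - bv (⟨j + 1, hj'⟩ : Fin n)) := by module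
      rw [e] at h1
      exact h1
  have A : ∀ γ : F, Has G (γ • (bv (I0 hn) : Fin n → F)) (bv (Il hn)) := by
    intro γ
    obtain ⟨c, hc⟩ : ∃ c : F, c = γ * (α + 1)⁻¹ := ⟨_, rfl⟩
    have hcγ : c * (α + 1) = γ := by rw [hc, mul_assoc, inv_mul_cancel₀ hα1, mul_one]
    have h1 : Has G (c • sg1 α (Ia hn) (Ib hn) +
        (c * α) • ((bv (I0 hn) : Fin n → F) - bv (Ia hn)) +
        c • ((bv (I0 hn) : Fin n → F) - bv (Ib hn))) (bv (Il hn)) :=
      ((B5 c).add_vec (E (n - 3) (by omega) (c * α))).add_vec (E (n - 2) (by omega) c)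
    have e : c • sg1 α (Ia hn) (Ib hn) + (c * α) • ((bv (I0 hn) : Fin n → F) - bv (Ia hn)) +
        c • ((bv (I0 hn) : Fin n → F) - bv (Ib hn)) = γ • bv (I0 hn) := by
      rw [← hcγ]
      unfold sg1
      module
    rwa [e] at h1
  exact core_noloop (by omega) hw hwM A

theorem two_conj_regular_unipotent [Fintype F] (n : ℕ) (hn : 4 ≤ n) :
    ∃ u g : Matrix.SpecialLinearGroup (Fin n) F,
      (IsNilpotent ((u : Matrix (Fin n) (Fin n) F) - 1) ∧
        ((u : Matrix (Fin n) (Fin n) F) - 1) ^ (n - 1) ≠ 0) ∧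
      Subgroup.closure ({u, g * u * g⁻¹} : Set (Matrix.SpecialLinearGroup (Fin n) F)) = ⊤ := by
  classical
  by_cases hp : (Fintype.card F).Prime
  · obtain ⟨α, hα, hα4⟩ : ∃ α : F, α ≠ 0 ∧ α + 4 ≠ 0 := by
      by_cases h2 : (2 : F) = 0
      · refine ⟨1, one_ne_zero, ?_⟩
        have h4 : (4 : F) = 0 := by
          have e : (4 : F) = 2 * 2 := by norm_num
          rw [e, h2, mul_zero]
        rw [h4, add_zero]
        exact one_ne_zero
      · refine ⟨-2, neg_ne_zero.mpr h2, ?_⟩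
        have e : (-2 + 4 : F) = 2 := by norm_num
        rw [e]
        exact h2
    obtain ⟨wS, gS, sS, hwM, hsM, hs, H0⟩ := pair_setup hn α hα hα4
    refine ⟨wS, gS, ⟨by rw [hwM]; exact wM_nilpotent, by rw [hwM]; exact wM_pow_ne (by omega)⟩, ?_⟩
    have hw : wS ∈ Subgroup.closure ({wS, gS * wS * gS⁻¹} :
        Set (Matrix.SpecialLinearGroup (Fin n) F)) := Subgroup.subset_closure (by simp)
    have hk : ∀ k : ℕ, Has (Subgroup.closure ({wS, gS * wS * gS⁻¹} :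
        Set (Matrix.SpecialLinearGroup (Fin n) F)))
        ((k : F) • (α • (bv (I0 hn) : Fin n → F))) (bv (Il hn)) := by
      intro k
      induction k with
      | zero => rw [Nat.cast_zero, zero_smul]; exact Has.zero_vec _
      | succ k ih => rw [Nat.cast_succ, add_smul, one_smul]; exact ih.add_vec H0
    have A : ∀ γ : F, Has (Subgroup.closure ({wS, gS * wS * gS⁻¹} :
        Set (Matrix.SpecialLinearGroup (Fin n) F)))
        (γ • (bv (I0 hn) : Fin n → F)) (bv (Il hn)) := by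
      intro γ
      obtain ⟨k, hkγ⟩ := exists_natCast_eq hp (γ * α⁻¹)
      have e : γ • (bv (I0 hn) : Fin n → F) = (k : F) • (α • bv (I0 hn)) := by
        rw [hkγ, smul_smul, mul_assoc, inv_mul_cancel₀ hα, mul_one]
      rw [e]
      exact hk k
    exact core_noloop (by omega) hw hwM A
  · obtain ⟨ζ, hζ⟩ := IsCyclic.exists_monoid_generator (α := Fˣ)
    have hint : ∀ m : ℤ, (ζ : F) ≠ (m : F) := fun m hm =>
      hp (card_prime_of_gen_intCast ζ hζ m hm)
    obtain ⟨α, hαdef⟩ : ∃ α : F, α = (ζ : F) - 2 := ⟨_, rfl⟩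
    have hαζ : α + 2 = (ζ : F) := by rw [hαdef]; ring
    have hα : α ≠ 0 := by
      intro e
      apply hint 2
      rw [← hαζ, e]
      norm_num
    have hα4 : α + 4 ≠ 0 := by
      intro e
      apply hint (-2)
      rw [← hαζ]
      have e' : α = -4 := eq_neg_of_add_eq_zero_left e
      rw [e']
      norm_num
    have hα1 : α + 1 ≠ 0 := by
      intro e
      apply hint 1
      rw [← hαζ]
      have e' : α = -1 := eq_neg_of_add_eq_zero_left e
      rw [e']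
      norm_num
    obtain ⟨wS, gS, sS, hwM, hsM, hs, H0⟩ := pair_setup hn α hα hα4
    refine ⟨wS, gS, ⟨by rw [hwM]; exact wM_nilpotent, by rw [hwM]; exact wM_pow_ne (by omega)⟩, ?_⟩
    have hw : wS ∈ Subgroup.closure ({wS, gS * wS * gS⁻¹} :
        Set (Matrix.SpecialLinearGroup (Fin n) F)) := Subgroup.subset_closure (by simp)
    exact gen_of_generator hn hw hwM hs hsM ζ hζ hαζ hα hα1 H0

end Setup

end Cfsg.Agent.Lib.Helper5.RegUni
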