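import Mathlib
import Cfsg.Prelude.Def_GeometricClasses
import Cfsg.Agent.Lib.Helper18.ReidxDefs

/-!
helper5: REINDEX / TRANSPORT block (helper18's market), packet P8 (tensor form structures, rational structures),
exact signatures of notes/Reidx_leaves.lean.
-/

set_option autoImplicit false
set_option linter.unusedSectionVars false
set_option linter.unusedVariables false

namespace Cfsg.Agent.Lib.Helper5.ReidxLeaf
open Matrix Cfsg Cfsg.Geo Cfsg.Agent.Lib.Helper18.Reidx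
open scoped Kronecker

variable {F : Type*} [Field F] {ι κ : Type} [Fintype ι] [DecidableEq ι] [Fintype κ] [DecidableEq κ]

theorem comp_trans_eq_rv {α : Type*} (e₀ : ι ≃ κ) (e : ι ≃ α) (x : α → F) :
    x ∘ (e₀.symm.trans e) = rv e₀ (x ∘ e) := rfl

theorem glReindex_mulVec_rv (e₀ : ι ≃ κ) (P : GL ι F) (v : ι → F) :
    ((glReindex e₀ P : GL κ F) : Matrix κ κ F) *ᵥ rv e₀ v = rv e₀ ((P : Matrix ι ι F) *ᵥ v) := by
  rw [glReindex_val, rm_mulVec]

theorem isTensorFormStructure_r (e₀ : ι ≃ κ) {σ : F → F} {f : (ι → F) → (ι → F) → F} {n₁ n₂ : ℕ}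
    {f₁ : (Fin n₁ → F) → (Fin n₁ → F) → F} {f₂ : (Fin n₂ → F) → (Fin n₂ → F) → F}
    {e : ι ≃ Fin n₁ × Fin n₂} {P : GL ι F} (h : IsTensorFormStructure σ f f₁ f₂ e P) :
    IsTensorFormStructure σ (rf e₀ f) f₁ f₂ (e₀.symm.trans e) (glReindex e₀ P) := by
  obtain ⟨c, hc, hxy⟩ := h
  refine ⟨c, hc, fun x y => ?_⟩
  rw [comp_trans_eq_rv, comp_trans_eq_rv, glReindex_mulVec_rv, glReindex_mulVec_rv, rf_rv]
  exact hxy x y

theorem isTensorPowerFormStructure_r (e₀ : ι ≃ κ) {σ : F → F} {f : (ι → F) → (ι → F) → F} {k t : ℕ}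
    {f₁ : (Fin k → F) → (Fin k → F) → F} {e : ι ≃ (Fin t → Fin k)} {P : GL ι F}
    (h : IsTensorPowerFormStructure σ f f₁ e P) :
    IsTensorPowerFormStructure σ (rf e₀ f) f₁ (e₀.symm.trans e) (glReindex e₀ P) := by
  obtain ⟨c, hc, hxy⟩ := h
  refine ⟨c, hc, fun x y => ?_⟩
  rw [comp_trans_eq_rv, comp_trans_eq_rv, glReindex_mulVec_rv, glReindex_mulVec_rv, rf_rv]
  exact hxy x y

theorem rat_rv_symm (e : ι ≃ κ) {F₀ : Subfield F} {u : κ → F} (hu : ∀ i, u i ∈ F₀) :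
    ∀ i, (rv e.symm u) i ∈ F₀ := fun i => by
  rw [rv_apply]
  exact hu _

theorem rv_rv_symm_p8 (e : ι ≃ κ) (w : κ → F) : rv e (rv e.symm w) = w := by
  funext k
  simp [rv_apply]

theorem isFormRationalStructure_r (e : ι ≃ κ) {f : (ι → F) → (ι → F) → F} {F₀ : Subfield F} {ζ : F}
    {P : GL ι F} (h : IsFormRationalStructure f F₀ ζ P) :
    IsFormRationalStructure (rf e f) F₀ ζ (glReindex e P) := by
  intro u v hu hv
  have := h (rv e.symm u) (rv e.symm v) (rat_rv_symm e hu) (rat_rv_symm e hv)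
  rw [← rv_rv_symm_p8 e u, ← rv_rv_symm_p8 e v, glReindex_mulVec_rv, glReindex_mulVec_rv, rf_rv]
  exact this

theorem isQuadFormRationalStructure_r (e : ι ≃ κ) {Q : (ι → F) → F} {F₀ : Subfield F} {P : GL ι F}
    (h : IsQuadFormRationalStructure Q F₀ P) :
    IsQuadFormRationalStructure (rq e Q) F₀ (glReindex e P) := by
  intro u hu
  have := h (rv e.symm u) (rat_rv_symm e hu)
  rw [← rv_rv_symm_p8 e u, glReindex_mulVec_rv, rq_rv]
  exact this

end Cfsg.Agent.Lib.Helper5.ReidxLeaf
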