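/-
S2332 (helper5): the purely combinatorial core of the stage lemma.
`d v w` = multiplicity of the joint weight `(v, w)` of the abelian group `α(F^J) × β(F^J)`.
Hypotheses: for `v ≠ 0` the multiplicities `d v ·` sum to `q` (from `m = 1`), they are invariant under
`w ↦ w - t v` (action of `x(t)`), and every rank-2 pair `(v, w)` lies in a set of more than `q` weights
`(v, w')` of the same multiplicity (a stabiliser orbit).  Conclusion: no rank-2 pairs occur and
`d v (s v) = 1`.
-/
import Mathlib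

set_option autoImplicit false

namespace Cfsg.Agent.Lib.Helper5.SLMinComb

open Finset

variable {F : Type*} [Field F] [Fintype F] [DecidableEq F] {J : Type*} [Fintype J] [DecidableEq J]

/-- rank-2 pairs do not occur. -/
theorem d_eq_zero_of_indep (d : (J → F) → (J → F) → ℕ)
    (hsum : ∀ v, v ≠ 0 → ∑ w, d v w = Fintype.card F)
    (horb : ∀ v w, v ≠ 0 → (∀ s : F, w ≠ s • v) → 0 < d v w →
      ∃ S : Finset (J → F), Fintype.card F < S.card ∧ ∀ w' ∈ S, 0 < d v w')
    (v w : J → F) (hv : v ≠ 0) (hw : ∀ s : F, w ≠ s • v) : d v w = 0 := by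
  by_contra hne
  obtain ⟨S, hS, hSd⟩ := horb v w hv hw (Nat.pos_of_ne_zero hne)
  have h1 : ∑ w' ∈ S, d v w' ≤ ∑ w', d v w' :=
    Finset.sum_le_sum_of_subset (Finset.subset_univ S)
  have h2 : S.card ≤ ∑ w' ∈ S, d v w' := by
    calc S.card = ∑ _w' ∈ S, 1 := by rw [Finset.sum_const, smul_eq_mul, mul_one]
      _ ≤ ∑ w' ∈ S, d v w' := Finset.sum_le_sum (fun w' hw' => hSd w' hw')
  rw [hsum v hv] at h1
  omega

/-- the multiplicities on the line `F v` are all `1`. -/
theorem d_smul_eq_one (d : (J → F) → (J → F) → ℕ)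
    (hsum : ∀ v, v ≠ 0 → ∑ w, d v w = Fintype.card F)
    (hinv : ∀ v w (t : F), d v (w - t • v) = d v w)
    (horb : ∀ v w, v ≠ 0 → (∀ s : F, w ≠ s • v) → 0 < d v w →
      ∃ S : Finset (J → F), Fintype.card F < S.card ∧ ∀ w' ∈ S, 0 < d v w')
    (v : J → F) (hv : v ≠ 0) (s : F) : d v (s • v) = 1 := by
  have h0 : ∀ s : F, d v (s • v) = d v 0 := by
    intro s
    have := hinv v (s • v) s
    rw [sub_self] at this
    exact this.symm
  -- the sum over all `w` is the sum over the line
  have hinj : Function.Injective (fun s : F => s • v) := by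
    intro a b hab
    have : (a - b) • v = 0 := by rw [sub_smul]; exact sub_eq_zero.mpr hab
    rcases smul_eq_zero.mp this with h | h
    · exact sub_eq_zero.mp h
    · exact absurd h hv
  have hline : ∑ w, d v w = ∑ s : F, d v (s • v) := by
    rw [← Finset.sum_image (f := fun w => d v w) (g := fun s : F => s • v) (s := Finset.univ)
      (fun a _ b _ hab => hinj hab)]
    symm
    apply Finset.sum_subset (Finset.subset_univ _)
    intro w _ hw
    apply d_eq_zero_of_indep d hsum horb v w hv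
    intro s hs
    apply hw
    rw [Finset.mem_image]
    exact ⟨s, Finset.mem_univ _, hs.symm⟩
  rw [hsum v hv, Finset.sum_congr rfl (fun s _ => h0 s), Finset.sum_const, smul_eq_mul,
    Finset.card_univ] at hline
  have hq : 0 < Fintype.card F := Fintype.card_pos
  have : d v 0 = 1 := by
    have h5 : Fintype.card F * 1 = Fintype.card F * d v 0 := by rw [mul_one]; exact hline
    exact (Nat.eq_of_mul_eq_mul_left hq h5).symm
  rw [h0 s, this]

/-- full description of `d v ·` for `v ≠ 0`. -/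
theorem d_eq_ite (d : (J → F) → (J → F) → ℕ)
    (hsum : ∀ v, v ≠ 0 → ∑ w, d v w = Fintype.card F)
    (hinv : ∀ v w (t : F), d v (w - t • v) = d v w)
    (horb : ∀ v w, v ≠ 0 → (∀ s : F, w ≠ s • v) → 0 < d v w →
      ∃ S : Finset (J → F), Fintype.card F < S.card ∧ ∀ w' ∈ S, 0 < d v w')
    (v : J → F) (hv : v ≠ 0) (w : J → F) :
    d v w = if ∃ s : F, w = s • v then 1 else 0 := by
  split_ifs with h
  · obtain ⟨s, rfl⟩ := h
    exact d_smul_eq_one d hsum hinv horb v hv s
  · push Not at h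
    exact d_eq_zero_of_indep d hsum horb v w hv h

/-- `d v 0 = 1` for `v ≠ 0`. -/
theorem d_zero_right (d : (J → F) → (J → F) → ℕ)
    (hsum : ∀ v, v ≠ 0 → ∑ w, d v w = Fintype.card F)
    (hinv : ∀ v w (t : F), d v (w - t • v) = d v w)
    (horb : ∀ v w, v ≠ 0 → (∀ s : F, w ≠ s • v) → 0 < d v w →
      ∃ S : Finset (J → F), Fintype.card F < S.card ∧ ∀ w' ∈ S, 0 < d v w')
    (v : J → F) (hv : v ≠ 0) : d v 0 = 1 := by
  have := d_smul_eq_one d hsum hinv horb v hv 0
  rwa [zero_smul] at this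

/-- `d 0 w = 1` for `w ≠ 0`, through a Weyl symmetry `d 0 w = d (σ w) 0`. -/
theorem d_zero_left (d : (J → F) → (J → F) → ℕ)
    (hsum : ∀ v, v ≠ 0 → ∑ w, d v w = Fintype.card F)
    (hinv : ∀ v w (t : F), d v (w - t • v) = d v w)
    (horb : ∀ v w, v ≠ 0 → (∀ s : F, w ≠ s • v) → 0 < d v w →
      ∃ S : Finset (J → F), Fintype.card F < S.card ∧ ∀ w' ∈ S, 0 < d v w')
    (σ : (J → F) → (J → F)) (hσ : ∀ w, w ≠ 0 → σ w ≠ 0) (hweyl : ∀ w, d 0 w = d (σ w) 0)
    (w : J → F) (hw : w ≠ 0) : d 0 w = 1 := by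
  rw [hweyl w]
  exact d_zero_right d hsum hinv horb (σ w) (hσ w hw)

omit [DecidableEq J] in
/-- When `J` has at most one element there are no rank-2 pairs, so the orbit hypothesis is vacuous. -/
theorem horb_of_subsingleton [Subsingleton J] (d : (J → F) → (J → F) → ℕ)
    (v w : J → F) (hv : v ≠ 0) (hw : ∀ s : F, w ≠ s • v) (_hpos : 0 < d v w) :
    ∃ S : Finset (J → F), Fintype.card F < S.card ∧ ∀ w' ∈ S, 0 < d v w' := by
  exfalso
  obtain ⟨j, hj⟩ : ∃ j, v j ≠ 0 := by
    by_contra h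
    push Not at h
    exact hv (funext h)
  apply hw (w j / v j)
  ext i
  rw [Subsingleton.elim i j, Pi.smul_apply, smul_eq_mul, div_mul_cancel₀ _ hj]

end Cfsg.Agent.Lib.Helper5.SLMinComb
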