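/-
S2332 (helper5): the MIXING step of the stage lemma, abstractly, on helper13's weight API.
`X : F → End V` (the root group `X_12`), `a b : (J → F) → End V` (rows 1, 2 × columns J).
If the joint weight space `(0, w)` of `(a, b)` is a line, the `Q = X × a`-weight spaces `(μ, 0)`, `μ ≠ 0`,
are at most lines (`m = 1`), and a unit `g` commuting with `X`, normalising `a` and `b`, moves the
`b`-weight `w`, then `X` acts trivially on the line `(0, w)`; hence this line lies in `C_V(Q)`.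
-/
import Mathlib
import Cfsg.Agent.Lib.Helper13.SLMinWt

set_option autoImplicit false
set_option linter.unusedSectionVars false
set_option linter.unusedVariables false

namespace Cfsg.Agent.Lib.Helper5.SLMinMix

open Matrix Module Cfsg.Agent.Lib.Helper15.OrbitBound Cfsg.Agent.Lib.Helper13.SLMinWt

variable {V : Type*} [AddCommGroup V] [Module ℂ V] [FiniteDimensional ℂ V]
variable {F : Type*} [Field F] [Fintype F] {J : Type*} [Fintype J] [DecidableEq J]
variable (ψ : AddChar F ℂ) (X : F → Module.End ℂ V) (a b : (J → F) → Module.End ℂ V)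

/-- the family `X` re-indexed over `Unit → F` -/
def XU (u : Unit → F) : Module.End ℂ V := X (u ())

variable (hψ : ψ.IsPrimitive)
variable (hXadd : ∀ s t, X (s + t) = X s * X t) (hX0 : X 0 = 1)
variable (haa : ∀ v w, a (v + w) = a v * a w) (ha0 : a 0 = 1)
variable (hba : ∀ v w, b (v + w) = b v * b w) (hb0 : b 0 = 1)
variable (hab : ∀ v w, a v * b w = b w * a v)
variable (hXa : ∀ t v, X t * a v = a v * X t)
variable (hXb : ∀ t w', ∃ v, X t * b w' = a v * b w' * X t)

include hψ haa ha0 hba hab hXa hXb in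
/-- the joint weight space `(0, w)` is `X`-stable -/
theorem X_mem_jrange (w : J → F) {ξ : V} (hξ : ξ ∈ LinearMap.range (Pr ψ a 0 * Pr ψ b w)) (t : F) :
    X t ξ ∈ LinearMap.range (Pr ψ a 0 * Pr ψ b w) := by
  rw [mem_range_jPr_iff ψ a hψ haa b hba hab] at hξ ⊢
  obtain ⟨h1, h2⟩ := hξ
  have ha_fix : ∀ v, a v ξ = ξ := by
    intro v
    have := h1 v
    rwa [zero_dotProduct, AddChar.map_zero_eq_one, one_smul] at this
  constructor
  · intro v
    rw [zero_dotProduct, AddChar.map_zero_eq_one, one_smul]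
    show (a v * X t) ξ = X t ξ
    rw [← hXa]
    show X t (a v ξ) = X t ξ
    rw [ha_fix]
  · intro w'
    obtain ⟨v, hv⟩ := hXb t w'
    -- a v (b w' (X t ξ)) = X t (b w' ξ)
    have e1 : a v (b w' (X t ξ)) = ψ (w ⬝ᵥ w') • X t ξ := by
      show (a v * b w' * X t) ξ = _
      rw [← hv]
      show X t (b w' ξ) = _
      rw [h2 w', map_smul]
    have e2 : a (-v) (a v (b w' (X t ξ))) = b w' (X t ξ) := by
      show (a (-v) * a v) (b w' (X t ξ)) = _
      rw [← haa, neg_add_cancel, ha0]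
      rfl
    rw [← e2, e1, map_smul]
    congr 1
    show (a (-v) * X t) ξ = X t ξ
    rw [← hXa]
    show X t (a (-v) ξ) = X t ξ
    rw [ha_fix]

include hψ haa ha0 hba hab hXa hXb in
/-- the joint weight space `(0, w)` is stable under the `X`-idempotents -/
theorem PrX_mem_jrange (w : J → F) {ξ : V} (hξ : ξ ∈ LinearMap.range (Pr ψ a 0 * Pr ψ b w))
    (μ : Unit → F) : Pr ψ (XU X) μ ξ ∈ LinearMap.range (Pr ψ a 0 * Pr ψ b w) := by
  unfold Pr Sm
  rw [LinearMap.smul_apply, LinearMap.sum_apply]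
  apply Submodule.smul_mem
  apply Submodule.sum_mem
  intro u _
  rw [LinearMap.smul_apply]
  apply Submodule.smul_mem
  exact X_mem_jrange ψ X a b hψ haa ha0 hba hab hXa hXb w hξ (u ())

include hXadd in
theorem XU_add (u u' : Unit → F) : XU X (u + u') = XU X u * XU X u' := by
  unfold XU
  rw [Pi.add_apply, hXadd]

include hX0 in
theorem XU_zero : XU X (0 : Unit → F) = 1 := by
  unfold XU
  rw [Pi.zero_apply, hX0]

/-- **Mixing lemma.**  `hm1` is the `m = 1` hypothesis for the `Q`-characters `(μ, 0)`, `μ ≠ 0`, in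
"proportionality" form; `g` is the mixing unit. -/
theorem X_trivial_on_line
    (hψ : ψ.IsPrimitive)
    (hXadd : ∀ s t, X (s + t) = X s * X t) (hX0 : X 0 = 1)
    (haa : ∀ v w, a (v + w) = a v * a w) (ha0 : a 0 = 1)
    (hba : ∀ v w, b (v + w) = b v * b w) (hb0 : b 0 = 1)
    (hab : ∀ v w, a v * b w = b w * a v)
    (hXa : ∀ t v, X t * a v = a v * X t)
    (hXb : ∀ t w', ∃ v, X t * b w' = a v * b w' * X t)
    (w : J → F) (hline : jmult ψ a b 0 w = 1)
    (hm1 : ∀ μ : F, μ ≠ 0 → ∀ ξ η : V, (∀ t, X t ξ = ψ (μ * t) • ξ) → (∀ v, a v ξ = ξ) →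
      (∀ t, X t η = ψ (μ * t) • η) → (∀ v, a v η = η) → ξ ≠ 0 → ∃ c : ℂ, η = c • ξ)
    (g : Module.End ℂ V) (hg : IsUnit g) (hgX : ∀ t, g * X t = X t * g)
    (N N' : (J → F) ≃ (J → F)) (hga : ∀ v, g * a v = a (N v) * g) (hgb : ∀ v, g * b v = b (N' v) * g)
    (w1 : J → F) (hw1 : w1 ≠ w) (hd : ∀ v, w ⬝ᵥ v = w1 ⬝ᵥ N' v)
    {ξ : V} (hξ : ξ ∈ LinearMap.range (Pr ψ a 0 * Pr ψ b w)) (t : F) : X t ξ = ξ := by
  classical
  set ℓ := LinearMap.range (Pr ψ a 0 * Pr ψ b w) with hℓ
  have hfr : finrank ℂ ℓ = 1 := hline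
  -- a spanning vector
  obtain ⟨ξ₀, hξ₀ne, hξ₀span⟩ := finrank_eq_one_iff'.mp hfr
  have hξ₀mem : (ξ₀ : V) ∈ ℓ := ξ₀.2
  have hξ₀ne' : (ξ₀ : V) ≠ 0 := fun h => hξ₀ne (Subtype.ext h)
  -- decompose ξ₀ along the X-idempotents
  have hsum : ∑ μ : Unit → F, Pr ψ (XU X) μ (ξ₀ : V) = (ξ₀ : V) := by
    rw [← LinearMap.sum_apply, sum_Pr ψ (XU X) hψ (XU_zero X hX0)]
    rfl
  obtain ⟨μ, hμ⟩ : ∃ μ : Unit → F, Pr ψ (XU X) μ (ξ₀ : V) ≠ 0 := by
    by_contra hcon
    push Not at hcon
    apply hξ₀ne'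
    rw [← hsum]
    exact Finset.sum_eq_zero (fun μ _ => hcon μ)
  set η : V := Pr ψ (XU X) μ (ξ₀ : V) with hη
  have hηmem : η ∈ ℓ := PrX_mem_jrange ψ X a b hψ haa ha0 hba hab hXa hXb w hξ₀mem μ
  -- η is an X-weight vector
  have hηX : ∀ s, X s η = ψ (μ () * s) • η := by
    intro s
    have hmem : η ∈ LinearMap.range (Pr ψ (XU X) μ) := ⟨_, rfl⟩
    rw [mem_range_Pr_iff ψ (XU X) hψ (XU_add X hXadd)] at hmem
    have := hmem (fun _ => s)
    simpa [XU, dotProduct] using this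
  -- weight conditions of η for (a, b)
  have hηab := (mem_range_jPr_iff ψ a hψ haa b hba hab 0 w η).mp hηmem
  have hηa : ∀ v, a v η = η := by
    intro v
    have := hηab.1 v
    rwa [zero_dotProduct, AddChar.map_zero_eq_one, one_smul] at this
  have hηb : ∀ v, b v η = ψ (w ⬝ᵥ v) • η := hηab.2
  -- every element of ℓ is a multiple of η
  have hspanη : ∀ ζ ∈ ℓ, ∃ c : ℂ, ζ = c • η := by
    intro ζ hζ
    obtain ⟨c1, hc1⟩ := hξ₀span ⟨ζ, hζ⟩
    obtain ⟨c2, hc2⟩ := hξ₀span ⟨η, hηmem⟩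
    have hc1' : c1 • (ξ₀ : V) = ζ := congrArg Subtype.val hc1
    have hc2' : c2 • (ξ₀ : V) = η := congrArg Subtype.val hc2
    have hc2ne : c2 ≠ 0 := by
      intro h
      rw [h, zero_smul] at hc2'
      exact hμ hc2'.symm
    refine ⟨c1 * c2⁻¹, ?_⟩
    rw [← hc2', smul_smul, mul_assoc, inv_mul_cancel₀ hc2ne, mul_one, hc1']
  -- the X-character of the line is trivial
  have hμ0 : μ () = 0 := by
    by_contra hne
    -- g η lies in S_μ
    have hbij : Function.Bijective g := (Module.End.isUnit_iff g).mp hg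
    have hgη_ne : g η ≠ 0 := by
      intro h
      apply hμ
      apply hbij.1
      rw [h, map_zero]
    have hgX' : ∀ s, X s (g η) = ψ (μ () * s) • g η := by
      intro s
      show (X s * g) η = _
      rw [← hgX]
      show g (X s η) = _
      rw [hηX, map_smul]
    have hga' : ∀ v, a v (g η) = g η := by
      intro v
      have h1 : a v = a (N (N.symm v)) := by rw [Equiv.apply_symm_apply]
      rw [h1]
      show (a (N (N.symm v)) * g) η = _
      rw [← hga]
      show g (a (N.symm v) η) = _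
      rw [hηa]
    obtain ⟨c, hc⟩ := hm1 (μ ()) hne η (g η) hηX hηa hgX' hga' hμ
    -- g η has b-weight w1
    have hgb' : ∀ v, b v (g η) = ψ (w1 ⬝ᵥ v) • g η := by
      intro v
      have h1 : b v = b (N' (N'.symm v)) := by rw [Equiv.apply_symm_apply]
      rw [h1]
      show (b (N' (N'.symm v)) * g) η = _
      rw [← hgb]
      show g (b (N'.symm v) η) = _
      rw [hηb, map_smul, hd, Equiv.apply_symm_apply]
    -- so g η is in the b-weight spaces w (as a multiple of η) and w1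
    have hm_w : g η ∈ LinearMap.range (Pr ψ b w) := by
      rw [mem_range_Pr_iff ψ b hψ hba]
      intro v
      rw [hc, map_smul, hηb, smul_comm]
    have hm_w1 : g η ∈ LinearMap.range (Pr ψ b w1) := by
      rw [mem_range_Pr_iff ψ b hψ hba]
      exact hgb'
    have e1 := (mem_range_idem (Pr_idem ψ b hψ hba w)).mp hm_w
    have e2 := (mem_range_idem (Pr_idem ψ b hψ hba w1)).mp hm_w1
    apply hgη_ne
    rw [← e1, ← e2]
    show (Pr ψ b w * Pr ψ b w1) (g η) = 0
    rw [Pr_orth ψ b hψ hba (Ne.symm hw1)]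
    rfl
  obtain ⟨c, rfl⟩ := hspanη ξ hξ
  rw [map_smul, hηX, hμ0, zero_mul, AddChar.map_zero_eq_one, one_smul]

end Cfsg.Agent.Lib.Helper5.SLMinMix
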