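import Mathlib
import Cfsg.Prelude.Def_GeometricClasses

/-!
Transvections in `SL_n` and the non-maximality of stabilisers of pairs of subspaces
(`Stab W ⊓ Stab U ⊓ SL < Stab W ⊓ SL < SL`).
-/

set_option autoImplicit false

namespace Cfsg.Agent.Lib.Helper5.SLStab
open Cfsg Matrix

variable {F : Type*} [Field F] {n : ℕ}

/-- transvection existence: given a subspace `P`, a vector `u ∉ P` and `v ∈ P`, there is a
determinant-one matrix fixing `P` pointwise and sending `u` to `u + v`. -/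
lemma exists_transvection (P : Submodule F (Fin n → F)) (u v : Fin n → F) (hu : u ∉ P) (hv : v ∈ P) :
    ∃ g : GL (Fin n) F, g ∈ Cfsg.Geo.specialLinear (Fin n) F ∧
      (∀ x ∈ P, (g : Matrix (Fin n) (Fin n) F) *ᵥ x = x) ∧
      (g : Matrix (Fin n) (Fin n) F) *ᵥ u = u + v := by
  obtain ⟨f, hfu, hPf⟩ := Submodule.exists_le_ker_of_notMem hu
  -- normalise
  set a : Fin n → F := fun i => (f u)⁻¹ * f (Pi.single i 1) with ha
  have hdot : ∀ x : Fin n → F, a ⬝ᵥ x = (f u)⁻¹ * f x := by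
    intro x
    have hx : x = ∑ i, x i • (Pi.single i (1 : F) : Fin n → F) := by
      ext j
      simp [Finset.sum_apply, Pi.single_apply]
    conv_rhs => rw [hx, map_sum, Finset.mul_sum]
    simp only [dotProduct, ha, map_smul, smul_eq_mul]
    apply Finset.sum_congr rfl
    intro i _
    ring
  have hav : a ⬝ᵥ v = 0 := by
    rw [hdot]
    have : f v = 0 := hPf hv
    rw [this, mul_zero]
  have hau : a ⬝ᵥ u = 1 := by rw [hdot, inv_mul_cancel₀ hfu]
  set M : Matrix (Fin n) (Fin n) F := 1 + Matrix.vecMulVec v a with hM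
  have hdet : M.det = 1 := by
    have h1 : M = 1 + Matrix.replicateCol Unit v * Matrix.replicateRow Unit a := by
      rw [hM]; congr 1
      ext i j; simp [Matrix.vecMulVec_apply, Matrix.mul_apply]
    rw [h1, Matrix.det_one_add_replicateCol_mul_replicateRow, hav, add_zero]
  have hMx : ∀ x : Fin n → F, M *ᵥ x = x + (a ⬝ᵥ x) • v := by
    intro x
    rw [hM, Matrix.add_mulVec, Matrix.one_mulVec, Matrix.vecMulVec_mulVec]
    congr 1
    ext i
    simp [mul_comm]
  refine ⟨Matrix.GeneralLinearGroup.mkOfDetNeZero M (by rw [hdet]; exact one_ne_zero), ?_, ?_, ?_⟩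
  · change _ ∈ (Matrix.GeneralLinearGroup.det : GL (Fin n) F →* Fˣ).ker
    rw [MonoidHom.mem_ker]
    apply Units.ext
    simp [hdet]
  · intro x hx
    change M *ᵥ x = x
    rw [hMx, hdot]
    have : f x = 0 := hPf hx
    rw [this, mul_zero, zero_smul, add_zero]
  · change M *ᵥ u = u + v
    rw [hMx, hau, one_smul]


lemma mem_stab {W : Submodule F (Fin n → F)} {g : GL (Fin n) F} :
    g ∈ Cfsg.Geo.subspaceStabilizer W ↔ ∀ v, v ∈ W ↔ (g : Matrix (Fin n) (Fin n) F) *ᵥ v ∈ W :=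
  Iff.rfl

/-- a det-one matrix fixing `W` pointwise stabilises `W` -/
lemma mem_stab_of_fix {W : Submodule F (Fin n → F)} {g : GL (Fin n) F}
    (h : ∀ x ∈ W, (g : Matrix (Fin n) (Fin n) F) *ᵥ x = x) : g ∈ Cfsg.Geo.subspaceStabilizer W := by
  rw [mem_stab]
  intro v
  constructor
  · intro hv; rw [h v hv]; exact hv
  · intro hv
    have h2 := h _ hv
    -- g (g v) = g v, so g v = v by injectivity
    have h3 : ((g⁻¹ : GL (Fin n) F) : Matrix (Fin n) (Fin n) F) *ᵥ
        ((g : Matrix (Fin n) (Fin n) F) *ᵥ ((g : Matrix (Fin n) (Fin n) F) *ᵥ v)) =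
        ((g⁻¹ : GL (Fin n) F) : Matrix (Fin n) (Fin n) F) *ᵥ ((g : Matrix (Fin n) (Fin n) F) *ᵥ v) := by
      rw [h2]
    have h4 : ∀ y : Fin n → F, ((g⁻¹ : GL (Fin n) F) : Matrix (Fin n) (Fin n) F) *ᵥ
        ((g : Matrix (Fin n) (Fin n) F) *ᵥ y) = y := by
      intro y
      rw [Matrix.mulVec_mulVec, ← Units.val_mul, inv_mul_cancel, Units.val_one, Matrix.one_mulVec]
    rw [h4, h4] at h3
    rw [← h3]; exact hv

/-- the general intermediate-subgroup lemma -/
lemma exists_between (W U : Submodule F (Fin n → F))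
    (g₁ : GL (Fin n) F) (h₁ : g₁ ∈ Cfsg.Geo.specialLinear (Fin n) F)
    (h₁W : g₁ ∈ Cfsg.Geo.subspaceStabilizer W) (h₁U : g₁ ∉ Cfsg.Geo.subspaceStabilizer U)
    (g₂ : GL (Fin n) F) (h₂ : g₂ ∈ Cfsg.Geo.specialLinear (Fin n) F)
    (h₂W : g₂ ∉ Cfsg.Geo.subspaceStabilizer W) :
    ∃ K : Subgroup (Matrix.GeneralLinearGroup (Fin n) F),
      Cfsg.Geo.subspaceStabilizer W ⊓ Cfsg.Geo.subspaceStabilizer U ⊓ Cfsg.Geo.specialLinear (Fin n) F < K ∧
      K < Cfsg.Geo.specialLinear (Fin n) F := by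
  refine ⟨Cfsg.Geo.subspaceStabilizer W ⊓ Cfsg.Geo.specialLinear (Fin n) F, ?_, ?_⟩
  · rw [lt_iff_le_and_ne]
    refine ⟨fun x hx => ⟨hx.1.1, hx.2⟩, fun h => ?_⟩
    have : g₁ ∈ Cfsg.Geo.subspaceStabilizer W ⊓ Cfsg.Geo.specialLinear (Fin n) F := ⟨h₁W, h₁⟩
    rw [← h] at this
    exact h₁U this.1.2
  · rw [lt_iff_le_and_ne]
    refine ⟨inf_le_right, fun h => ?_⟩
    have : g₂ ∈ Cfsg.Geo.specialLinear (Fin n) F := h₂
    rw [← h] at this
    exact h₂W this.1


/-- a proper nonzero subspace is moved by some element of SL -/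
lemma exists_not_stab (W : Submodule F (Fin n → F)) (w v : Fin n → F) (hw : w ∈ W) (hw0 : w ≠ 0)
    (hv : v ∉ W) :
    ∃ g : GL (Fin n) F, g ∈ Cfsg.Geo.specialLinear (Fin n) F ∧ g ∉ Cfsg.Geo.subspaceStabilizer W := by
  have hwP : w ∉ Submodule.span F {v} := by
    intro h
    obtain ⟨c, rfl⟩ := Submodule.mem_span_singleton.mp h
    have hc : c ≠ 0 := by
      rintro rfl
      exact hw0 (zero_smul _ _)
    apply hv
    have := W.smul_mem c⁻¹ hw
    rwa [smul_smul, inv_mul_cancel₀ hc, one_smul] at this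
  obtain ⟨g, hg, -, hgw⟩ := exists_transvection (Submodule.span F {v}) w v hwP
    (Submodule.mem_span_singleton_self v)
  refine ⟨g, hg, fun h => ?_⟩
  have h1 := (mem_stab.mp h w).mp hw
  rw [hgw] at h1
  apply hv
  have := W.sub_mem h1 hw
  rwa [add_sub_cancel_left] at this

theorem main5632 (W U : Submodule F (Fin n → F)) (hW0 : W ≠ ⊥) (hWU : W < U)
    (hdim : Module.finrank F W + Module.finrank F U = n) :
    ∃ K : Subgroup (Matrix.GeneralLinearGroup (Fin n) F),
      Cfsg.Geo.subspaceStabilizer W ⊓ Cfsg.Geo.subspaceStabilizer U ⊓ Cfsg.Geo.specialLinear (Fin n) F < K ∧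
      K < Cfsg.Geo.specialLinear (Fin n) F := by
  have hUtop : U ≠ ⊤ := by
    rintro rfl
    rw [finrank_top, Module.finrank_fin_fun] at hdim
    have : Module.finrank F W = 0 := by omega
    exact hW0 (Submodule.finrank_eq_zero.mp this)
  obtain ⟨u, huU, huW⟩ := SetLike.exists_of_lt hWU
  obtain ⟨v, hvU⟩ : ∃ v, v ∉ U := by
    by_contra h
    push Not at h
    exact hUtop (eq_top_iff.mpr fun x _ => h x)
  obtain ⟨w, hwW, hw0⟩ := Submodule.exists_mem_ne_zero_of_ne_bot hW0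
  obtain ⟨g₂, hg₂, hg₂W⟩ := exists_not_stab W w u hwW hw0 huW
  have huP : u ∉ W ⊔ Submodule.span F {v} := by
    intro h
    obtain ⟨w', hw', z, hz, rfl⟩ := Submodule.mem_sup.mp h
    obtain ⟨c, rfl⟩ := Submodule.mem_span_singleton.mp hz
    by_cases hc : c = 0
    · subst hc
      rw [zero_smul, add_zero] at huW
      exact huW hw'
    · apply hvU
      have h1 : c • v ∈ U := by
        have := U.sub_mem huU (hWU.le hw')
        rwa [add_sub_cancel_left] at this
      have := U.smul_mem c⁻¹ h1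
      rwa [smul_smul, inv_mul_cancel₀ hc, one_smul] at this
  obtain ⟨g₁, hg₁, hg₁P, hg₁u⟩ := exists_transvection (W ⊔ Submodule.span F {v}) u v huP
    (Submodule.mem_sup_right (Submodule.mem_span_singleton_self v))
  refine exists_between W U g₁ hg₁ (mem_stab_of_fix fun x hx => hg₁P x (Submodule.mem_sup_left hx)) ?_
    g₂ hg₂ hg₂W
  intro h
  have h1 := (mem_stab.mp h u).mp huU
  rw [hg₁u] at h1
  apply hvU
  have := U.sub_mem h1 huU
  rwa [add_sub_cancel_left] at this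

theorem main5633 (W U : Submodule F (Fin n → F)) (hW0 : W ≠ ⊥) (hWU : W ⊓ U = ⊥)
    (hdim : Module.finrank F W < Module.finrank F U) :
    ∃ K : Subgroup (Matrix.GeneralLinearGroup (Fin n) F),
      Cfsg.Geo.subspaceStabilizer W ⊓ Cfsg.Geo.subspaceStabilizer U ⊓ Cfsg.Geo.specialLinear (Fin n) F < K ∧
      K < Cfsg.Geo.specialLinear (Fin n) F := by
  have hU0 : U ≠ ⊥ := by
    rintro rfl
    rw [finrank_bot] at hdim
    omega
  obtain ⟨w, hwW, hw0⟩ := Submodule.exists_mem_ne_zero_of_ne_bot hW0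
  obtain ⟨u, huU, hu0⟩ := Submodule.exists_mem_ne_zero_of_ne_bot hU0
  have hdisj : ∀ x, x ∈ W → x ∈ U → x = 0 := by
    intro x hxW hxU
    have : x ∈ W ⊓ U := ⟨hxW, hxU⟩
    rw [hWU] at this
    exact (Submodule.mem_bot F).mp this
  have huW : u ∉ W := fun h => hu0 (hdisj u h huU)
  have hwU : w ∉ U := fun h => hw0 (hdisj w hwW h)
  obtain ⟨g₂, hg₂, hg₂W⟩ := exists_not_stab W w u hwW hw0 huW
  obtain ⟨g₁, hg₁, hg₁P, hg₁u⟩ := exists_transvection W u w huW hwW
  refine exists_between W U g₁ hg₁ (mem_stab_of_fix hg₁P) ?_ g₂ hg₂ hg₂W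
  intro h
  have h1 := (mem_stab.mp h u).mp huU
  rw [hg₁u] at h1
  apply hwU
  have := U.sub_mem h1 huU
  rwa [add_sub_cancel_left] at this


end Cfsg.Agent.Lib.Helper5.SLStab
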