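/-
S3713 (planner helper18, T2 sub-planner helper20), twins of the leaves T2-LOCH (`phi1_eq_psi2`) and T2-LOCSTEP (`locstep`),
and the exact leaves T2-STEPN (`step_n_P1`), T2-STEPY (`step_y_P1`) (frozen statements in notes/S3713_T2_leaves.lean).
-/
import Cfsg.Agent.Lib.Helper20.SPT2Calc
import Cfsg.Agent.Lib.Helper20.SPT2Rel
import Cfsg.Agent.Lib.Helper12.SPT2B2DEC
import Cfsg.Agent.Lib.Helper12.SPT2P2DEC
import Cfsg.Agent.Lib.Helper5.SPT2StepCore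

set_option autoImplicit false

namespace Cfsg.Agent.Lib.Helper5.SPT2LOC

open Matrix Cfsg.Agent.Lib.Helper5 Cfsg.Agent.Lib.Helper14.SpPerfect Cfsg.Agent.Lib.Helper18.SP
open Cfsg.Agent.Lib.Helper20.SPT2
open Cfsg.Agent.Lib.Helper5.SPT2StepCore

variable {F : Type*} [Field F] {n : ℕ} {H : Type*} [Group H] {o p : Fin n}

/-- **LOCH**: on `B2 = Ph1 ⊓ P2 = TT o · MM o p` the homs `φ₁` and `ψ₂` agree -/
theorem phi1_eq_psi2 (A : T2Hyp n F H o p) {φ₁ : Sp n F → H} (P1 : Phi1 A φ₁) {g : Sp n F}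
    (hg1 : g ∈ PhJ n F {o, p} o) (hg2 : g ∈ PJ n F {o, p} p) : φ₁ g = A.ψ₂ g := by
  have hop := A.hop
  obtain ⟨t, ht, m, hm, rfl⟩ := Cfsg.Agent.Lib.Helper12.SPT2B2DEC.B2_decomp hop hg1 hg2
  have htS : t ∈ SS n F o := TT_le_SS o ht
  have htPh : t ∈ PhJ n F {o, p} o := TT_le_PhJ (Set.mem_insert o {p}) ht
  have htB : t ∈ PhJ n F {o} o := TT_le_PhJ (K := {o}) (Set.mem_singleton o) ht
  have hm1 : m ∈ PJ n F {o, p} o := MM_le_P1' o p hm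
  have hm2 : m ∈ PJ n F {o, p} p := MM_le_P2' o p hm
  have ht2 : t ∈ PJ n F {o, p} p := SSo_le_P2 hop htS
  rw [P1.hom.map_mul htPh (PJ_le_PhJ _ _ hm1), P1.onB t htB, P1.onP m hm1, A.hψ₂.map_mul ht2 hm2,
    A.h2o t htS, A.h12 m hm]

/-- **LOCSTEP**: everything inside `P2` is fine -/
theorem locstep (A : T2Hyp n F H o p) {φ₁ : Sp n F → H} (P1 : Phi1 A φ₁) {g : Sp n F} (hg : g ∈ PJ n F {o, p} p) :
    SOK A φ₁ g (A.ψ₂ g) := by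
  have hop := A.hop
  obtain ⟨p₁, h1a, h1b, p₂, h2a, h2b, hcase⟩ := Cfsg.Agent.Lib.Helper12.SPT2P2DEC.P2_decomp hop hg
  have e1 := phi1_eq_psi2 A P1 h1a h1b
  have e2 := phi1_eq_psi2 A P1 h2a h2b
  have hy2 : yE n F o p ∈ PJ n F {o, p} p := yE_mem_P2 hop
  have hn2 : nW n F o ∈ PJ n F {o, p} p := SSo_le_P2 hop (nW_mem_SS o)
  refine ⟨p₁, h1a, p₂, h2a, ?_⟩
  rcases hcase with h | h | h
  · refine Or.inl ⟨h, ?_⟩
    rw [h, A.hψ₂.map_mul h1b h2b, e1, e2]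
  · refine Or.inr (Or.inl ⟨h, ?_⟩)
    rw [h, A.hψ₂.map_mul (mul_mem h1b hy2) h2b, A.hψ₂.map_mul h1b hy2, e1, e2]
  · refine Or.inr (Or.inr ⟨h, ?_⟩)
    rw [h, A.hψ₂.map_mul (mul_mem h1b hn2) h2b, A.hψ₂.map_mul h1b hn2, e1, e2, A.h2o _ (nW_mem_SS o)]
    rfl

/-- **STEPN** on `P1` -/
theorem step_n_P1 (A : T2Hyp n F H o p) {φ₁ : Sp n F → H} (P1 : Phi1 A φ₁) {q : Sp n F} (hq : q ∈ PJ n F {o, p} o) :
    SOK A φ₁ (nW n F o * q * nW n F o) (A.nto * A.ψ₁ q * A.nto) :=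
  step_n_P1_of A P1 (fun _ hg => locstep A P1 hg) hq

/-- **STEPY** on `P1`, with the hard case as a hypothesis -/
theorem step_y_P1 (A : T2Hyp n F H o p) {φ₁ : Sp n F → H} (P1 : Phi1 A φ₁)
    (hhard : ∀ γ c : F, γ ≠ 0 → SOK A φ₁ (nW n F o * (Xg n F o p γ * Tr (eV n F o) c) * yE n F o p)
      (A.nto * A.ψ₁ (Xg n F o p γ * Tr (eV n F o) c) * A.ψ₂ (yE n F o p)))
    {q : Sp n F} (hq : q ∈ PJ n F {o, p} o) :
    SOK A φ₁ (nW n F o * q * yE n F o p) (A.nto * A.ψ₁ q * A.ψ₂ (yE n F o p)) :=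
  step_y_P1_of A P1 (fun _ hg => locstep A P1 hg) hhard hq

end Cfsg.Agent.Lib.Helper5.SPT2LOC
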