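/-
helper5: S2283, assembly in the antidiagonal model: the wrapper `frozen_of_Rt` and the generic
case `q ∉ {5, 8}` (word `w u w`, torus part `s` of order `q + 1`, multiplier `s ^ 3`).
-/
import Mathlib
import Cfsg.Agent.Lib.Helper5.SU3Core
import Cfsg.Agent.Lib.Helper4.SU3Mat
import Cfsg.Agent.Lib.Helper8.SUField
import Cfsg.Agent.Lib.Helper1.SUMuField
import Cfsg.Agent.Lib.Helper23.SUBridge2
import Cfsg.Agent.Lib.Helper23.SUBridge3

set_option autoImplicit false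

namespace Cfsg.Agent.Lib.Helper5.SU3G

open Matrix Cfsg.Agent.Lib.Helper16.FusSU Cfsg.Agent.Lib.Helper4.SU3 Cfsg.Agent.Lib.Helper5.SU3C
open Cfsg.Agent.Lib.Helper5.HermBridge (frobHom)
open Cfsg.Agent.Lib.Helper8.SUField

variable {K : Type*} [Field K] [Fintype K] {q : ℕ}

theorem frob_apply (hK : Fintype.card K = q ^ 2) (x : K) : frobHom hK x = x ^ q := rfl

theorem frob_ne (hK : Fintype.card K = q ^ 2) : ∃ z : K, frobHom hK z ≠ z := by
  obtain ⟨τ, -, h⟩ := exists_not_fixed hK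
  exact ⟨τ, h⟩

theorem frob_sk (hK : Fintype.card K = q ^ 2) :
    ∀ c : K, frobHom hK c = -c → ∃ z, z - frobHom hK z = c := by
  intro c hc
  obtain ⟨s, hs⟩ := exists_frob_sub_eq hK c hc
  refine ⟨-s, ?_⟩
  rw [frob_apply, neg_pow_q hK]
  linear_combination hs

/-- **the wrapper**: the root statement for `closure {u, g u g⁻¹}` in the antidiagonal model gives
the frozen statement `S2283`. -/
theorem frozen_of_Rt (hq : 3 ≤ q) (hK : Fintype.card K = q ^ 2)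
    (h : ∃ u g : ↥(UJ (frobHom hK) 3),
      (IsNilpotent (((u : SpecialLinearGroup (Fin 3) K) : Matrix (Fin 3) (Fin 3) K) - 1) ∧
        (((u : SpecialLinearGroup (Fin 3) K) : Matrix (Fin 3) (Fin 3) K) - 1) ^ (3 - 1) ≠ 0) ∧
      ∀ v : Fin 3 → K, hJ (frobHom hK) v v = 0 →
        v ∈ Rt (σ := frobHom hK)
          ((Subgroup.closure ({u, g * u * g⁻¹} : Set ↥(UJ (frobHom hK) 3))).map
            (UJ (frobHom hK) 3).subtype)) :
    ∃ u g : ↥(Cfsg.SU 3 K q),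
      (IsNilpotent (((u : SpecialLinearGroup (Fin 3) K) : Matrix (Fin 3) (Fin 3) K) - 1) ∧
        (((u : SpecialLinearGroup (Fin 3) K) : Matrix (Fin 3) (Fin 3) K) - 1) ^ (3 - 1) ≠ 0) ∧
      Subgroup.closure ({u, g * u * g⁻¹} : Set ↥(Cfsg.SU 3 K q)) = ⊤ := by
  obtain ⟨u, g, hreg, hall⟩ := h
  exact Cfsg.Agent.Lib.Helper23.SUBridge.frozen_of_UJ2 q hK 3 (3 - 1)
    ⟨u, g, hreg, Cfsg.Agent.Lib.Helper23.SUBridge.closure_eq_top_of_Rt_all hK le_rfl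
      (by omega) _ hall⟩

/-- from a pair in `SL₃` to a pair in the subtype `↥(UJ σ 3)` -/
theorem sub_of_SL {σ : K →+* K}
    (h : ∃ u g : SpecialLinearGroup (Fin 3) K, u ∈ UJ σ 3 ∧ g ∈ UJ σ 3 ∧
      (IsNilpotent ((u : Matrix (Fin 3) (Fin 3) K) - 1) ∧
        ((u : Matrix (Fin 3) (Fin 3) K) - 1) ^ (3 - 1) ≠ 0) ∧
      ∀ X : Subgroup (SpecialLinearGroup (Fin 3) K), X ≤ UJ σ 3 → u ∈ X →
        g * u * g⁻¹ ∈ X →
        ∀ v : Fin 3 → K, hJ σ v v = 0 → v ∈ Rt (σ := σ) X) :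
    ∃ u g : ↥(UJ σ 3),
      (IsNilpotent (((u : SpecialLinearGroup (Fin 3) K) : Matrix (Fin 3) (Fin 3) K) - 1) ∧
        (((u : SpecialLinearGroup (Fin 3) K) : Matrix (Fin 3) (Fin 3) K) - 1) ^ (3 - 1) ≠ 0) ∧
      ∀ v : Fin 3 → K, hJ σ v v = 0 →
        v ∈ Rt (σ := σ)
          ((Subgroup.closure ({u, g * u * g⁻¹} : Set ↥(UJ σ 3))).map (UJ σ 3).subtype) := by
  obtain ⟨u, g, hu, hg, hreg, hall⟩ := h
  refine ⟨⟨u, hu⟩, ⟨g, hg⟩, hreg, ?_⟩
  apply hall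
  · rintro _ ⟨y, -, rfl⟩
    exact y.2
  · exact ⟨⟨u, hu⟩, Subgroup.subset_closure (by simp), rfl⟩
  · exact ⟨⟨g, hg⟩ * ⟨u, hu⟩ * ⟨g, hg⟩⁻¹, Subgroup.subset_closure (by simp), rfl⟩

/-- an element of order `q + 1` -/
theorem exists_mu_gen (hK : Fintype.card K = q ^ 2) :
    ∃ s : K, s ≠ 0 ∧ orderOf s = q + 1 := by
  have hq2 := two_le_q hK
  obtain ⟨g, hg0, hord, -⟩ := exists_gen (F := K)
  have hfac : Fintype.card K - 1 = (q - 1) * (q + 1) := by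
    rw [hK]
    have : q ^ 2 = (q - 1) * (q + 1) + 1 := by
      obtain ⟨r, rfl⟩ : ∃ r, q = r + 1 := ⟨q - 1, by omega⟩
      simp only [Nat.add_sub_cancel]
      ring
    omega
  refine ⟨g ^ (q - 1), pow_ne_zero _ hg0, ?_⟩
  rw [orderOf_pow_of_dvd (by omega) (by rw [hord, hfac]; exact dvd_mul_right _ _), hord, hfac]
  exact Nat.mul_div_cancel_left _ (by omega)

end Cfsg.Agent.Lib.Helper5.SU3G
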