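/-
helper5: S4395 leaf IDX (`index_le`): for `K = 𝔽_p[ω]`, `|K| = p^a`, every additive subgroup containing all
`ω^m + ω^{-m}` has index at most `p ^ bb a` (`bb a = 0` for odd `a`, `a / 2` for even `a`).
`k' = ⟨ω^m + ω^{-m}⟩` is a subfield and `K = k' + k' ω`.
-/
import Mathlib
import Cfsg.Prelude.Def_Transfer
import Cfsg.Agent.Lib.Helper21.SchDefs
import Cfsg.Agent.Lib.Helper5.SchSPAN

set_option autoImplicit false
universe u v
open Cfsg
open Cfsg.Agent.Lib.Helper21.Sch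

namespace Cfsg.Agent.Lib.Helper5.SchIDX

open Cfsg.Agent.Lib.Helper5.SchSPAN

section
variable {K : Type*} [Field K]

/-- the generators `ω^m + ω^{-m}` -/
def gens (ω : K) : Set K := {c | ∃ m : ℕ, c = ω ^ m + ω⁻¹ ^ m}

/-- `k'` as an additive subgroup -/
def kk (ω : K) : AddSubgroup K := AddSubgroup.closure (gens ω)

theorem gen_mem (ω : K) (m : ℕ) : ω ^ m + ω⁻¹ ^ m ∈ kk ω :=
  AddSubgroup.subset_closure ⟨m, rfl⟩

theorem pow_add_mul_inv_pow (ω : K) (hω : ω ≠ 0) (n k : ℕ) : ω ^ (n + k) * ω⁻¹ ^ n = ω ^ k := by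
  rw [pow_add, mul_comm (ω ^ n), mul_assoc, ← mul_pow, mul_inv_cancel₀ hω, one_pow, mul_one]

theorem inv_pow_add_mul_pow (ω : K) (hω : ω ≠ 0) (n k : ℕ) : ω⁻¹ ^ (n + k) * ω ^ n = ω⁻¹ ^ k := by
  rw [pow_add, mul_comm (ω⁻¹ ^ n), mul_assoc, ← mul_pow, inv_mul_cancel₀ hω, one_pow, mul_one]

theorem gen_mul_gen (ω : K) (hω : ω ≠ 0) (n k : ℕ) :
    (ω ^ (n + k) + ω⁻¹ ^ (n + k)) * (ω ^ n + ω⁻¹ ^ n) =
      (ω ^ (n + k + n) + ω⁻¹ ^ (n + k + n)) + (ω ^ k + ω⁻¹ ^ k) := by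
  have h1 := pow_add_mul_inv_pow ω hω n k
  have h2 := inv_pow_add_mul_pow ω hω n k
  calc (ω ^ (n + k) + ω⁻¹ ^ (n + k)) * (ω ^ n + ω⁻¹ ^ n)
      = ω ^ (n + k) * ω ^ n + ω⁻¹ ^ (n + k) * ω⁻¹ ^ n +
          (ω ^ (n + k) * ω⁻¹ ^ n + ω⁻¹ ^ (n + k) * ω ^ n) := by ring
    _ = (ω ^ (n + k + n) + ω⁻¹ ^ (n + k + n)) + (ω ^ k + ω⁻¹ ^ k) := by
        rw [h1, h2, ← pow_add, ← pow_add]

theorem gen_mul_gen_mem (ω : K) (hω : ω ≠ 0) (m n : ℕ) :
    (ω ^ m + ω⁻¹ ^ m) * (ω ^ n + ω⁻¹ ^ n) ∈ kk ω := by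
  rcases le_total n m with h | h
  · obtain ⟨k, rfl⟩ := Nat.exists_eq_add_of_le h
    rw [gen_mul_gen ω hω n k]
    exact (kk ω).add_mem (gen_mem ω _) (gen_mem ω _)
  · obtain ⟨k, rfl⟩ := Nat.exists_eq_add_of_le h
    rw [mul_comm, gen_mul_gen ω hω m k]
    exact (kk ω).add_mem (gen_mem ω _) (gen_mem ω _)

theorem kk_mul_mem (ω : K) (hω : ω ≠ 0) {x y : K} (hx : x ∈ kk ω) (hy : y ∈ kk ω) :
    x * y ∈ kk ω := by
  refine AddSubgroup.closure_induction₂ (p := fun x y _ _ => x * y ∈ kk ω) ?_ ?_ ?_ ?_ ?_ ?_ ?_ hx hy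
  · rintro x y ⟨m, rfl⟩ ⟨n, rfl⟩
    exact gen_mul_gen_mem ω hω m n
  · intro x _
    rw [zero_mul]; exact (kk ω).zero_mem
  · intro x _
    rw [mul_zero]; exact (kk ω).zero_mem
  · intro x y z _ _ _ h1 h2
    rw [add_mul]; exact (kk ω).add_mem h1 h2
  · intro y z x _ _ _ h1 h2
    rw [mul_add]; exact (kk ω).add_mem h1 h2
  · intro x y _ _ h
    rw [neg_mul]; exact (kk ω).neg_mem h
  · intro x y _ _ h
    rw [mul_neg]; exact (kk ω).neg_mem h

theorem kk_pow_mem (ω : K) (hω : ω ≠ 0) {x : K} (hx : x ∈ kk ω) (n : ℕ) : x ^ (n + 1) ∈ kk ω := by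
  induction n with
  | zero => rwa [zero_add, pow_one]
  | succ k ih =>
    rw [pow_succ]
    exact kk_mul_mem ω hω ih hx

end

section finite
variable {K : Type*} [Field K] [Finite K]

theorem exists_ne_zero_mem (q : ℕ) [Fact q.Prime] (ω : K) (hω : orderOf ω = q) :
    ∃ x ∈ kk ω, x ≠ 0 := by
  have hq : q.Prime := Fact.out
  by_cases h2 : (2 : K) = 0
  · refine ⟨ω ^ 1 + ω⁻¹ ^ 1, gen_mem ω 1, ?_⟩
    intro h
    rw [pow_one, pow_one] at h
    have hω0 : ω ≠ 0 := by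
      intro h0
      rw [h0, orderOf_zero] at hω
      · exact hq.ne_zero hω.symm
    -- `ω^2 = -1 = 1`
    have hsq : ω ^ 2 = 1 := by
      have h1 : ω * (ω + ω⁻¹) = 0 := by rw [h, mul_zero]
      rw [mul_add, mul_inv_cancel₀ hω0] at h1
      have hneg : (-1 : K) = 1 := by
        have : (1 : K) + 1 = 0 := by rw [one_add_one_eq_two]; exact h2
        exact neg_eq_of_add_eq_zero_left this
      rw [pow_two]
      rw [← hneg]
      exact eq_neg_of_add_eq_zero_left h1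
    -- `(ω + 1)^2 = 0`
    have h3 : (ω + 1) ^ 2 = 0 := by
      have : (ω + 1) ^ 2 = ω ^ 2 + 2 * ω + 1 := by ring
      rw [this, hsq, h2, zero_mul, add_zero, one_add_one_eq_two, h2]
    have h4 : ω + 1 = 0 := pow_eq_zero_iff (two_ne_zero) |>.mp h3
    have h5 : ω = 1 := by
      have hneg : (-1 : K) = 1 := by
        have : (1 : K) + 1 = 0 := by rw [one_add_one_eq_two]; exact h2
        exact neg_eq_of_add_eq_zero_left this
      rw [← hneg]
      exact eq_neg_of_add_eq_zero_left h4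
    rw [h5, orderOf_one] at hω
    exact hq.one_lt.ne hω
  · refine ⟨ω ^ 0 + ω⁻¹ ^ 0, gen_mem ω 0, ?_⟩
    rw [pow_zero, pow_zero, one_add_one_eq_two]
    exact h2

theorem one_mem_kk (q : ℕ) [Fact q.Prime] (ω : K) (hω : orderOf ω = q) : (1 : K) ∈ kk ω := by
  have hq : q.Prime := Fact.out
  have hω0 : ω ≠ 0 := by
    intro h0
    rw [h0, orderOf_zero] at hω
    · exact hq.ne_zero hω.symm
  obtain ⟨x, hx, hx0⟩ := exists_ne_zero_mem q ω hω
  have h := isOfFinOrder_of_finite (Units.mk0 x hx0)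
  obtain ⟨n, hn, hpow⟩ := (isOfFinOrder_iff_pow_eq_one).mp h
  have h1 : x ^ n = 1 := by
    have := congrArg Units.val hpow
    simpa using this
  obtain ⟨k, rfl⟩ := Nat.exists_eq_succ_of_ne_zero hn.ne'
  rw [← h1]
  exact kk_pow_mem ω hω0 hx k

theorem mem_multField_kk_iff (q : ℕ) [Fact q.Prime] (ω : K) (hω : orderOf ω = q) (x : K) :
    x ∈ multField (kk ω) ↔ x ∈ kk ω := by
  have hq : q.Prime := Fact.out
  have hω0 : ω ≠ 0 := by
    intro h0
    rw [h0, orderOf_zero] at hω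
    · exact hq.ne_zero hω.symm
  constructor
  · intro hx
    have := hx 1 (one_mem_kk q ω hω)
    rwa [mul_one] at this
  · intro hx s hs
    exact kk_mul_mem ω hω0 hx hs

/-- `K = k' + k' ω` -/
theorem exists_add_mul (q : ℕ) [Fact q.Prime] (ω : K) (hω : orderOf ω = q)
    (hspan : ∀ S : AddSubgroup K, (1 : K) ∈ S → (∀ v ∈ S, ω * v ∈ S) → S = ⊤) (x : K) :
    ∃ a ∈ kk ω, ∃ b ∈ kk ω, a + ω * b = x := by
  have hq : q.Prime := Fact.out
  have hω0 : ω ≠ 0 := by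
    intro h0
    rw [h0, orderOf_zero] at hω
    · exact hq.ne_zero hω.symm
  have hT := hspan (kk ω ⊔ (kk ω).map (AddMonoidHom.mulLeft ω))
    (AddSubgroup.mem_sup_left (one_mem_kk q ω hω))
    (by
      intro v hv
      obtain ⟨a, ha, z, hz, rfl⟩ := AddSubgroup.mem_sup.mp hv
      obtain ⟨b, hb, rfl⟩ := AddSubgroup.mem_map.mp hz
      -- `ω (a + ω b) = -b + ω (a + c₁ b)`
      have hc1 : ω ^ 1 + ω⁻¹ ^ 1 ∈ kk ω := gen_mem ω 1
      rw [pow_one, pow_one] at hc1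
      have hkey : ω * (a + (AddMonoidHom.mulLeft ω) b) = -b + ω * (a + (ω + ω⁻¹) * b) := by
        show ω * (a + ω * b) = -b + ω * (a + (ω + ω⁻¹) * b)
        have : ω * ω⁻¹ = 1 := mul_inv_cancel₀ hω0
        calc ω * (a + ω * b) = ω * a + ω * ω * b := by ring
          _ = -b + (ω * a + ω * ω * b + (ω * ω⁻¹) * b) := by rw [this]; ring
          _ = -b + ω * (a + (ω + ω⁻¹) * b) := by ring
      rw [hkey]
      refine AddSubgroup.mem_sup.mpr ⟨-b, (kk ω).neg_mem hb, ω * (a + (ω + ω⁻¹) * b), ?_, rfl⟩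
      exact AddSubgroup.mem_map.mpr ⟨a + (ω + ω⁻¹) * b,
        (kk ω).add_mem ha (kk_mul_mem ω hω0 hc1 hb), rfl⟩)
  have hx : x ∈ kk ω ⊔ (kk ω).map (AddMonoidHom.mulLeft ω) := by rw [hT]; trivial
  obtain ⟨a, ha, z, hz, rfl⟩ := AddSubgroup.mem_sup.mp hx
  obtain ⟨b, hb, rfl⟩ := AddSubgroup.mem_map.mp hz
  exact ⟨a, ha, b, hb, rfl⟩

theorem card_le_sq (q : ℕ) [Fact q.Prime] (ω : K) (hω : orderOf ω = q)
    (hspan : ∀ S : AddSubgroup K, (1 : K) ∈ S → (∀ v ∈ S, ω * v ∈ S) → S = ⊤) :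
    Nat.card K ≤ Nat.card ↥(kk ω) * Nat.card ↥(kk ω) := by
  rw [← Nat.card_prod]
  apply Nat.card_le_card_of_surjective (fun ab : ↥(kk ω) × ↥(kk ω) => (ab.1 : K) + ω * (ab.2 : K))
  intro x
  obtain ⟨a, ha, b, hb, h⟩ := exists_add_mul q ω hω hspan x
  exact ⟨(⟨a, ha⟩, ⟨b, hb⟩), h⟩

end finite

/-- **TAG IDX** -/
theorem index_le {K : Type*} [Field K] [Finite K] (p q : ℕ) [Fact p.Prime] [Fact q.Prime] [CharP K p]
    (hpq : p ≠ q) (a : ℕ) (hK : Nat.card K = p ^ a) (ω : K) (hω : orderOf ω = q)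
    (hspan : ∀ S : AddSubgroup K, (1 : K) ∈ S → (∀ v ∈ S, ω * v ∈ S) → S = ⊤)
    (N : AddSubgroup K) (hN : ∀ m : ℕ, ω ^ m + ω⁻¹ ^ m ∈ N) : N.index ≤ p ^ bb a := by
  have hp : p.Prime := Fact.out
  -- `k' ≤ N`
  have hle : kk ω ≤ N := by
    rw [kk, AddSubgroup.closure_le]
    rintro c ⟨m, rfl⟩
    exact hN m
  -- `|k'| = p ^ e`
  have hdvd : Nat.card ↥(kk ω) ∣ Nat.card K := AddSubgroup.card_addSubgroup_dvd_card _
  rw [hK] at hdvd
  obtain ⟨e, hea, hke⟩ := (Nat.dvd_prime_pow hp).mp hdvd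
  -- the subfield
  have hcarrier : ∀ x : K, x ∈ multField (kk ω) ↔ x ∈ kk ω := mem_multField_kk_iff q ω hω
  have hMcard : Nat.card ↥(multField (kk ω)) = p ^ e := by
    rw [← hke]
    exact Nat.card_congr (Equiv.subtypeEquivRight hcarrier)
  -- `|K| = |k'| ^ d`
  have hpow : Nat.card K = Nat.card ↥(multField (kk ω)) ^ Module.finrank ↥(multField (kk ω)) K :=
    Module.natCard_eq_pow_finrank
  rw [hK, hMcard, ← pow_mul] at hpow
  have had : a = e * Module.finrank ↥(multField (kk ω)) K := Nat.pow_right_injective hp.two_le hpow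
  -- `a ≤ 2 e`
  have hsq := card_le_sq q ω hω hspan
  rw [hK, hke, ← pow_add] at hsq
  have ha2 : a ≤ e + e := (Nat.pow_le_pow_iff_right hp.one_lt).mp hsq
  -- `e ≥ 1`
  have he1 : 1 ≤ e := by
    rcases Nat.eq_zero_or_pos e with h0 | h0
    · exfalso
      rw [h0, pow_zero] at hke
      have hsub : Subsingleton ↥(kk ω) := (Nat.card_eq_one_iff_unique.mp hke).1
      have h01 : (⟨0, (kk ω).zero_mem⟩ : ↥(kk ω)) = ⟨1, one_mem_kk q ω hω⟩ := Subsingleton.elim _ _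
      exact zero_ne_one (congrArg Subtype.val h01)
    · exact h0
  -- the index of `k'`
  have hidx : (kk ω).index * p ^ e = p ^ a := by
    rw [← hke, ← hK]
    exact AddSubgroup.index_mul_card _
  have hidx' : (kk ω).index = p ^ (a - e) := by
    have h1 : p ^ a = p ^ (a - e) * p ^ e := by rw [← pow_add, Nat.sub_add_cancel hea]
    rw [h1] at hidx
    exact Nat.eq_of_mul_eq_mul_right (pow_pos hp.pos e) hidx
  have hNidx : N.index ∣ p ^ (a - e) := by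
    rw [← hidx']
    exact AddSubgroup.index_dvd_of_le hle
  have hNle : N.index ≤ p ^ (a - e) := Nat.le_of_dvd (pow_pos hp.pos _) hNidx
  refine hNle.trans (Nat.pow_le_pow_right hp.pos ?_)
  -- `a - e ≤ bb a`
  unfold bb
  split_ifs with hodd
  · -- `a` odd: `d = 1`
    set d := Module.finrank ↥(multField (kk ω)) K with hd
    have hd2 : d ≤ 2 := by
      by_contra hcon
      push Not at hcon
      have : e * 3 ≤ e * d := Nat.mul_le_mul_left e hcon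
      omega
    have hd1 : d = 1 := by
      interval_cases d
      · omega
      · rfl
      · omega
    rw [hd1, mul_one] at had
    omega
  · omega

end Cfsg.Agent.Lib.Helper5.SchIDX
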