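/-
helper5: S4395 leaf IRR (`addSubgroup_eq_bot_or_top`).
-/
import Mathlib

set_option autoImplicit false
universe u v

namespace Cfsg.Agent.Lib.Helper5.SchIRR

/-- **TAG IRR** irreducibility (from (SPAN) applied to `{x | v * x ∈ S}` for a nonzero `v ∈ S`). -/
theorem addSubgroup_eq_bot_or_top {K : Type*} [Field K]
    (ω : K) (hspan : ∀ S : AddSubgroup K, (1 : K) ∈ S → (∀ v ∈ S, ω * v ∈ S) → S = ⊤)
    (S : AddSubgroup K) (hS : ∀ v ∈ S, ω * v ∈ S) : S = ⊥ ∨ S = ⊤ := by
  by_cases hbot : S = ⊥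
  · exact Or.inl hbot
  · right
    obtain ⟨⟨v, hvS⟩, hv⟩ := (AddSubgroup.ne_bot_iff_exists_ne_zero).mp hbot
    have hv0 : v ≠ 0 := fun h => hv (Subtype.ext h)
    have hT := hspan (S.comap (AddMonoidHom.mulLeft v))
      (by
        show v * 1 ∈ S
        rw [mul_one]; exact hvS)
      (by
        intro x hx
        show v * (ω * x) ∈ S
        have hx' : v * x ∈ S := hx
        have : v * (ω * x) = ω * (v * x) := by ring
        rw [this]
        exact hS _ hx')
    rw [eq_top_iff]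
    intro s _
    have : v⁻¹ * s ∈ S.comap (AddMonoidHom.mulLeft v) := by rw [hT]; trivial
    have h2 : v * (v⁻¹ * s) ∈ S := this
    rwa [mul_inv_cancel_left₀ hv0] at h2

end Cfsg.Agent.Lib.Helper5.SchIRR
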