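import Mathlib
import Cfsg.Agent.Lib.Helper5.Symp

set_option autoImplicit false
set_option linter.unusedSectionVars false

namespace Cfsg.Agent.Lib.Helper5.SympCount

open Cfsg Cfsg.Agent.Lib.Helper5 Module

theorem double_count {α β : Type*} (s : Finset α) (t : Finset β) (r : α → β → Prop)
    [DecidableRel r] (a b : ℕ)
    (h1 : ∀ x ∈ s, (t.filter (fun y => r x y)).card = a)
    (h2 : ∀ y ∈ t, (s.filter (fun x => r x y)).card = b) : s.card * a = t.card * b := by
  have h := Finset.sum_card_bipartiteAbove_eq_sum_card_bipartiteBelow (s := s) (t := t) r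
  unfold Finset.bipartiteAbove Finset.bipartiteBelow at h
  rw [Finset.sum_congr rfl (fun x hx => h1 x hx), Finset.sum_congr rfl (fun y hy => h2 y hy)] at h
  simpa [Finset.sum_const, smul_eq_mul] using h

variable {F : Type*} [Field F] [Fintype F] (m : ℕ)

/-- `w ↦ f(v, w)` as a linear functional -/
def phi (v : Fin m ⊕ Fin m → F) : (Fin m ⊕ Fin m → F) →ₗ[F] F where
  toFun w := Cfsg.sympForm m F v w
  map_add' x y := sympForm_add_right v x y
  map_smul' c w := by simp [sympForm_smul_right]

@[simp] lemma phi_apply (v w : Fin m ⊕ Fin m → F) : phi m v w = Cfsg.sympForm m F v w := rfl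

lemma phi_surj (v : Fin m ⊕ Fin m → F) (hv : v ≠ 0) : Function.Surjective (phi m v) := by
  obtain ⟨a, ha⟩ := sympForm_nondeg v hv
  intro c
  refine ⟨(c / Cfsg.sympForm m F v a) • a, ?_⟩
  rw [map_smul, phi_apply, smul_eq_mul, div_mul_cancel₀ _ ha]

lemma finrank_ker_phi (v : Fin m ⊕ Fin m → F) (hv : v ≠ 0) :
    finrank F (LinearMap.ker (phi m v)) + 1 = 2 * m := by
  have h := LinearMap.finrank_range_add_finrank_ker (phi m v)
  rw [LinearMap.range_eq_top.mpr (phi_surj m v hv), finrank_top, finrank_self] at h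
  simp only [finrank_pi_fintype, finrank_self, Finset.sum_const, Finset.card_univ,
    Fintype.card_sum, Fintype.card_fin, smul_eq_mul, mul_one] at h
  omega

lemma card_ker_phi (v : Fin m ⊕ Fin m → F) (hv : v ≠ 0) :
    Nat.card (LinearMap.ker (phi m v)) * Fintype.card F = Fintype.card F ^ (2 * m) := by
  rw [Module.natCard_eq_pow_finrank (K := F) (V := LinearMap.ker (phi m v)),
    Nat.card_eq_fintype_card, ← pow_succ, finrank_ker_phi m v hv]

lemma ncard_submodule {V : Type*} [AddCommGroup V] [Module F V] [Finite V] (W : Submodule F V) :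
    (W : Set V).ncard = Fintype.card F ^ finrank F W := by
  rw [← Nat.card_coe_set_eq, ← Nat.card_eq_fintype_card]
  exact Module.natCard_eq_pow_finrank (K := F) (V := W)

/-- totally isotropic: spanned pair -/
lemma ti_span_pair (v w : Fin m ⊕ Fin m → F) (h : Cfsg.sympForm m F v w = 0) :
    ∀ u ∈ Submodule.span F {v, w}, ∀ u' ∈ Submodule.span F {v, w}, Cfsg.sympForm m F u u' = 0 := by
  intro u hu u' hu'
  obtain ⟨a, b, rfl⟩ := Submodule.mem_span_pair.mp hu
  obtain ⟨c, d, rfl⟩ := Submodule.mem_span_pair.mp hu'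
  have h' : Cfsg.sympForm m F w v = 0 := by rw [sympForm_swap, h, neg_zero]
  simp only [sympForm_add_left, sympForm_add_right, sympForm_smul_left, sympForm_smul_right,
    sympForm_self, h, h', mul_zero, add_zero]

lemma finrank_span_pair (v w : Fin m ⊕ Fin m → F) (hv : v ≠ 0) (hw : w ∉ Submodule.span F {v}) :
    finrank F (Submodule.span F {v, w}) = 2 := by
  have hli : LinearIndependent F ![v, w] := by
    rw [LinearIndependent.pair_iff' hv]
    intro a ha
    exact hw (Submodule.mem_span_singleton.mpr ⟨a, ha⟩)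
  have := finrank_span_eq_card hli
  have hr : Set.range ![v, w] = {v, w} := by
    ext z
    simp [eq_comm, or_comm]
  rw [hr] at this
  simpa using this

section Count

variable {m}

lemma card_pos_F : 2 ≤ Fintype.card F := Fintype.one_lt_card

/-- the t.i. predicate -/
def TI (W : Submodule F (Fin m ⊕ Fin m → F)) : Prop :=
  ∀ u ∈ W, ∀ w ∈ W, Cfsg.sympForm m F u w = 0

lemma span_singleton_le_ker (v : Fin m ⊕ Fin m → F) :
    Submodule.span F {v} ≤ LinearMap.ker (phi m v) := by
  rw [Submodule.span_singleton_le_iff_mem, LinearMap.mem_ker, phi_apply, sympForm_self]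

open Classical in
theorem lines_through (v : Fin m ⊕ Fin m → F) (hv : v ≠ 0) :
    Nat.card {W : Submodule F (Fin m ⊕ Fin m → F) // finrank F W = 2 ∧ v ∈ W ∧ TI W} *
        (Fintype.card F ^ 2 - Fintype.card F) =
      (LinearMap.ker (phi m v) : Set (Fin m ⊕ Fin m → F)).ncard - Fintype.card F := by
  have : Fintype (Submodule F (Fin m ⊕ Fin m → F)) := Fintype.ofFinite _
  set s : Finset (Submodule F (Fin m ⊕ Fin m → F)) :=
    Finset.univ.filter (fun W => finrank F W = 2 ∧ v ∈ W ∧ TI W) with hs
  set t : Finset (Fin m ⊕ Fin m → F) :=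
    Finset.univ.filter (fun w => Cfsg.sympForm m F v w = 0 ∧ w ∉ Submodule.span F {v}) with ht
  have hcs : Nat.card {W : Submodule F (Fin m ⊕ Fin m → F) // finrank F W = 2 ∧ v ∈ W ∧ TI W} =
      s.card := by
    rw [Nat.card_eq_fintype_card, Fintype.card_subtype]
  have hspan1 : (Submodule.span F {v} : Set (Fin m ⊕ Fin m → F)).ncard = Fintype.card F := by
    rw [ncard_submodule, finrank_span_singleton hv, pow_one]
  have hct : t.card = (LinearMap.ker (phi m v) : Set (Fin m ⊕ Fin m → F)).ncard -
      Fintype.card F := by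
    have : (t : Set (Fin m ⊕ Fin m → F)) =
        (LinearMap.ker (phi m v) : Set (Fin m ⊕ Fin m → F)) \ (Submodule.span F {v}) := by
      ext w
      simp [ht]
    rw [← Set.ncard_coe_finset, this, Set.ncard_sdiff (span_singleton_le_ker v), hspan1]
  have h1 : ∀ W ∈ s, (t.filter (fun w => w ∈ W)).card = Fintype.card F ^ 2 - Fintype.card F := by
    intro W hW
    simp only [hs, Finset.mem_filter, Finset.mem_univ, true_and] at hW
    obtain ⟨hW2, hvW, hTI⟩ := hW
    have hle : Submodule.span F {v} ≤ W := by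
      rwa [Submodule.span_singleton_le_iff_mem]
    have : ((t.filter (fun w => w ∈ W) : Finset _) : Set (Fin m ⊕ Fin m → F)) =
        (W : Set (Fin m ⊕ Fin m → F)) \ (Submodule.span F {v}) := by
      ext w
      simp only [ht, Finset.coe_filter, Finset.mem_filter, Finset.mem_univ, true_and,
        Set.mem_ofPred_eq, Set.mem_sdiff, SetLike.mem_coe]
      constructor
      · rintro ⟨⟨_, h2⟩, h3⟩
        exact ⟨h3, h2⟩
      · rintro ⟨h3, h2⟩
        exact ⟨⟨hTI v hvW w h3, h2⟩, h3⟩
    rw [← Set.ncard_coe_finset, this, Set.ncard_sdiff hle, hspan1, ncard_submodule, hW2]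
  have h2 : ∀ w ∈ t, (s.filter (fun W => w ∈ W)).card = 1 := by
    intro w hw
    simp only [ht, Finset.mem_filter, Finset.mem_univ, true_and] at hw
    obtain ⟨hvw, hwv⟩ := hw
    rw [Finset.card_eq_one]
    refine ⟨Submodule.span F {v, w}, ?_⟩
    ext W
    simp only [hs, Finset.mem_filter, Finset.mem_univ, true_and, Finset.mem_singleton]
    constructor
    · rintro ⟨⟨hW2, hvW, hTI⟩, hwW⟩
      have hle : Submodule.span F {v, w} ≤ W := by
        rw [Submodule.span_le]
        rintro z (rfl | rfl)
        · exact hvW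
        · exact hwW
      have hfin : finrank F (Submodule.span F {v, w}) = finrank F W := by
        rw [finrank_span_pair m v w hv hwv, hW2]
      exact (Submodule.eq_of_le_of_finrank_eq hle hfin).symm
    · rintro rfl
      refine ⟨⟨finrank_span_pair m v w hv hwv, Submodule.subset_span (by simp), ?_⟩,
        Submodule.subset_span (by simp)⟩
      exact ti_span_pair m v w hvw
  rw [hcs, ← hct]
  have := double_count s t (fun W w => w ∈ W) _ _ h1 h2
  rw [this, mul_one]

end Count

section Total

open Classical in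
theorem lines_total {m : ℕ} (L : ℕ)
    (hL : ∀ v : Fin m ⊕ Fin m → F, v ≠ 0 →
      Nat.card {W : Submodule F (Fin m ⊕ Fin m → F) // finrank F W = 2 ∧ v ∈ W ∧ TI W} = L) :
    Nat.card {W : Submodule F (Fin m ⊕ Fin m → F) // finrank F W = 2 ∧ TI W} *
        (Fintype.card F ^ 2 - 1) = (Fintype.card F ^ (2 * m) - 1) * L := by
  have : Fintype (Submodule F (Fin m ⊕ Fin m → F)) := Fintype.ofFinite _
  set s : Finset (Submodule F (Fin m ⊕ Fin m → F)) :=
    Finset.univ.filter (fun W => finrank F W = 2 ∧ TI W) with hs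
  set t : Finset (Fin m ⊕ Fin m → F) := Finset.univ.filter (fun v => v ≠ 0) with ht
  have hcs : Nat.card {W : Submodule F (Fin m ⊕ Fin m → F) // finrank F W = 2 ∧ TI W} =
      s.card := by
    rw [Nat.card_eq_fintype_card, Fintype.card_subtype]
  have hct : t.card = Fintype.card F ^ (2 * m) - 1 := by
    rw [ht, Finset.filter_ne' Finset.univ (0 : Fin m ⊕ Fin m → F),
      Finset.card_erase_of_mem (Finset.mem_univ _), Finset.card_univ]
    simp [two_mul]
  have h1 : ∀ W ∈ s, (t.filter (fun v => v ∈ W)).card = Fintype.card F ^ 2 - 1 := by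
    intro W hW
    simp only [hs, Finset.mem_filter, Finset.mem_univ, true_and] at hW
    obtain ⟨hW2, hTI⟩ := hW
    have : ((t.filter (fun v => v ∈ W) : Finset _) : Set (Fin m ⊕ Fin m → F)) =
        (W : Set (Fin m ⊕ Fin m → F)) \ {0} := by
      ext w
      simp only [ht, Finset.coe_filter, Finset.mem_filter, Finset.mem_univ, true_and,
        Set.mem_ofPred_eq, Set.mem_sdiff, SetLike.mem_coe, Set.mem_singleton_iff]
      tauto
    rw [← Set.ncard_coe_finset, this, Set.ncard_sdiff_singleton_of_mem (by simp), ncard_submodule,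
      hW2]
  have h2 : ∀ v ∈ t, (s.filter (fun W => v ∈ W)).card = L := by
    intro v hv
    simp only [ht, Finset.mem_filter, Finset.mem_univ, true_and] at hv
    rw [← hL v hv, Nat.card_eq_fintype_card, Fintype.card_subtype, hs, Finset.filter_filter]
    congr 1
    ext W
    simp only [Finset.mem_filter, Finset.mem_univ, true_and]
    tauto
  rw [hcs, ← hct]
  exact double_count s t (fun W v => v ∈ W) _ _ h1 h2

end Total


end Cfsg.Agent.Lib.Helper5.SympCount
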