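/-
S4707 (planner helper26), leaf T2P-INT: `χ` is integer-valued (frozen statement in notes/S4707_leaves.lean).
-/
import Mathlib
import Cfsg.Agent.Lib.Helper19.PDegC
import Cfsg.Agent.Lib.Helper10.CyclicTIGalois
import Cfsg.Agent.Lib.Helper23.GaloisChar

set_option autoImplicit false

namespace Cfsg.Agent.Lib.Helper5.T2PINT

open Cfsg Cfsg.Agent.CharLib Cfsg.Agent.Lib.Helper19.PDeg
open scoped ComplexConjugate

universe u v

variable {G : Type u} [Group G] [Finite G] {p : ℕ} [hp : Fact p.Prime]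

variable {P : Subgroup G} {χ χ₁ : IrrCharacter G} {Y : Finset (IrrCharacter G)}

/-- the power maps prime to `|G|` fix `χ` -/
theorem comp_pow_eq (h : BlockData p P χ χ₁ Y) (hp5 : 5 ≤ p) (hP : Nat.card P = p) (m : ℕ)
    (hm : m.Coprime (Nat.card G)) (g : G) : (χ : G → ℂ) (g ^ m) = (χ : G → ℂ) g := by
  classical
  have hirr : IsIrrCharacter G (fun g => (χ : G → ℂ) (g ^ m)) :=
    Cfsg.Agent.Lib.Helper23.isIrrCharacter_comp_pow χ.2 m hm
  set ψ : IrrCharacter G := ⟨fun g => (χ : G → ℂ) (g ^ m), hirr⟩ with hψ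
  have hψ1 : (ψ : G → ℂ) 1 = (p : ℂ) - 1 := by
    show (χ : G → ℂ) (1 ^ m) = _
    rw [one_pow, h.deg]
  have hpC : ((p : ℕ) : ℂ) ≠ 2 := by
    intro h2
    have : (p : ℂ) = ((2 : ℕ) : ℂ) := by rw [h2]; norm_num
    have := Nat.cast_injective this
    omega
  -- `ψ ≠ χ₁`
  have h1 : ψ ≠ χ₁ := by
    intro he
    have := congrFun h.triv 1
    rw [← he, hψ1] at this
    apply hpC
    linear_combination this
  -- `ψ ∉ Y`
  have h2 : ψ ∉ Y := by
    intro hmem
    have := h.exc_deg ψ hmem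
    rw [hψ1] at this
    have h3 : (1 : ℂ) = 2 := by linear_combination (-1 : ℂ) * this
    norm_num at h3
  -- an element of order `p` in `P`
  have hψχ : ψ = χ := by
    by_contra hne
    have hvan := h.van ψ h1 hne h2
    have hdvd : p ∣ Nat.card P := by rw [hP]
    obtain ⟨y, hy⟩ := exists_prime_orderOf_dvd_card' p hdvd
    have hyo : orderOf (y : G) = p := by rw [Subgroup.orderOf_coe]; exact hy
    have hy1 : (y : G) ≠ 1 := by
      intro h1'
      rw [h1', orderOf_one] at hyo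
      exact hp.out.one_lt.ne hyo
    have h0 := hvan (y : G) y.2 hy1
    have hcop : (orderOf (y : G)).Coprime m := by
      have : orderOf (y : G) ∣ Nat.card G := orderOf_dvd_natCard _
      exact (Nat.Coprime.coprime_dvd_left this hm.symm)
    have hord : orderOf ((y : G) ^ m) = p := by
      rw [Nat.Coprime.orderOf_pow hcop, hyo]
    have hs := h.sing ((y : G) ^ m) (by rw [hord])
    have : (ψ : G → ℂ) (y : G) = -1 := hs
    rw [this] at h0
    norm_num at h0
  have := congrArg (fun ψ : IrrCharacter G => (ψ : G → ℂ) g) hψχ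
  exact this

/-- T2P-INT -/
theorem int_valued (h : BlockData p P χ χ₁ Y) (hp5 : 5 ≤ p) (hP : Nat.card P = p) (g : G) :
    ∃ n : ℤ, (χ : G → ℂ) g = (n : ℂ) :=
  Cfsg.Agent.Lib.Helper10.irr_int_of_forall_pow_eq χ.2 g
    (fun m hm => comp_pow_eq h hp5 hP m hm g)

end Cfsg.Agent.Lib.Helper5.T2PINT
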