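import Mathlib
import Cfsg.Agent.Lib.Helper5.TWS.Defs
import Cfsg.Agent.Lib.Helper8.TW.Defs
import Cfsg.Agent.Lib.Helper6.TWT1
import Cfsg.Agent.Lib.Helper26.TWFibA
import Cfsg.Agent.Lib.Helper22.TWExtBasic
import Cfsg.Agent.Lib.Helper22.TWExtMore
import Cfsg.Agent.Lib.Helper28.TWIIBE
import Cfsg.Agent.Lib.Helper14.TWIIDefs
import Cfsg.Agent.Lib.Helper14.TWUIIThetaG
import Cfsg.Agent.Lib.Helper14.TWSIIDefs
import Cfsg.Agent.Lib.Helper16.TWSIITorus
import Cfsg.Agent.Lib.Helper26.TWSIIT6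

/-!
S5668-II (helper14's market, `notes/S5668_II_leaves.lean`): N2 `theta_scalar_torus` (`θ` scalar for `|F| > 3`, the torus;
symplectic port of `Helper14.TWUIITheta3`), by helper5.
-/

set_option autoImplicit false
set_option linter.unusedSectionVars false
set_option linter.unusedVariables false

namespace Cfsg.Agent.Lib.Helper5.TWSIILeaf
open Matrix Cfsg.Geo Cfsg.Agent.Lib.Helper18.AschA89 Cfsg.Agent.Lib.Helper8.TW Cfsg.Agent.Lib.Helper5.TWS
  Cfsg.Agent.Lib.Helper14.TWII Cfsg.Agent.Lib.Helper14.TWSII Cfsg.Agent.Lib.Helper14.TWUII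
open Cfsg.Agent.Lib.Helper25.SpT (sf Jm sfv)
open Cfsg.Agent.Lib.Helper22.TWLeaf

variable {F : Type*} [Field F] [Fintype F] {t k : ℕ}

/-- `N² = 0` for the symplectic root nilpotent -/
lemma rootN_sfv_sq (i : Fin (t + 1)) (y : Fin k → F) :
    rootN i y (sfv y) * rootN i y (sfv y) = 0 := by
  unfold rootN
  rw [slot_mul, Matrix.vecMulVec_mul_vecMulVec, Cfsg.Agent.Lib.Helper25.SpT.sfv_dot,
    Cfsg.Agent.Lib.Helper25.SpT.sf_self, zero_smul, Matrix.vecMulVec_zero, slot_zero]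

lemma EN_mul_EN_S (i : Fin (t + 1)) (y : Fin k → F) (Θ Θ' : Matrix (Idx t k) (Idx t k) F) :
    (ext i Θ * rootN i y (sfv y)) * (ext i Θ' * rootN i y (sfv y)) = 0 := by
  have hc : rootN i y (sfv y) * ext i Θ' = ext i Θ' * rootN i y (sfv y) := (ext_comm_slot i Θ' _).symm
  calc (ext i Θ * rootN i y (sfv y)) * (ext i Θ' * rootN i y (sfv y))
      = ext i Θ * (rootN i y (sfv y) * ext i Θ') * rootN i y (sfv y) := by simp only [Matrix.mul_assoc]
    _ = ext i Θ * ext i Θ' * (rootN i y (sfv y) * rootN i y (sfv y)) := by rw [hc]; simp only [Matrix.mul_assoc]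
    _ = 0 := by rw [rootN_sfv_sq i y, Matrix.mul_zero]

/-- the element `1 + Θ ⊗ y y†` -/
def zzS (i : Fin (t + 1)) (y : Fin k → F) (Θ : Matrix (Idx t k) (Idx t k) F) :
    GL (Idx (t + 1) k) F :=
  ⟨1 + ext i Θ * rootN i y (sfv y), 1 - ext i Θ * rootN i y (sfv y),
    by
      have h := EN_mul_EN_S i y Θ Θ
      have e : (1 + ext i Θ * rootN i y (sfv y)) * (1 - ext i Θ * rootN i y (sfv y)) =
          1 - (ext i Θ * rootN i y (sfv y)) * (ext i Θ * rootN i y (sfv y)) := by noncomm_ring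
      rw [e, h, sub_zero],
    by
      have h := EN_mul_EN_S i y Θ Θ
      have e : (1 - ext i Θ * rootN i y (sfv y)) * (1 + ext i Θ * rootN i y (sfv y)) =
          1 - (ext i Θ * rootN i y (sfv y)) * (ext i Θ * rootN i y (sfv y)) := by noncomm_ring
      rw [e, h, sub_zero]⟩

lemma zzS_val (i : Fin (t + 1)) (y : Fin k → F) (Θ : Matrix (Idx t k) (Idx t k) F) :
    ((zzS i y Θ : GL (Idx (t + 1) k) F) : Matrix (Idx (t + 1) k) (Idx (t + 1) k) F) =
      1 + ext i Θ * rootN i y (sfv y) := rfl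

lemma zzS_mul (i : Fin (t + 1)) (y : Fin k → F) (Θ Θ' : Matrix (Idx t k) (Idx t k) F) :
    zzS i y Θ * zzS i y Θ' = zzS i y (Θ + Θ') := by
  apply Units.ext
  rw [Units.val_mul, zzS_val, zzS_val, zzS_val, Cfsg.Agent.Lib.Helper28.TWIIBLeaf.ext_add28]
  have h := EN_mul_EN_S i y Θ Θ'
  have e : (1 + ext i Θ * rootN i y (sfv y)) * (1 + ext i Θ' * rootN i y (sfv y)) =
      1 + (ext i Θ + ext i Θ') * rootN i y (sfv y) +
        (ext i Θ * rootN i y (sfv y)) * (ext i Θ' * rootN i y (sfv y)) := by noncomm_ring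
  rw [e, h, add_zero]

lemma ext_zeroS (i : Fin (t + 1)) : ext i (0 : Matrix (Idx t k) (Idx t k) F) = 0 := by
  have := Cfsg.Agent.Lib.Helper28.TWIIBLeaf.ext_smul28 i (0 : F) (0 : Matrix (Idx t k) (Idx t k) F)
  rwa [zero_smul, zero_smul] at this

lemma zzS_zero (i : Fin (t + 1)) (y : Fin k → F) : zzS i y (0 : Matrix (Idx t k) (Idx t k) F) = 1 := by
  apply Units.ext
  rw [zzS_val, ext_zeroS, Matrix.zero_mul, add_zero, Units.val_one]

lemma zzS_inv (i : Fin (t + 1)) (y : Fin k → F) (Θ : Matrix (Idx t k) (Idx t k) F) :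
    (zzS i y Θ)⁻¹ = zzS i y (-Θ) := by
  apply inv_eq_of_mul_eq_one_right
  rw [zzS_mul, add_neg_cancel, zzS_zero]

/-- conjugation by `slotGL i β` when `β (y y†) β⁻¹ = c • y y†` -/
lemma slot_conj_zzS (i : Fin (t + 1)) (y : Fin k → F) (Θ : Matrix (Idx t k) (Idx t k) F)
    (β : GL (Fin k) F) (c : F)
    (hβ : (β : Matrix (Fin k) (Fin k) F) * Matrix.vecMulVec y (sfv y) *
      ((β⁻¹ : GL (Fin k) F) : Matrix (Fin k) (Fin k) F) = c • Matrix.vecMulVec y (sfv y)) :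
    slotGL i β * zzS i y Θ * (slotGL i β)⁻¹ = zzS i y (c • Θ) := by
  apply Units.ext
  rw [Units.val_mul, Units.val_mul, ← slotGL_inv, slotGL_val, slotGL_val, zzS_val, zzS_val,
    Cfsg.Agent.Lib.Helper28.TWIIBLeaf.ext_smul28]
  have hN : slot k (t + 1) i (β : Matrix (Fin k) (Fin k) F) * rootN i y (sfv y) *
      slot k (t + 1) i ((β⁻¹ : GL (Fin k) F) : Matrix (Fin k) (Fin k) F) = c • rootN i y (sfv y) := by
    unfold rootN
    rw [slot_mul, slot_mul, hβ, Cfsg.Agent.Lib.Helper6.TWQ.slot_smul]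
  have h1 : slot k (t + 1) i (β : Matrix (Fin k) (Fin k) F) *
      slot k (t + 1) i ((β⁻¹ : GL (Fin k) F) : Matrix (Fin k) (Fin k) F) = 1 := by
    rw [slot_mul, ← Units.val_mul, mul_inv_cancel, Units.val_one, slot_one]
  have hc : slot k (t + 1) i (β : Matrix (Fin k) (Fin k) F) * ext i Θ =
      ext i Θ * slot k (t + 1) i (β : Matrix (Fin k) (Fin k) F) := (ext_comm_slot i Θ _).symm
  calc slot k (t + 1) i (β : Matrix (Fin k) (Fin k) F) * (1 + ext i Θ * rootN i y (sfv y)) *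
        slot k (t + 1) i ((β⁻¹ : GL (Fin k) F) : Matrix (Fin k) (Fin k) F)
      = slot k (t + 1) i (β : Matrix (Fin k) (Fin k) F) *
          slot k (t + 1) i ((β⁻¹ : GL (Fin k) F) : Matrix (Fin k) (Fin k) F) +
        (slot k (t + 1) i (β : Matrix (Fin k) (Fin k) F) * ext i Θ) * rootN i y (sfv y) *
          slot k (t + 1) i ((β⁻¹ : GL (Fin k) F) : Matrix (Fin k) (Fin k) F) := by noncomm_ring
    _ = 1 + ext i Θ * (slot k (t + 1) i (β : Matrix (Fin k) (Fin k) F) * rootN i y (sfv y) *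
          slot k (t + 1) i ((β⁻¹ : GL (Fin k) F) : Matrix (Fin k) (Fin k) F)) := by
        rw [h1, hc]; simp only [Matrix.mul_assoc]
    _ = 1 + c • ext i Θ * rootN i y (sfv y) := by
        rw [hN, Matrix.mul_smul, Matrix.smul_mul]

/-- conjugation by `extGL i γ` -/
lemma ext_conj_zzS (i : Fin (t + 1)) (y : Fin k → F) (Θ : Matrix (Idx t k) (Idx t k) F)
    (γ : GL (Idx t k) F) :
    extGL i γ * zzS i y Θ * (extGL i γ)⁻¹ =
      zzS i y ((γ : Matrix (Idx t k) (Idx t k) F) * Θ * ((γ⁻¹ : GL (Idx t k) F) : Matrix (Idx t k) (Idx t k) F)) := by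
  apply Units.ext
  rw [Units.val_mul, Units.val_mul, ← extGL_inv, extGL_val, extGL_val, zzS_val, zzS_val, ← ext_mul, ← ext_mul]
  have h1 : ext i (γ : Matrix (Idx t k) (Idx t k) F) *
      ext i ((γ⁻¹ : GL (Idx t k) F) : Matrix (Idx t k) (Idx t k) F) = 1 := by
    rw [ext_mul, ← Units.val_mul, mul_inv_cancel, Units.val_one, ext_one]
  have hc : rootN i y (sfv y) * ext i ((γ⁻¹ : GL (Idx t k) F) : Matrix (Idx t k) (Idx t k) F) =
      ext i ((γ⁻¹ : GL (Idx t k) F) : Matrix (Idx t k) (Idx t k) F) * rootN i y (sfv y) :=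
    (ext_comm_slot i _ _).symm
  calc ext i (γ : Matrix (Idx t k) (Idx t k) F) * (1 + ext i Θ * rootN i y (sfv y)) *
        ext i ((γ⁻¹ : GL (Idx t k) F) : Matrix (Idx t k) (Idx t k) F)
      = ext i (γ : Matrix (Idx t k) (Idx t k) F) *
          ext i ((γ⁻¹ : GL (Idx t k) F) : Matrix (Idx t k) (Idx t k) F) +
        ext i (γ : Matrix (Idx t k) (Idx t k) F) * ext i Θ *
          (rootN i y (sfv y) * ext i ((γ⁻¹ : GL (Idx t k) F) : Matrix (Idx t k) (Idx t k) F)) := by noncomm_ring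
    _ = 1 + ext i (γ : Matrix (Idx t k) (Idx t k) F) * ext i Θ *
          ext i ((γ⁻¹ : GL (Idx t k) F) : Matrix (Idx t k) (Idx t k) F) * rootN i y (sfv y) := by
        rw [h1, hc]; simp only [Matrix.mul_assoc]

/-- `zzS Θ` is in `Z_W` -/
lemma InZ_zzS (i : Fin (t + 1)) (y : Fin k → F) (hy0 : y ≠ 0)
    (Θ : Matrix (Idx t k) (Idx t k) F) : InZ i y (zzS i y Θ) := by
  have hηy : sfv y ⬝ᵥ y = 0 := by
    rw [Cfsg.Agent.Lib.Helper25.SpT.sfv_dot]; exact Cfsg.Agent.Lib.Helper25.SpT.sf_self y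
  have hcomm : ext i Θ * rootN i y (sfv y) = rootN i y (sfv y) * ext i Θ := ext_comm_slot i Θ _
  constructor
  · intro v
    unfold mv
    rw [zzS_val, Matrix.add_mulVec, Matrix.one_mulVec, add_sub_cancel_left, hcomm, ← Matrix.mulVec_mulVec]
    intro x
    rw [Cfsg.Agent.Lib.Helper26.TWLeaf.rootN_mulVec_slice26]
    exact Submodule.smul_mem _ _ (Submodule.mem_span_singleton_self y)
  · intro v hv
    obtain ⟨b, rfl⟩ := (mem_Wf_iff_tens i y hy0 v).1 hv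
    unfold mv
    rw [zzS_val, Matrix.add_mulVec, Matrix.one_mulVec, ← Matrix.mulVec_mulVec]
    unfold rootN
    rw [slot_mulVec_tens, Cfsg.Agent.Lib.Helper6.TWLeaf.vecMulVec_mulVec', hηy, zero_smul,
      Cfsg.Agent.Lib.Helper14.TWUIILeaf.tens_zero_right14, Matrix.mulVec_zero, add_zero]

/-- a similitude `β` (multiplier `c`) with `β y = s y` conjugates `y y†` to a multiple -/
lemma conj_MS (y : Fin k → F) (β : GL (Fin k) F) (c : Fˣ)
    (hβ : ∀ a b : Fin k → F,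
      sf ((β : Matrix (Fin k) (Fin k) F) *ᵥ a) ((β : Matrix (Fin k) (Fin k) F) *ᵥ b) = (c : F) * sf a b) (s : F)
    (hs : (β : Matrix (Fin k) (Fin k) F) *ᵥ y = s • y) :
    (β : Matrix (Fin k) (Fin k) F) * Matrix.vecMulVec y (sfv y) *
      ((β⁻¹ : GL (Fin k) F) : Matrix (Fin k) (Fin k) F) =
        (s * s * ((c⁻¹ : Fˣ) : F)) • Matrix.vecMulVec y (sfv y) := by
  -- `y† β⁻¹ = (c⁻¹ s) • y†`
  have hrow : sfv y ᵥ* ((β⁻¹ : GL (Fin k) F) : Matrix (Fin k) (Fin k) F) = (((c⁻¹ : Fˣ) : F) * s) • sfv y := by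
    funext j
    have h1 : (sfv y ᵥ* ((β⁻¹ : GL (Fin k) F) : Matrix (Fin k) (Fin k) F)) j =
        sfv y ⬝ᵥ (((β⁻¹ : GL (Fin k) F) : Matrix (Fin k) (Fin k) F) *ᵥ Pi.single j 1) := by
      rw [Matrix.mulVec_single_one]
      rfl
    rw [h1, Cfsg.Agent.Lib.Helper25.SpT.sfv_dot]
    set a : Fin k → F := ((β⁻¹ : GL (Fin k) F) : Matrix (Fin k) (Fin k) F) *ᵥ Pi.single j 1 with ha
    have hba : (β : Matrix (Fin k) (Fin k) F) *ᵥ a = Pi.single j 1 := by
      rw [ha, Matrix.mulVec_mulVec, ← Units.val_mul, mul_inv_cancel, Units.val_one, Matrix.one_mulVec]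
    have h2 := hβ a y
    rw [hba, hs, Cfsg.Agent.Lib.Helper25.SpT.sf_smul_right] at h2
    -- `s * sf (single j) y = c * sf a y`
    have h3 : sf a y = ((c⁻¹ : Fˣ) : F) * (s * sf (Pi.single j 1) y) := by
      rw [h2, ← mul_assoc, ← Units.val_mul, inv_mul_cancel, Units.val_one, one_mul]
    rw [h3, Pi.smul_apply, smul_eq_mul]
    have h4 : sf (Pi.single j 1) y = sfv y j := by
      rw [← Cfsg.Agent.Lib.Helper25.SpT.sfv_dot, dotProduct_single_one]
    rw [h4]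
    ring
  rw [Matrix.mul_vecMulVec, Matrix.vecMulVec_mul, hs, hrow, Matrix.smul_vecMulVec, Matrix.vecMulVec_smul, smul_smul]
  congr 1
  ring

/-- the core: `θ` is scalar as soon as a torus element `d ∈ Sp(A)` with `d y = l y`, `l² ≠ 1`, is available -/
theorem theta_scalar_of_torusS (hk : Even k) (hk2 : 2 ≤ k)
    (X' : Subgroup (GL (Idx (t + 1) k) F)) (i : Fin (t + 1)) (y : Fin k → F) (hy0 : y ≠ 0)
    (hB : ∀ u ∈ X', InZ i y u → u ∈ Gstd (t + 1) k F)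
    (α₁ : GL (Fin k) F) (hα₁ : α₁ ∈ DSA k F) (hα₁y : (α₁ : Matrix (Fin k) (Fin k) F) *ᵥ y = y)
    (γ : GL (Idx t k) F) (z₁ : GL (Idx (t + 1) k) F) (θ : Matrix (Idx t k) (Idx t k) F)
    (hz₁ : (z₁ : Matrix (Idx (t + 1) k) (Idx (t + 1) k) F) = 1 + ext i θ * rootN i y (sfv y))
    (hcomm : ∀ α' : GL (Fin k) F, α' ∈ GSA k F →
      (slotGL i α₁ * extGL i γ) * ((slotGL i α')⁻¹ * z₁ * slotGL i α' * z₁⁻¹) * (slotGL i α₁ * extGL i γ)⁻¹ ∈ X')
    (d : GL (Fin k) F) (hdU : d ∈ GSA k F) (l : F)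
    (hdy : (d : Matrix (Fin k) (Fin k) F) *ᵥ y = l • y) (hl : l * l ≠ 1) :
    ∃ c : F, θ = c • (1 : Matrix (Idx t k) (Idx t k) F) := by
  classical
  have hz : z₁ = zzS i y θ := Units.ext hz₁
  -- `l ≠ 0`
  have hl0 : l ≠ 0 := by
    rintro rfl
    rw [zero_smul] at hdy
    apply hy0
    have := congrArg (fun v => ((d⁻¹ : GL (Fin k) F) : Matrix (Fin k) (Fin k) F) *ᵥ v) hdy
    simp only [Matrix.mulVec_mulVec, Matrix.mulVec_zero] at this
    rwa [← Units.val_mul, inv_mul_cancel, Units.val_one, Matrix.one_mulVec] at this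
  -- `d⁻¹ y = l⁻¹ y`
  have hdiy : ((d⁻¹ : GL (Fin k) F) : Matrix (Fin k) (Fin k) F) *ᵥ y = l⁻¹ • y := by
    have h1 : ((d⁻¹ : GL (Fin k) F) : Matrix (Fin k) (Fin k) F) *ᵥ (l • y) = y := by
      rw [← hdy, Matrix.mulVec_mulVec, ← Units.val_mul, inv_mul_cancel, Units.val_one, Matrix.one_mulVec]
    rw [Matrix.mulVec_smul] at h1
    calc ((d⁻¹ : GL (Fin k) F) : Matrix (Fin k) (Fin k) F) *ᵥ y
        = l⁻¹ • (l • ((d⁻¹ : GL (Fin k) F) : Matrix (Fin k) (Fin k) F) *ᵥ y) := by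
          rw [smul_smul, inv_mul_cancel₀ hl0, one_smul]
      _ = l⁻¹ • y := by rw [h1]
  have hηy : sfv y ⬝ᵥ y = 0 := by
    rw [Cfsg.Agent.Lib.Helper25.SpT.sfv_dot]; exact Cfsg.Agent.Lib.Helper25.SpT.sf_self y
  -- conjugation by `d⁻¹`
  have hdi : d⁻¹ ∈ GSA k F := (GSA k F).inv_mem hdU
  have hadj := mem_GSA.1 hdi
  have hM1 := conj_MS y d⁻¹ 1 (by intro a b; rw [Units.val_one, one_mul]; exact hadj a b) l⁻¹ hdiy
  obtain ⟨ν, hν⟩ : ∃ ν : F, ν = l⁻¹ * l⁻¹ * (((1 : Fˣ)⁻¹ : Fˣ) : F) := ⟨_, rfl⟩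
  rw [← hν] at hM1
  have h1 : (slotGL i d)⁻¹ * zzS i y θ * slotGL i d = zzS i y (ν • θ) := by
    have := slot_conj_zzS i y θ d⁻¹ ν hM1
    rwa [slotGL_inv, inv_inv] at this
  -- conjugation by `κ`
  obtain ⟨c, hc⟩ := mem_DSA.1 hα₁
  have hM2 := conj_MS y α₁ c hc 1 (by rw [one_smul]; exact hα₁y)
  obtain ⟨μ', hμ'⟩ : ∃ μ' : F, μ' = 1 * 1 * ((c⁻¹ : Fˣ) : F) := ⟨_, rfl⟩
  rw [← hμ'] at hM2
  have h2 : ∀ Θ : Matrix (Idx t k) (Idx t k) F,
      (slotGL i α₁ * extGL i γ) * zzS i y Θ * (slotGL i α₁ * extGL i γ)⁻¹ =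
        zzS i y (μ' • ((γ : Matrix (Idx t k) (Idx t k) F) * Θ *
          ((γ⁻¹ : GL (Idx t k) F) : Matrix (Idx t k) (Idx t k) F))) := by
    intro Θ
    have e : (slotGL i α₁ * extGL i γ) * zzS i y Θ * (slotGL i α₁ * extGL i γ)⁻¹ =
        slotGL i α₁ * (extGL i γ * zzS i y Θ * (extGL i γ)⁻¹) * (slotGL i α₁)⁻¹ := by group
    rw [e, ext_conj_zzS, slot_conj_zzS i y _ α₁ μ' hM2]
  have hw := hcomm d hdU
  rw [hz, h1, zzS_inv, zzS_mul, h2] at hw
  have hG := hB _ hw (InZ_zzS i y hy0 _)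
  obtain ⟨e, he⟩ := Cfsg.Agent.Lib.Helper14.TWUIILeaf.theta_scalar_of_G hk2 i y (sfv y) hy0 (sfv_ne_zero hk hy0) hηy _ _ hG (zzS_val i y _)
  -- the scalars are non-zero
  have hν1 : ν - 1 ≠ 0 := by
    intro h0
    apply hl
    have h1' : ν = 1 := sub_eq_zero.1 h0
    have h2' : ν * (l * l) = 1 := by
      rw [hν, inv_one, Units.val_one, mul_one]
      field_simp
    rwa [h1', one_mul] at h2'
  have hμ0 : μ' ≠ 0 := by
    rw [hμ', one_mul, one_mul]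
    exact Units.ne_zero _
  have hne : μ' * (ν - 1) ≠ 0 := mul_ne_zero hμ0 hν1
  have h3 : (γ : Matrix (Idx t k) (Idx t k) F) * θ * ((γ⁻¹ : GL (Idx t k) F) : Matrix (Idx t k) (Idx t k) F) =
      (e / (μ' * (ν - 1))) • 1 := by
    have h4 : ν • θ + -θ = (ν - 1) • θ := by rw [sub_smul, one_smul, sub_eq_add_neg]
    rw [h4, Matrix.mul_smul, Matrix.smul_mul, smul_smul] at he
    have h5 := congrArg (fun M => (μ' * (ν - 1))⁻¹ • M) he
    simp only [smul_smul] at h5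
    rw [inv_mul_cancel₀ hne, one_smul] at h5
    rw [h5, div_eq_inv_mul]
  refine ⟨e / (μ' * (ν - 1)), ?_⟩
  calc θ = ((γ⁻¹ : GL (Idx t k) F) : Matrix (Idx t k) (Idx t k) F) *
        ((γ : Matrix (Idx t k) (Idx t k) F) * θ * ((γ⁻¹ : GL (Idx t k) F) : Matrix (Idx t k) (Idx t k) F)) *
          (γ : Matrix (Idx t k) (Idx t k) F) := by
        rw [Matrix.mul_assoc, Matrix.mul_assoc, ← Units.val_mul, inv_mul_cancel, Units.val_one, Matrix.mul_one,
          ← Matrix.mul_assoc, ← Units.val_mul, inv_mul_cancel, Units.val_one, Matrix.one_mul]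
    _ = (e / (μ' * (ν - 1))) • 1 := by
        rw [h3, Matrix.mul_smul, Matrix.smul_mul, Matrix.mul_one, ← Units.val_mul, inv_mul_cancel, Units.val_one]

/-- a field with more than three elements has some `l ≠ 0` with `l² ≠ 1` -/
lemma exists_sq_ne_one (hcard : 3 < Fintype.card F) : ∃ l : F, l ≠ 0 ∧ l * l ≠ 1 := by
  classical
  by_contra hcon
  push Not at hcon
  have hall : ∀ l : F, l ∈ ({0, 1, -1} : Finset F) := by
    intro l
    by_cases h0 : l = 0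
    · simp [h0]
    · have h1 := hcon l h0
      have h2 : (l - 1) * (l + 1) = 0 := by linear_combination h1
      rcases mul_eq_zero.1 h2 with h | h
      · simp [sub_eq_zero.1 h]
      · simp [eq_neg_of_add_eq_zero_left h]
  have hle : Fintype.card F ≤ 3 := by
    calc Fintype.card F = (Finset.univ : Finset F).card := Finset.card_univ.symm
      _ ≤ ({0, 1, -1} : Finset F).card := Finset.card_le_card (fun x _ => hall x)
      _ ≤ 3 := Finset.card_le_three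
  omega

/-- N2 (L) **`θ` scalar, `|F| > 3`**: the TORUS -/
theorem theta_scalar_torus (hk : Even k) (hk2 : 2 ≤ k) (hcard : 3 < Fintype.card F)
    (X' : Subgroup (GL (Idx (t + 1) k) F)) (i : Fin (t + 1)) (y : Fin k → F) (hy0 : y ≠ 0)
    (hB : ∀ u ∈ X', InZ i y u → u ∈ Gstd (t + 1) k F)
    (α₁ : GL (Fin k) F) (hα₁ : α₁ ∈ DSA k F) (hα₁y : (α₁ : Matrix (Fin k) (Fin k) F) *ᵥ y = y)
    (γ : GL (Idx t k) F) (z₁ : GL (Idx (t + 1) k) F) (θ : Matrix (Idx t k) (Idx t k) F)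
    (hz₁ : (z₁ : Matrix (Idx (t + 1) k) (Idx (t + 1) k) F) = 1 + ext i θ * rootN i y (sfv y))
    (hcomm : ∀ α' : GL (Fin k) F, α' ∈ GSA k F →
      (slotGL i α₁ * extGL i γ) * ((slotGL i α')⁻¹ * z₁ * slotGL i α' * z₁⁻¹) * (slotGL i α₁ * extGL i γ)⁻¹ ∈ X') :
    ∃ c : F, θ = c • (1 : Matrix (Idx t k) (Idx t k) F) := by
  obtain ⟨y', hyy'⟩ := Cfsg.Agent.Lib.Helper26.TWSIILeaf.exists_partner hk y hy0
  obtain ⟨l, hl0, hl⟩ := exists_sq_ne_one hcard
  obtain ⟨d, -, hdU, hdy, -, -⟩ := Cfsg.Agent.Lib.Helper16.TWSIILeaf.torS_mem y y' hyy' l hl0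
  exact theta_scalar_of_torusS hk hk2 X' i y hy0 hB α₁ hα₁ hα₁y γ z₁ θ hz₁ hcomm d hdU l hdy hl

end Cfsg.Agent.Lib.Helper5.TWSIILeaf
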