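import Mathlib
import Cfsg.Agent.Lib.Helper5.TWS.Defs
import Cfsg.Agent.Lib.Helper8.TW.Defs
import Cfsg.Agent.Lib.Helper22.TWExtBasic
import Cfsg.Agent.Lib.Helper22.TWExtMore
import Cfsg.Agent.Lib.Helper22.TWQK
import Cfsg.Agent.Lib.Helper22.TWQStab
import Cfsg.Agent.Lib.Helper23.TWG1
import Cfsg.Agent.Lib.Helper23.TWG6
import Cfsg.Agent.Lib.Helper26.TWFibA
import Cfsg.Agent.Lib.Helper26.TWFibB
import Cfsg.Agent.Lib.Helper16.TWImg
import Cfsg.Agent.Lib.Helper12.TWIIBZ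
import Cfsg.Agent.Lib.Helper12.TWIIBS
import Cfsg.Agent.Lib.Helper28.TWIIBE
import Cfsg.Agent.Lib.Helper17.TWUIIR1a
import Cfsg.Agent.Lib.Helper14.TWIIDefs
import Cfsg.Agent.Lib.Helper14.TWIIBBK
import Cfsg.Agent.Lib.Helper14.TWIIBB1
import Cfsg.Agent.Lib.Helper14.TWUIIDefs
import Cfsg.Agent.Lib.Helper14.TWUIIB1y
import Cfsg.Agent.Lib.Helper14.TWUIISlotFix
import Cfsg.Agent.Lib.Helper14.TWUIIThetaG
import Cfsg.Agent.Lib.Helper14.TWSIIDefs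
import Cfsg.Agent.Lib.Helper1.TWSIILift
import Cfsg.Agent.Lib.Helper1.TWSIIT2
import Cfsg.Agent.Lib.Helper10.TWSIIR3
import Cfsg.Agent.Lib.Helper12.TWSIIL2
import Cfsg.Agent.Lib.Helper12.TWSIIL4
import Cfsg.Agent.Lib.Helper12.TWSIIR4
import Cfsg.Agent.Lib.Helper12.TWSIIR5
import Cfsg.Agent.Lib.Helper13.TWSIIL1
import Cfsg.Agent.Lib.Helper14.TWSIIB1c
import Cfsg.Agent.Lib.Helper16.TWSIIConj
import Cfsg.Agent.Lib.Helper16.TWSIIEta
import Cfsg.Agent.Lib.Helper16.TWSIITorus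
import Cfsg.Agent.Lib.Helper18.TWSIIB2
import Cfsg.Agent.Lib.Helper18.TWSIIB3
import Cfsg.Agent.Lib.Helper18.TWSIIN4
import Cfsg.Agent.Lib.Helper18.TWSIIU567
import Cfsg.Agent.Lib.Helper18.TWSIIU8
import Cfsg.Agent.Lib.Helper2.TWSIIStarK2
import Cfsg.Agent.Lib.Helper23.TWSIIU3
import Cfsg.Agent.Lib.Helper26.TWSIIT2
import Cfsg.Agent.Lib.Helper26.TWSIIT6
import Cfsg.Agent.Lib.Helper5.TWSIIN2
import Cfsg.Agent.Lib.Helper6.TWSIIR1
import Cfsg.Agent.Lib.Helper6.TWSIIR2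
import Cfsg.Agent.Lib.Helper9.TWSIIN3

/-!
# S5668 (C7 symplectic), STAGE II-B = the DESCENT `(D_t)`: the assembly `descS`

The assembly of `notes/S5668_II_leaves.lean` (sub-planner helper14: `R1S`, `coreBS_k2`, `coreBS_k4`, `coreBS_tail`, `coreBS`, `liftS`, `descS`),
wired to the landed leaf modules (namespaces `Cfsg.Agent.Lib.<Seat>.TWSIILeaf`).
-/

set_option autoImplicit false
set_option linter.unusedSectionVars false
set_option linter.unusedVariables false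

namespace Cfsg.Agent.Lib.Helper5.TWSDesc
open Matrix Cfsg.Geo Cfsg.Agent.Lib.Helper18.AschA89 Cfsg.Agent.Lib.Helper8.TW Cfsg.Agent.Lib.Helper5.TWS
  Cfsg.Agent.Lib.Helper14.TWII Cfsg.Agent.Lib.Helper14.TWSII
open Cfsg.Agent.Lib.Helper25.SpT (sf Jm sfv)
open Cfsg.Agent.Lib.Helper23.TWUQ (NSp)
open Cfsg.Agent.Lib.Helper1.TWSIILeaf (extGL_mem_HS XB_le_DSV HS_le_XB DSA_conj_mem lift_comm)
open Cfsg.Agent.Lib.Helper10.TWSIILeaf (R1S_T)
open Cfsg.Agent.Lib.Helper12.TWSIILeaf (R1S_sand skew_zero InZ_of_form ext_reflect)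
open Cfsg.Agent.Lib.Helper13.TWSIILeaf (InZ_sim_form)
open Cfsg.Agent.Lib.Helper14.TWSIILeaf (B1S_std)
open Cfsg.Agent.Lib.Helper16.TWSIILeaf (etaS_mem torS_mem img_Cf InUS_slot_eta InUS_conj InUS_mul InUS_inv InUS_slot_shape)
open Cfsg.Agent.Lib.Helper18.TWSIILeaf (two_ne_zero_S InUS_ker InUS_mem_GSV InUS_R InUS_split B1S_sim B1S_torus z1_mem_HS)
open Cfsg.Agent.Lib.Helper2.TWSIILeaf (star_k2)
open Cfsg.Agent.Lib.Helper23.TWSIILeaf (U3S_normal)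
open Cfsg.Agent.Lib.Helper26.TWSIILeaf (slotGL_mem_HS exists_SpA_map exists_s_HS exists_partner root_mem_HS exists_A0)
open Cfsg.Agent.Lib.Helper5.TWSIILeaf (theta_scalar_torus)
open Cfsg.Agent.Lib.Helper6.TWSIILeaf (R1S_pure R1S_reduce)
open Cfsg.Agent.Lib.Helper9.TWSIILeaf (theta_scalar_plane)

variable {F : Type*} [Field F] [Fintype F] {t k : ℕ}

theorem sf_eo_eo'_S (o o' : Fin k) (ho : o.val = 0) (ho' : o'.val = 1) : sf (eo o : Fin k → F) (eo o') = 1 :=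
  Cfsg.Agent.Lib.Helper14.TWSIILeaf.sf_eo_eo' o o' ho ho'

/-! ## ASSEMBLY (helper14; compiles against the leaves above) -/

/-- the transvection `1 + v v†` -/
theorem transv_mem (v : Fin k → F) :
    ∃ τ : GL (Fin k) F, (τ : Matrix (Fin k) (Fin k) F) = 1 + Matrix.vecMulVec v (sfv v) ∧ τ ∈ GSA k F := by
  obtain ⟨τ, hτ, hτS, _⟩ := etaS_mem v (0 : Fin k → F) 1 (Cfsg.Agent.Lib.Helper25.SpT.sf_zero_left v)
  refine ⟨τ, ?_, hτS⟩
  rw [hτ]
  unfold etaS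
  have h0 : sfv (0 : Fin k → F) = 0 := by
    unfold sfv
    exact Matrix.mulVec_zero _
  rw [h0, one_smul]
  have e1 : Matrix.vecMulVec (0 : Fin k → F) (sfv v) = 0 := by
    ext a b
    simp [Matrix.vecMulVec_apply]
  have e2 : Matrix.vecMulVec v (0 : Fin k → F) = 0 := by
    ext a b
    simp [Matrix.vecMulVec_apply]
  rw [e1, e2, add_zero, add_zero]

/-- an element fixing `W` pointwise stabilises `W` -/
theorem img_of_fix (i : Fin t) (y : Fin k → F) (u : GL (Idx t k) F) (h1 : ∀ v ∈ Wf i y, mv u v = v) :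
    img u (Wf i y) = Wf i y := by
  ext v
  constructor
  · rintro ⟨w, hw, rfl⟩
    rw [Matrix.toLin'_apply]
    have := h1 w hw
    unfold mv at this
    rw [this]
    exact hw
  · intro hv
    refine ⟨v, hv, ?_⟩
    rw [Matrix.toLin'_apply]
    exact h1 v hv

/-- **(R1+)**: `X ∩ U^W ≤ G` (`k ≥ 4`) -/
theorem R1S (hodd : Odd (Fintype.card F)) (hk : Even k) (hk4 : 4 ≤ k) (X : Subgroup (GL (Idx (t + 1) k) F))
    (hHX : HS (t + 1) k F ≤ X) (hXD : X ≤ DSV (t + 1) k F)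
    (hB : ∀ (j : Fin (t + 1)) (z : Fin k → F), z ≠ 0 → ∀ u ∈ X, InZ j z u → u ∈ Gstd (t + 1) k F)
    (i : Fin (t + 1)) (y : Fin k → F) (hy0 : y ≠ 0) (u : GL (Idx (t + 1) k) F) (huX : u ∈ X) (hu : InUS i y u) :
    u ∈ Gstd (t + 1) k F := by
  have hk2 : 2 ≤ k := by omega
  obtain ⟨y', hyy'⟩ := exists_partner hk y hy0
  have huS : u ∈ GSV (t + 1) k F := InUS_mem_GSV hk hk2 i y hy0 u (hXD huX) hu
  have hsc : ∀ v : Fin k → F, sf v y = 0 → sf v y' = 0 → ∃ c : F, ∀ b : Idx t k → F,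
      mv u (tens i b v) = tens i b v + c • tens i b y := by
    intro v hvy hvy'
    obtain ⟨ρ, hρ⟩ := InUS_R i y hy0 u hu v hvy
    by_cases hv0 : v = 0
    · subst hv0
      refine ⟨0, fun b => ?_⟩
      rw [zero_smul, add_zero, Cfsg.Agent.Lib.Helper17.TWUIILeaf.tens_zero_right17]
      unfold mv
      exact Matrix.mulVec_zero _
    obtain ⟨τ, hτ, hτS⟩ := transv_mem v
    have hτX : slotGL i τ ∈ X := hHX (slotGL_mem_HS i τ hτS)
    obtain ⟨hU, hpure⟩ := R1S_pure i y v hy0 hvy u hu τ hτ ρ hρ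
    have hu'X : slotGL i τ * u * (slotGL i τ)⁻¹ * u⁻¹ ∈ X :=
      X.mul_mem (X.mul_mem (X.mul_mem hτX huX) (X.inv_mem hτX)) (X.inv_mem huX)
    obtain ⟨s, σ, T, u₂, hρσ, hσ, hu₂X, hu₂⟩ := R1S_reduce hodd hk hk4 X hHX hXD i y y' v hyy' hv0 hvy hvy'
      (hB i y hy0) _ hu'X hU (-ρ) hpure
    obtain ⟨u₃, hu₃X, hu₃⟩ := R1S_T hodd hk X hHX i y y' v hyy' hv0 hvy hvy' (hB i v hv0) σ T u₂ hu₂X hu₂
    have hσ0 : σ = 0 := skew_zero hodd hk σ hσ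
      (fun l z hz0 => R1S_sand hodd hk X hHX i y y' v hyy' hv0 hvy hvy' hB σ u₃ hu₃X hu₃ l z hz0)
    have hρs : ρ = (-s) • (1 : Matrix (Idx t k) (Idx t k) F) := by
      rw [hσ0, add_zero] at hρσ
      rw [neg_smul, ← hρσ, neg_neg]
    refine ⟨-s, fun b => ?_⟩
    rw [hρ b, hρs, Matrix.smul_mulVec, Matrix.one_mulVec, Cfsg.Agent.Lib.Helper17.TWUIILeaf.tens_smul_left17]
  obtain ⟨η, z, hηS, hηy, hz, huz⟩ := InUS_split hk hk2 i y y' hyy' u huS hu hsc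
  have hzX : z ∈ X := by
    have e : z = (slotGL i η)⁻¹ * u := by rw [huz, inv_mul_cancel_left]
    rw [e]
    exact X.mul_mem (X.inv_mem (hHX (slotGL_mem_HS i η hηS))) huX
  rw [huz]
  exact (Gstd (t + 1) k F).mul_mem (Cfsg.Agent.Lib.Helper23.TWLeaf.slotGL_mem_G i η) (hB i y hy0 z hzX hz)

/-- a group identity used in `coreBS_tail` -/
theorem grp_idS {G : Type*} [Group G] (A E B Z : G) (h : E * B⁻¹ = B⁻¹ * E) :
    (A * E) * (B⁻¹ * Z * B * Z⁻¹) * (A * E)⁻¹ = (A * B * A⁻¹)⁻¹ * ((A * E * Z) * B * (A * E * Z)⁻¹) := by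
  simp only [_root_.mul_inv_rev, inv_inv, mul_assoc, inv_mul_cancel_left]
  rw [← mul_assoc E, h, mul_assoc]

/-- the common TAIL of Case B: from the linear structure `g = (α ⊗ γ) z` to `g = (α₁ ⊗ γ) h`, `h ∈ H` -/
theorem coreBS_tail (hodd : Odd (Fintype.card F)) (hk : Even k) (hk2 : 2 ≤ k) (hex : ¬ (Fintype.card F = 3 ∧ k = 2))
    (X : Subgroup (GL (Idx (t + 1) k) F)) (hHX : HS (t + 1) k F ≤ X) (hXD : X ≤ DSV (t + 1) k F)
    (hB : ∀ (j : Fin (t + 1)) (z : Fin k → F), z ≠ 0 → ∀ u ∈ X, InZ j z u → u ∈ Gstd (t + 1) k F)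
    (i : Fin (t + 1)) (y : Fin k → F) (hy0 : y ≠ 0) (g : GL (Idx (t + 1) k) F) (hgX : g ∈ X)
    (α : GL (Fin k) F) (γ : GL (Idx t k) F) (z : GL (Idx (t + 1) k) F)
    (hα : (α : Matrix (Fin k) (Fin k) F) *ᵥ y = y) (hz : InZ i y z) (hg : g = slotGL i α * extGL i γ * z) :
    ∃ (α : GL (Fin k) F) (γ : GL (Idx t k) F) (h : GL (Idx (t + 1) k) F),
      h ∈ HS (t + 1) k F ∧ g = slotGL i α * extGL i γ * h := by
  obtain ⟨α₁, z₁, θ, hα₁D, hα₁y, hz₁S, hz₁, hg₁⟩ := U3S_normal hk hk2 i y hy0 g (hXD hgX) α γ z hα hz hg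
  have hcomm : ∀ α' : GL (Fin k) F, α' ∈ GSA k F →
      (slotGL i α₁ * extGL i γ) * ((slotGL i α')⁻¹ * z₁ * slotGL i α' * z₁⁻¹) * (slotGL i α₁ * extGL i γ)⁻¹ ∈ X := by
    intro α' hα'
    have haH : slotGL i α' ∈ HS (t + 1) k F := slotGL_mem_HS i α' hα'
    have h1 : g * slotGL i α' * g⁻¹ ∈ X := X.mul_mem (X.mul_mem hgX (hHX haH)) (X.inv_mem hgX)
    have h2 : slotGL i (α₁ * α' * α₁⁻¹) ∈ X := hHX (slotGL_mem_HS i _ (DSA_conj_mem α₁ α' hα₁D hα'))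
    have e : (slotGL i α₁ * extGL i γ) * ((slotGL i α')⁻¹ * z₁ * slotGL i α' * z₁⁻¹) * (slotGL i α₁ * extGL i γ)⁻¹ =
        (slotGL i (α₁ * α' * α₁⁻¹))⁻¹ * (g * slotGL i α' * g⁻¹) := by
      have hcm' : extGL i γ * (slotGL i α')⁻¹ = (slotGL i α')⁻¹ * extGL i γ := by
        rw [← slotGL_inv]; exact extGL_comm_slotGL i γ α'⁻¹
      have e1 : slotGL i (α₁ * α' * α₁⁻¹) = slotGL i α₁ * slotGL i α' * (slotGL i α₁)⁻¹ := by
        rw [slotGL_mul, slotGL_mul, slotGL_inv]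
      rw [e1, hg₁]
      exact grp_idS _ _ _ _ hcm'
    rw [e]
    exact X.mul_mem (X.inv_mem h2) h1
  obtain ⟨c, hc⟩ : ∃ c : F, θ = c • (1 : Matrix (Idx t k) (Idx t k) F) := by
    by_cases hcard : 3 < Fintype.card F
    · exact theta_scalar_torus hk hk2 hcard X i y hy0 (hB i y hy0) α₁ hα₁D hα₁y γ z₁ θ hz₁ hcomm
    · have h3 : Fintype.card F = 3 := by
        have h1 : 1 < Fintype.card F := Fintype.one_lt_card
        obtain ⟨m, hm⟩ := hodd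
        omega
      have hk4 : 4 ≤ k := by
        obtain ⟨m, hm⟩ := hk
        by_contra h
        exact hex ⟨h3, by omega⟩
      exact theta_scalar_plane hodd hk hk4 X i y hy0 (fun z hz0 => hB i z hz0) α₁ hα₁D hα₁y γ z₁ θ hz₁ hcomm
  rw [hc] at hz₁
  exact ⟨α₁, γ, z₁, z1_mem_HS hk i y hy0 z₁ c hz₁, hg₁⟩

/-- Case B core, `k = 2` -/
theorem coreBS_k2 (hodd : Odd (Fintype.card F)) (hk : k = 2) (hex : ¬ (Fintype.card F = 3 ∧ k = 2))
    (X : Subgroup (GL (Idx (t + 1) k) F)) (hHX : HS (t + 1) k F ≤ X) (hXD : X ≤ DSV (t + 1) k F)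
    (hB : ∀ (j : Fin (t + 1)) (z : Fin k → F), z ≠ 0 → ∀ u ∈ X, InZ j z u → u ∈ Gstd (t + 1) k F)
    (i : Fin (t + 1)) (y : Fin k → F) (hy0 : y ≠ 0) (g : GL (Idx (t + 1) k) F) (hgX : g ∈ X)
    (hstab : img g (Wf i y) = Wf i y) :
    ∃ (α : GL (Fin k) F) (γ : GL (Idx t k) F) (h : GL (Idx (t + 1) k) F),
      h ∈ HS (t + 1) k F ∧ g = slotGL i α * extGL i γ * h := by
  have hk2 : 2 ≤ k := by omega
  have hke : Even k := ⟨1, by omega⟩
  obtain ⟨α, γ, z, hα, hz, hg⟩ := Cfsg.Agent.Lib.Helper14.TWUIILeaf.B1_structure_y hk2 i y hy0 g hstab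
    (fun ξ hξ => star_k2 hk X hHX i y hy0 (hB i y hy0) g hgX hstab ξ hξ)
  exact coreBS_tail hodd hke hk2 hex X hHX hXD hB i y hy0 g hgX α γ z hα hz hg

/-- Case B core, `k ≥ 4`, for a vector `y` with a partner `y'` for which the block lemma B1 is available (`hblk`) -/
theorem coreBS_k4_aux (hodd : Odd (Fintype.card F)) (hk : Even k) (hk4 : 4 ≤ k) (hex : ¬ (Fintype.card F = 3 ∧ k = 2))
    (X : Subgroup (GL (Idx (t + 1) k) F)) (hHX : HS (t + 1) k F ≤ X) (hXD : X ≤ DSV (t + 1) k F)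
    (hB : ∀ (j : Fin (t + 1)) (z : Fin k → F), z ≠ 0 → ∀ u ∈ X, InZ j z u → u ∈ Gstd (t + 1) k F)
    (i : Fin (t + 1)) (y y' : Fin k → F) (hy0 : y ≠ 0) (hyy' : sf y y' = 1) (g : GL (Idx (t + 1) k) F) (hgX : g ∈ X)
    (hstab : img g (Wf i y) = Wf i y)
    (hblk : img g (Cf i (sfv y)) = Cf i (sfv y) →
      (∀ w : Fin k → F, sf w y = 0 → ∃ M : Matrix (Fin k) (Fin k) F,
        (g : Matrix (Idx (t + 1) k) (Idx (t + 1) k) F) * slot k (t + 1) i (etaS y w 0) =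
          slot k (t + 1) i M * (g : Matrix (Idx (t + 1) k) (Idx (t + 1) k) F) ∧
        M *ᵥ y = y ∧ (∀ a : Fin k → F, sf a y = 0 → ∃ c : F, M *ᵥ a = a + c • y) ∧
        (∀ a : Fin k → F, sf (M *ᵥ a - a) y = 0)) →
      ∃ (α : GL (Fin k) F) (γ : GL (Idx t k) F) (u : GL (Idx (t + 1) k) F),
        (α : Matrix (Fin k) (Fin k) F) *ᵥ y = y ∧ (∃ c : F, (α : Matrix (Fin k) (Fin k) F) *ᵥ y' = c • y') ∧
        (∀ a : Fin k → F, sf a y = 0 → sf a y' = 0 →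
          sf ((α : Matrix (Fin k) (Fin k) F) *ᵥ a) y = 0 ∧ sf ((α : Matrix (Fin k) (Fin k) F) *ᵥ a) y' = 0) ∧
        InUS i y u ∧ g = slotGL i α * extGL i γ * u) :
    ∃ (α : GL (Fin k) F) (γ : GL (Idx t k) F) (h : GL (Idx (t + 1) k) F),
      h ∈ HS (t + 1) k F ∧ g = slotGL i α * extGL i γ * h := by
  have hk2 : 2 ≤ k := by omega
  have h2 : (2 : F) ≠ 0 := two_ne_zero_S hodd
  have hgD : g ∈ DSV (t + 1) k F := hXD hgX
  have hBp : ∀ u ∈ X, InUS i y u → u ∈ Gstd (t + 1) k F := fun u huX hu =>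
    R1S hodd hk hk4 X hHX hXD hB i y hy0 u huX hu
  -- `g` normalises `slot i (Q^A(y))` inside `slot i (End A)`
  have hQ : ∀ w : Fin k → F, sf w y = 0 → ∃ M : Matrix (Fin k) (Fin k) F,
      (g : Matrix (Idx (t + 1) k) (Idx (t + 1) k) F) * slot k (t + 1) i (etaS y w 0) =
        slot k (t + 1) i M * (g : Matrix (Idx (t + 1) k) (Idx (t + 1) k) F) ∧
      M *ᵥ y = y ∧ (∀ a : Fin k → F, sf a y = 0 → ∃ c : F, M *ᵥ a = a + c • y) ∧
      (∀ a : Fin k → F, sf (M *ᵥ a - a) y = 0) := by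
    intro w hw
    obtain ⟨η, hη, hηS, hηy⟩ := etaS_mem y w 0 hw
    have haH : slotGL i η ∈ HS (t + 1) k F := slotGL_mem_HS i η hηS
    have h1 : g * slotGL i η * g⁻¹ ∈ X := X.mul_mem (X.mul_mem hgX (hHX haH)) (X.inv_mem hgX)
    have h2' : InUS i y (g * slotGL i η * g⁻¹) :=
      InUS_conj hk i y hy0 g _ hgD hstab (InUS_slot_eta i y w 0 hw η hη)
    have h3 := hBp _ h1 h2'
    obtain ⟨α, hα, _⟩ := Cfsg.Agent.Lib.Helper14.TWUIILeaf.slot_of_fix hk2 _ h3 i y hy0 h2'.1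
    rw [hα] at h2'
    obtain ⟨s1, s2, s3⟩ := InUS_slot_shape i y hy0 α h2'
    refine ⟨(α : Matrix (Fin k) (Fin k) F), ?_, s1, s2, s3⟩
    have e : g * slotGL i η = slotGL i α * g := by
      rw [← hα, inv_mul_cancel_right]
    have e' := congrArg (fun u : GL (Idx (t + 1) k) F => (u : Matrix (Idx (t + 1) k) (Idx (t + 1) k) F)) e
    simp only [Units.val_mul, slotGL_val, hη] at e'
    exact e'
  have hstabC := img_Cf hk i y hy0 g hgD hstab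
  obtain ⟨α, γ, u, hαy, hαy', hαA, hu, hg⟩ := hblk hstabC hQ
  obtain ⟨hαD, hγD, huS⟩ := B1S_sim hk hk2 i y y' hyy' g hgD α γ u hαy hαy' hαA hu hg
  -- the torus with `l = -1`
  have hl0 : (-1 : F) ≠ 0 := by simp
  have hl1 : (-1 : F) ≠ 1 := by
    intro h
    apply h2
    have : (2 : F) = 1 - (-1) := by ring
    rw [this, h, sub_self]
  obtain ⟨d, hd, hdS, hdy, _, _⟩ := torS_mem y y' hyy' (-1) hl0
  have haH : slotGL i d ∈ HS (t + 1) k F := slotGL_mem_HS i d hdS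
  have haX : slotGL i d ∈ X := hHX haH
  have haD : slotGL i d ∈ DSV (t + 1) k F := GSV_le_DSV haH.2
  have haW : img (slotGL i d) (Wf i y) = Wf i y := by
    rw [Cfsg.Agent.Lib.Helper12.TWIIBLeaf.img_slot_Wf, hdy]
    unfold Wf
    congr 1
    exact Submodule.span_singleton_smul_eq (IsUnit.mk0 _ hl0) y
  have huW : img u (Wf i y) = Wf i y := img_of_fix i y u hu.1
  have hκ : slotGL i α * extGL i γ = g * u⁻¹ := by rw [hg, mul_inv_cancel_right]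
  have hκD : slotGL i α * extGL i γ ∈ DSV (t + 1) k F := by
    rw [hκ]
    exact (DSV (t + 1) k F).mul_mem hgD ((DSV (t + 1) k F).inv_mem (GSV_le_DSV huS))
  have hκW : img (slotGL i α * extGL i γ) (Wf i y) = Wf i y := by
    rw [hκ, Cfsg.Agent.Lib.Helper12.TWIIBLeaf.img_mul',
      Cfsg.Agent.Lib.Helper12.TWIIBLeaf.img_inv_eq u _ _ huW, hstab]
  have hκa : (slotGL i α * extGL i γ) * slotGL i d * (slotGL i α * extGL i γ)⁻¹ = slotGL i (α * d * α⁻¹) := by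
    rw [slotGL_mul, slotGL_mul, slotGL_inv, _root_.mul_inv_rev]
    have hc := extGL_comm_slotGL i γ d
    calc slotGL i α * extGL i γ * slotGL i d * ((extGL i γ)⁻¹ * (slotGL i α)⁻¹)
        = slotGL i α * (extGL i γ * slotGL i d) * (extGL i γ)⁻¹ * (slotGL i α)⁻¹ := by group
      _ = slotGL i α * slotGL i d * (slotGL i α)⁻¹ := by rw [hc]; group
  have hκaX : slotGL i (α * d * α⁻¹) ∈ X := hHX (slotGL_mem_HS i _ (DSA_conj_mem α d hαD hdS))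
  have h1 : (slotGL i α * extGL i γ) * (u * slotGL i d * u⁻¹ * (slotGL i d)⁻¹) * (slotGL i α * extGL i γ)⁻¹ ∈ X := by
    have e : (slotGL i α * extGL i γ) * (u * slotGL i d * u⁻¹ * (slotGL i d)⁻¹) * (slotGL i α * extGL i γ)⁻¹ =
        (g * slotGL i d * g⁻¹) * (slotGL i (α * d * α⁻¹))⁻¹ := by
      rw [← hκa, hg]
      group
    rw [e]
    exact X.mul_mem (X.mul_mem (X.mul_mem hgX haX) (X.inv_mem hgX)) (X.inv_mem hκaX)
  have hU0 : InUS i y (u * slotGL i d * u⁻¹ * (slotGL i d)⁻¹) := by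
    have h := InUS_mul i y _ _ hu (InUS_conj hk i y hy0 (slotGL i d) u⁻¹ haD haW (InUS_inv i y u hu))
    have e : u * (slotGL i d * u⁻¹ * (slotGL i d)⁻¹) = u * slotGL i d * u⁻¹ * (slotGL i d)⁻¹ := by group
    rwa [e] at h
  have h2' := InUS_conj hk i y hy0 (slotGL i α * extGL i γ) _ hκD hκW hU0
  have h3 := hBp _ h1 h2'
  obtain ⟨M', hM', _⟩ := Cfsg.Agent.Lib.Helper14.TWUIILeaf.slot_of_fix hk2 _ h3 i y hy0 h2'.1
  have hM : u * slotGL i d * u⁻¹ * (slotGL i d)⁻¹ = slotGL i (α⁻¹ * M' * α) := by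
    have e : u * slotGL i d * u⁻¹ * (slotGL i d)⁻¹ =
        (slotGL i α * extGL i γ)⁻¹ * slotGL i M' * (slotGL i α * extGL i γ) := by
      rw [← hM']
      group
    rw [e, slotGL_mul, slotGL_mul, slotGL_inv, _root_.mul_inv_rev]
    have hc := extGL_comm_slotGL i γ M'
    calc (extGL i γ)⁻¹ * (slotGL i α)⁻¹ * slotGL i M' * (slotGL i α * extGL i γ)
        = (extGL i γ)⁻¹ * ((slotGL i α)⁻¹ * slotGL i M' * slotGL i α) * extGL i γ := by group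
      _ = (slotGL i α)⁻¹ * slotGL i M' * slotGL i α := by
          have hc' : extGL i γ * ((slotGL i α)⁻¹ * slotGL i M' * slotGL i α) =
              ((slotGL i α)⁻¹ * slotGL i M' * slotGL i α) * extGL i γ := by
            rw [← slotGL_inv, ← slotGL_mul, ← slotGL_mul]
            exact extGL_comm_slotGL i γ _
          rw [mul_assoc, ← hc', inv_mul_cancel_left]
  have hsc := B1S_torus i y y' hyy' u hu (-1) hl0 hl1 d hd (α⁻¹ * M' * α) hM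
  obtain ⟨η, z, hηS, hηy, hz, huz⟩ := InUS_split hk hk2 i y y' hyy' u huS hu hsc
  have hg' : g = slotGL i (α * η) * extGL i γ * z := by
    rw [hg, huz, slotGL_mul]
    have hc := extGL_comm_slotGL i γ η
    calc slotGL i α * extGL i γ * (slotGL i η * z)
        = slotGL i α * (extGL i γ * slotGL i η) * z := by group
      _ = slotGL i α * slotGL i η * extGL i γ * z := by rw [hc]; group
  have hαη : ((α * η : GL (Fin k) F) : Matrix (Fin k) (Fin k) F) *ᵥ y = y := by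
    rw [Units.val_mul, ← Matrix.mulVec_mulVec, hηy, hαy]
  exact coreBS_tail hodd hk hk2 hex X hHX hXD hB i y hy0 g hgX (α * η) γ z hαη hz hg'

/-- a group identity used in the transport -/
theorem grp_id2S {G : Type*} [Group G] (s A E h : G) (hc : E * s = s * E) :
    s * (A * E * h) * s⁻¹ = (s * A * s⁻¹) * E * (s * h * s⁻¹) := by
  have h1 : s⁻¹ * E * s = E := by rw [mul_assoc, hc, inv_mul_cancel_left]
  calc s * (A * E * h) * s⁻¹ = s * A * (s⁻¹ * E * s) * h * s⁻¹ := by rw [h1]; group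
    _ = (s * A * s⁻¹) * E * (s * h * s⁻¹) := by group

/-- Case B core, `k ≥ 4`: TRANSPORT to the standard hyperbolic pair -/
theorem coreBS_k4 (hodd : Odd (Fintype.card F)) (hk : Even k) (hk4 : 4 ≤ k) (hex : ¬ (Fintype.card F = 3 ∧ k = 2))
    (X : Subgroup (GL (Idx (t + 1) k) F)) (hHX : HS (t + 1) k F ≤ X) (hXD : X ≤ DSV (t + 1) k F)
    (hB : ∀ (j : Fin (t + 1)) (z : Fin k → F), z ≠ 0 → ∀ u ∈ X, InZ j z u → u ∈ Gstd (t + 1) k F)
    (i : Fin (t + 1)) (y : Fin k → F) (hy0 : y ≠ 0) (g : GL (Idx (t + 1) k) F) (hgX : g ∈ X)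
    (hstab : img g (Wf i y) = Wf i y) :
    ∃ (α : GL (Fin k) F) (γ : GL (Idx t k) F) (h : GL (Idx (t + 1) k) F),
      h ∈ HS (t + 1) k F ∧ g = slotGL i α * extGL i γ * h := by
  obtain ⟨o, ho⟩ : ∃ o : Fin k, o.val = 0 := ⟨⟨0, by omega⟩, rfl⟩
  obtain ⟨o', ho'⟩ : ∃ o' : Fin k, o'.val = 1 := ⟨⟨1, by omega⟩, rfl⟩
  obtain ⟨β, hβS, hβy⟩ := exists_SpA_map hk (eo o : Fin k → F) y (eo_ne_zero o) hy0
  have hsH : slotGL i β ∈ HS (t + 1) k F := slotGL_mem_HS i β hβS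
  have hsX : slotGL i β ∈ X := hHX hsH
  have hsW : img (slotGL i β) (Wf i (eo o : Fin k → F)) = Wf i y := by
    rw [Cfsg.Agent.Lib.Helper12.TWIIBLeaf.img_slot_Wf, hβy]
  have hg'X : (slotGL i β)⁻¹ * g * slotGL i β ∈ X := X.mul_mem (X.mul_mem (X.inv_mem hsX) hgX) hsX
  have hstab' : img ((slotGL i β)⁻¹ * g * slotGL i β) (Wf i (eo o : Fin k → F)) = Wf i (eo o) := by
    rw [Cfsg.Agent.Lib.Helper12.TWIIBLeaf.img_mul', Cfsg.Agent.Lib.Helper12.TWIIBLeaf.img_mul', hsW, hstab,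
      Cfsg.Agent.Lib.Helper12.TWIIBLeaf.img_inv_eq _ _ _ hsW]
  obtain ⟨α', γ', h', hh', hg'⟩ := coreBS_k4_aux hodd hk hk4 hex X hHX hXD hB i (eo o) (eo o') (eo_ne_zero o)
    (sf_eo_eo'_S o o' ho ho') _ hg'X hstab'
    (fun hC hQ => B1S_std hk4 i o o' ho ho' _ hstab' hC hQ)
  refine ⟨β * α' * β⁻¹, γ', slotGL i β * h' * (slotGL i β)⁻¹,
    (HS (t + 1) k F).mul_mem ((HS (t + 1) k F).mul_mem hsH hh') ((HS (t + 1) k F).inv_mem hsH), ?_⟩
  have e : g = slotGL i β * ((slotGL i β)⁻¹ * g * slotGL i β) * (slotGL i β)⁻¹ := by group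
  rw [e, hg', slotGL_mul, slotGL_mul, slotGL_inv]
  exact grp_id2S _ _ _ _ (extGL_comm_slotGL i γ' β)

/-- **CORE of Case B**: an element of `X` stabilising a fibre is `(α ⊗ γ) h`, `h ∈ H`, once Case A fails at every fibre -/
theorem coreBS (hodd : Odd (Fintype.card F)) (hk : Even k) (hk2 : 2 ≤ k) (hex : ¬ (Fintype.card F = 3 ∧ k = 2))
    (X : Subgroup (GL (Idx (t + 1) k) F)) (hHX : HS (t + 1) k F ≤ X) (hXD : X ≤ DSV (t + 1) k F)
    (hB : ∀ (j : Fin (t + 1)) (z : Fin k → F), z ≠ 0 → ∀ u ∈ X, InZ j z u → u ∈ Gstd (t + 1) k F)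
    (i : Fin (t + 1)) (y : Fin k → F) (hy0 : y ≠ 0) (g : GL (Idx (t + 1) k) F) (hgX : g ∈ X)
    (hstab : img g (Wf i y) = Wf i y) :
    ∃ (α : GL (Fin k) F) (γ : GL (Idx t k) F) (h : GL (Idx (t + 1) k) F),
      h ∈ HS (t + 1) k F ∧ g = slotGL i α * extGL i γ * h := by
  by_cases hk' : k = 2
  · exact coreBS_k2 hodd hk' hex X hHX hXD hB i y hy0 g hgX hstab
  · have hk4 : 4 ≤ k := by
      obtain ⟨m, hm⟩ := hk
      omega
    exact coreBS_k4 hodd hk hk4 hex X hHX hXD hB i y hy0 g hgX hstab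

/-- the LIFT: Case A for `X_B` gives Case A for `X` -/
theorem liftS (hodd : Odd (Fintype.card F)) (hk : Even k) (hk2 : 2 ≤ k) (hex : ¬ (Fintype.card F = 3 ∧ k = 2))
    (X : Subgroup (GL (Idx (t + 2) k) F)) (hHX : HS (t + 2) k F ≤ X) (hXD : X ≤ DSV (t + 2) k F)
    (i : Fin (t + 2)) (l : Fin (t + 1)) (z : Fin k → F) (hz0 : z ≠ 0) (û : GL (Idx (t + 1) k) F)
    (hûX : û ∈ XB X i) (hûG : û ∉ Gstd (t + 1) k F) (hû : InZ l z û) :
    ∃ (j : Fin (t + 2)) (z' : Fin k → F), z' ≠ 0 ∧ ∃ u ∈ X, u ∉ Gstd (t + 2) k F ∧ InZ j z' u := by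
  have hûD : û ∈ DSV (t + 1) k F := XB_le_DSV hk hk2 X hXD i hûX
  obtain ⟨θ, hθ⟩ := InZ_sim_form hk hk2 l z hz0 û hûD hû
  obtain ⟨r, r', c, z'', hr, hr', hc0, hz''0, hval⟩ := lift_comm hodd hk hk2 hex l z hz0 θ û hθ
  obtain ⟨α, hκ⟩ := hûX
  have hcm : ∀ r₀ ∈ HS (t + 1) k F, extGL i (û * r₀ * û⁻¹ * r₀⁻¹) ∈ X := by
    intro r₀ hr₀
    have hRX : extGL i r₀ ∈ X := hHX (extGL_mem_HS i r₀ hr₀)
    have hcomm1 : slotGL i α * extGL i û = extGL i û * slotGL i α := (extGL_comm_slotGL i û α).symm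
    have hcomm2 : slotGL i α * extGL i r₀ = extGL i r₀ * slotGL i α := (extGL_comm_slotGL i r₀ α).symm
    have hmem : (slotGL i α * extGL i û) * extGL i r₀ * (slotGL i α * extGL i û)⁻¹ * (extGL i r₀)⁻¹ ∈ X :=
      X.mul_mem (X.mul_mem (X.mul_mem hκ hRX) (X.inv_mem hκ)) (X.inv_mem hRX)
    rw [Cfsg.Agent.Lib.Helper28.TWIIBLeaf.comm_cancel28 _ _ _ hcomm1 hcomm2] at hmem
    rw [extGL_mul, extGL_mul, extGL_mul, extGL_inv, extGL_inv]
    exact hmem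
  have hxX : extGL i ((û * r * û⁻¹ * r⁻¹) * (û * r' * û⁻¹ * r'⁻¹)) ∈ X := by
    rw [extGL_mul]
    exact X.mul_mem (hcm r hr) (hcm r' hr')
  have hxZ : InZ l z'' ((û * r * û⁻¹ * r⁻¹) * (û * r' * û⁻¹ * r'⁻¹)) := InZ_of_form l z'' (c • θ) _ hval
  have hxG : (û * r * û⁻¹ * r⁻¹) * (û * r' * û⁻¹ * r'⁻¹) ∉ Gstd (t + 1) k F := by
    intro hx
    have hdot : sfv z'' ⬝ᵥ z'' = 0 := by
      rw [Cfsg.Agent.Lib.Helper25.SpT.sfv_dot]
      exact Cfsg.Agent.Lib.Helper25.SpT.sf_self z''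
    obtain ⟨c', hc'⟩ := Cfsg.Agent.Lib.Helper14.TWUIILeaf.theta_scalar_of_G hk2 l z'' (sfv z'') hz''0
      (sfv_ne_zero hk hz''0) hdot (c • θ) _ hx hval
    apply hûG
    have hθ' : θ = (c⁻¹ * c') • (1 : Matrix (Idx t k) (Idx t k) F) := by
      rw [mul_smul, ← hc', smul_smul, inv_mul_cancel₀ hc0, one_smul]
    rw [hθ'] at hθ
    exact (z1_mem_HS hk l z hz0 û _ hθ).1
  obtain ⟨hZ, hG⟩ := ext_reflect hk2 i l z'' hz''0 _ hxZ
  exact ⟨i.succAbove l, z'', hz''0, _, hxX, fun h => hxG (hG h), hZ⟩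

/-- **THE DESCENT `(D_t)`**, all `t ≥ 0` (on `t + 1` positions), both parities.  `hI` = Stage I (helper5's `stageIS`). -/
theorem descS (hodd : Odd (Fintype.card F)) (hk : Even k) (hk2 : 2 ≤ k) (hex : ¬ (Fintype.card F = 3 ∧ k = 2))
    (hI : ∀ t' : ℕ, 2 ≤ t' → ∀ X' : Subgroup (GL (Idx t' k) F), HS t' k F ≤ X' → X' ≤ DSV t' k F → NSS X' →
      X' ≤ Gstd t' k F) :
    ∀ (t : ℕ) (X : Subgroup (GL (Idx (t + 1) k) F)), HS (t + 1) k F ≤ X → X ≤ DSV (t + 1) k F →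
      ¬ X ≤ Gstd (t + 1) k F →
      ∃ (j : Fin (t + 1)) (z : Fin k → F), z ≠ 0 ∧ ∃ u ∈ X, u ∉ Gstd (t + 1) k F ∧ InZ j z u := by
  intro t
  induction t with
  | zero =>
    intro X _ _ hXG
    exfalso
    apply hXG
    intro x _
    exact Cfsg.Agent.Lib.Helper28.TWIIBLeaf.mem_Gstd_one x
  | succ t ih =>
    intro X hHX hXD hXG
    by_contra hA
    have hB : ∀ (j : Fin (t + 1 + 1)) (z : Fin k → F), z ≠ 0 → ∀ u ∈ X, InZ j z u → u ∈ Gstd (t + 1 + 1) k F := by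
      intro j z hz0 u huX huZ
      by_contra huG
      exact hA ⟨j, z, hz0, u, huX, huG, huZ⟩
    have hNS : ¬ NSS X := fun h => hXG (hI (t + 1 + 1) (by omega) X hHX hXD h)
    unfold NSS NSp at hNS
    push Not at hNS
    obtain ⟨g, hgX, ⟨i, i', y, y', hy0, hy'0, _, _, hfib⟩, hgG⟩ := hNS
    obtain ⟨s, hsH, hsW⟩ := exists_s_HS hk i i' y y' hy0 hy'0
    have hg'X : s⁻¹ * g ∈ X := X.mul_mem (X.inv_mem (hHX hsH)) hgX
    have hstab : img (s⁻¹ * g) (Wf i y) = Wf i y := by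
      rw [Cfsg.Agent.Lib.Helper12.TWIIBLeaf.img_mul', hfib]
      exact Cfsg.Agent.Lib.Helper12.TWIIBLeaf.img_inv_eq s _ _ hsW
    obtain ⟨α, γ, h, hhH, hgd⟩ := coreBS hodd hk hk2 hex X hHX hXD hB i y hy0 (s⁻¹ * g) hg'X hstab
    have hκX : slotGL i α * extGL i γ ∈ X := by
      have : slotGL i α * extGL i γ = (s⁻¹ * g) * h⁻¹ := by
        rw [hgd, mul_inv_cancel_right]
      rw [this]
      exact X.mul_mem hg'X (X.inv_mem (hHX hhH))
    have hγXB : γ ∈ XB X i := ⟨α, hκX⟩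
    have hγG : γ ∉ Gstd (t + 1) k F := by
      intro hγ
      apply hgG
      have h1 : slotGL i α ∈ Gstd (t + 1 + 1) k F := Cfsg.Agent.Lib.Helper23.TWLeaf.slotGL_mem_G i α
      have h2 : extGL i γ ∈ Gstd (t + 1 + 1) k F := Cfsg.Agent.Lib.Helper22.TWLeaf.extGL_mem_G i γ hγ
      have h3 : s⁻¹ * g ∈ Gstd (t + 1 + 1) k F := by
        rw [hgd]
        exact (Gstd (t + 1 + 1) k F).mul_mem ((Gstd (t + 1 + 1) k F).mul_mem h1 h2) hhH.1
      have := (Gstd (t + 1 + 1) k F).mul_mem hsH.1 h3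
      rwa [mul_inv_cancel_left] at this
    obtain ⟨l, z, hz0, û, hûX, hûG, hû⟩ := ih (XB X i) (HS_le_XB X hHX i) (XB_le_DSV hk hk2 X hXD i)
      (fun h => hγG (h hγXB))
    exact hA (liftS hodd hk hk2 hex X hHX hXD i l z hz0 û hûX hûG hû)

end Cfsg.Agent.Lib.Helper5.TWSDesc
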