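import Cfsg.Agent.Lib.Helper5.TensorGen
import Cfsg.Agent.Lib.Helper5.NSMax

/-!
Over the field with two elements the stabiliser in `Ω⁺(Q)` of a tensor decomposition
`F² ⊗ F^(n₂)` (symplectic factors) is not maximal: the element `ω ⊗ 1` of order three of the first
factor generates a subgroup whose normaliser (the normaliser of an `𝔽₄`-structure) lies properly
between the stabiliser and `Ω`.
-/

set_option autoImplicit false
set_option linter.unusedSectionVars false
set_option linter.unusedVariables false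
set_option linter.unusedSimpArgs false

namespace Cfsg.Agent.Lib.Helper5.TensorF2
open Cfsg Matrix QuadraticMap Cfsg.Agent.Lib.Helper5.TensorGen Cfsg.Agent.Lib.Helper5.NSMax
  Cfsg.Agent.Lib.Helper25.CD Cfsg.Agent.Lib.Helper25.PS
open scoped Kronecker

section F2
variable {F : Type*} [Field F] [Fintype F]

lemma two_eq_zero_of_card (hq : Fintype.card F = 2) : (2 : F) = 0 := by
  have := Nat.cast_card_eq_zero F
  rw [hq] at this
  exact_mod_cast this

lemma mul_self_of_card (hq : Fintype.card F = 2) (x : F) : x * x = x := by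
  have := FiniteField.pow_card x
  rw [hq, pow_two] at this
  exact this

lemma zero_or_one_of_card (hq : Fintype.card F = 2) (x : F) : x = 0 ∨ x = 1 := by
  have h := mul_self_of_card hq x
  have : x * (x - 1) = 0 := by linear_combination h
  rcases mul_eq_zero.mp this with h1 | h1
  · exact Or.inl h1
  · exact Or.inr (sub_eq_zero.mp h1)

end F2

section Om
variable {F : Type*} [Field F]

/-- the matrix of order three -/
def om : Matrix (Fin 2) (Fin 2) F := !![0, 1; 1, 1]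

lemma om_mulVec (u : Fin 2 → F) :
    (om : Matrix (Fin 2) (Fin 2) F) *ᵥ u = ![u 1, u 0 + u 1] := by
  ext i
  fin_cases i <;> simp [om, Matrix.mulVec, dotProduct, Fin.sum_univ_two]

lemma om_sq : (om : Matrix (Fin 2) (Fin 2) F) * om = om + 1 := by
  ext i j
  fin_cases i <;> fin_cases j <;> simp [om, Matrix.mul_apply, Fin.sum_univ_two]

lemma om_det : (om : Matrix (Fin 2) (Fin 2) F).det = -1 := by
  simp [om, Matrix.det_fin_two]

lemma om_om_mulVec (u : Fin 2 → F) :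
    (om : Matrix (Fin 2) (Fin 2) F) *ᵥ (om *ᵥ u) = om *ᵥ u + u := by
  rw [Matrix.mulVec_mulVec, om_sq, Matrix.add_mulVec, Matrix.one_mulVec]

variable [Fintype F]

lemma M_cases (hq : Fintype.card F = 2) (M : Matrix (Fin 2) (Fin 2) F) (h : M * M = M + 1) :
    M = om ∨ M = om + 1 := by
  have h2 := two_eq_zero_of_card hq
  have h00 := congrFun (congrFun h 0) 0
  have h01 := congrFun (congrFun h 0) 1
  have h10 := congrFun (congrFun h 1) 0
  simp only [Matrix.mul_apply, Fin.sum_univ_two, Matrix.add_apply, Matrix.one_apply_eq] at h00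
  have e01 : (1 : Matrix (Fin 2) (Fin 2) F) 0 1 = 0 := by simp
  have e10 : (1 : Matrix (Fin 2) (Fin 2) F) 1 0 = 0 := by simp
  simp only [Matrix.mul_apply, Fin.sum_univ_two, Matrix.add_apply] at h01 h10
  rw [e01, add_zero] at h01
  rw [e10, add_zero] at h10
  have hbc : M 0 1 * M 1 0 = 1 := by
    have := mul_self_of_card hq (M 0 0)
    linear_combination h00 - this
  have hb : M 0 1 = 1 := by
    rcases zero_or_one_of_card hq (M 0 1) with h | h
    · rw [h, zero_mul] at hbc; exact absurd hbc zero_ne_one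
    · exact h
  have hc : M 1 0 = 1 := by
    rcases zero_or_one_of_card hq (M 1 0) with h | h
    · rw [h, mul_zero] at hbc; exact absurd hbc zero_ne_one
    · exact h
  have hd : M 1 1 = M 0 0 + 1 := by
    rw [hb] at h01
    linear_combination h01 - M 0 0 * h2
  rcases zero_or_one_of_card hq (M 0 0) with ha | ha
  · left
    ext i j
    fin_cases i <;> fin_cases j <;> simp [om, ha, hb, hc, hd]
  · right
    ext i j
    fin_cases i <;> fin_cases j <;> simp [om, ha, hb, hc, hd]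

lemma gl2_cases (hq : Fintype.card F = 2) (A : GL (Fin 2) F) :
    (A : Matrix (Fin 2) (Fin 2) F) * om = om * (A : Matrix (Fin 2) (Fin 2) F) ∨
      (A : Matrix (Fin 2) (Fin 2) F) * om = (om + 1) * (A : Matrix (Fin 2) (Fin 2) F) := by
  obtain ⟨a, ha⟩ : ∃ a, a = (A : Matrix (Fin 2) (Fin 2) F) := ⟨_, rfl⟩
  obtain ⟨a', ha'⟩ : ∃ a', a' = ((A⁻¹ : GL (Fin 2) F) : Matrix (Fin 2) (Fin 2) F) := ⟨_, rfl⟩
  have h1 : a' * a = 1 := by rw [ha, ha', ← Units.val_mul, inv_mul_cancel, Units.val_one]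
  have h2 : a * a' = 1 := by rw [ha, ha', ← Units.val_mul, mul_inv_cancel, Units.val_one]
  rw [← ha]
  have hM : (a * om * a') * (a * om * a') = a * om * a' + 1 := by
    calc (a * om * a') * (a * om * a') = a * om * (a' * a) * om * a' := by noncomm_ring
      _ = a * (om * om) * a' := by rw [h1]; noncomm_ring
      _ = a * om * a' + a * a' := by rw [om_sq]; noncomm_ring
      _ = a * om * a' + 1 := by rw [h2]
  have key : ∀ M, a * om * a' = M → a * om = M * a := by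
    intro M hM'
    rw [← hM', mul_assoc (a * om), h1, mul_one]
  rcases M_cases hq _ hM with h | h
  · left; exact key _ h
  · right; exact key _ h

end Om

section Span
variable {F : Type*} [Field F] {ι : Type} [Fintype ι] [DecidableEq ι] {n₁ n₂ : ℕ}
  (e : ι ≃ Fin n₁ × Fin n₂) (P : GL ι F)

lemma tau_single (j : ι) :
    tau e P (Pi.single (e j).1 1) (Pi.single (e j).2 1) =
      (P : Matrix ι ι F) *ᵥ Pi.single j 1 := by
  unfold tau
  congr 1
  ext i
  simp only [Function.comp_apply, pt, Pi.single_apply]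
  by_cases h : i = j
  · subst h; simp
  · have hne : e i ≠ e j := fun h' => h (e.injective h')
    rw [if_neg h]
    by_cases h1 : (e i).1 = (e j).1
    · have h2 : (e i).2 ≠ (e j).2 := fun h2 => hne (Prod.ext h1 h2)
      rw [if_neg h2, mul_zero]
    · rw [if_neg h1, zero_mul]

/-- two matrices that agree on all pure tensors are equal -/
lemma mat_eq_of_tau {M₁ M₂ : Matrix ι ι F}
    (h : ∀ u v, M₁ *ᵥ tau e P u v = M₂ *ᵥ tau e P u v) : M₁ = M₂ := by
  have h1 : M₁ * (P : Matrix ι ι F) = M₂ * (P : Matrix ι ι F) := by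
    ext i j
    have := congrFun (h (Pi.single (e j).1 1) (Pi.single (e j).2 1)) i
    rw [tau_single, Matrix.mulVec_mulVec, Matrix.mulVec_mulVec] at this
    simpa [Matrix.mulVec, dotProduct, Pi.single_apply] using this
  calc M₁ = M₁ * ((P : Matrix ι ι F) * ((P⁻¹ : GL ι F) : Matrix ι ι F)) := by
        rw [← Units.val_mul, mul_inv_cancel, Units.val_one, mul_one]
    _ = M₂ * ((P : Matrix ι ι F) * ((P⁻¹ : GL ι F) : Matrix ι ι F)) := by
        rw [← mul_assoc, h1, mul_assoc]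
    _ = M₂ := by rw [← Units.val_mul, mul_inv_cancel, Units.val_one, mul_one]

/-- the action of a conjugated Kronecker product on pure tensors -/
lemma conj_act (k : GL (Fin n₁ × Fin n₂) F) (a : Matrix (Fin n₁) (Fin n₁) F)
    (b : Matrix (Fin n₂) (Fin n₂) F)
    (hk : (k : Matrix (Fin n₁ × Fin n₂) (Fin n₁ × Fin n₂) F) = a ⊗ₖ b)
    (u : Fin n₁ → F) (v : Fin n₂ → F) :
    (((MulAut.conj P).toMonoidHom ((Geo.glReindex (F := F) e.symm).toMonoidHom k) : GL ι F) :
      Matrix ι ι F) *ᵥ tau e P u v = tau e P (a *ᵥ u) (b *ᵥ v) := by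
  have h1 : (((MulAut.conj P).toMonoidHom ((Geo.glReindex (F := F) e.symm).toMonoidHom k) :
      GL ι F) : Matrix ι ι F) =
      (P : Matrix ι ι F) *
        ((k : Matrix (Fin n₁ × Fin n₂) (Fin n₁ × Fin n₂) F).submatrix e e) *
        ((P⁻¹ : GL ι F) : Matrix ι ι F) := rfl
  unfold tau
  rw [h1, Matrix.mulVec_mulVec, mul_assoc, ← Units.val_mul, inv_mul_cancel, Units.val_one, mul_one,
    ← Matrix.mulVec_mulVec, Matrix.submatrix_mulVec_equiv, Function.comp_assoc,
    Equiv.self_comp_symm, Function.comp_id, hk, kron_mulVec_pt]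

end Span

section JJ
variable {F : Type*} [Field F] {ι : Type} [Fintype ι] [DecidableEq ι] {n₂ : ℕ}
  (e : ι ≃ Fin 2 × Fin n₂) (P : GL ι F)

/-- `ω ⊗ 1` -/
noncomputable def J0 (F : Type*) [Field F] (n₂ : ℕ) : GL (Fin 2 × Fin n₂) F :=
  Matrix.GeneralLinearGroup.mkOfDetNeZero
    ((om : Matrix (Fin 2) (Fin 2) F) ⊗ₖ (1 : Matrix (Fin n₂) (Fin n₂) F)) (by
      rw [Matrix.det_kronecker, om_det, Matrix.det_one]
      exact mul_ne_zero (pow_ne_zero _ (neg_ne_zero.mpr one_ne_zero)) (pow_ne_zero _ one_ne_zero))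

/-- `ω ⊗ 1` transported to `F^ι` -/
noncomputable def JJ : GL ι F :=
  (MulAut.conj P).toMonoidHom ((Geo.glReindex (F := F) e.symm).toMonoidHom (J0 F n₂))

lemma JJ_act (u : Fin 2 → F) (v : Fin n₂ → F) :
    ((JJ e P : GL ι F) : Matrix ι ι F) *ᵥ tau e P u v = tau e P (om *ᵥ u) v := by
  unfold JJ
  rw [conj_act e P (J0 F n₂) om 1 rfl, Matrix.one_mulVec]

end JJ

section Om3
variable {F : Type*} [Field F] [Fintype F]

lemma om3 (hq : Fintype.card F = 2) (u : Fin 2 → F) :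
    (om : Matrix (Fin 2) (Fin 2) F) *ᵥ (om *ᵥ (om *ᵥ u)) = u := by
  have h2 := two_eq_zero_of_card hq
  rw [om_om_mulVec (om *ᵥ u), om_om_mulVec u]
  ext i
  simp only [Pi.add_apply]
  linear_combination ((om : Matrix (Fin 2) (Fin 2) F) *ᵥ u) i * h2

end Om3

section Pairs
variable {F : Type*} [Field F]

open Module in
/-- two orthogonal hyperbolic pairs (up to one value) in a symplectic space of dimension `> 2` -/
lemma exists_two_pairs {k : ℕ} (hk : 2 < k) {f : (Fin k → F) → (Fin k → F) → F}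
    (hf : Geo.IsSymplecticForm f) :
    ∃ v₁ w₁ v₂ w₂ : Fin k → F, f v₁ w₁ = 1 ∧ f v₂ w₂ = 1 ∧ f v₁ v₂ = 0 ∧ f v₁ w₂ = 0 ∧
      f w₁ v₂ = 0 := by
  classical
  have hb := hf.bilinear
  have hne : (Pi.single (⟨0, by omega⟩ : Fin k) (1 : F) : Fin k → F) ≠ 0 := by
    intro h
    have := congrFun h ⟨0, by omega⟩
    simp at this
  obtain ⟨v₁, hv₁⟩ : ∃ v₁ : Fin k → F, v₁ ≠ 0 := ⟨_, hne⟩
  obtain ⟨-, ⟨w₁', hw₁'⟩⟩ := hf.nondegenerate v₁ hv₁
  obtain ⟨w₁, hw₁⟩ : ∃ w₁, f v₁ w₁ = 1 :=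
    ⟨(f v₁ w₁')⁻¹ • w₁', by rw [hb.smul_right, inv_mul_cancel₀ hw₁']⟩
  have hw₁v : f w₁ v₁ = -1 := by rw [hf.skew, hw₁]
  have pv : ∀ x, f v₁ (x + f w₁ x • v₁ + (-f v₁ x) • w₁) = 0 := by
    intro x
    rw [hb.add_right, hb.add_right, hb.smul_right, hb.smul_right, hf.alternating, hw₁]
    ring
  have pw : ∀ x, f w₁ (x + f w₁ x • v₁ + (-f v₁ x) • w₁) = 0 := by
    intro x
    rw [hb.add_right, hb.add_right, hb.smul_right, hb.smul_right, hf.alternating, hw₁v]
    ring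
  have pk : ∀ y x, f y v₁ = 0 → f y w₁ = 0 →
      f y (x + f w₁ x • v₁ + (-f v₁ x) • w₁) = f y x := by
    intro y x h1 h2
    rw [hb.add_right, hb.add_right, hb.smul_right, hb.smul_right, h1, h2]
    ring
  obtain ⟨z, hz⟩ : ∃ z : Fin k → F, z ∉ Submodule.span F ({v₁, w₁} : Set (Fin k → F)) := by
    by_contra hcon
    push Not at hcon
    have htop : Submodule.span F ({v₁, w₁} : Set (Fin k → F)) = ⊤ := by
      rw [eq_top_iff]
      intro x _
      exact hcon x
    have h1 := finrank_span_finset_le_card (R := F) ({v₁, w₁} : Finset (Fin k → F))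
    rw [Set.finrank, Finset.coe_insert, Finset.coe_singleton, htop, finrank_top,
      Module.finrank_fin_fun] at h1
    have h2 : ({v₁, w₁} : Finset (Fin k → F)).card ≤ 2 := Finset.card_le_two
    omega
  obtain ⟨v₂, hv₂⟩ : ∃ v₂, v₂ = z + f w₁ z • v₁ + (-f v₁ z) • w₁ := ⟨_, rfl⟩
  have hv₂0 : v₂ ≠ 0 := by
    intro h0
    apply hz
    have hz' : z = v₂ - f w₁ z • v₁ - (-f v₁ z) • w₁ := by rw [hv₂]; abel
    rw [h0, zero_sub] at hz'
    rw [hz']
    exact Submodule.sub_mem _ (Submodule.neg_mem _ (Submodule.smul_mem _ _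
      (Submodule.subset_span (by simp)))) (Submodule.smul_mem _ _
      (Submodule.subset_span (by simp)))
  have h12 : f v₁ v₂ = 0 := by rw [hv₂]; exact pv z
  have hw1v2 : f w₁ v₂ = 0 := by rw [hv₂]; exact pw z
  have h21 : f v₂ v₁ = 0 := by rw [hf.skew, h12, neg_zero]
  have hv2w1 : f v₂ w₁ = 0 := by rw [hf.skew, hw1v2, neg_zero]
  obtain ⟨-, ⟨w₂', hw₂'⟩⟩ := hf.nondegenerate v₂ hv₂0
  obtain ⟨w₂'', hw₂''⟩ : ∃ w, f v₂ w = 1 :=
    ⟨(f v₂ w₂')⁻¹ • w₂', by rw [hb.smul_right, inv_mul_cancel₀ hw₂']⟩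
  refine ⟨v₁, w₁, v₂, w₂'' + f w₁ w₂'' • v₁ + (-f v₁ w₂'') • w₁, hw₁, ?_, h12, pv _, hw1v2⟩
  rw [pk v₂ w₂'' h21 hv2w1, hw₂'']

end Pairs

section Main
variable {F : Type*} [Field F] [Fintype F] {ι : Type} [Fintype ι] [DecidableEq ι]

theorem f2_main (hq : Fintype.card F = 2) (Qf : QuadraticForm F (ι → F))
    (hnd : (polarBilin Qf).Nondegenerate) (hcard : 7 ≤ Fintype.card ι) (n₂ : ℕ) (h2 : 2 < n₂)
    (e : ι ≃ Fin 2 × Fin n₂) (P : GL ι F)
    (f₁ : (Fin 2 → F) → (Fin 2 → F) → F) (f₂ : (Fin n₂ → F) → (Fin n₂ → F) → F)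
    (hf₁ : Geo.IsSymplecticForm f₁) (hf₂ : Geo.IsSymplecticForm f₂)
    (hT : Geo.IsTensorFormStructure id (QuadraticMap.polar ⇑Qf) f₁ f₂ e P)
    (hpure : ∀ (x₁ : Fin 2 → F) (x₂ : Fin n₂ → F), Qf (tau e P x₁ x₂) = 0) :
    ∃ K : Subgroup (GL ι F),
      Geo.tensorProductSubgroup 2 n₂ e P ⊓ Geo.omegaGL ⇑Qf < K ∧ K < Geo.omegaGL ⇑Qf := by
  classical
  obtain ⟨c₀, hc₀, hT'⟩ := hT
  have hH0 := form_tau e P (polar ⇑Qf) f₁ hf₁.bilinear f₂ hf₂.bilinear c₀ hT'
  have h2F := two_eq_zero_of_card hq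
  have hb₂ := hf₂.bilinear
  have halt := hf₂.alternating
  have c10_0 : (![1, 0] : Fin 2 → F) 0 = 1 := rfl
  have c10_1 : (![1, 0] : Fin 2 → F) 1 = 0 := rfl
  have c01_0 : (![0, 1] : Fin 2 → F) 0 = 0 := rfl
  have c01_1 : (![0, 1] : Fin 2 → F) 1 = 1 := rfl
  have c11_0 : (![1, 1] : Fin 2 → F) 0 = 1 := rfl
  have c11_1 : (![1, 1] : Fin 2 → F) 1 = 1 := rfl
  obtain ⟨φ, hφ⟩ : ∃ φ, φ = f₁ ![1, 0] ![0, 1] := ⟨_, rfl⟩
  have f1c : ∀ p q : Fin 2 → F, f₁ p q = φ * (p 0 * q 1 - p 1 * q 0) := by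
    intro p q
    have hp : p = p 0 • ![1, 0] + p 1 • ![0, 1] := by
      ext i; fin_cases i <;> simp
    have hq' : q = q 0 • ![1, 0] + q 1 • ![0, 1] := by
      ext i; fin_cases i <;> simp
    have hb₁ := hf₁.bilinear
    have hsk : f₁ ![0, 1] ![1, 0] = -φ := by rw [hf₁.skew, hφ]
    calc f₁ p q = f₁ (p 0 • ![1, 0] + p 1 • ![0, 1]) (q 0 • ![1, 0] + q 1 • ![0, 1]) := by
          rw [← hp, ← hq']
      _ = _ := by
          simp only [hb₁.add_left, hb₁.add_right, hb₁.smul_left, hb₁.smul_right, hf₁.alternating,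
            hsk, ← hφ]
          ring
  have hφ0 : φ ≠ 0 := by
    intro h0
    have hne : (![1, 0] : Fin 2 → F) ≠ 0 := by
      intro h
      have := congrFun h 0
      simp at this
    obtain ⟨-, ⟨x, hx⟩⟩ := hf₁.nondegenerate _ hne
    apply hx
    rw [f1c, h0, zero_mul]
  have hH : ∀ (u u' : Fin 2 → F) (v v' : Fin n₂ → F), polar ⇑Qf (tau e P u v) (tau e P u' v') =
      c₀ * (φ * (u 0 * u' 1 - u 1 * u' 0) * f₂ v v') := by
    intro u u' v v'
    rw [hH0, f1c]
  have hcφ : c₀ * φ ≠ 0 := mul_ne_zero hc₀ hφ0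
  obtain ⟨v₁, w₁, v₂, w₂, h11, h22, hv12, hv1w2, hw1v2⟩ := exists_two_pairs h2 hf₂
  have hw1v1 : f₂ w₁ v₁ = -1 := by rw [hf₂.skew, h11]
  have hw2v2 : f₂ w₂ v₂ = -1 := by rw [hf₂.skew, h22]
  have hv21 : f₂ v₂ v₁ = 0 := by rw [hf₂.skew, hv12, neg_zero]
  have hw2v1 : f₂ w₂ v₁ = 0 := by rw [hf₂.skew, hv1w2, neg_zero]
  have hv2w1 : f₂ v₂ w₁ = 0 := by rw [hf₂.skew, hw1v2, neg_zero]
  -- the element of order three
  obtain ⟨J, hJdef⟩ : ∃ J, J = JJ e P := ⟨_, rfl⟩
  have hJom : ∀ (u : Fin 2 → F) (v : Fin n₂ → F),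
      (J : Matrix ι ι F) *ᵥ tau e P u v = tau e P (om *ᵥ u) v := by
    intro u v
    rw [hJdef, JJ_act]
  have hJ : ∀ (u : Fin 2 → F) (v : Fin n₂ → F),
      (J : Matrix ι ι F) *ᵥ tau e P u v = tau e P ![u 1, u 0 + u 1] v := by
    intro u v
    rw [hJom, om_mulVec]
  have hJ10 : ∀ v : Fin n₂ → F, (J : Matrix ι ι F) *ᵥ tau e P ![1, 0] v = tau e P ![0, 1] v := by
    intro v
    rw [hJ]
    simp
  have hJ01 : ∀ v : Fin n₂ → F, (J : Matrix ι ι F) *ᵥ tau e P ![0, 1] v = tau e P ![1, 1] v := by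
    intro v
    rw [hJ]
    simp
  have hJ11 : ∀ v : Fin n₂ → F, (J : Matrix ι ι F) *ᵥ tau e P ![1, 1] v = tau e P ![1, 0] v := by
    intro v
    rw [hJ]
    simp [one_add_one_eq_two, h2F]
  have hJ3 : J ^ (3 : ℕ) = 1 := by
    apply Units.ext
    apply mat_eq_of_tau e P
    intro u v
    rw [pow_succ, pow_succ, pow_one, Units.val_mul, Units.val_mul, Units.val_one,
      Matrix.one_mulVec, ← Matrix.mulVec_mulVec, ← Matrix.mulVec_mulVec, hJom, hJom, hJom,
      om3 hq]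
  -- the tensor stabiliser normalises `⟨J⟩`
  have hTnorm : ∀ g ∈ Geo.tensorProductSubgroup 2 n₂ e P, g * J = J * g ∨ g * J = J * J * g := by
    intro g hg
    obtain ⟨A, B, hab⟩ := T_act e P hg
    rcases gl2_cases hq A with hA | hA
    · left
      apply Units.ext
      apply mat_eq_of_tau e P
      intro u v
      have e1 : (A : Matrix (Fin 2) (Fin 2) F) *ᵥ (om *ᵥ u) =
          om *ᵥ ((A : Matrix (Fin 2) (Fin 2) F) *ᵥ u) := by
        rw [Matrix.mulVec_mulVec, Matrix.mulVec_mulVec, hA]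
      rw [Units.val_mul, Units.val_mul, ← Matrix.mulVec_mulVec, ← Matrix.mulVec_mulVec, hJom,
        hab, hab, hJom, e1]
    · right
      apply Units.ext
      apply mat_eq_of_tau e P
      intro u v
      have e1 : (A : Matrix (Fin 2) (Fin 2) F) *ᵥ (om *ᵥ u) =
          om *ᵥ (om *ᵥ ((A : Matrix (Fin 2) (Fin 2) F) *ᵥ u)) := by
        rw [om_om_mulVec, Matrix.mulVec_mulVec, hA, Matrix.add_mul, Matrix.one_mul,
          Matrix.add_mulVec, Matrix.mulVec_mulVec]
      rw [Units.val_mul, Units.val_mul, Units.val_mul, ← Matrix.mulVec_mulVec,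
        ← Matrix.mulVec_mulVec, ← Matrix.mulVec_mulVec, hJom, hab, hab, hJom, hJom, e1]
  have hconj : ∀ g ∈ Geo.tensorProductSubgroup 2 n₂ e P, g * J * g⁻¹ ∈ Subgroup.zpowers J := by
    intro g hg
    rcases hTnorm g hg with h | h
    · rw [h, mul_inv_cancel_right]
      exact Subgroup.mem_zpowers J
    · rw [h, mul_inv_cancel_right]
      exact Subgroup.mul_mem _ (Subgroup.mem_zpowers J) (Subgroup.mem_zpowers J)
  have hconj_all : ∀ g ∈ Geo.tensorProductSubgroup 2 n₂ e P, ∀ h ∈ Subgroup.zpowers J,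
      g * h * g⁻¹ ∈ Subgroup.zpowers J := by
    intro g hg h hh
    obtain ⟨k, rfl⟩ := Subgroup.mem_zpowers_iff.mp hh
    rw [← conj_zpow]
    exact Subgroup.zpow_mem _ (hconj g hg) k
  have hTle : Geo.tensorProductSubgroup 2 n₂ e P ≤
      Subgroup.normalizer (Subgroup.zpowers J : Set (GL ι F)) := by
    intro g hg
    rw [Subgroup.mem_normalizer_iff]
    intro h
    constructor
    · exact hconj_all g hg h
    · intro hh
      have := hconj_all g⁻¹ (Subgroup.inv_mem _ hg) _ hh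
      simpa [mul_assoc] using this
  -- the vectors `a` and `a' = J a`
  obtain ⟨a, ha⟩ : ∃ a, a = tau e P ![1, 0] v₁ + tau e P ![0, 1] v₂ := ⟨_, rfl⟩
  obtain ⟨a', ha'⟩ : ∃ a', a' = tau e P ![0, 1] v₁ + tau e P ![1, 1] v₂ := ⟨_, rfl⟩
  have hpa : ∀ (u : Fin 2 → F) (v : Fin n₂ → F), polar ⇑Qf a (tau e P u v) =
      c₀ * φ * (u 1 * f₂ v₁ v - u 0 * f₂ v₂ v) := by
    intro u v
    rw [ha, polar_add_left, hH, hH]
    simp only [c10_0, c10_1, c01_0, c01_1]
    ring
  have hpa' : ∀ (u : Fin 2 → F) (v : Fin n₂ → F), polar ⇑Qf a' (tau e P u v) =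
      c₀ * φ * (-(u 0 * f₂ v₁ v) + (u 1 - u 0) * f₂ v₂ v) := by
    intro u v
    rw [ha', polar_add_left, hH, hH]
    simp only [c11_0, c11_1, c01_0, c01_1]
    ring
  have hQa : Qf a = 0 := by
    rw [ha, QuadraticMap.map_add (⇑Qf), hpure, hpure, hH, hv12]
    simp
  have hQa' : Qf a' = 0 := by
    rw [ha', QuadraticMap.map_add (⇑Qf), hpure, hpure, hH, hv12]
    simp
  have ha0 : a ≠ 0 := by
    intro h0
    have := hpa ![0, 1] w₁
    rw [h0, polar_zero_left, h11, hv2w1] at this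
    simp only [c01_0, c01_1] at this
    apply hcφ
    linear_combination -this
  have hpaa' : polar ⇑Qf a a' = 0 := by
    rw [ha', polar_add_right, hpa, hpa]
    simp only [c01_0, c01_1, c11_0, c11_1, halt, hv12]
    ring
  obtain ⟨t, htΩ, ht⟩ := exists_egen Qf hnd hcard ha0 hQa hpaa'
  have htact : ∀ x, ((t : GL ι F) : Matrix ι ι F) *ᵥ x =
      x + polar ⇑Qf a x • a' - polar ⇑Qf a' x • a := by
    intro x
    have := ht x
    unfold egen at this
    rw [hQa', zero_mul, zero_smul, sub_zero] at this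
    exact this
  have hJa : (J : Matrix ι ι F) *ᵥ a = a' := by
    rw [ha, ha', Matrix.mulVec_add, hJ10, hJ01]
  have e11 : (![1, 1] : Fin 2 → F) = ![1, 0] + ![0, 1] := by
    ext i; fin_cases i <;> simp
  have e10 : (![1, 0] : Fin 2 → F) = ![0, 1] + ![1, 1] := by
    ext i; fin_cases i <;> simp [one_add_one_eq_two, h2F]
  have hJa' : (J : Matrix ι ι F) *ᵥ a' = a + a' := by
    calc (J : Matrix ι ι F) *ᵥ a' = tau e P ![1, 1] v₁ + tau e P ![1, 0] v₂ := by
          rw [ha', Matrix.mulVec_add, hJ01, hJ11]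
      _ = (tau e P ![1, 0] v₁ + tau e P ![0, 1] v₁) +
            (tau e P ![0, 1] v₂ + tau e P ![1, 1] v₂) := by
          rw [← tau_add_left, ← tau_add_left, ← e11, ← e10]
      _ = a + a' := by rw [ha, ha']; abel
  have hcomm : (t : GL ι F) * J = J * (t : GL ι F) := by
    apply Units.ext
    apply mat_eq_of_tau e P
    intro u v
    rw [Units.val_mul, Units.val_mul, ← Matrix.mulVec_mulVec, ← Matrix.mulVec_mulVec, hJ, htact,
      htact, Matrix.mulVec_sub, Matrix.mulVec_add, Matrix.mulVec_smul, Matrix.mulVec_smul, hJa,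
      hJa', hJ, hpa, hpa', hpa, hpa']
    ext i
    simp only [Pi.add_apply, Pi.sub_apply, Pi.smul_apply, smul_eq_mul, Matrix.cons_val_zero,
      Matrix.cons_val_one]
    ring
  have htnorm : (t : GL ι F) ∈ Subgroup.normalizer (Subgroup.zpowers J : Set (GL ι F)) := by
    apply Subgroup.centralizer_le_normalizer
    rw [Subgroup.mem_centralizer_iff]
    intro h hh
    obtain ⟨k, rfl⟩ := Subgroup.mem_zpowers_iff.mp hh
    have hc : Commute J (t : GL ι F) := hcomm.symm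
    exact (hc.zpow_left k).eq
  refine ⟨Subgroup.normalizer (Subgroup.zpowers J : Set (GL ι F)) ⊓ Geo.omegaGL ⇑Qf, ?_, ?_⟩
  · rw [lt_iff_le_and_ne]
    refine ⟨fun g hg => ⟨hTle hg.1, hg.2⟩, fun h => ?_⟩
    have hmem : (t : GL ι F) ∈ Subgroup.normalizer (Subgroup.zpowers J : Set (GL ι F)) ⊓
        Geo.omegaGL ⇑Qf := ⟨htnorm, ⟨t, htΩ, rfl⟩⟩
    rw [← h] at hmem
    obtain ⟨A, B, hab⟩ := T_act e P hmem.1
    have h1 := hab ![1, 0] w₂
    obtain ⟨y, hy⟩ : ∃ y, y = (A : Matrix (Fin 2) (Fin 2) F) *ᵥ ![1, 0] := ⟨_, rfl⟩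
    obtain ⟨z, hz⟩ : ∃ z, z = (B : Matrix (Fin n₂) (Fin n₂) F) *ᵥ w₂ := ⟨_, rfl⟩
    rw [← hy, ← hz, htact] at h1
    have hx1 : polar ⇑Qf a (tau e P ![1, 0] w₂) = -(c₀ * φ) := by
      rw [hpa]
      simp only [c10_0, c10_1, hv1w2, h22]
      ring
    have hx2 : polar ⇑Qf a' (tau e P ![1, 0] w₂) = -(c₀ * φ) := by
      rw [hpa']
      simp only [c10_0, c10_1, hv1w2, h22]
      ring
    rw [hx1, hx2] at h1
    have ev : ∀ (u' : Fin 2 → F) (x' : Fin n₂ → F),
        c₀ * φ * (u' 1 * f₂ w₂ x') -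
          (c₀ * φ) * (c₀ * φ * (-(u' 0 * f₂ v₁ x') + (u' 1 - u' 0) * f₂ v₂ x')) +
          (c₀ * φ) * (c₀ * φ * (u' 1 * f₂ v₁ x' - u' 0 * f₂ v₂ x')) =
        c₀ * (φ * (y 0 * u' 1 - y 1 * u' 0) * f₂ z x') := by
      intro u' x'
      rw [← hH y u' z x', ← h1, polar_sub_left, polar_add_left, polar_smul_left, polar_smul_left,
        hH, hpa, hpa']
      simp only [smul_eq_mul, c10_0, c10_1]
      ring
    have s1 := ev ![1, 0] v₂
    have f1 := ev ![0, 1] v₂
    have s2 := ev ![1, 0] w₁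
    simp only [c10_0, c10_1, hv12, halt, hw2v2] at s1
    simp only [c01_0, c01_1, hv12, halt, hw2v2] at f1
    simp only [c10_0, c10_1, h11, hv2w1] at s2
    have hZ2 : f₂ z v₂ ≠ 0 := by
      intro h0
      rw [h0] at f1
      apply hcφ
      linear_combination -f1
    have hy1 : y 1 = 0 := by
      have h3 : c₀ * φ * f₂ z v₂ * y 1 = 0 := by linear_combination s1
      rcases mul_eq_zero.mp h3 with h4 | h4
      · exact absurd h4 (mul_ne_zero hcφ hZ2)
      · exact h4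
    rw [hy1] at s2
    have h5 : (c₀ * φ) * (c₀ * φ) = 0 := by linear_combination s2
    exact (mul_ne_zero hcφ hcφ) h5
  · rw [lt_iff_le_and_ne]
    refine ⟨inf_le_right, fun h => ?_⟩
    have hs0 : tau e P ![1, 0] v₁ ≠ 0 := by
      intro h0
      have := hH ![1, 0] ![0, 1] v₁ w₁
      rw [h0, polar_zero_left, h11] at this
      simp only [c10_0, c10_1, c01_0, c01_1] at this
      apply hcφ
      linear_combination -this
    obtain ⟨g, hgΩ, hg⟩ := exists_egen Qf hnd hcard hs0 (hpure _ _) (y := tau e P ![1, 0] w₁)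
      (by rw [hH]; simp only [c10_0, c10_1]; ring)
    have hmem : (g : GL ι F) ∈ Geo.omegaGL ⇑Qf := ⟨g, hgΩ, rfl⟩
    rw [← h] at hmem
    have hgJ := (Subgroup.mem_normalizer_iff.mp hmem.1 J).mp (Subgroup.mem_zpowers J)
    have hgact : ∀ x, ((g : GL ι F) : Matrix ι ι F) *ᵥ x =
        x + polar ⇑Qf (tau e P ![1, 0] v₁) x • tau e P ![1, 0] w₁ -
          polar ⇑Qf (tau e P ![1, 0] w₁) x • tau e P ![1, 0] v₁ := by
      intro x
      have := hg x
      unfold egen at this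
      rw [hpure, zero_mul, zero_smul, sub_zero] at this
      exact this
    obtain ⟨k, hk⟩ := Subgroup.mem_zpowers_iff.mp hgJ
    rw [zpow_eq_zpow_emod' k hJ3] at hk
    have hk0 : 0 ≤ k % ((3 : ℕ) : ℤ) := Int.emod_nonneg k (by norm_num)
    have hk3 : k % ((3 : ℕ) : ℤ) < ((3 : ℕ) : ℤ) := Int.emod_lt_of_pos k (by norm_num)
    obtain ⟨r, hr⟩ : ∃ r, r = k % ((3 : ℕ) : ℤ) := ⟨_, rfl⟩
    rw [← hr] at hk hk0 hk3
    have hr3 : r < 3 := by exact_mod_cast hk3
    interval_cases r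
    · -- `g J g⁻¹ = 1`
      rw [zpow_zero] at hk
      have hJ1 : J = 1 := by
        have h3 : (g : GL ι F) * J = (g : GL ι F) := mul_inv_eq_one.mp hk.symm
        exact mul_left_cancel (a := (g : GL ι F)) (by rw [h3, mul_one])
      have h4 := hJ10 v₁
      rw [hJ1, Units.val_one, Matrix.one_mulVec] at h4
      have h5 := congrArg (fun x => polar ⇑Qf x (tau e P ![0, 1] w₁)) h4
      simp only [hH, c10_0, c10_1, c01_0, c01_1, h11] at h5
      apply hcφ
      linear_combination h5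
    · -- `g J g⁻¹ = J`
      rw [zpow_one] at hk
      have h3 : (g : GL ι F) * J = J * (g : GL ι F) := mul_inv_eq_iff_eq_mul.mp hk.symm
      have h4 := congrArg (fun M : GL ι F => (M : Matrix ι ι F) *ᵥ tau e P ![0, 1] w₁) h3
      simp only [Units.val_mul] at h4
      rw [← Matrix.mulVec_mulVec, ← Matrix.mulVec_mulVec, hJ01, hgact, hgact, Matrix.mulVec_sub,
        Matrix.mulVec_add, Matrix.mulVec_smul, Matrix.mulVec_smul, hJ01, hJ10, hJ10] at h4
      have h5 := congrArg (fun x => polar ⇑Qf x (tau e P ![0, 1] v₁)) h4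
      simp only [polar_add_left, polar_sub_left, polar_smul_left, smul_eq_mul, hH, c10_0, c10_1,
        c01_0, c01_1, c11_0, c11_1, h11, hw1v1, halt] at h5
      have h6 : (c₀ * φ) * (c₀ * φ) = 0 := by linear_combination -h5
      exact (mul_ne_zero hcφ hcφ) h6
    · -- `g J g⁻¹ = J²`
      rw [zpow_two] at hk
      have h3 : (g : GL ι F) * J = J * J * (g : GL ι F) := mul_inv_eq_iff_eq_mul.mp hk.symm
      have h4 := congrArg (fun M : GL ι F => (M : Matrix ι ι F) *ᵥ tau e P ![1, 0] v₂) h3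
      simp only [Units.val_mul] at h4
      rw [← Matrix.mulVec_mulVec, ← Matrix.mulVec_mulVec, ← Matrix.mulVec_mulVec, hJ10, hgact,
        hgact] at h4
      simp only [hH, c10_0, c10_1, c01_0, c01_1, hv12, hw1v2, mul_zero, zero_mul, sub_self,
        zero_smul, add_zero, sub_zero] at h4
      rw [hJ10, hJ01] at h4
      have h5 := congrArg (fun x => polar ⇑Qf x (tau e P ![0, 1] w₂)) h4
      simp only [hH, c01_0, c01_1, c11_0, c11_1, h22] at h5
      apply hcφ
      linear_combination -h5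

end Main

end Cfsg.Agent.Lib.Helper5.TensorF2
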