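import Cfsg.Agent.Lib.Helper5.TensorGen
import Cfsg.Agent.Lib.Helper5.NSMax

/-!
Over the field with three elements the stabiliser in `Ω(Q)` of a tensor decomposition whose first
factor is a three-dimensional orthogonal space is not maximal: it lies properly inside the
stabiliser of the set of pure tensors whose first factor belongs to the orthogonal frame.
-/

set_option autoImplicit false
set_option linter.unusedSectionVars false
set_option linter.unusedVariables false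
set_option linter.unusedSimpArgs false

namespace Cfsg.Agent.Lib.Helper5.TensorF3Orth
open Cfsg Matrix QuadraticMap Cfsg.Agent.Lib.Helper5.TensorGen Cfsg.Agent.Lib.Helper5.NSMax
  Cfsg.Agent.Lib.Helper25.CD Cfsg.Agent.Lib.Helper25.PS

theorem orth_main {F : Type*} [Field F] [Fintype F] {ι : Type} [Fintype ι] [DecidableEq ι]
    (hq : Fintype.card F = 3) (Qf : QuadraticForm F (ι → F))
    (hnd : (polarBilin Qf).Nondegenerate) (hcard : 7 ≤ Fintype.card ι) (n₂ : ℕ) (h2 : 4 ≤ n₂)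
    (e : ι ≃ Fin 3 × Fin n₂) (P : GL ι F)
    (f₁ : (Fin 3 → F) → (Fin 3 → F) → F) (f₂ : (Fin n₂ → F) → (Fin n₂ → F) → F)
    (hf₁ : Geo.IsSymmetricForm f₁) (hf₂ : Geo.IsSymmetricForm f₂)
    (hT : Geo.IsTensorFormStructure id (QuadraticMap.polar ⇑Qf) f₁ f₂ e P) :
    ∃ K : Subgroup (GL ι F),
      Geo.tensorProductSubgroup 3 n₂ e P ⊓ Geo.omegaGL ⇑Qf < K ∧ K < Geo.omegaGL ⇑Qf := by
  classical
  obtain ⟨c₀, hc₀, hT'⟩ := hT
  have hH := form_tau e P (polar ⇑Qf) f₁ hf₁.bilinear f₂ hf₂.bilinear c₀ hT'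
  obtain ⟨d, E₀, E₁, E₂, hE⟩ := exists_isFr hq hf₁
  obtain ⟨u₀, y₀, uu, hu0, huy, hyy, huu⟩ := exists_special h2 hf₂ hq
  have h2F := Cfsg.Agent.Lib.Helper9.FrameF3.two_ne_zero' hq
  have hd := hE.d_ne
  have hb₁ := hf₁.bilinear
  have hb₂ := hf₂.bilinear
  have hE0 : E₀ ∈ Fr f₁ := hE.mem0 hf₁ hq
  have hyu : f₂ y₀ u₀ = 0 := by rw [hf₂.symm]; exact huy
  have huu' : f₂ uu u₀ ≠ 0 := by rw [hf₂.symm]; exact huu
  have hd0 : f₁ (E₀ + E₁) E₀ = d := by rw [hb₁.add_left, hE.n0, hE.o10 hf₁, add_zero]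
  have hd1 : f₁ (E₀ + E₁) E₁ = d := by rw [hb₁.add_left, hE.o01, hE.n1, zero_add]
  have hd0' : f₁ E₀ (E₀ + E₁) = d := by rw [hb₁.add_right, hE.n0, hE.o01, add_zero]
  -- the singular vector
  have hQs : Qf (tau e P E₀ u₀) = 0 := by
    have h := hH E₀ E₀ u₀ u₀
    rw [hu0, mul_zero, mul_zero, polar_self] at h
    have h' : (2 : F) * Qf (tau e P E₀ u₀) = 0 := by simpa using h
    exact (mul_eq_zero.mp h').resolve_left h2F
  have hs0 : tau e P E₀ u₀ ≠ 0 := by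
    intro h
    have h' := hH E₀ E₀ u₀ uu
    rw [h, polar_zero_left, hE.n0] at h'
    exact (mul_ne_zero hc₀ (mul_ne_zero hd huu)) h'.symm
  have hpres : ∀ g ∈ Geo.omegaGL ⇑Qf, ∀ x y,
      polar ⇑Qf ((g : Matrix ι ι F) *ᵥ x) ((g : Matrix ι ι F) *ᵥ y) = polar ⇑Qf x y := by
    rintro _ ⟨g', -, rfl⟩ x y
    exact polar_toOG Qf g' x y
  have maps1 : ∀ y₁ : Fin n₂ → F, ∀ z ∈ S1 e P f₁,
      egen Qf (tau e P E₀ u₀) (tau e P E₀ y₁) z ∈ S1 e P f₁ := by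
    rintro y₁ z ⟨v, w, hv, rfl⟩
    rcases hE.cases0 hf₁ hq hv with h0 | ⟨σ, rfl⟩
    · have h0' : f₁ E₀ v = 0 := by rw [hf₁.symm]; exact h0
      rw [egen_fix Qf (by rw [hH, h0', zero_mul, mul_zero]) (by rw [hH, h0', zero_mul, mul_zero])]
      exact ⟨v, w, hv, rfl⟩
    · have key : ∀ (p q r : F), tau e P (σ • E₀) w + p • tau e P E₀ y₁ - q • tau e P E₀ u₀ -
          r • tau e P E₀ u₀ = tau e P E₀ (σ • w + p • y₁ - q • u₀ - r • u₀) := by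
        intro p q r
        rw [tau_sub_right, tau_sub_right, tau_add_right, tau_smul_right, tau_smul_right,
          tau_smul_right, tau_smul_right, tau_smul_left]
      unfold egen
      exact ⟨E₀, _, hE0, key _ _ _⟩
  refine ⟨setStab (S1 e P f₁) ⊓ Geo.omegaGL ⇑Qf, ?_, ?_⟩
  · rw [lt_iff_le_and_ne]
    refine ⟨fun g hg => ⟨mem_setStab_of_mapsTo (fun z hz =>
      stab_fwd1 e P f₁ f₂ c₀ hc₀ hH (w₀ := u₀) (w₀' := uu) huu (v₀ := E₀) (v₀' := E₀)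
        (by rw [hE.n0]; exact hd) hg.1 (hpres g hg.2) hz), hg.2⟩, fun h => ?_⟩
    obtain ⟨g, hgΩ, hg⟩ := exists_egen Qf hnd hcard hs0 hQs (y := tau e P E₀ y₀)
      (by rw [hH, huy, mul_zero, mul_zero])
    have hgmaps : ∀ z ∈ S1 e P f₁, ((g : GL ι F) : Matrix ι ι F) *ᵥ z ∈ S1 e P f₁ := by
      intro z hz
      have := maps1 y₀ z hz
      rw [← hg z] at this
      exact this
    have hmem : (g : GL ι F) ∈ setStab (S1 e P f₁) ⊓ Geo.omegaGL ⇑Qf :=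
      ⟨mem_setStab_of_mapsTo hgmaps, ⟨g, hgΩ, rfl⟩⟩
    rw [← h] at hmem
    obtain ⟨A, B, hab⟩ := T_act e P hmem.1
    have h1 := hab (E₀ + E₁) uu
    obtain ⟨v, hv⟩ : ∃ v, v = (A : Matrix (Fin 3) (Fin 3) F) *ᵥ (E₀ + E₁) := ⟨_, rfl⟩
    obtain ⟨w, hw⟩ : ∃ w, w = (B : Matrix (Fin n₂) (Fin n₂) F) *ᵥ uu := ⟨_, rfl⟩
    rw [← hv, ← hw] at h1
    have h1' : egen Qf (tau e P E₀ u₀) (tau e P E₀ y₀) (tau e P (E₀ + E₁) uu) = tau e P v w := by
      rw [← hg]; exact h1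
    unfold egen at h1'
    obtain ⟨α, hα⟩ : ∃ α, α = polar ⇑Qf (tau e P E₀ u₀) (tau e P (E₀ + E₁) uu) := ⟨_, rfl⟩
    obtain ⟨β, hβ⟩ : ∃ β, β = polar ⇑Qf (tau e P E₀ y₀) (tau e P (E₀ + E₁) uu) := ⟨_, rfl⟩
    obtain ⟨r, hr⟩ : ∃ r, r = Qf (tau e P E₀ y₀) := ⟨_, rfl⟩
    rw [← hα, ← hβ, ← hr] at h1'
    have hα0 : α ≠ 0 := by
      rw [hα, hH, hd0']; exact mul_ne_zero hc₀ (mul_ne_zero hd huu)
    have ev : ∀ v' x', c₀ * (f₁ (E₀ + E₁) v' * f₂ uu x') + α * (c₀ * (f₁ E₀ v' * f₂ y₀ x')) -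
        β * (c₀ * (f₁ E₀ v' * f₂ u₀ x')) - (r * α) * (c₀ * (f₁ E₀ v' * f₂ u₀ x')) =
        c₀ * (f₁ v v' * f₂ w x') := by
      intro v' x'
      rw [← hH v v' w x', ← h1', polar_sub_left, polar_sub_left, polar_add_left, polar_smul_left,
        polar_smul_left, polar_smul_left, hH, hH, hH]
      simp only [smul_eq_mul]
    have i := ev E₀ u₀
    have ii := ev E₁ u₀
    have iii := ev E₀ y₀
    have iv := ev E₁ y₀
    simp only [hd0, hE.n0, hyu, hu0, mul_zero, add_zero, sub_zero] at i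
    simp only [hd1, hE.o01, zero_mul, mul_zero, add_zero, sub_zero] at ii
    simp only [hd0, hE.n0, huy, mul_zero, sub_zero] at iii
    simp only [hd1, hE.o01, zero_mul, mul_zero, add_zero, sub_zero] at iv
    have hW0 : f₂ w u₀ ≠ 0 := by
      intro h0
      rw [h0, mul_zero, mul_zero] at i
      exact (mul_ne_zero hc₀ (mul_ne_zero hd huu')) i
    have hA : f₁ v E₀ = f₁ v E₁ := by
      have h3 : c₀ * (f₁ v E₀ * f₂ w u₀) = c₀ * (f₁ v E₁ * f₂ w u₀) := i.symm.trans ii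
      exact mul_right_cancel₀ hW0 (mul_left_cancel₀ hc₀ h3)
    have hfin : α * (c₀ * (d * f₂ y₀ y₀)) = 0 := by
      linear_combination iii - iv + c₀ * f₂ w y₀ * hA
    exact (mul_ne_zero hα0 (mul_ne_zero hc₀ (mul_ne_zero hd hyy))) hfin
  · rw [lt_iff_le_and_ne]
    refine ⟨inf_le_right, fun h => ?_⟩
    obtain ⟨g, hgΩ, hg⟩ := exists_egen Qf hnd hcard hs0 hQs (y := tau e P E₁ u₀)
      (by rw [hH, hE.o01, zero_mul, mul_zero])
    have hmem : (g : GL ι F) ∈ Geo.omegaGL ⇑Qf := ⟨g, hgΩ, rfl⟩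
    rw [← h] at hmem
    have hzS : tau e P E₀ uu ∈ S1 e P f₁ := ⟨E₀, uu, hE0, rfl⟩
    have h1 := (hmem.1 (tau e P E₀ uu)).mpr hzS
    have h1' : egen Qf (tau e P E₀ u₀) (tau e P E₁ u₀) (tau e P E₀ uu) ∈ S1 e P f₁ := by
      rw [← hg]; exact h1
    obtain ⟨v, w, hv, hvw⟩ := h1'
    unfold egen at hvw
    obtain ⟨α, hα⟩ : ∃ α, α = polar ⇑Qf (tau e P E₀ u₀) (tau e P E₀ uu) := ⟨_, rfl⟩
    obtain ⟨β, hβ⟩ : ∃ β, β = polar ⇑Qf (tau e P E₁ u₀) (tau e P E₀ uu) := ⟨_, rfl⟩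
    obtain ⟨r, hr⟩ : ∃ r, r = Qf (tau e P E₁ u₀) := ⟨_, rfl⟩
    rw [← hα, ← hβ, ← hr] at hvw
    have hα0 : α ≠ 0 := by
      rw [hα, hH, hE.n0]; exact mul_ne_zero hc₀ (mul_ne_zero hd huu)
    have ev : ∀ v' x', c₀ * (f₁ E₀ v' * f₂ uu x') + α * (c₀ * (f₁ E₁ v' * f₂ u₀ x')) -
        β * (c₀ * (f₁ E₀ v' * f₂ u₀ x')) - (r * α) * (c₀ * (f₁ E₀ v' * f₂ u₀ x')) =
        c₀ * (f₁ v v' * f₂ w x') := by
      intro v' x'
      rw [← hH v v' w x', ← hvw, polar_sub_left, polar_sub_left, polar_add_left, polar_smul_left,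
        polar_smul_left, polar_smul_left, hH, hH, hH]
      simp only [smul_eq_mul]
    rcases hE.cases01 hf₁ hq hv with h0 | h0
    · have e1 := ev E₀ u₀
      simp only [hE.n0, hE.o10 hf₁, hu0, h0, zero_mul, mul_zero, add_zero, sub_zero] at e1
      exact (mul_ne_zero hc₀ (mul_ne_zero hd huu')) e1
    · have e1 := ev E₁ uu
      simp only [hE.o01, hE.n1, h0, zero_mul, mul_zero, zero_add, sub_zero] at e1
      exact (mul_ne_zero hα0 (mul_ne_zero hc₀ (mul_ne_zero hd huu))) e1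

end Cfsg.Agent.Lib.Helper5.TensorF3Orth
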