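import Cfsg.Agent.Lib.Helper5.TensorGen
import Cfsg.Agent.Lib.Helper5.SpMax

/-!
Over the field with three elements the stabiliser in `Sp_2m(3)` of a tensor decomposition whose
second factor is a three-dimensional orthogonal space is not maximal: it lies properly inside the
stabiliser of the set of pure tensors whose second factor belongs to the orthogonal frame.
-/

set_option autoImplicit false
set_option linter.unusedSectionVars false
set_option linter.unusedVariables false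
set_option linter.unusedSimpArgs false

namespace Cfsg.Agent.Lib.Helper5.TensorF3Sp
open Cfsg Matrix Cfsg.Agent.Lib.Helper5 Cfsg.Agent.Lib.Helper5.SpMax
  Cfsg.Agent.Lib.Helper5.TensorGen

theorem sp_main {F : Type*} [Field F] [Fintype F] (hq : Fintype.card F = 3) (m n₁ : ℕ)
    (hn₁ : 1 ≤ n₁) (e : (Fin m ⊕ Fin m) ≃ Fin n₁ × Fin 3) (P : GL (Fin m ⊕ Fin m) F)
    (f₁ : (Fin n₁ → F) → (Fin n₁ → F) → F) (f₂ : (Fin 3 → F) → (Fin 3 → F) → F)
    (hf₁ : Geo.IsSymplecticForm f₁) (hf₂ : Geo.IsSymmetricForm f₂)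
    (hT : Geo.IsTensorFormStructure id (sympForm m F) f₁ f₂ e P) :
    ∃ K : Subgroup (GL (Fin m ⊕ Fin m) F),
      Geo.tensorProductSubgroup n₁ 3 e P ⊓ spGL m F < K ∧ K < spGL m F := by
  classical
  obtain ⟨c₀, hc₀, hT'⟩ := hT
  have hH := form_tau e P (sympForm m F) f₁ hf₁.bilinear f₂ hf₂.bilinear c₀ hT'
  obtain ⟨d, E₀, E₁, E₂, hE⟩ := exists_isFr hq hf₂
  have hd := hE.d_ne
  have hb₁ := hf₁.bilinear
  have hb₂ := hf₂.bilinear
  obtain ⟨u, x, hxu⟩ : ∃ u x : Fin n₁ → F, f₁ x u ≠ 0 := by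
    have hne : (Pi.single (⟨0, hn₁⟩ : Fin n₁) (1 : F) : Fin n₁ → F) ≠ 0 := by
      intro h
      have := congrFun h ⟨0, hn₁⟩
      simp at this
    obtain ⟨⟨x, hx⟩, -⟩ := hf₁.nondegenerate _ hne
    exact ⟨_, x, hx⟩
  have hux : f₁ u x ≠ 0 := by rw [hf₁.skew]; exact neg_ne_zero.mpr hxu
  have hd0 : f₂ (E₀ + E₁) E₀ = d := by rw [hb₂.add_left, hE.n0, hE.o10 hf₂, add_zero]
  have hd1 : f₂ (E₀ + E₁) E₁ = d := by rw [hb₂.add_left, hE.o01, hE.n1, zero_add]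
  have hd0' : f₂ E₀ (E₀ + E₁) = d := by rw [hb₂.add_right, hE.n0, hE.o01, add_zero]
  have hE0 : E₀ ∈ Fr f₂ := hE.mem0 hf₂ hq
  have t_maps : ∀ z ∈ S2 e P f₂,
      ((tvc (tau e P u E₀) 1 : GL (Fin m ⊕ Fin m) F) :
        Matrix (Fin m ⊕ Fin m) (Fin m ⊕ Fin m) F) *ᵥ z ∈ S2 e P f₂ := by
    rintro z ⟨u', v', hv', rfl⟩
    rw [tvc_mulVec, hH]
    rcases hE.cases0 hf₂ hq hv' with h0 | ⟨s, rfl⟩
    · rw [h0, mul_zero, mul_zero, mul_zero, zero_smul, add_zero]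
      exact ⟨u', v', hv', rfl⟩
    · refine ⟨s • u' + (1 * (c₀ * (f₁ u' u * f₂ (s • E₀) E₀))) • u, E₀, hE0, ?_⟩
      rw [tau_add_left, tau_smul_left, tau_smul_left, tau_smul_right]
  obtain ⟨lam, hlam⟩ : ∃ lam, lam = 1 * (c₀ * (f₁ x u * d)) := ⟨_, rfl⟩
  have hlam0 : lam ≠ 0 := by
    rw [hlam, one_mul]; exact mul_ne_zero hc₀ (mul_ne_zero hxu hd)
  refine ⟨setStab (S2 e P f₂) ⊓ spGL m F, ?_, ?_⟩
  · rw [lt_iff_le_and_ne]
    refine ⟨fun g hg => ⟨mem_setStab_of_mapsTo (fun z hz =>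
      stab_fwd2 e P f₁ f₂ c₀ hc₀ hH hxu (v₀ := E₀) (v₀' := E₀) (by rw [hE.n0]; exact hd) hg.1
        (mem_spGL.mp hg.2) hz), hg.2⟩, fun h => ?_⟩
    have hmem : tvc (tau e P u E₀) 1 ∈ setStab (S2 e P f₂) ⊓ spGL m F :=
      ⟨mem_setStab_of_mapsTo t_maps, tvc_mem _ _⟩
    rw [← h] at hmem
    obtain ⟨A, B, hab⟩ := T_act e P hmem.1
    have h1 := hab x (E₀ + E₁)
    rw [tvc_mulVec, hH, hd0, ← hlam] at h1
    obtain ⟨y, hy⟩ : ∃ y, y = (A : Matrix (Fin n₁) (Fin n₁) F) *ᵥ x := ⟨_, rfl⟩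
    obtain ⟨w, hw⟩ : ∃ w, w = (B : Matrix (Fin 3) (Fin 3) F) *ᵥ (E₀ + E₁) := ⟨_, rfl⟩
    rw [← hy, ← hw] at h1
    have ev : ∀ x' v', c₀ * (f₁ x x' * f₂ (E₀ + E₁) v') + lam * (c₀ * (f₁ u x' * f₂ E₀ v')) =
        c₀ * (f₁ y x' * f₂ w v') := by
      intro x' v'
      rw [← hH y x' w v', ← h1, sympForm_add_left, sympForm_smul_left, hH, hH]
    have e1 := ev u E₁
    have e2 := ev x E₁
    have e3 := ev x E₀
    simp only [hd1, hf₁.alternating, hE.o01, zero_mul, mul_zero, add_zero, zero_add] at e1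
    simp only [hf₁.alternating, hE.o01, zero_mul, mul_zero, add_zero, zero_add] at e2
    simp only [hf₁.alternating, hE.n0, zero_mul, mul_zero, add_zero, zero_add] at e3
    have hwE1 : f₂ w E₁ ≠ 0 := by
      intro h0
      rw [h0, mul_zero, mul_zero] at e1
      exact (mul_ne_zero hc₀ (mul_ne_zero hxu hd)) e1
    have hyx : f₁ y x = 0 := by
      rcases mul_eq_zero.mp e2.symm with h | h
      · exact absurd h hc₀
      · rcases mul_eq_zero.mp h with h | h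
        · exact h
        · exact absurd h hwE1
    rw [hyx, zero_mul, mul_zero] at e3
    exact (mul_ne_zero hlam0 (mul_ne_zero hc₀ (mul_ne_zero hux hd))) e3
  · rw [lt_iff_le_and_ne]
    refine ⟨inf_le_right, fun h => ?_⟩
    have hmem : tvc (tau e P u (E₀ + E₁)) 1 ∈ spGL m F := tvc_mem _ _
    rw [← h] at hmem
    have hzS : tau e P x E₀ ∈ S2 e P f₂ := ⟨x, E₀, hE0, rfl⟩
    have h1 := (hmem.1 (tau e P x E₀)).mpr hzS
    rw [tvc_mulVec, hH, hd0', ← hlam] at h1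
    obtain ⟨y, v, hv, hyv⟩ := h1
    have ev : ∀ v', c₀ * (f₁ x x * f₂ E₀ v') + lam * (c₀ * (f₁ u x * f₂ (E₀ + E₁) v')) =
        c₀ * (f₁ y x * f₂ v v') := by
      intro v'
      rw [← hH y x v v', ← hyv, sympForm_add_left, sympForm_smul_left, hH, hH]
    rcases hE.cases01 hf₂ hq hv with h0 | h0
    · have e1 := ev E₀
      rw [h0, hd0] at e1
      simp only [hf₁.alternating, zero_mul, mul_zero, zero_add] at e1
      exact (mul_ne_zero hlam0 (mul_ne_zero hc₀ (mul_ne_zero hux hd))) e1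
    · have e1 := ev E₁
      rw [h0, hd1] at e1
      simp only [hf₁.alternating, zero_mul, mul_zero, zero_add] at e1
      exact (mul_ne_zero hlam0 (mul_ne_zero hc₀ (mul_ne_zero hux hd))) e1

end Cfsg.Agent.Lib.Helper5.TensorF3Sp
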