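import Mathlib

/-!
Counting invertible triangular matrices over a finite field.
-/

set_option autoImplicit false

namespace Cfsg.Agent.Lib.Helper5

open Matrix

variable {F : Type*} [Field F] [Fintype F]

/-- the entrywise constraint for lower triangular invertible matrices -/
def triConstraint (F : Type*) [Field F] {n : ℕ} (i j : Fin n) (x : F) : Prop :=
  (i < j → x = 0) ∧ (i = j → x ≠ 0)

theorem card_triConstraint [DecidableEq F] {n : ℕ} (i j : Fin n) :
    Nat.card {x : F // triConstraint F i j x}
      = if i < j then 1 else if i = j then Fintype.card F - 1 else Fintype.card F := by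
  classical
  split_ifs with h1 h2
  · have : ∀ x : F, triConstraint F i j x ↔ x = 0 := by
      intro x
      constructor
      · intro hx; exact hx.1 h1
      · intro hx; exact ⟨fun _ => hx, fun h => absurd h (ne_of_lt h1)⟩
    rw [Nat.card_congr (Equiv.subtypeEquivRight this), Nat.card_eq_fintype_card,
      Fintype.card_subtype_eq]
  · have : ∀ x : F, triConstraint F i j x ↔ x ≠ 0 := by
      intro x
      constructor
      · intro hx; exact hx.2 h2
      · intro hx; exact ⟨fun h => absurd h h1, fun _ => hx⟩
    rw [Nat.card_congr (Equiv.subtypeEquivRight this), Nat.card_eq_fintype_card,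
      Fintype.card_subtype_compl, Fintype.card_subtype_eq]
  · have : ∀ x : F, triConstraint F i j x ↔ True := by
      intro x
      constructor
      · intro _; trivial
      · intro _; exact ⟨fun h => absurd h h1, fun h => absurd h h2⟩
    rw [Nat.card_congr (Equiv.subtypeEquivRight this), Nat.card_eq_fintype_card,
      Fintype.card_subtype_true]

theorem prod_row (q : ℕ) {n : ℕ} (i : Fin n) :
    ∏ j : Fin n, (if i < j then 1 else if i = j then q - 1 else q) = (q - 1) * q ^ (i : ℕ) := by
  classical
  have h1 : ∀ j : Fin n, (if i < j then 1 else if i = j then q - 1 else q)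
      = (if j = i then q - 1 else 1) * (if j < i then q else 1) := by
    intro j
    rcases lt_trichotomy i j with h | h | h
    · rw [if_pos h, if_neg (ne_of_gt h), if_neg (not_lt_of_gt h), one_mul]
    · subst h
      simp
    · rw [if_neg (not_lt_of_gt h), if_neg (ne_of_gt h), if_neg (ne_of_lt h), if_pos h, one_mul]
  rw [Finset.prod_congr rfl (fun j _ => h1 j), Finset.prod_mul_distrib,
    Finset.prod_ite_eq' Finset.univ i, if_pos (Finset.mem_univ i), Finset.prod_ite,
    Finset.prod_const_one, mul_one, Finset.prod_const]
  congr 2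
  have : Finset.filter (fun j : Fin n => j < i) Finset.univ = Finset.Iio i := by
    ext j; simp
  rw [this, Fin.card_Iio]

theorem card_lowerTri_matrix (n : ℕ) :
    Nat.card {M : Matrix (Fin n) (Fin n) F // ∀ i j : Fin n, triConstraint F i j (M i j)}
      = Fintype.card F ^ (n * (n - 1) / 2) * (Fintype.card F - 1) ^ n := by
  classical
  have e1 : {M : Matrix (Fin n) (Fin n) F // ∀ i j : Fin n, triConstraint F i j (M i j)}
      ≃ ∀ i : Fin n, {r : Fin n → F // ∀ j : Fin n, triConstraint F i j (r j)} :=
    Equiv.subtypePiEquivPi (β := fun _ : Fin n => Fin n → F)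
      (p := fun i r => ∀ j : Fin n, triConstraint F i j (r j))
  have e2 : ∀ i : Fin n, {r : Fin n → F // ∀ j : Fin n, triConstraint F i j (r j)}
      ≃ ∀ j : Fin n, {x : F // triConstraint F i j x} := fun i =>
    Equiv.subtypePiEquivPi (β := fun _ : Fin n => F) (p := fun j x => triConstraint F i j x)
  rw [Nat.card_congr e1, Nat.card_pi]
  simp_rw [Nat.card_congr (e2 _), Nat.card_pi, card_triConstraint, prod_row]
  rw [Finset.prod_mul_distrib, Finset.prod_const, Finset.card_univ, Fintype.card_fin,
    Finset.prod_pow_eq_pow_sum, Fin.sum_univ_eq_sum_range (fun i => i) n, Finset.sum_range_id,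
    mul_comm]

/-- invertible lower triangular matrices -/
theorem card_lowerTri_GL (n : ℕ) :
    Nat.card {g : Matrix.GeneralLinearGroup (Fin n) F //
      ∀ i j : Fin n, i < j → (g : Matrix (Fin n) (Fin n) F) i j = 0}
      = Fintype.card F ^ (n * (n - 1) / 2) * (Fintype.card F - 1) ^ n := by
  classical
  rw [← card_lowerTri_matrix n]
  apply Nat.card_congr
  have hdet : ∀ M : Matrix (Fin n) (Fin n) F, (∀ i j : Fin n, i < j → M i j = 0) →
      M.det = ∏ i, M i i := by
    intro M hM
    apply Matrix.det_of_isLowerTriangular
    intro i j hij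
    exact hM i j hij
  refine
    { toFun := fun g => ⟨(g.1 : Matrix (Fin n) (Fin n) F), fun i j => ⟨g.2 i j, ?_⟩⟩
      invFun := fun M => ⟨Matrix.GeneralLinearGroup.mkOfDetNeZero M.1 ?_, fun i j hij =>
        (M.2 i j).1 hij⟩
      left_inv := fun g => Subtype.ext (Units.ext rfl)
      right_inv := fun M => Subtype.ext rfl }
  · rintro rfl
    have h1 := hdet _ g.2
    have h2 : (g.1 : Matrix (Fin n) (Fin n) F).det ≠ 0 := (Matrix.isUnits_det_units g.1).ne_zero
    rw [h1] at h2
    exact fun h0 => h2 (Finset.prod_eq_zero (Finset.mem_univ i) h0)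
  · rw [hdet _ (fun i j hij => (M.2 i j).1 hij)]
    exact Finset.prod_ne_zero_iff.2 (fun i _ => (M.2 i i).2 rfl)

/-- invertible upper triangular matrices -/
theorem card_upperTri_GL (n : ℕ) :
    Nat.card {g : Matrix.GeneralLinearGroup (Fin n) F //
      ∀ i j : Fin n, j < i → (g : Matrix (Fin n) (Fin n) F) i j = 0}
      = Fintype.card F ^ (n * (n - 1) / 2) * (Fintype.card F - 1) ^ n := by
  rw [← card_lowerTri_GL n]
  apply Nat.card_congr
  let T : Matrix.GeneralLinearGroup (Fin n) F → Matrix.GeneralLinearGroup (Fin n) F := fun g =>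
    ⟨(g : Matrix (Fin n) (Fin n) F)ᵀ,
      ((g⁻¹ : Matrix.GeneralLinearGroup (Fin n) F) : Matrix (Fin n) (Fin n) F)ᵀ,
      by rw [← Matrix.transpose_mul, ← Units.val_mul, inv_mul_cancel, Units.val_one,
        Matrix.transpose_one],
      by rw [← Matrix.transpose_mul, ← Units.val_mul, mul_inv_cancel, Units.val_one,
        Matrix.transpose_one]⟩
  have hT : ∀ g, T (T g) = g := fun g => Units.ext (Matrix.transpose_transpose _)
  exact
    { toFun := fun g => ⟨T g.1, fun i j hij => g.2 j i hij⟩
      invFun := fun g => ⟨T g.1, fun i j hij => g.2 j i hij⟩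
      left_inv := fun g => Subtype.ext (hT g.1)
      right_inv := fun g => Subtype.ext (hT g.1) }

/-- matrices vanishing strictly above the diagonal -/
theorem card_lowerTri_all (n : ℕ) :
    Nat.card {M : Matrix (Fin n) (Fin n) F // ∀ i j : Fin n, i < j → M i j = 0}
      = Fintype.card F ^ (n * (n + 1) / 2) := by
  classical
  have e1 : {M : Matrix (Fin n) (Fin n) F // ∀ i j : Fin n, i < j → M i j = 0}
      ≃ ∀ i : Fin n, {r : Fin n → F // ∀ j : Fin n, i < j → r j = 0} :=
    Equiv.subtypePiEquivPi (β := fun _ : Fin n => Fin n → F)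
      (p := fun i r => ∀ j : Fin n, i < j → r j = 0)
  have e2 : ∀ i : Fin n, {r : Fin n → F // ∀ j : Fin n, i < j → r j = 0}
      ≃ ∀ j : Fin n, {x : F // i < j → x = 0} := fun i =>
    Equiv.subtypePiEquivPi (β := fun _ : Fin n => F) (p := fun j x => i < j → x = 0)
  have hc : ∀ i j : Fin n, Nat.card {x : F // i < j → x = 0}
      = if j ≤ i then Fintype.card F else 1 := by
    intro i j
    split_ifs with h
    · have : ∀ x : F, (i < j → x = 0) ↔ True := by
        intro x
        constructor
        · intro _; trivial
        · intro _ h'; exact absurd h' (not_lt_of_ge h)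
      rw [Nat.card_congr (Equiv.subtypeEquivRight this), Nat.card_eq_fintype_card,
        Fintype.card_subtype_true]
    · have : ∀ x : F, (i < j → x = 0) ↔ x = 0 := by
        intro x
        constructor
        · intro hx; exact hx (not_le.1 h)
        · intro hx _; exact hx
      rw [Nat.card_congr (Equiv.subtypeEquivRight this), Nat.card_eq_fintype_card,
        Fintype.card_subtype_eq]
  have hrow : ∀ i : Fin n, ∏ j : Fin n, (if j ≤ i then Fintype.card F else 1)
      = Fintype.card F ^ ((i : ℕ) + 1) := by
    intro i
    rw [Finset.prod_ite, Finset.prod_const_one, mul_one, Finset.prod_const]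
    congr 1
    have : Finset.filter (fun j : Fin n => j ≤ i) Finset.univ = Finset.Iic i := by
      ext j; simp
    rw [this, Fin.card_Iic]
  rw [Nat.card_congr e1, Nat.card_pi]
  simp_rw [Nat.card_congr (e2 _), Nat.card_pi, hc, hrow]
  rw [Finset.prod_pow_eq_pow_sum, Fin.sum_univ_eq_sum_range (fun i => i + 1) n]
  congr 1
  have h1 := Finset.sum_range_succ' (fun i => i) n
  simp only [add_zero] at h1
  rw [← h1, Finset.sum_range_id, Nat.add_sub_cancel, mul_comm]

/-- symmetric matrices -/
theorem card_symm_matrix (n : ℕ) :
    Nat.card {S : Matrix (Fin n) (Fin n) F // Sᵀ = S}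
      = Fintype.card F ^ (n * (n + 1) / 2) := by
  classical
  rw [← card_lowerTri_all n]
  apply Nat.card_congr
  exact
    { toFun := fun S => ⟨Matrix.of fun i j => if j ≤ i then S.1 i j else 0, fun i j hij => by
        simp [not_le.2 hij]⟩
      invFun := fun T => ⟨Matrix.of fun i j => if j ≤ i then T.1 i j else T.1 j i, by
        ext i j
        simp only [Matrix.transpose_apply, Matrix.of_apply]
        rcases lt_trichotomy i j with h | h | h
        · rw [if_pos h.le, if_neg (not_le.2 h)]
        · subst h; simp
        · rw [if_neg (not_le.2 h), if_pos h.le]⟩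
      left_inv := fun S => by
        apply Subtype.ext
        ext i j
        simp only [Matrix.of_apply]
        by_cases h : j ≤ i
        · simp [h]
        · have h' : i ≤ j := (not_le.1 h).le
          simp only [h, h', if_false, if_true]
          have := congrFun (congrFun S.2 i) j
          rw [Matrix.transpose_apply] at this
          exact this
      right_inv := fun T => by
        apply Subtype.ext
        ext i j
        simp only [Matrix.of_apply]
        by_cases h : j ≤ i
        · simp [h]
        · simp only [h, if_false]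
          exact (T.2 i j (not_le.1 h)).symm }

end Cfsg.Agent.Lib.Helper5
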