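/-
helper5: S2524, SL2 sub-leaf G3 (`exists_equiv_of_subChar_eq`), twin: irreducible invariant submodules with
the same character are isomorphic (lead's `nonempty_equiv_of_character_eq`).
-/
import Mathlib
import Cfsg.Agent.Lib.Helper13.SL2SurjDefs
import Cfsg.Agent.Lib.Lead.CharEquiv

set_option autoImplicit false

namespace Cfsg.Agent.Lib.Helper5.WGSG3

open Matrix Cfsg Cfsg.Agent.Lib.Helper13.SL2Surj
open scoped ComplexConjugate

universe u

section general

variable {G : Type*} [Group G] {V V' : Type u} [AddCommGroup V] [Module ℂ V] [AddCommGroup V']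
  [Module ℂ V']

/-- (G3) irreducible invariant submodules with the same character are isomorphic. -/
theorem exists_equiv_of_subChar_eq [Finite G] [FiniteDimensional ℂ V] [FiniteDimensional ℂ V']
    (σ' : Representation ℂ G V') (σ : Representation ℂ G V)
    (N' : Submodule ℂ V') (N : Submodule ℂ V) (hN' : IsIrrSub σ' N') (hN : IsIrrSub σ N)
    (h : subChar σ' N' hN'.1 = subChar σ N hN.1) :
    ∃ f : ↥N' ≃ₗ[ℂ] ↥N, ∀ (g : G) (v : ↥N'), f (subRep σ' N' hN'.1 g v) = subRep σ N hN.1 g (f v) := by
  obtain ⟨e⟩ := Cfsg.Agent.CharLib.nonempty_equiv_of_character_eq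
    (subRep σ' N' hN'.1) (subRep σ N hN.1) h
  refine ⟨e.toLinearEquiv, ?_⟩
  intro g v
  exact Representation.IntertwiningMap.isIntertwining _ _ e.toIntertwiningMap g v

end general

end Cfsg.Agent.Lib.Helper5.WGSG3
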